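import Cfsg.Agent.Lib.Chev.TwRee

set_option autoImplicit false
set_option maxRecDepth 100000
set_option linter.unusedSectionVars false
set_option linter.style.haveILetI false

/-! The large Ree groups. -/

namespace Cfsg.Agent.Chev

open Cfsg.Lie Checked
open scoped commutatorElement

/-- nodes of type `F₄` -/
def f4n (i : Fin 4) : Fin chevF4.rank := i

/-- roots of type `F₄` -/
def f4r (i : Fin 48) : Fin chevF4.nroots := i

/-- the orbits -/
noncomputable def orbF4 : symF4.Orb (Fin 2) where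
  κ i := ([0, 1, 1, 0] : List (Fin 2)).getD i 0
  surj := by decide +kernel
  inv := by decide +kernel
  cyc i j e := by
    have : ∀ i j : Fin chevF4.rank, ([0, 1, 1, 0] : List (Fin 2)).getD i 0 =
      ([0, 1, 1, 0] : List (Fin 2)).getD j 0 → ∃ n < 2, symF4.ρI^[n] i = j := by decide +kernel
    exact (this i j e).imp fun _ h => h.2

/-- the longest words -/
def wF4 : Fin 2 → List (Fin chevF4.rank) := ![[f4n 0, f4n 3], [f4n 1, f4n 2, f4n 1, f4n 2]]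

theorem w0_2F4 (k : Fin 2) : checkedF4.toCD.w0 (orbF4.J k) = wp checkedF4.toCD.s (wF4 k) :=
  checkedF4.w0_eq orbF4 wF4 (by decide +kernel) k

theorem t_2F4 : ((orbF4.t 0 * orbF4.t 1 : symF4.W1) : checkedF4.toCD.W) = wp checkedF4.toCD.s (wF4 0 ++ wF4 1) := by
  rw [wp_append, ← w0_2F4, ← w0_2F4]; rfl

theorem dih_2F4 : ∃ e : DihedralGroup 8 ≃* symF4.W1, (∀ i, (e (.r i) : checkedF4.toCD.W) =
    wp checkedF4.toCD.s (wF4 0 ++ wF4 1) ^ i.val) ∧ ∀ i, (e (.sr i) : checkedF4.toCD.W) =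
      wp checkedF4.toCD.s (wF4 0) * wp checkedF4.toCD.s (wF4 0 ++ wF4 1) ^ i.val := by
  obtain ⟨e, h1, h2⟩ := exists_dihedral orbF4.invGen (n := 8) (by
    rw [← Subgroup.orderOf_coe, t_2F4]; exact checkedF4.orderOf_wp _ (by decide +kernel)) (by decide)
  exact ⟨e, fun i => by rw [h1, Subgroup.coe_pow, t_2F4], fun i => by
    rw [h2, Subgroup.coe_mul, Subgroup.coe_pow, t_2F4, ← w0_2F4]; rfl⟩

theorem w0_F4 : checkedF4.toCD.w0 Set.univ = wp checkedF4.toCD.s (wF4 0 ++ wF4 1) ^ 4 :=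
  (RS.eq_w0 (by rw [RS.WJ_univ]; trivial) fun j _ => by revert j; decide +kernel).symm

theorem rootsF4 : ∀ k : Fin 2, (![[f4r 33, f4r 24], [f4r 27, f4r 25, f4r 28, f4r 30]] k).Nodup ∧
    (∀ r, r ∈ ![[f4r 33, f4r 24], [f4r 27, f4r 25, f4r 28, f4r 30]] k ↔
      checkedF4.toCD.Pos r ∧ ∀ i, orbF4.κ i ≠ k → checkedF4.toCD.rv r i = 0) ∧
    (![[f4r 14, f4r 23], [f4r 20, f4r 22, f4r 19, f4r 17]] k).Nodup ∧
    ∀ r, r ∈ ![[f4r 14, f4r 23], [f4r 20, f4r 22, f4r 19, f4r 17]] k ↔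
      ¬ checkedF4.toCD.Pos r ∧ ∀ i, orbF4.κ i ≠ k → checkedF4.toCD.rv r i = 0 := by decide +kernel

section
variable {K : Type*} [Field K] {G : Type*} [Group G] {S : St checkedF4.toCD K G}

theorem pair_eq (a b : K) : wd S.x [(33, a), (24, b)] = S.P [f4r 33, f4r 24] (fun r => [b].getD (r.val - 24) a) ∧
    wd S.x [(14, a), (23, b)] = S.P [f4r 14, f4r 23] fun r => [a].getD (r.val - 14) b := ⟨rfl, rfl⟩

theorem b2_eq (a b c d : K) : wd S.x [(27, a), (25, b), (28, c), (30, d)] =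
    S.P [f4r 27, f4r 25, f4r 28, f4r 30] (fun r => [b, 0, a, c].getD (r.val - 25) d) ∧
    wd S.x [(20, a), (22, b), (19, c), (17, d)] =
    S.P [f4r 20, f4r 22, f4r 19, f4r 17] fun r => [d, 0, c, a].getD (r.val - 17) b := ⟨rfl, rfl⟩

theorem pair_mem (a b : K) : wd S.x [(33, a), (24, b)] ∈ S.UL (orbF4.J 0) ∧
    wd S.x [(14, a), (23, b)] ∈ S.VL (orbF4.J 0) :=
  ⟨(pair_eq (S := S) a b).1 ▸ St.P_mem (fun r hr => by exact ((rootsF4 0).2.1 r).1 hr) _,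
    (pair_eq (S := S) a b).2 ▸ St.P_mem (fun r hr => by exact ((rootsF4 0).2.2.2 r).1 hr) _⟩

theorem b2_mem (a b c d : K) : wd S.x [(27, a), (25, b), (28, c), (30, d)] ∈ S.UL (orbF4.J 1) ∧
    wd S.x [(20, a), (22, b), (19, c), (17, d)] ∈ S.VL (orbF4.J 1) :=
  ⟨(b2_eq (S := S) a b c d).1 ▸ St.P_mem (fun r hr => by exact ((rootsF4 1).2.1 r).1 hr) _,
    (b2_eq (S := S) a b c d).2 ▸ St.P_mem (fun r hr => by exact ((rootsF4 1).2.2.2 r).1 hr) _⟩

theorem pair_inj {a b a' b' : K} (h : wd S.x [(33, a), (24, b)] = wd S.x [(33, a'), (24, b')]) : a = a' ∧ b = b' := by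
  have := St.P_inj RS.unip_pos (rootsF4 0).1 (fun r hr => (((rootsF4 0).2.1 r).1 hr).1)
    ((pair_eq (S := S) ..).1.symm.trans (h.trans (pair_eq ..).1))
  exact ⟨this (f4r 33) (by simp), this (f4r 24) (by simp)⟩

theorem b2_inj {a b c d a' b' c' d' : K} (h : wd S.x [(27, a), (25, b), (28, c), (30, d)] =
    wd S.x [(27, a'), (25, b'), (28, c'), (30, d')]) : a = a' ∧ b = b' ∧ c = c' ∧ d = d' := by
  have := St.P_inj RS.unip_pos (rootsF4 1).1 (fun r hr => (((rootsF4 1).2.1 r).1 hr).1)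
    ((b2_eq (S := S) ..).1.symm.trans (h.trans (b2_eq ..).1))
  exact ⟨this (f4r 27) (by simp), this (f4r 25) (by simp), this (f4r 28) (by simp), this (f4r 30) (by simp)⟩

theorem neg_ne_one (a c d : K) : wd S.x [(14, a), (23, 1)] ≠ 1 ∧ wd S.x [(20, a), (22, 1), (19, c), (17, d)] ≠ 1 :=
  ⟨fun h => one_ne_zero (St.P_inj RS.unip_neg (rootsF4 0).2.2.1 (fun r hr => (((rootsF4 0).2.2.2 r).1 hr).1)
    ((pair_eq (S := S) ..).2.symm.trans (h.trans (St.P_zero (t := fun _ => 0) fun _ _ => rfl).symm)) (f4r 23) (by simp)),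
  fun h => one_ne_zero (St.P_inj RS.unip_neg (rootsF4 1).2.2.1 (fun r hr => (((rootsF4 1).2.2.2 r).1 hr).1)
    ((b2_eq (S := S) ..).2.symm.trans (h.trans (St.P_zero (t := fun _ => 0) fun _ _ => rfl).symm)) (f4r 22) (by simp))⟩

variable [CharP K 2] {θ : K →+* K} {σ : G →* G} (hσ : ∀ r t, σ (S.x r t) = S.x (symF4.ρ r) (θ t ^ look exF4 2 r))
include hσ

theorem σ_xF4 {r r' e : ℕ} (h : r < chevF4.nroots ∧ look wxF4 8 r = r' ∧ look exF4 2 r = e) (t : K) :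
    σ (xN S.x r t) = xN S.x r' (θ t ^ e) := by
  obtain ⟨h, rfl, rfl⟩ := h
  rw [xN_lt _ h, hσ, ← xN_fin S.x]; rfl

theorem σ_pair (r s : ℕ) (a b : K) (h : (r < chevF4.nroots ∧ look wxF4 8 r = s ∧ look exF4 2 r = 2) ∧
      (s < chevF4.nroots ∧ look wxF4 8 s = r ∧ look exF4 2 s = 1) ∧
      (r = s ∨ r ≠ ngP chevF4.nroots s ∧ redL 2 (chevF4.commTerms s r) = []) := by decide +kernel) :
    σ (wd S.x [(r, a), (s, b)]) = wd S.x [(r, θ b), (s, θ a ^ 2)] := by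
  simp only [wd, List.map_cons, List.map_nil, List.prod_cons, List.prod_nil, map_mul, σ_xF4 hσ h.1, σ_xF4 hσ h.2.1,
    pow_one, mul_one]
  exact (checkedF4.commute_of_redL S.rel 2 h.2.1.1 h.1.1 h.2.2 _ _).eq

theorem σ_b2 (r s rs rrs : ℕ) (ε : ℤ) (a b c d : K)
    (h : (r < chevF4.nroots ∧ look wxF4 8 r = s ∧ look exF4 2 r = 2) ∧
      (s < chevF4.nroots ∧ look wxF4 8 s = r ∧ look exF4 2 s = 1) ∧
      (rs < chevF4.nroots ∧ look wxF4 8 rs = rrs ∧ look exF4 2 rs = 2) ∧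
      (rrs < chevF4.nroots ∧ look wxF4 8 rrs = rs ∧ look exF4 2 rrs = 1) ∧
      (rs = rrs ∨ rs ≠ ngP chevF4.nroots rrs ∧ redL 2 (chevF4.commTerms rrs rs) = []) ∧
      s ≠ r ∧ s ≠ ngP chevF4.nroots r ∧ chevF4.commTerms r s = [(rs, ε, 1, 1), (rrs, -1, 2, 1)] ∧
      (ε = 1 ∨ ε = -1) := by decide +kernel) :
    σ (wd S.x [(r, a), (s, b), (rs, c), (rrs, d)]) =
      wd S.x [(r, θ b), (s, θ a ^ 2), (rs, θ b * θ a ^ 2 + θ d), (rrs, θ b ^ 2 * θ a ^ 2 + θ c ^ 2)] := by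
  obtain ⟨h1, h2, h3, h4, h5, h6, h7, h8, h9⟩ := h
  have a1 := checkedF4.xN_comm S.rel h1.1 h2.1 (θ b) (θ a ^ 2) h6 h7
  have a2 := fun t u g => (checkedF4.commute_of_redL S.rel 2 h4.1 h3.1 h5 t u).left_comm g
  have a3 : ∀ a t u g, xN S.x a t * (xN S.x a u * g) = xN S.x a (t + u) * g := fun a t u g => by
    rw [← mul_assoc, checkedF4.xN_add S.rel]
  simp only [wd, List.map_cons, List.map_nil, List.prod_cons, List.prod_nil, map_mul, map_one, σ_xF4 hσ h1,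
    σ_xF4 hσ h2, σ_xF4 hσ h3, σ_xF4 hσ h4, pow_one]
  rw [← mul_assoc, a1, h8]
  simp only [evT, List.map_cons, List.map_nil, List.prod_cons, List.prod_nil, mul_assoc, one_mul, a2, a3]
  rcases h9 with rfl | rfl <;> simp [CharTwo.neg_eq]

variable (hθ : ∀ t, θ (θ t) ^ 2 = t)
include hθ

theorem fix_pair {u : G} : (u ∈ S.UL (orbF4.J 0) ∧ σ u = u) ↔ ∃ t, wd S.x [(33, θ t), (24, t)] = u := by
  constructor
  · rintro ⟨hu, e⟩
    obtain ⟨c, rfl⟩ := St.exists_P (St.unip_UL _) (rootsF4 0).1 (rootsF4 0).2.1 hu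
    have := (σ_pair hσ 33 24 (c (f4r 33)) (c (f4r 24))).symm.trans e
    exact ⟨c (f4r 24), by rw [(pair_inj this).1]; rfl⟩
  · rintro ⟨t, rfl⟩
    exact ⟨(pair_mem ..).1, by rw [σ_pair hσ 33 24, hθ]⟩

theorem fix_b2' (r s rs rrs : ℕ) (t u : K) :
    wd S.x [(r, θ t), (s, θ (θ t) ^ 2), (rs, θ t * θ (θ t) ^ 2 + θ (θ u ^ 2)),
      (rrs, θ t ^ 2 * θ (θ t) ^ 2 + θ (θ t * t + u) ^ 2)] =
    wd S.x [(r, θ t), (s, t), (rs, θ t * t + u), (rrs, θ u ^ 2)] := by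
  rw [map_pow, hθ, hθ, map_add, map_mul, CharTwo.add_sq, mul_pow, hθ, mul_comm t, ← add_assoc, CharTwo.add_self_eq_zero,
    zero_add]

theorem fix_b2 {u : G} : (u ∈ S.UL (orbF4.J 1) ∧ σ u = u) ↔
    ∃ p : K × K, wd S.x [(27, θ p.1), (25, p.1), (28, θ p.1 * p.1 + p.2), (30, θ p.2 ^ 2)] = u := by
  constructor
  · rintro ⟨hu, e⟩
    obtain ⟨c, rfl⟩ := St.exists_P (St.unip_UL _) (rootsF4 1).1 (rootsF4 1).2.1 hu
    obtain ⟨h1, h2, h3, -⟩ := b2_inj ((σ_b2 hσ 27 25 28 30 (-1) (c (f4r 27)) (c (f4r 25)) (c (f4r 28))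
      (c (f4r 30))).symm.trans e)
    exact ⟨(c (f4r 25), θ (c (f4r 30))), by rw [h2] at h3; rw [hθ, h3, h1]; rfl⟩
  · rintro ⟨t, rfl⟩
    exact ⟨(b2_mem ..).1, by rw [σ_b2 hσ 27 25 28 30 (-1), fix_b2' hσ hθ]⟩

end

theorem exp_F4 : (∀ r : Fin chevF4.nroots, look exF4 2 r = 1 ∨ look exF4 2 r = 2) ∧
    ∀ r : Fin chevF4.nroots, look exF4 2 (checkedF4.toCD.neg r) = look exF4 2 r := by decide +kernel

variable {K : Type*} [Field K] [Fintype K] [CharP K 2]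

theorem exists_2F4 (θ : K →+* K) : ∃ σ : chevF4.group K →* chevF4.group K, ∀ r t,
    σ ((checkedF4.adj K).x r t) = (checkedF4.adj K).x (symF4.ρ r) (θ t ^ look exF4 2 r) :=
  checkedF4.exists_ree symF4 (fun r => look exF4 2 r) θ
    (graph_F4 (Finite.surjective_of_injective (frobenius K 2).injective))

/-- the twisting endomorphism -/
noncomputable abbrev twF4 (θ : K →+* K) : (checkedF4.adj K).Tw :=
  St.mkRee symF4 2 (fun r => look exF4 2 r) exp_F4.1 (fun _ => exp_F4.2 _) θ _ (exists_2F4 θ).choose_spec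

section
variable {θ : K →+* K} {e : ℕ} (hf : ∀ t, θ t = t ^ e) (hθ : ∀ t, θ (θ t) ^ 2 = t)
include hf

theorem words_2F4 : f4Words K e = {w | ∃ t, w = [(33, θ t), (24, t)] ∨ w = [(14, θ t), (23, t)]} ∪
    {w | ∃ t u, w = [(27, θ t), (25, t), (28, θ t * t + u), (30, θ u ^ 2)] ∨
      w = [(20, θ t), (22, t), (19, θ t * t + u), (17, θ u ^ 2)]} := by
  simp only [hf, ← pow_succ, ← pow_mul']; rfl

theorem mem_2F4 (t u : K) : wd (checkedF4.adj K).x [(33, θ t), (24, t)] ∈ (checkedF4.inc (f4Words K e)).range ∧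
    wd (checkedF4.adj K).x [(14, θ t), (23, t)] ∈ (checkedF4.inc (f4Words K e)).range ∧
    wd (checkedF4.adj K).x [(27, θ t), (25, t), (28, θ t * t + u), (30, θ u ^ 2)] ∈
      (checkedF4.inc (f4Words K e)).range ∧
    wd (checkedF4.adj K).x [(20, θ t), (22, t), (19, θ t * t + u), (17, θ u ^ 2)] ∈
      (checkedF4.inc (f4Words K e)).range := by
  rw [checkedF4.gen_range, words_2F4 hf]
  exact ⟨Subgroup.subset_closure ⟨_, Or.inl ⟨t, Or.inl rfl⟩, rfl⟩, Subgroup.subset_closure ⟨_, Or.inl ⟨t, Or.inr rfl⟩, rfl⟩,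
    Subgroup.subset_closure ⟨_, Or.inr ⟨t, u, Or.inl rfl⟩, rfl⟩,
    Subgroup.subset_closure ⟨_, Or.inr ⟨t, u, Or.inr rfl⟩, rfl⟩⟩

theorem gen_2F4 (Z : Subgroup (chevF4.genSubgroup K (f4Words K e)))
    (h1 : (checkedF4.adj K).U.comap (checkedF4.inc _) ≤ Z) (h2 : (checkedF4.adj K).V.comap (checkedF4.inc _) ≤ Z) :
    Z = ⊤ :=
  eq_top_of_range (checkedF4.inc_inj _) ((checkedF4.gen_range _).trans (by rw [words_2F4 hf])) (by
    rintro g ⟨_, ⟨t, rfl | rfl⟩ | ⟨t, u, rfl | rfl⟩, h⟩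
    · exact h1 (show checkedF4.inc _ g ∈ _ from h ▸ St.UL_le_U _ (pair_mem ..).1)
    · exact h2 (show checkedF4.inc _ g ∈ _ from h ▸ St.VL_le_V _ (pair_mem ..).2)
    · exact h1 (show checkedF4.inc _ g ∈ _ from h ▸ St.UL_le_U _ (b2_mem ..).1)
    · exact h2 (show checkedF4.inc _ g ∈ _ from h ▸ St.VL_le_V _ (b2_mem ..).2))

theorem co_2F4 (i : Fin chevF4.rank) : ∃ u, checkedF4.inc (f4Words K e) u ∈ (checkedF4.adj K).U ∧
    (checkedF4.adj K).co i (checkedF4.inc (f4Words K e) u) ≠ 0 := by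
  obtain ⟨⟨u, h⟩, -, ⟨v, h'⟩, -⟩ := mem_2F4 hf 1 0
  have h1 := fun i => St.co_P (S := checkedF4.adj K) i (rootsF4 0).1 fun r hr => (((rootsF4 0).2.1 r).1 hr).1
  have h2 := fun i => St.co_P (S := checkedF4.adj K) i (rootsF4 1).1 fun r hr => (((rootsF4 1).2.1 r).1 hr).1
  have : ∀ i : Fin 4, ∃ u, checkedF4.inc (f4Words K e) u ∈ (checkedF4.adj K).U ∧
      (checkedF4.adj K).co (f4n i) (checkedF4.inc (f4Words K e) u) ≠ 0 := fun i => by
    fin_cases i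
    · exact ⟨u, h ▸ St.UL_le_U _ (pair_mem ..).1, by
        rw [h, (pair_eq ..).1]; exact ((h1 _ _).trans (if_pos (by decide +kernel))).trans_ne (map_ne_zero θ |>.2 one_ne_zero)⟩
    · exact ⟨v, h' ▸ St.UL_le_U _ (b2_mem ..).1, by
        rw [h', (b2_eq ..).1]; exact ((h2 _ _).trans (if_pos (by decide +kernel))).trans_ne (map_ne_zero θ |>.2 one_ne_zero)⟩
    · exact ⟨v, h' ▸ St.UL_le_U _ (b2_mem ..).1, by
        rw [h', (b2_eq ..).1]; exact ((h2 _ _).trans (if_pos (by decide +kernel))).trans_ne one_ne_zero⟩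
    · exact ⟨u, h ▸ St.UL_le_U _ (pair_mem ..).1, by
        rw [h, (pair_eq ..).1]; exact ((h1 _ _).trans (if_pos (by decide +kernel))).trans_ne one_ne_zero⟩
  exact this i

include hθ

theorem sub_2F4 : (twF4 θ).Sub orbF4 (checkedF4.inc (f4Words K e)).range where
  le := checkedF4.adj_Gx (K := K) ▸ le_top
  fix g hg := by
    have hσ := (exists_2F4 θ).choose_spec
    rw [checkedF4.gen_range, words_2F4 hf] at hg
    refine (Subgroup.closure_le ((twF4 θ).σ.eqLocus (MonoidHom.id _))).2 ?_ hg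
    rintro _ ⟨_, ⟨t, rfl | rfl⟩ | ⟨t, u, rfl | rfl⟩, rfl⟩
    exacts [((fix_pair hσ hθ).2 ⟨t, rfl⟩).2, (σ_pair hσ 14 23 _ _).trans (by rw [hθ]; rfl),
      ((fix_b2 hσ hθ).2 ⟨(t, u), rfl⟩).2, (σ_b2 hσ 20 22 19 17 1 _ _ _ _).trans (fix_b2' hσ hθ ..)]
  UL k u hu e := by
    fin_cases k
    · obtain ⟨p, rfl⟩ := (fix_pair (exists_2F4 θ).choose_spec hθ).1 ⟨hu, e⟩
      exact (mem_2F4 hf p 0).1
    · obtain ⟨p, rfl⟩ := (fix_b2 (exists_2F4 θ).choose_spec hθ).1 ⟨hu, e⟩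
      exact (mem_2F4 hf _ _).2.2.1
  VL k := by
    fin_cases k
    · exact ⟨_, (mem_2F4 hf 1 0).2.1, (pair_mem ..).2, (neg_ne_one _ 0 0).1⟩
    · exact ⟨_, (mem_2F4 hf 1 0).2.2.2, (b2_mem ..).2, (neg_ne_one ..).2⟩

theorem card_UL_2F4 (k : Fin 2) : Nat.card (((checkedF4.adj K).UL (orbF4.J k)).comap (checkedF4.inc (f4Words K e))) ^ 2 =
    Fintype.card K ^ len checkedF4.toCD.s (checkedF4.toCD.w0 (orbF4.J k)) := by
  have h : ∀ k, (checkedF4.toCD.invSet (wp checkedF4.toCD.s (wF4 k))).card = ![2, 4] k := by decide +kernel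
  rw [← RS.card_invSet, w0_2F4, h]
  fin_cases k
  · erw [(twF4 θ).card_param orbF4 (sub_2F4 hf hθ) (checkedF4.inc_inj _) (St.UL_le_U _)
      (fun t u h => (pair_inj h).2) fun u => fix_pair (exists_2F4 θ).choose_spec hθ]
    simp
  · erw [(twF4 θ).card_param orbF4 (sub_2F4 hf hθ) (checkedF4.inc_inj _) (St.UL_le_U _)
      ?_ fun u => fix_b2 (exists_2F4 θ).choose_spec hθ]
    · simp; ring
    · rintro ⟨t, u⟩ ⟨t', u'⟩ h
      obtain ⟨-, rfl, h3, -⟩ := b2_inj h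
      exact Prod.ext rfl (add_left_cancel h3)

theorem card_U_2F4 : Nat.card ((checkedF4.adj K).U.comap (checkedF4.inc (f4Words K e))) = Fintype.card K ^ 12 := by
  rw [← St.Uw_w0]
  exact (sub_2F4 hf hθ).card_Uw_sq (checkedF4.inc_inj _) (card_UL_2F4 hf hθ) (RS.Sym.w0_mem (RS.Sym.stable_univ _))
    (by rw [w0_F4]; decide +kernel)

omit hf in
theorem tfix_2F4 {c : Fin chevF4.rank → Kˣ} : c ∈ (twF4 θ).tfix ↔
    c (f4n 0) = Units.map (θ : K →* K) (c (f4n 3)) ∧ c (f4n 1) = Units.map (θ : K →* K) (c (f4n 2)) := by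
  refine ⟨fun h => ⟨Units.ext ((congrArg Units.val (h (f4n 3))).trans (pow_one _)),
    Units.ext ((congrArg Units.val (h (f4n 2))).trans (pow_one _))⟩, fun h => ?_⟩
  have : ∀ i : Fin 4, c (symF4.ρI (f4n i)) = Units.map ((twF4 θ).f (f4n i)) (c (f4n i)) := fun i => by
    fin_cases i
    · exact Units.ext ((hθ _).symm.trans (congrArg (fun t => θ t ^ 2) (congrArg Units.val h.1).symm))
    · exact Units.ext ((hθ _).symm.trans (congrArg (fun t => θ t ^ 2) (congrArg Units.val h.2).symm))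
    · exact Units.ext ((congrArg Units.val h.2).trans (pow_one _).symm)
    · exact Units.ext ((congrArg Units.val h.1).trans (pow_one _).symm)
  exact this

omit hf in
theorem card_tfix_2F4 : Nat.card (twF4 θ).tfix = (Fintype.card K - 1) ^ 2 := by
  rw [← Nat.card_eq_fintype_card, ← Nat.card_units, sq, ← Nat.card_prod]
  refine Nat.card_eq_of_bijective (fun c => (c.1 (f4n 3), c.1 (f4n 2))) ⟨fun c c' h => Subtype.ext ?_,
    fun s => ⟨⟨![Units.map (θ : K →* K) s.1, Units.map (θ : K →* K) s.2, s.2, s.1], (tfix_2F4 hθ).2 ⟨rfl, rfl⟩⟩, rfl⟩⟩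
  have h1 := congrArg Prod.fst h
  have h2 := congrArg Prod.snd h
  have : ∀ i : Fin 4, c.1 (f4n i) = c'.1 (f4n i) := fun i => by
    fin_cases i
    exacts [((tfix_2F4 hθ).1 c.2).1.trans ((congrArg _ h1).trans ((tfix_2F4 hθ).1 c'.2).1.symm),
      ((tfix_2F4 hθ).1 c.2).2.trans ((congrArg _ h2).trans ((tfix_2F4 hθ).1 c'.2).2.symm), h2, h1]
  exact funext this

theorem hT_mem_2F4 {c : Fin chevF4.rank → Kˣ} (hc : c ∈ (twF4 θ).tfix) :
    (St.hMul_of_inj checkedF4.adj_inj).hT c ∈ (checkedF4.inc (f4Words K e)).range := by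
  generalize St.hMul_of_inj (checkedF4.adj_inj (K := K)) = hm
  obtain ⟨n, -, hn⟩ := FiniteField.card K 2
  have h9 := (sub_2F4 hf hθ).sq_mem (gen_2F4 hf) checkedF4.adj_inj (by rw [w0_F4]; decide +kernel)
    (hm.hT_mem (c ^ 2 ^ (n.val - 1))) ((St.Tw.mem_tfix_iff _ hm (hT_inj_F4 hm) _).1 (pow_mem hc _))
  have : c ^ Fintype.card K = c := funext fun i => Units.ext (by simp [FiniteField.pow_card])
  rwa [← map_mul, ← sq, ← pow_mul, ← pow_succ, Nat.sub_add_cancel n.pos, ← hn, this] at h9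

theorem card_H_2F4 : Nat.card ((checkedF4.adj K).H.comap (checkedF4.inc (f4Words K e))) = (Fintype.card K - 1) ^ 2 :=
  (St.Tw.Sub.card_H_eq (checkedF4.inc_inj _) (sub_2F4 hf hθ).fix checkedF4.adj_inj _ (hT_inj_F4 _)
    fun _ => hT_mem_2F4 hf hθ).trans (card_tfix_2F4 hθ)

theorem perfect_2F4 (h3 : 2 < Fintype.card K) : commutator (twistedF4 K e) = ⊤ := by
  unfold twistedF4
  obtain ⟨s, hs⟩ := exists_pow_ne_one (K := K) one_pos (by omega)
  have h1 : ∀ c : Kˣ, Units.map (θ : K →* K) (Units.map (θ : K →* K) c) ^ 2 = c := fun c => Units.ext (hθ c)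
  refine (sub_2F4 hf hθ).eq_top (checkedF4.inc_inj _) (gen_2F4 hf) fun k => ?_
  fin_cases k
  · refine St.Tw.Sub.le_comm_hT (checkedF4.inc_inj _) _ (hT_mem_2F4 hf hθ (c := ![Units.map (θ : K →* K) s, 1, 1, s])
      ((tfix_2F4 hθ).2 ⟨rfl, (map_one _).symm⟩)) _ fun r hr hr' h => hs ?_
    have : ∀ r, checkedF4.toCD.Pos r → (∀ i, orbF4.κ i ≠ 0 → checkedF4.toCD.rv r i = 0) →
      checkedF4.toCD.A (f4n 0) r * checkedF4.toCD.A (f4n 0) r -
      (2 : ℕ) * checkedF4.toCD.A (f4n 3) r * checkedF4.toCD.A (f4n 3) r ∣ (2 : ℕ) * (4 : ℕ) := by decide +kernel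
    have h2 := pow_eq_one_of_tw h1 (by
      simpa [f4n] using (Fin.prod_univ_four _).symm.trans h) (this r hr hr')
    rw [← h1 (s ^ 1), ← map_pow, ← map_pow, ← h1 (_ ^ 2), ← map_pow, ← map_pow, ← pow_mul, ← pow_mul, one_mul, h2]
    simp
  · refine St.Tw.Sub.le_comm_hT (checkedF4.inc_inj _) _ (hT_mem_2F4 hf hθ (c := ![1, Units.map (θ : K →* K) s, s, 1])
      ((tfix_2F4 hθ).2 ⟨(map_one _).symm, rfl⟩)) _ fun r hr hr' h => hs ?_
    have : ∀ r, checkedF4.toCD.Pos r → (∀ i, orbF4.κ i ≠ 1 → checkedF4.toCD.rv r i = 0) →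
      checkedF4.toCD.A (f4n 1) r * checkedF4.toCD.A (f4n 1) r -
      (2 : ℕ) * checkedF4.toCD.A (f4n 2) r * checkedF4.toCD.A (f4n 2) r ∣ (2 : ℕ) * (2 : ℕ) := by decide +kernel
    have h2 := pow_eq_one_of_tw h1 (by
      simpa [f4n] using (Fin.prod_univ_four _).symm.trans h) (this r hr hr')
    rw [← h1 (s ^ 1), ← map_pow, ← map_pow, ← pow_mul, one_mul, h2]
    simp

theorem card_2F4 : Nat.card (twistedF4 K e) = Fintype.card K ^ 12 * (Fintype.card K - 1) ^ 2 *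
    ((Fintype.card K + 1) * (Fintype.card K ^ 2 + 1) * (Fintype.card K ^ 3 + 1) * (Fintype.card K ^ 6 + 1)) := by
  classical
  have hX := sub_2F4 hf hθ
  obtain ⟨φ, h1, h2⟩ := dih_2F4
  have h3 : ∀ i : Fin 8, (checkedF4.toCD.invSet (wp checkedF4.toCD.s (wF4 0 ++ wF4 1) ^ i.val)).card =
      2 * ![0, 3, 6, 9, 12, 9, 6, 3] i ∧ (checkedF4.toCD.invSet (wp checkedF4.toCD.s (wF4 0) *
        wp checkedF4.toCD.s (wF4 0 ++ wF4 1) ^ i.val)).card = 2 * ![1, 2, 5, 8, 11, 10, 7, 4] i := by decide +kernel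
  unfold twistedF4
  rw [hX.card_eq (checkedF4.inc_inj _), hX.card_B (checkedF4.inc_inj _), card_U_2F4 hf hθ, card_H_2F4 hf hθ,
    ← (DihedralGroup.equivSum.symm.trans φ.toEquiv).sum_comp, Fintype.sum_sum_type]
  congr 1
  have h4 := fun i : Fin 8 => hX.card_Uw_sq (checkedF4.inc_inj _) (card_UL_2F4 hf hθ) (φ (.r i)).2
    ((congrArg (fun w => (checkedF4.toCD.invSet w).card) (h1 i)).trans (h3 i).1)
  have h5 := fun i : Fin 8 => hX.card_Uw_sq (checkedF4.inc_inj _) (card_UL_2F4 hf hθ) (φ (.sr i)).2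
    ((congrArg (fun w => (checkedF4.toCD.invSet w).card) (h2 i)).trans (h3 i).2)
  refine (congrArg₂ _ (Finset.sum_congr rfl fun i _ => h4 i) (Finset.sum_congr rfl fun i _ => h5 i)).trans ?_
  show ∑ i : Fin 8, _ + ∑ i : Fin 8, _ = _
  simp only [Fin.sum_univ_eight, Matrix.cons_val]
  ring

end

end Cfsg.Agent.Chev
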