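import Cfsg.Agent.Lib.Chev.Weyl

set_option autoImplicit false
set_option linter.unusedSectionVars false

/-! Abstract Chevalley data and the adjoint representation. -/

namespace Cfsg.Agent.Chev

open Matrix

namespace RS
variable {I R : Type} [Fintype I] [DecidableEq I] (Φ : RS I R)

/-- a linear functional on the root lattice -/
def fn (f : I → ℤ) (r : R) : ℤ := ∑ i, f i * Φ.rv r i

/-- weights of the basis vectors of the adjoint module -/
def wt : I ⊕ R → I → ℤ := Sum.elim (fun _ => 0) Φ.rv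

/-- the character of the root lattice with given values on the simple roots -/
def chi {F : Type*} [Field F] (a : I → Fˣ) (v : I → ℤ) : Fˣ := ∏ i, a i ^ v i

theorem chi_add {F : Type*} [Field F] (a : I → Fˣ) (v w : I → ℤ) :
    chi a (v + w) = chi a v * chi a w := by
  simp [chi, _root_.zpow_add, Finset.prod_mul_distrib]

theorem chi_zero {F : Type*} [Field F] (a : I → Fˣ) : chi a (0 : I → ℤ) = 1 := by simp [chi]

theorem chi_neg {F : Type*} [Field F] (a : I → Fˣ) (v : I → ℤ) : chi a (-v) = (chi a v)⁻¹ := by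
  simp [chi]

theorem chi_smul {F : Type*} [Field F] (a : I → Fˣ) (k : ℤ) (v : I → ℤ) :
    chi a (k • v) = chi a v ^ k := by
  simp only [chi, Pi.smul_apply, smul_eq_mul, ← Finset.prod_zpow, ← _root_.zpow_mul, mul_comm k]

theorem chi_single {F : Type*} [Field F] (a : I → Fˣ) (i : I) (k : ℤ) :
    chi a (Pi.single i k) = a i ^ k := by
  rw [chi, Finset.prod_eq_single i (fun j _ hj => by simp [hj]) (by simp)]; simp

theorem chi_mul {F : Type*} [Field F] (a b : I → Fˣ) (v : I → ℤ) :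
    chi (a * b) v = chi a v * chi b v := by
  simp [chi, mul_zpow, Finset.prod_mul_distrib]

theorem chi_one {F : Type*} [Field F] (v : I → ℤ) : chi (1 : I → Fˣ) v = 1 := by simp [chi]

theorem chi_inv {F : Type*} [Field F] (a : I → Fˣ) (v : I → ℤ) : chi a⁻¹ v = (chi a v)⁻¹ := by
  simp [chi]

theorem chi_mulSingle {F : Type*} [Field F] (i : I) (c : Fˣ) (v : I → ℤ) :
    chi (Pi.mulSingle i c) v = c ^ v i := by
  rw [chi, Finset.prod_eq_single i (fun j _ hj => by simp [hj]) (by simp)]; simp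

theorem chi_pair {F : Type*} [Field F] (c : Fˣ) (r s : R) :
    chi (fun j => c ^ Φ.pair r (Φ.sim j)) (Φ.rv s) = c ^ Φ.pair r s := by
  have : Φ.pair r s = ∑ j, Φ.pair r (Φ.sim j) * Φ.rv s j := by
    simp only [pair, Finset.sum_mul, Φ.A_eq _ s, Finset.mul_sum]
    rw [Finset.sum_comm]
    exact Finset.sum_congr rfl fun i _ => Finset.sum_congr rfl fun j _ => by ring
  rw [this, chi]
  simp only [← _root_.zpow_mul]
  induction (Finset.univ : Finset I) using Finset.induction_on with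
  | empty => simp
  | insert a S ha ih => rw [Finset.prod_insert ha, Finset.sum_insert ha, ih, _root_.zpow_add]

theorem fn_neg (f : I → ℤ) (r : R) : Φ.fn f (Φ.neg r) = - Φ.fn f r := by simp [fn, Φ.rv_neg]

theorem fn_one (r : R) : Φ.fn 1 r = Φ.ht r := by simp [fn, ht]

theorem fn_neg_left (f : I → ℤ) (r : R) : Φ.fn (-f) r = - Φ.fn f r := by simp [fn]

theorem fn_comb (f : I → ℤ) {k r s : R} {i j : ℤ} (h : Φ.rv k = i • Φ.rv r + j • Φ.rv s) :
    Φ.fn f k = i * Φ.fn f r + j * Φ.fn f s := by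
  simp only [fn, h, Pi.add_apply, Pi.smul_apply, smul_eq_mul, Finset.mul_sum,
    ← Finset.sum_add_distrib]
  exact Finset.sum_congr rfl fun _ _ => by ring

theorem exists_fn_smul (f : I → ℤ) (w : Φ.W) : ∃ g : I → ℤ, ∀ r, Φ.fn g r = Φ.fn f (w • r) := by
  refine ⟨fun j => Φ.fn f (w • Φ.sim j), fun r => ?_⟩
  simp only [fn, rv_smul w r, Finset.sum_apply, Pi.smul_apply, smul_eq_mul, Finset.sum_mul,
    Finset.mul_sum]
  rw [Finset.sum_comm]
  exact Finset.sum_congr rfl fun _ _ => Finset.sum_congr rfl fun _ _ => by ring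

end RS

/-- the root `p` can be extracted from a commutator -/
def WitFor {I R : Type} [Fintype I] [DecidableEq I] (Φ : RS I R) (ct : R → R → List (R × ℤ × ℕ × ℕ))
    (p : R) : Prop :=
  ∃ (a b : R) (f : I → ℤ) (L₁ L₂ : List (R × ℤ × ℕ × ℕ)) (e : ℤ) (i : ℕ), b ≠ a ∧ 0 < Φ.fn f a ∧
    0 < Φ.fn f b ∧ ct a b = L₁ ++ (p, e, i, 1) :: L₂ ∧ e * e = 1 ∧ (∀ c ∈ L₁, c.1 ≠ p) ∧
    ∀ c ∈ L₂, c.1 ≠ p

/-- a root system with commutator constants and signs -/
structure CD (I R : Type) [Fintype I] [DecidableEq I] extends RS I R where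
  ct : R → R → List (R × ℤ × ℕ × ℕ)
  η : I → R → ℤ
  ct_rv : ∀ r s, ∀ c ∈ ct r s, 0 < c.2.2.1 ∧ 0 < c.2.2.2 ∧
    rv c.1 = (c.2.2.1 : ℤ) • rv r + (c.2.2.2 : ℤ) • rv s
  η_sq : ∀ i r, η i r * η i r = 1
  η_neg : ∀ i r, η i (neg r) = η i r
  η_sim : ∀ i, η i (sim i) = -1
  η_rf : ∀ i r, η i r * η i (rf i r) = (-1) ^ (A i r).natAbs
  wit : ∀ i, WitFor toRS ct (sim i) ∧ WitFor toRS ct (neg (sim i))

variable {I R : Type} [Fintype I] [DecidableEq I] [Fintype R] [DecidableEq R]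

/-- the matrix of `n_i(c)` -/
def CD.nM (Φ : CD I R) {F : Type*} [Field F] (i : I) (c : Fˣ) : Matrix (I ⊕ R) (I ⊕ R) F :=
  Matrix.fromBlocks
    (Matrix.of fun j' j => (if j' = j then 1 else 0) - if j' = i then (Φ.A j (Φ.sim i) : F) else 0) 0 0
    (Matrix.of fun s' s => if s' = Φ.rf i s then (Φ.η i s : F) * ((c ^ (-Φ.A i s) : Fˣ) : F) else 0)

/-- diagonal matrices -/
def RS.tM (Φ : RS I R) {F : Type*} [Field F] (a : I → Fˣ) : Matrix (I ⊕ R) (I ⊕ R) F :=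
  Matrix.diagonal fun b => (RS.chi a (Φ.wt b) : F)

theorem RS.tM_mul (Φ : RS I R) {F : Type*} [Field F] (a b : I → Fˣ) :
    Φ.tM (a * b) = Φ.tM a * Φ.tM b := by
  simp [RS.tM, Matrix.diagonal_mul_diagonal, RS.chi_mul]

theorem RS.tM_one (Φ : RS I R) {F : Type*} [Field F] : Φ.tM (1 : I → Fˣ) = 1 := by
  simp [RS.tM, RS.chi_one]

/-- diagonal matrices as a homomorphism -/
def RS.tG (Φ : RS I R) (F : Type*) [Field F] : (I → Fˣ) →* GL (I ⊕ R) F where
  toFun a := ⟨Φ.tM a, Φ.tM a⁻¹, by rw [← Φ.tM_mul, mul_inv_cancel, Φ.tM_one],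
    by rw [← Φ.tM_mul, inv_mul_cancel, Φ.tM_one]⟩
  map_one' := Units.ext Φ.tM_one
  map_mul' a b := Units.ext (Φ.tM_mul a b)

theorem RS.tG_val (Φ : RS I R) {F : Type*} [Field F] (a : I → Fˣ) :
    ((Φ.tG F a : GL (I ⊕ R) F) : Matrix _ _ F) = Φ.tM a := rfl

theorem RS.tG_injective (Φ : RS I R) (F : Type*) [Field F] : Function.Injective (Φ.tG F) := by
  rw [injective_iff_map_eq_one]
  intro a ha
  ext i
  have h1 : Φ.tM a = 1 := by rw [← RS.tG_val, ha]; rfl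
  have := congrFun (congrFun h1 (.inr (Φ.sim i))) (.inr (Φ.sim i))
  simpa [RS.tM, RS.wt, Φ.rv_sim, RS.chi_single] using this

/-- the adjoint representation -/
structure Adj (Φ : CD I R) (F : Type*) [Field F] where
  X : R → F → Matrix (I ⊕ R) (I ⊕ R) F
  add : ∀ r t u, X r t * X r u = X r (t + u)
  comm : ∀ r s t u, s ≠ r → s ≠ Φ.neg r → X s u * X r t = X r t * X s u *
    ((Φ.ct r s).map fun c => X c.1 ((c.2.1 : F) * (-t) ^ c.2.2.1 * u ^ c.2.2.2)).prod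
  hom : ∀ r a b, (∀ t, X r t a b = (1 : Matrix _ _ F) a b) ∨
    ∃ (k : ℕ) (m : F), 0 < k ∧ Φ.wt a = Φ.wt b + (k : ℤ) • Φ.rv r ∧ ∀ t, X r t a b = m * t ^ k
  entry : ∀ r t i, X r t (.inl i) (.inr (Φ.neg r)) = (Φ.cv r i : F) * t
  n_eq : ∀ i, X (Φ.sim i) 1 * X (Φ.neg (Φ.sim i)) (-1) * X (Φ.sim i) 1 = Φ.nM i 1
  n_mul : ∀ i s t, Φ.nM i 1 * X s t = X (Φ.rf i s) ((Φ.η i s : F) * t) * Φ.nM i 1

namespace Adj
variable {Φ : CD I R} {F : Type*} [Field F] (ad : Adj Φ F)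

theorem zero (r : R) : ad.X r 0 = 1 := by
  ext a b
  rcases ad.hom r a b with h | ⟨k, m, hk, hw, h⟩
  · exact h 0
  · rw [h, zero_pow hk.ne', mul_zero, Matrix.one_apply_ne]
    rintro rfl
    have : (k : ℤ) • Φ.rv r = 0 := by simpa using hw
    rcases smul_eq_zero.1 this with h1 | h1
    · omega
    · exact Φ.rv_ne_zero r h1

theorem tM_mul_X (a : I → Fˣ) (r : R) (t : F) :
    Φ.tM a * ad.X r t = ad.X r ((RS.chi a (Φ.rv r) : F) * t) * Φ.tM a := by
  ext b c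
  simp only [RS.tM, Matrix.diagonal_mul, Matrix.mul_diagonal]
  rcases ad.hom r b c with h | ⟨k, m, hk, hw, h⟩
  · rw [h, h]
    by_cases e : b = c
    · subst e; simp
    · simp [Matrix.one_apply_ne e]
  · rw [h, h, hw, RS.chi_add, RS.chi_smul]
    simp [mul_pow]; ring

theorem tM_nM (i : I) (c : Fˣ) :
    Φ.tM (Pi.mulSingle i c) * Φ.nM i 1 = Φ.nM i c * Φ.tM (Pi.mulSingle i c) := by
  ext a b
  simp only [RS.tM, Matrix.diagonal_mul, Matrix.mul_diagonal, RS.chi_mulSingle]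
  rcases a with a | a <;> rcases b with b | b <;> simp [CD.nM, RS.wt]
  split_ifs with h
  · subst h
    rw [Φ.rv_rf]
    simp [zpow_sub₀ c.ne_zero]
    field_simp
  · rfl

theorem n_eq' (i : I) (c : Fˣ) :
    ad.X (Φ.sim i) c * ad.X (Φ.neg (Φ.sim i)) (-(c : F)⁻¹) * ad.X (Φ.sim i) c = Φ.nM i c := by
  have h := tM_nM (Φ := Φ) i c
  rw [← ad.n_eq, ← mul_assoc, ← mul_assoc, tM_mul_X, mul_assoc _ (Φ.tM _), tM_mul_X, ← mul_assoc,
    mul_assoc _ (Φ.tM _), tM_mul_X, ← mul_assoc] at h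
  have h2 := (Units.mul_left_inj (Φ.tG F (Pi.mulSingle i c))).1 h
  simpa [RS.chi_mulSingle, Φ.rv_neg, Φ.rv_sim] using h2

theorem nM_mul (i : I) (c : Fˣ) (s : R) (t : F) : Φ.nM i c * ad.X s t =
    ad.X (Φ.rf i s) ((Φ.η i s : F) * ((c ^ (-Φ.A i s) : Fˣ) : F) * t) * Φ.nM i c := by
  have h := tM_nM (Φ := Φ) i c
  have e : t = (RS.chi (Pi.mulSingle i c) (Φ.rv s) : F) * ((c ^ (- Φ.rv s i) : Fˣ) * t) := by
    rw [RS.chi_mulSingle, ← mul_assoc, ← Units.val_mul, ← _root_.zpow_add]; simp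
  apply (Units.mul_left_inj (Φ.tG F (Pi.mulSingle i c))).1
  rw [RS.tG_val, mul_assoc, mul_assoc, ← h]
  conv_lhs => rw [e, ← tM_mul_X, ← mul_assoc, ← h, mul_assoc, ad.n_mul, ← mul_assoc, tM_mul_X]
  rw [mul_assoc]
  congr 2
  rw [RS.chi_mulSingle, Φ.rv_rf]
  simp [zpow_sub₀ c.ne_zero]
  field_simp

theorem nM_mul_nM (i : I) (c : Fˣ) :
    Φ.nM i c * Φ.nM i (-1) = Φ.tM fun j => c ^ Φ.A i (Φ.sim j) := by
  have e : ∀ s, RS.chi (fun j => c ^ Φ.A i (Φ.sim j)) (Φ.rv s) = c ^ Φ.A i s := fun s => by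
    have := Φ.chi_pair c (Φ.sim i) s
    simpa only [RS.pair_sim] using this
  unfold CD.nM
  rw [Matrix.fromBlocks_multiply]
  ext a b
  rcases a with a | a <;> rcases b with b | b
  · simp only [Matrix.mul_zero, add_zero, fromBlocks_apply₁₁, Matrix.mul_apply, of_apply, RS.tM,
      diagonal_apply, RS.wt, Sum.elim_inl, RS.chi_zero, Units.val_one, Sum.inl.injEq, sub_mul,
      mul_sub, Finset.sum_sub_distrib, ite_mul, mul_ite, one_mul, zero_mul, mul_zero,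
      Finset.sum_ite_eq', Finset.mem_univ, if_true, mul_one, Φ.A_self]
    split_ifs <;> simp_all <;> ring
  · simp [RS.tM]
  · simp [RS.tM]
  · simp only [Matrix.mul_zero, zero_add, fromBlocks_apply₂₂, Matrix.mul_apply, of_apply, RS.tM,
      diagonal_apply, RS.wt, Sum.elim_inr, Sum.inr.injEq, mul_ite, mul_zero, Finset.sum_ite_eq',
      Finset.mem_univ, if_true, Φ.rf_rf, e, Φ.A_rf_self, neg_neg, ite_mul, zero_mul]
    split_ifs with h
    · subst h
      have h1 := congrArg (Int.cast (R := F)) (Φ.η_rf i a)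
      have h2 : (((-1 : Fˣ) ^ (-Φ.A i a) : Fˣ) : F) * (-1) ^ (Φ.A i a).natAbs = 1 := by
        generalize Φ.A i a = z
        obtain ⟨n, rfl | rfl⟩ := Int.eq_nat_or_neg z <;> simp [← mul_pow, ← inv_pow]
      push_cast at h1
      linear_combination ((c ^ Φ.A i a : Fˣ) * (((-1 : Fˣ) ^ (-Φ.A i a) : Fˣ) : F)) * h1 +
        ((c ^ Φ.A i a : Fˣ) : F) * h2
    · rfl

end Adj

end Cfsg.Agent.Chev
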