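import Cfsg.Agent.Lib.Chev.Cert
import Cfsg.Prelude.Def_ChevB2

set_option autoImplicit false
set_option maxRecDepth 100000

namespace Cfsg.Agent.Chev

open Cfsg.Lie

def rowsB2 : List ℕ := [
  0xc0c00202000000000000000000000000000000001,
  0x1023060000000050440280c000000010040000000000000002,
  0x182a070014140000000000180a020000000050100000000003,
  0x8180000000000000000000c080000000000000004,
  0x207000000000000000000030300000000005,
  0x102000000610c1c0000000000000404608c0800006,
  0x508000001043060010140000040a80c00007,
  0xc1c0020600000000008]

noncomputable def certB2 : Cert where
  W := 0x70506030401020000000000000000000000000000000000000000000000000000000000000000000000000000000000000000000000000000000000000000000000000000000000000000000000000000000000000000000000000000000000000000000000000000000000000000000000000000000000000000000000000000000000000000000000000000000000000000000000000000000000000000000000000000000000000000000000000000000000000000000000000000000000000000000000000000000000000000000000000000000000000000000000000000000000000000000000000000000000000000000000000000000000000000000406020700050103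
  E := 0x5a00000000000000000000000000000000000000000000000000000000000000ff
  RV := 0x9a00000099000000890000009800000078000000870000007700000076
  CV := 0x99000000a9000000890000009800000078000000870000006700000077
  CA := 0x897a697800000000000000000000000000000000000000000000000000000000000000000000000000000000000000000000000000000000000000000000000000000000000000000000000000000000000000000000000000000000000000000000000000000000000000000000000000000000000000000000000000000000a8a6a686
  L := 0x9696
  B := 22
  T := packRows 5632 rowsB2
  wit := [(1, 7, [2, -3]), (0, 6, [-2, 3]), (2, 7, [-1, 3]), (1, 7, [2, -3])]

theorem tabB2 : tabCheck chevB2 certB2 = true := by decide +kernel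
theorem chainB2 : chainCheck chevB2 certB2.B certB2.T = true := by decide +kernel
theorem rsB2 : rsCheck chevB2.rank chevB2.nroots chevB2.simple certB2 = true := by decide +kernel
theorem etaB2 : etaCheck chevB2.rank chevB2.nroots chevB2.simple certB2 = true := by decide +kernel
theorem symB2_0 : symCheck chevB2.nroots certB2.B certB2.T certB2.T (look certB2.W 2048 0) (look certB2.E 256 0) = true := by decide +kernel
theorem symB2_1 : symCheck chevB2.nroots certB2.B certB2.T certB2.T (look certB2.W 2048 1) (look certB2.E 256 1) = true := by decide +kernel
theorem nB2 : nCheck chevB2.rank chevB2.nroots chevB2.simple certB2 = true := by decide +kernel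
theorem relB2 : relCheck chevB2 chevB2.rank chevB2.nroots certB2 = true := by decide +kernel
theorem ctB2 : ctCheck chevB2 chevB2.rank chevB2.nroots certB2 = true := by decide +kernel
theorem witB2 : witCheck chevB2 chevB2.rank chevB2.nroots certB2 = true := by decide +kernel

theorem checkedB2 : Checked chevB2 certB2 where
  tab := tabB2
  chain := chainB2
  rs := rsB2
  eta := etaB2
  sym := fun i hi => by
    have hi' : i < 2 := hi
    interval_cases i
    · exact symB2_0
    · exact symB2_1
  n := nB2
  rel := relB2
  ct := ctB2
  wit := witB2

end Cfsg.Agent.Chev
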