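import Cfsg.Agent.Lib.Chev.Cert
import Cfsg.Prelude.Def_ChevG2

set_option autoImplicit false
set_option maxRecDepth 100000

namespace Cfsg.Agent.Chev

open Cfsg.Lie

def rowsG2 : List ℕ := [
  0x183000000c100000040600000000000001010000000000000000000000000000000000000000000000000000000001,
  0x30700000000000000c140000000000000203000000000000008040000000000000000000000000000000000000000000000002,
  0xc0982b09402811840000000000060280a00380d040000000000000000000000c0400000601000000000000000000000000000000003,
  0xc190420a00000000000e0d0200000000000000706402c0d0280000000000601a0600000000000003808000000000000000000000004,
  0x40ec2505000c0f42400000e0e00000000000000003024068100000000000381403000003810000000000000000000000005,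
  0x20b00000000000000000000004100000000000000000000000000000006080000000000000000000000c040000000000000006,
  0x1060000000000000000000000209000000000000000000000000000000305000000000000000000000060400000007,
  0x182c0070ba140000000041682984800000000000000000000060600181a02306608c0c0000000000000008,
  0x1830000000000030640a0000000030c614c2000000c0e00000000001c1e8280000000103a0560600000009,
  0xe180000070b000000000000000000070c81200305d080000000030c41281505b084080000000a,
  0x1860000000000000061400000000000001040000000000000040c0000000b,
  0xc2c000000000000030a0000010480000081c000000000000000c]

noncomputable def certG2 : Cert where
  W := 0xa0b09070805060304020001000000000000000000000000000000000000000000000000000000000000000000000000000000000000000000000000000000000000000000000000000000000000000000000000000000000000000000000000000000000000000000000000000000000000000000000000000000000000000000000000000000000000000000000000000000000000000000000000000000000000000000000000000000000000000000000000000000000000000000000000000000000000000000000000000000000000000000000000000000000000000000000000000000000000000000000000000000000000000000000000000000000b060809040a010702030500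
  E := 0x9690000000000000000000000000000000000000000000000000000000000000696
  RV := 0xab0000009b0000009a000000990000008900000098000000780000008700000077000000760000007500000065
  CV := 0xa900000099000000ba000000b90000008900000098000000780000008700000057000000560000007700000067
  CA := 0x97897a69789700000000000000000000000000000000000000000000000000000000000000000000000000000000000000000000000000000000000000000000000000000000000000000000000000000000000000000000000000000000000000000000000000000000000000000000000000000000000000000000000000008b97a5b69758
  L := 0xf57d5f
  B := 33
  T := packRows 8448 rowsG2
  wit := [(3, 11, [3, -4]), (3, 6, [-2, 1]), (1, 11, [-1, 2]), (0, 10, [1, -2])]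

theorem tabG2 : tabCheck chevG2 certG2 = true := by decide +kernel
theorem chainG2 : chainCheck chevG2 certG2.B certG2.T = true := by decide +kernel
theorem rsG2 : rsCheck chevG2.rank chevG2.nroots chevG2.simple certG2 = true := by decide +kernel
theorem etaG2 : etaCheck chevG2.rank chevG2.nroots chevG2.simple certG2 = true := by decide +kernel
theorem symG2_0 : symCheck chevG2.nroots certG2.B certG2.T certG2.T (look certG2.W 2048 0) (look certG2.E 256 0) = true := by decide +kernel
theorem symG2_1 : symCheck chevG2.nroots certG2.B certG2.T certG2.T (look certG2.W 2048 1) (look certG2.E 256 1) = true := by decide +kernel
theorem nG2 : nCheck chevG2.rank chevG2.nroots chevG2.simple certG2 = true := by decide +kernel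
theorem relG2 : relCheck chevG2 chevG2.rank chevG2.nroots certG2 = true := by decide +kernel
theorem ctG2 : ctCheck chevG2 chevG2.rank chevG2.nroots certG2 = true := by decide +kernel
theorem witG2 : witCheck chevG2 chevG2.rank chevG2.nroots certG2 = true := by decide +kernel

theorem checkedG2 : Checked chevG2 certG2 where
  tab := tabG2
  chain := chainG2
  rs := rsG2
  eta := etaG2
  sym := fun i hi => by
    have hi' : i < 2 := hi
    interval_cases i
    · exact symG2_0
    · exact symG2_1
  n := nG2
  rel := relG2
  ct := ctG2
  wit := witG2

end Cfsg.Agent.Chev
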