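import Cfsg.Agent.Lib.Chev.Valid
import Cfsg.Agent.Lib.Chev.CertB2
import Cfsg.Agent.Lib.Chev.CertG2
import Cfsg.Agent.Lib.Chev.CertD4
import Cfsg.Agent.Lib.Chev.CertF4
import Cfsg.Agent.Lib.Chev.CertE6
import Cfsg.Agent.Lib.Chev.CertE7
import Cfsg.Agent.Lib.Chev.CertE8

set_option autoImplicit false

namespace Cfsg.Agent.Chev

open Cfsg.Lie

theorem checked_of_mem {D : ChevalleyDatum}
    (hD : D ∈ [chevG2, chevB2, chevD4, chevF4, chevE6, chevE7, chevE8]) : ∃ c, Checked D c := by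
  simp only [List.mem_cons, List.not_mem_nil, or_false] at hD
  rcases hD with rfl | rfl | rfl | rfl | rfl | rfl | rfl
  exacts [⟨_, checkedG2⟩, ⟨_, checkedB2⟩, ⟨_, checkedD4⟩, ⟨_, checkedF4⟩, ⟨_, checkedE6⟩,
    ⟨_, checkedE7⟩, ⟨_, checkedE8⟩]

end Cfsg.Agent.Chev
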