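import Cfsg.Agent.Lib.Chev.EmbAll

set_option autoImplicit false
set_option linter.unusedSectionVars false

/-! Field, graph and diagonal automorphisms. -/

namespace Cfsg.Agent.Chev

open Cfsg.Lie

theorem x_map (D : ChevalleyDatum) {K K' : Type*} [Field K] [Field K'] (f : K →+* K') (r : ℕ) (t : K) :
    (D.x K r t).map f = D.x K' r (f t) := by
  unfold ChevalleyDatum.x
  split_ifs with hr
  · ext a b
    rcases a with a | a <;> rcases b with b | b <;>
      simp [ChevalleyDatum.xMat, apply_ite f, map_list_sum, Function.comp_def]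
  · simp

/-- checks for a symmetry of the root system -/
noncomputable def symB (l n : ℕ) (sim : ℕ → ℕ) (c : Cert) (π π' ν ν' : ℕ → ℕ) : Bool :=
  band (allLt n fun r => band (Nat.blt (π r) n) <| band (Nat.blt (π' r) n) <|
    band (Nat.beq (π' (π r)) r) (Nat.beq (π (π' r)) r)) <|
  allLt l fun i => band (Nat.blt (ν i) l) <| band (Nat.blt (ν' i) l) <| band (Nat.beq (ν' (ν i)) i) <|
    band (Nat.beq (ν (ν' i)) i) <| band (Nat.beq (π (sim i)) (sim (ν i))) <|
      allLt n fun r => Nat.beq (π (c.w i r)) (c.w (ν i) (π r))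

theorem symB_spec {l n : ℕ} {sim : ℕ → ℕ} {c : Cert} {π π' ν ν' : ℕ → ℕ} (e : symB l n sim c π π' ν ν' = true) :
    (∀ r < n, π r < n ∧ π' r < n ∧ π' (π r) = r ∧ π (π' r) = r) ∧ ∀ i < l, ν i < l ∧ ν' i < l ∧
      ν' (ν i) = i ∧ ν (ν' i) = i ∧ π (sim i) = sim (ν i) ∧ ∀ r < n, π (c.w i r) = c.w (ν i) (π r) := by
  simpa only [symB, band_iff, allLt_iff, Nat.blt_eq, Nat.beq_eq] using e

namespace Checked
variable {D : ChevalleyDatum} {c : Cert} (h : Checked D c) {K : Type*} [Field K]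

/-- the homomorphism induced by a field homomorphism -/
noncomputable def fieldHom {K' : Type*} [Field K'] (f : K →+* K') : D.group K →* D.group K' :=
  ((Matrix.GeneralLinearGroup.map f).comp (D.group K).subtype).codRestrict _ fun g => by
    have : (h.adj K).Gx ≤ (D.group K').comap ((Matrix.GeneralLinearGroup.map f).comp (D.group K).subtype) :=
      St.Ux_le.2 fun r _ t => by
        have e : ((Matrix.GeneralLinearGroup.map f).comp (D.group K).subtype) ((h.adj K).x r t) =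
          ((h.adj K').x r (f t) : D.group K') := Units.ext (x_map D f r t)
        rw [Subgroup.mem_comap, e]
        exact Subtype.prop _
    exact this (h.adj_Gx (K := K) ▸ trivial)

theorem fieldHom_val {K' : Type*} [Field K'] (f : K →+* K') (g : D.group K) :
    ((h.fieldHom f g : GL D.Idx K') : Matrix D.Idx D.Idx K') = ((g : GL D.Idx K) : Matrix D.Idx D.Idx K).map f :=
  rfl

theorem fieldHom_x {K' : Type*} [Field K'] (f : K →+* K') (r : Fin D.nroots) (t : K) :
    h.fieldHom f ((h.adj K).x r t) = (h.adj K').x r (f t) := Subtype.ext (Units.ext (x_map D f r t))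

theorem fieldHom_inj {K' : Type*} [Field K'] (f : K →+* K') : Function.Injective (h.fieldHom f) :=
  fun g g' e => Subtype.ext (Units.ext (Matrix.map_injective f.injective
    ((h.fieldHom_val f g).symm.trans (e ▸ h.fieldHom_val f g'))))

/-- field automorphisms -/
noncomputable def fieldEquiv {K' : Type*} [Field K'] (f : K ≃+* K') : D.group K ≃* D.group K' :=
  (h.fieldHom f.toRingHom).toMulEquiv (h.fieldHom f.symm.toRingHom)
    (St.hom_ext h.adj_Gx fun r t => by simp [fieldHom_x]) (St.hom_ext h.adj_Gx fun r t => by simp [fieldHom_x])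

theorem fieldEquiv_x {K' : Type*} [Field K'] (f : K ≃+* K') (r : Fin D.nroots) (t : K) :
    h.fieldEquiv f ((h.adj K).x r t) = (h.adj K').x r (f t) := h.fieldHom_x _ r t

theorem exists_diagHom (a : Fin D.rank → Kˣ) : ∃ φ : D.group K →* D.group K,
    ∀ r t, φ ((h.adj K).x r t) = (h.adj K).x r (RS.chi a (h.toCD.rv r) * t) :=
  h.adj_endo ((h.adj K).rel.diag a) fun r t => ⟨r, (RS.chi a (h.toCD.rv r))⁻¹ * t, by simp⟩

/-- diagonal endomorphisms -/
noncomputable def diagHom (a : Fin D.rank → Kˣ) : D.group K →* D.group K := (h.exists_diagHom a).choose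

theorem diagHom_x (a : Fin D.rank → Kˣ) (r : Fin D.nroots) (t : K) :
    h.diagHom a ((h.adj K).x r t) = (h.adj K).x r (RS.chi a (h.toCD.rv r) * t) :=
  (h.exists_diagHom a).choose_spec r t

/-- diagonal automorphisms -/
noncomputable def diagAut : (Fin D.rank → Kˣ) →* MulAut (D.group K) where
  toFun a := (h.diagHom a).toMulEquiv (h.diagHom a⁻¹)
    (St.hom_ext h.adj_Gx fun r t => by simp [diagHom_x, RS.chi_inv])
    (St.hom_ext h.adj_Gx fun r t => by simp [diagHom_x, RS.chi_inv])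
  map_one' := MulEquiv.toMonoidHom_injective (St.hom_ext h.adj_Gx fun r t => by
    simp [diagHom_x, RS.chi_one])
  map_mul' a b := MulEquiv.toMonoidHom_injective (St.hom_ext h.adj_Gx fun r t => by
    simp [diagHom_x, RS.chi_mul, mul_assoc])

theorem diagAut_x (a : Fin D.rank → Kˣ) (r : Fin D.nroots) (t : K) :
    h.diagAut a ((h.adj K).x r t) = (h.adj K).x r (RS.chi a (h.toCD.rv r) * t) := h.diagHom_x a r t

/-- a symmetry of the root system from tables -/
noncomputable def mkSym {π π' ν ν' : ℕ → ℕ} (e : symB D.rank D.nroots D.simple c π π' ν ν' = true) :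
    h.toCD.Sym :=
  have H := symB_spec e
  { ρ := ⟨fun r => ⟨π r, (H.1 r r.2).1⟩, fun r => ⟨π' r, (H.1 r r.2).2.1⟩,
      fun r => Fin.ext (H.1 r r.2).2.2.1, fun r => Fin.ext (H.1 r r.2).2.2.2⟩
    ρI := ⟨fun i => ⟨ν i, (H.2 i i.2).1⟩, fun i => ⟨ν' i, (H.2 i i.2).2.1⟩,
      fun i => Fin.ext (H.2 i i.2).2.2.1, fun i => Fin.ext (H.2 i i.2).2.2.2.1⟩
    sim := fun i => Fin.ext (H.2 i i.2).2.2.2.2.1
    rf := fun i r => Fin.ext ((H.2 i i.2).2.2.2.2.2 r r.2) }

theorem exists_graph (ρ : h.toCD.Sym) {π : ℕ → ℕ} (hπ : ∀ r, π r.val = (ρ.ρ r).val) {τ : ℕ → K → K}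
    (hτ : ∀ r < D.nroots, Function.Surjective (τ r))
    (hy : h.toCD.Rel fun r t => xN (h.adj K).x (π r) (τ r t)) :
    ∃ φ : D.group K →* D.group K, ∀ r t, φ ((h.adj K).x r t) = (h.adj K).x (ρ.ρ r) (τ r t) := by
  simp only [hπ, xN_fin] at hy
  exact h.adj_endo hy fun r t => by
    obtain ⟨r, rfl⟩ := ρ.ρ.surjective r
    obtain ⟨t, rfl⟩ := hτ r r.2 t
    exact ⟨r, t, rfl⟩

omit h in
theorem etaP_surj (e r : ℕ) : Function.Surjective fun t : K => (etaP e r : K) * t := fun t =>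
  ⟨etaP e r * t, by simp only; rw [← mul_assoc, ← Int.cast_mul, etaP_sq]; simp⟩

end Checked

noncomputable def symE6 : checkedE6.toCD.Sym := checkedE6.mkSym (π := look wgE6 8) (π' := look wgE6 8)
  (ν := ([5, 1, 4, 3, 2, 0].getD · 0)) (ν' := ([5, 1, 4, 3, 2, 0].getD · 0)) (by decide +kernel)
noncomputable def symD4a : checkedD4.toCD.Sym := checkedD4.mkSym (π := look wgD4a 8) (π' := look wgD4b 8)
  (ν := ([2, 1, 3, 0].getD · 0)) (ν' := ([3, 1, 0, 2].getD · 0)) (by decide +kernel)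
noncomputable def symD4b : checkedD4.toCD.Sym := checkedD4.mkSym (π := look wgD4b 8) (π' := look wgD4a 8)
  (ν := ([3, 1, 0, 2].getD · 0)) (ν' := ([2, 1, 3, 0].getD · 0)) (by decide +kernel)
noncomputable def symD4c : checkedD4.toCD.Sym := checkedD4.mkSym (π := look wgD4c 8) (π' := look wgD4c 8)
  (ν := ([0, 1, 3, 2].getD · 0)) (ν' := ([0, 1, 3, 2].getD · 0)) (by decide +kernel)
noncomputable def symB2 : checkedB2.toCD.Sym := checkedB2.mkSym (π := look wxB2 8) (π' := look wxB2 8)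
  (ν := ([1, 0].getD · 0)) (ν' := ([1, 0].getD · 0)) (by decide +kernel)
noncomputable def symG2 : checkedG2.toCD.Sym := checkedG2.mkSym (π := look wxG2 8) (π' := look wxG2 8)
  (ν := ([1, 0].getD · 0)) (ν' := ([1, 0].getD · 0)) (by decide +kernel)
noncomputable def symF4 : checkedF4.toCD.Sym := checkedF4.mkSym (π := look wxF4 8) (π' := look wxF4 8)
  (ν := ([3, 2, 1, 0].getD · 0)) (ν' := ([3, 2, 1, 0].getD · 0)) (by decide +kernel)

section
variable (K : Type*) [Field K]

theorem graph_E6 : ∃ φ : chevE6.group K →* chevE6.group K, ∀ r t,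
    φ ((checkedE6.adj K).x r t) = (checkedE6.adj K).x (symE6.ρ r) (etaP egE6 r * t) :=
  checkedE6.exists_graph symE6 (fun _ => rfl) (fun r _ => Checked.etaP_surj _ r) (rel_gE6 (St.rel _))

theorem graph_D4a : ∃ φ : chevD4.group K →* chevD4.group K, ∀ r t,
    φ ((checkedD4.adj K).x r t) = (checkedD4.adj K).x (symD4a.ρ r) (etaP egD4a r * t) :=
  checkedD4.exists_graph symD4a (fun _ => rfl) (fun r _ => Checked.etaP_surj _ r) (rel_gD4a (St.rel _))

theorem graph_D4b : ∃ φ : chevD4.group K →* chevD4.group K, ∀ r t,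
    φ ((checkedD4.adj K).x r t) = (checkedD4.adj K).x (symD4b.ρ r) (etaP egD4b r * t) :=
  checkedD4.exists_graph symD4b (fun _ => rfl) (fun r _ => Checked.etaP_surj _ r) (rel_gD4b (St.rel _))

theorem graph_D4c : ∃ φ : chevD4.group K →* chevD4.group K, ∀ r t,
    φ ((checkedD4.adj K).x r t) = (checkedD4.adj K).x (symD4c.ρ r) (etaP egD4c r * t) :=
  checkedD4.exists_graph symD4c (fun _ => rfl) (fun r _ => Checked.etaP_surj _ r) (rel_gD4c (St.rel _))

theorem eta_gE6 : ∀ i, etaP egE6 (checkedE6.toCD.sim i) = 1 ∧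
  etaP egE6 (checkedE6.toCD.neg (checkedE6.toCD.sim i)) = 1 := by decide +kernel
theorem eta_gD4a : ∀ i, etaP egD4a (checkedD4.toCD.sim i) = 1 ∧
  etaP egD4a (checkedD4.toCD.neg (checkedD4.toCD.sim i)) = 1 := by decide +kernel
theorem eta_gD4b : ∀ i, etaP egD4b (checkedD4.toCD.sim i) = 1 ∧
  etaP egD4b (checkedD4.toCD.neg (checkedD4.toCD.sim i)) = 1 := by decide +kernel
theorem eta_gD4c : ∀ i, etaP egD4c (checkedD4.toCD.sim i) = 1 ∧
  etaP egD4c (checkedD4.toCD.neg (checkedD4.toCD.sim i)) = 1 := by decide +kernel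

variable {K}

theorem pow_surj {p e : ℕ} (hp : ∀ x : K, ∃ y, y ^ p = x) (he : e = 1 ∨ e = p) :
    Function.Surjective fun t : K => t ^ e := by
  rcases he with rfl | rfl
  · exact fun t => ⟨t, pow_one t⟩
  · exact hp

theorem graph_B2 [CharP K 2] (hp : ∀ x : K, ∃ y, y ^ 2 = x) : ∃ φ : chevB2.group K →* chevB2.group K, ∀ r t,
    φ ((checkedB2.adj K).x r t) = (checkedB2.adj K).x (symB2.ρ r) (t ^ look exB2 2 r) :=
  checkedB2.exists_graph symB2 (fun _ => rfl) (fun r hr => pow_surj hp (exp_xB2 r hr).1) (rel_xB2 (St.rel _))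

theorem graph_F4 [CharP K 2] (hp : ∀ x : K, ∃ y, y ^ 2 = x) : ∃ φ : chevF4.group K →* chevF4.group K, ∀ r t,
    φ ((checkedF4.adj K).x r t) = (checkedF4.adj K).x (symF4.ρ r) (t ^ look exF4 2 r) :=
  checkedF4.exists_graph symF4 (fun _ => rfl) (fun r hr => pow_surj hp (exp_xF4 r hr).1) (rel_xF4 (St.rel _))

theorem graph_G2 [CharP K 3] (hp : ∀ x : K, ∃ y, y ^ 3 = x) : ∃ φ : chevG2.group K →* chevG2.group K, ∀ r t,
    φ ((checkedG2.adj K).x r t) = (checkedG2.adj K).x (symG2.ρ r) (t ^ look exG2 2 r) :=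
  checkedG2.exists_graph symG2 (fun _ => rfl) (fun r hr => pow_surj hp (exp_xG2 r hr).1) (rel_xG2 (St.rel _))

theorem neg_G2 : ∃ φ : chevG2.group K →* chevG2.group K, ∀ r t,
    φ ((checkedG2.adj K).x r t) = (checkedG2.adj K).x (checkedG2.toCD.neg r) (-t) := by
  have hy := rel_negG2 (checkedG2.adj K).rel
  have e : ∀ r : Fin chevG2.nroots, ngP 12 r = (checkedG2.toCD.neg r).val := fun r => (checkedG2.neg_eq r.2).symm
  simp only [e, xN_fin, Int.cast_neg, Int.cast_one, neg_one_mul] at hy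
  exact checkedG2.adj_endo hy fun r t => ⟨checkedG2.toCD.neg r, -t, by rw [RS.neg_neg, neg_neg]⟩

end

theorem Checked.bij_of_sq {D : ChevalleyDatum} {c : Cert} (h : Checked D c) {K : Type*} [Field K] (p : ℕ)
    [Fact p.Prime] [CharP K p] (hp : ∀ x : K, ∃ y, y ^ p = x) {φ : D.group K →* D.group K}
    {ρ : Fin D.nroots → Fin D.nroots} {e : Fin D.nroots → ℕ}
    (hφ : ∀ r t, φ ((h.adj K).x r t) = (h.adj K).x (ρ r) (t ^ e r)) (h1 : ∀ r, ρ (ρ r) = r)
    (h2 : ∀ r, e r * e (ρ r) = p) : Function.Bijective φ := by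
  have : φ.comp φ = (h.fieldEquiv (RingEquiv.ofBijective (frobenius K p)
      ⟨(frobenius K p).injective, hp⟩)).toMonoidHom := St.hom_ext h.adj_Gx fun r t => by
    simp [hφ, h.fieldEquiv_x, h1, ← pow_mul, h2]; rfl
  have hb : Function.Bijective (φ ∘ φ) := by
    rw [← MonoidHom.coe_comp, this]; exact MulEquiv.bijective _
  exact ⟨hb.1.of_comp, hb.2.of_comp⟩

end Cfsg.Agent.Chev
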