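import Cfsg.Agent.Lib.Chev.AutCo
import Cfsg.Prelude.Def_ChevAutomorphisms

set_option autoImplicit false
set_option linter.unusedSectionVars false
set_option linter.style.haveILetI false

/-! Automorphisms of Chevalley groups over finite fields. -/

namespace Cfsg.Agent.Chev

open Cfsg.Lie
open scoped commutatorElement

variable {I R : Type} [Fintype I] [DecidableEq I] [Fintype R] [DecidableEq R]

theorem RS.w0_one {Φ : RS I R} (k : I) : Φ.w0 (Φ.orbOne.J k) = Φ.s k :=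
  (RS.eq_w0 (RS.s_mem_WJ (Φ.orbOne.mem_J k)) fun j hj => by
    rw [show j = k from hj, RS.s_smul, RS.rf_sim]
    exact Φ.not_pos_neg_sim k).symm

theorem RS.Good.adj {Φ : RS I R} (h : Φ.Good) {i j : I} (hij : i ≠ j) (h0 : Φ.A i (Φ.sim j) ≠ 0) :
    Φ.A i (Φ.sim j) = -1 ∨ Φ.A j (Φ.sim i) = -1 := by
  have h1 := RS.A_nonpos (Φ := Φ) hij
  have := h.str (Φ.sim i) (Φ.neg (Φ.sim j)) (by rw [Φ.pair_neg_right, Φ.pair_sim]; omega)
    fun e => Φ.not_pos_neg_sim j (e ▸ Φ.pos_sim i)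
  rw [Φ.pair_neg_right, Φ.pair_neg_left, Φ.pair_sim, Φ.pair_sim] at this
  omega

namespace St
variable {Φ : CD I R} {F : Type*} [Field F] {G : Type*} [Group G] {S : St Φ F G}

theorem UL_one (k : I) : S.UL (Φ.orbOne.J k) = S.Ux {Φ.sim k} := by
  unfold UL
  congr 1
  ext r
  exact ⟨fun h => RS.eq_sim_of_support h.1 h.2, by rintro rfl; exact ⟨Φ.pos_sim k, RS.inJ_sim.2 rfl⟩⟩

theorem mem_A0_of {ψ : MulAut G} {ρ : Equiv.Perm R} (hρ : ∀ r, Φ.Pos (ρ r) ↔ Φ.Pos r) {τ : R → F → F}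
    (hτ : ∀ r, Function.Surjective (τ r)) (h : ∀ r t, ψ (S.x r t) = S.x (ρ r) (τ r t)) :
    ψ ∈ S.A0 (MonoidHom.id G) := by
  have key : ∀ A : Set R, (∀ r, ρ r ∈ A ↔ r ∈ A) → ∀ g, ψ g ∈ S.Ux A ↔ g ∈ S.Ux A := fun A hA g => by
    have : (S.Ux A).map (ψ : G →* G) = S.Ux A := le_antisymm (Subgroup.map_le_iff_le_comap.2 (Ux_le.2 fun r hr t => by
      simpa [h] using x_mem ((hA r).2 hr) _)) (Ux_le.2 fun r hr t => by
        obtain ⟨r, rfl⟩ := ρ.surjective r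
        obtain ⟨t, rfl⟩ := hτ r t
        exact ⟨_, x_mem ((hA r).1 hr) t, h r t⟩)
    conv_lhs => rw [← this]
    exact Subgroup.mem_map_iff_mem (f := (ψ : G →* G)) ψ.injective
  exact ⟨key _ hρ, key _ fun r => not_congr (hρ r)⟩

variable (hG : S.Gx = ⊤)
include hG

theorem sub_one : (fieldTw (S := S) (RingHom.id F) (MonoidHom.id G) fun _ _ => rfl).Sub Φ.orbOne
    (MonoidHom.id G).range := by
  have : (MonoidHom.id G).range = S.Gf (RingHom.id F) :=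
    le_antisymm ((le_top.trans hG.ge).trans (Ux_le.2 fun r _ t => x_mem_Gf r rfl)) fun g _ => ⟨g, rfl⟩
  rw [this]
  exact sub_Gf _

theorem gen_one (Z : Subgroup G) (h1 : S.U.comap (MonoidHom.id G) ≤ Z) (h2 : S.V.comap (MonoidHom.id G) ≤ Z) :
    Z = ⊤ := eq_top_iff.2 (hG ▸ U_sup_V (S := S) ▸ sup_le h1 h2)

theorem aut_ext {α β : MulAut G} (hα : α ∈ S.A0 (MonoidHom.id G)) (hβ : β ∈ S.A0 (MonoidHom.id G))
    (h : ∀ i t, α (S.x (Φ.sim i) t) = β (S.x (Φ.sim i) t)) : α = β :=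
  inv_mul_eq_one.1 ((sub_one hG).aut_eq_one Function.injective_id (gen_one hG) (mul_mem (inv_mem hα) hβ) fun k g hg => by
    rw [UL_one] at hg
    obtain ⟨t, rfl⟩ := mem_Ux_singleton.1 hg
    simp [← h])

variable [Finite F]

theorem aut_data {α : MulAut G} (hα : α ∈ S.A0 (MonoidHom.id G)) :
    ∃ (π : Equiv.Perm I) (a : I → Fˣ) (g : I → F ≃+* F),
      (∀ i t, α (S.x (Φ.sim i) t) = S.x (Φ.sim (π i)) (a i * g i t)) ∧
      (∀ i j, Φ.A i (Φ.sim j) = 0 ↔ Φ.A (π i) (Φ.sim (π j)) = 0) ∧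
      (∀ k i j (c : F), c ≠ 0 → (g j c ^ Φ.A k (Φ.sim i)) ^ Φ.A i (Φ.sim j) =
        (g i c ^ Φ.A k (Φ.sim i)) ^ Φ.A (π i) (Φ.sim (π j))) ∧
      ∀ (ω : List I) i t, ∃ t', α (S.x (wp Φ.s ω • Φ.sim i) t) = S.x (wp Φ.s (ω.map π) • Φ.sim (π i)) t' := by
  have hX := sub_one hG
  have hι : Function.Injective (MonoidHom.id G) := Function.injective_id
  obtain ⟨π, h1, h2, h3⟩ := hX.exists_perm hι hα
  have h0 : ∀ i t, S.x (Φ.sim i) t ∈ S.UL (Φ.orbOne.J i) := fun i t => (UL_one i).ge (x_mem (Set.mem_singleton _) t)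
  have h4 : ∀ i t, α (S.x (Φ.sim i) t) = S.x (Φ.sim (π i)) (S.co (π i) (α (S.x (Φ.sim i) t))) := fun i t => by
    obtain ⟨t', e⟩ := mem_Ux_singleton.1 ((UL_one (S := S) (π i)).le ((h1 i (S.x (Φ.sim i) t)).2 (h0 i t)))
    rw [show α (S.x (Φ.sim i) t) = _ from e, co_x, if_pos rfl]
  choose a g h5 h6 using fun i => hX.exists_coord hι hα (A := {Φ.sim i}) (by rintro _ rfl; exact Φ.pos_sim i)
    (i := i) (i' := π i) (RingHom.id F) (fun t => ⟨S.x (Φ.sim i) t, x_mem (Set.mem_singleton _) t, by simp [co_x]⟩)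
    (fun x hx => by
      obtain ⟨t, rfl⟩ := mem_Ux_singleton.1 hx
      rw [MonoidHom.id_apply, MonoidHom.id_apply, ← x_eq_one_iff (S := S) (r := Φ.sim (π i)) (t := S.co (π i) _), ← h4]
      simp [co_x, x_eq_one_iff])
    fun c hc => ⟨_, _, h_sim_mem i (Units.mk0 c hc), isTor_h_sim i _, by simp [Φ.A_self, zpow_ofNat]⟩
  have h7 : ∀ i t, α (S.x (Φ.sim i) t) = S.x (Φ.sim (π i)) (a i * g i t) := fun i t => by
    rw [h4, ← h5 i (S.x (Φ.sim i) t) t (x_mem (Set.mem_singleton _) t) (by simp [co_x])]; rfl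
  have h8 : ∀ {α : MulAut G} (hα : α ∈ S.A0 (MonoidHom.id G)) {π : I → I} (hπ : Function.Injective π)
      (h3 : ∀ k m, MonoidHom.id G m ∈ S.N → S.Acts (MonoidHom.id G m) (Φ.w0 (Φ.orbOne.J k)) →
        MonoidHom.id G (α m) ∈ S.N ∧ S.Acts (MonoidHom.id G (α m)) (Φ.w0 (Φ.orbOne.J (π k)))) i j,
      Φ.A i (Φ.sim j) = 0 → Φ.A (π i) (Φ.sim (π j)) = 0 := fun hα π hπ h3 i j h => by
    have := hX.wp_map hι h3 hα (ω := [i, j]) (ω' := [j, i]) (by simpa [RS.w0_one] using RS.s_comm_of_A h)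
    exact RS.A_eq_zero_of_commute (hπ.ne (by rintro rfl; simp [Φ.A_self] at h)) (by simpa [RS.w0_one] using this)
  refine ⟨π, a, fun i => RingEquiv.ofBijective (g i) (Finite.injective_iff_bijective.1 (g i).injective), h7,
    fun i j => ⟨h8 hα π.injective h3 i j, fun h => ?_⟩, fun k i j c hc => ?_, fun ω i t => ?_⟩
  · obtain ⟨π', h1', -, h3'⟩ := hX.exists_perm hι (inv_mem hα)
    have : ∀ i, π' (π i) = i := fun i => hX.eq_of_UL hι (g := S.x (Φ.sim i) 1) (by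
      simpa using (h1' _ _).2 ((h1 i _).2 (h0 i 1))) (h0 i 1) (by simp [x_eq_one_iff])
    simpa [this] using h8 (inv_mem hα) π'.injective h3' _ _ h
  · have hh := h_sim_mem (S := S) k (Units.mk0 c hc)
    have hb := isTor_h_sim (S := S) k (Units.mk0 c hc)
    obtain ⟨b', hb'⟩ := exists_isTor (hX.map_H hι hα hh)
    obtain ⟨h', a1, a2, a3⟩ := hX.tor_conj hι h3 hα i hh hb hb'
    have a4 := h6 j h' _ _ a1 a2 a3 _ rfl
    have a5 := fun i => h6 i _ _ _ hh hb hb' _ rfl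
    simp only [RS.w0_one, RS.s_smul, Φ.rv_rf, sub_eq_add_neg, RS.chi_add, RS.chi_neg, Φ.rv_sim, RS.chi_single, zpow_one,
      Units.val_mul, map_mul, Units.val_inv_eq_inv_val, Units.val_zpow_eq_zpow_val, ← a5, map_inv₀, map_zpow₀,
      Units.val_mk0] at a4
    exact inv_injective (mul_left_cancel₀ (zpow_ne_zero _ (by simpa)) a4)
  · obtain ⟨m, -, ⟨χ, -, a1⟩, -, ⟨χ', -, a2⟩⟩ := hX.exists_word hι h3 ω
    simp only [RS.w0_one, MonoidHom.id_apply] at a1 a2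
    exact ⟨_, by rw [← Units.mul_inv_cancel_left (χ (Φ.sim i)) t, ← a1, map_mul, map_mul, map_inv, h7, a2]⟩

/-- the permutation of the nodes induced by an automorphism -/
noncomputable def perm : S.A0 (MonoidHom.id G) →* Equiv.Perm I :=
  MonoidHom.mk' (fun α => (aut_data hG α.2).choose) fun α β => Equiv.ext fun i => by
    obtain ⟨a, g, h1, -⟩ := (aut_data hG α.2).choose_spec
    obtain ⟨a', g', h2, -⟩ := (aut_data hG β.2).choose_spec
    obtain ⟨a'', g'', h3, -⟩ := (aut_data hG (α * β).2).choose_spec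
    exact Φ.sim_inj (eq_of_x_eq (by simp) ((h3 i 1).symm.trans ((congrArg α.1 (h2 i 1)).trans (h1 _ _))))

theorem perm_spec (α : S.A0 (MonoidHom.id G)) : ∃ (a : I → Fˣ) (g : I → F ≃+* F),
      (∀ i t, α.1 (S.x (Φ.sim i) t) = S.x (Φ.sim (perm hG α i)) (a i * g i t)) ∧
      (∀ i j, Φ.A i (Φ.sim j) = 0 ↔ Φ.A (perm hG α i) (Φ.sim (perm hG α j)) = 0) ∧
      (∀ k i j (c : F), c ≠ 0 → (g j c ^ Φ.A k (Φ.sim i)) ^ Φ.A i (Φ.sim j) =
        (g i c ^ Φ.A k (Φ.sim i)) ^ Φ.A (perm hG α i) (Φ.sim (perm hG α j))) ∧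
      ∀ (ω : List I) i t, ∃ t', α.1 (S.x (wp Φ.s ω • Φ.sim i) t) =
        S.x (wp Φ.s (ω.map (perm hG α)) • Φ.sim (perm hG α i)) t' :=
  (aut_data hG α.2).choose_spec

theorem perm_eq {α : S.A0 (MonoidHom.id G)} {π : Equiv.Perm I} {t : I → F}
    (h : ∀ i, α.1 (S.x (Φ.sim i) 1) = S.x (Φ.sim (π i)) (t i)) : perm hG α = π := Equiv.ext fun i => by
  obtain ⟨a, g, h1, -⟩ := perm_spec hG α
  exact Φ.sim_inj (eq_of_x_eq (by simp) ((h1 i 1).symm.trans (h i)))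

theorem exists_of_perm (hΦ : Φ.Good) {α : S.A0 (MonoidHom.id G)} (h : perm hG α = 1) :
    ∃ (a : I → Fˣ) (g : F ≃+* F), ∀ i t, α.1 (S.x (Φ.sim i) t) = S.x (Φ.sim i) (a i * g t) := by
  obtain ⟨a, g, h1, -, h2, -⟩ := perm_spec hG α
  rw [h] at h1 h2
  have h3 : ∀ i j, Φ.A i (Φ.sim j) = -1 → g i = g j := fun i j e => RingEquiv.toRingHom_injective
    (ringHom_ext_sq fun c hc => by simpa [e, Φ.A_self, zpow_ofNat] using (h2 i i j c hc).symm)
  obtain ⟨i₀⟩ := hΦ.ne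
  refine ⟨a, g i₀, fun i t => ?_⟩
  suffices g i = g i₀ from this ▸ h1 i t
  by_contra h0
  obtain ⟨j, hj, k, hk, e⟩ := hΦ.conn {i | g i = g i₀} ⟨i₀, rfl⟩ ⟨i, h0⟩
  refine hk (Eq.trans ?_ hj)
  rcases hΦ.adj (by rintro rfl; exact hk hj) e with e | e
  · exact (h3 _ _ e).symm
  · exact h3 _ _ e

theorem two_eq_zero {α : S.A0 (MonoidHom.id G)} {k i j : I} (h : Φ.A k (Φ.sim i) = -1 ∧ Φ.A i (Φ.sim j) = -2 ∧
    Φ.A (perm hG α i) (Φ.sim (perm hG α j)) = -1) : (2 : F) = 0 := by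
  obtain ⟨a, g, -, -, h2, -⟩ := perm_spec hG α
  by_contra h0
  have := h2 k i j 2 h0
  rw [h.1, h.2.1, h.2.2, map_ofNat, map_ofNat, ← zpow_mul, ← zpow_mul] at this
  exact h0 (by linear_combination this)

end St

namespace Checked
variable {D : ChevalleyDatum} {c : Cert} (h : Checked D c) {K : Type*} [Field K]

theorem diagAut_mem (a : Fin D.rank → Kˣ) : h.diagAut a ∈ (h.adj K).A0 (MonoidHom.id _) :=
  St.mem_A0_of (ρ := 1) (fun _ => Iff.rfl) (fun r => (Units.mulLeft (RS.chi a (h.toCD.rv r))).surjective) (h.diagAut_x a)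

theorem fieldAut_mem (f : K ≃+* K) : h.fieldAut f ∈ (h.adj K).A0 (MonoidHom.id _) :=
  St.mem_A0_of (ρ := 1) (fun _ => Iff.rfl) (fun _ => f.surjective) (h.fieldAut_x f)

theorem diagAut_sim (a : Fin D.rank → Kˣ) (i : Fin D.rank) (t : K) :
    h.diagAut a ((h.adj K).x (h.toCD.sim i) t) = (h.adj K).x (h.toCD.sim i) (a i * t) := by
  rw [diagAut_x, RS.rv_sim, RS.chi_single, zpow_one]

theorem isDiagonalAut_iff (hΦ : h.toCD.Good) {φ : MulAut (D.group K)} : D.IsDiagonalAut φ ↔ ∃ a, φ = h.diagAut a := by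
  have key : ∀ (a : Fin D.rank → Kˣ) (g : D.group K), ((h.diagAut a g : GL D.Idx K) : Matrix D.Idx D.Idx K) =
      h.toCD.tM a * ((g : GL D.Idx K) : Matrix D.Idx D.Idx K) * h.toCD.tM a⁻¹ := fun a g => by
    have := St.hom_ext h.adj_Gx (φ := (D.group K).subtype.comp (h.diagAut a).toMonoidHom)
      (ψ := (MulAut.conj (h.toCD.tG K a)).toMonoidHom.comp (D.group K).subtype) fun r t => Units.ext (by
        change ((h.diagAut a _ : GL D.Idx K) : Matrix D.Idx D.Idx K) = h.toCD.tM a * D.x K r t * h.toCD.tM a⁻¹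
        erw [diagAut_x, (h.toAdj K).tM_mul_X a r t, mul_assoc, ← RS.tM_mul, mul_inv_cancel, RS.tM_one, mul_one]
        rfl)
    exact congrArg Units.val (DFunLike.congr_fun this g)
  constructor
  · rintro ⟨χ, h1, h2⟩
    have e := h.chi_eq hΦ h1
    refine ⟨fun i => χ (D.simple i.val), MulEquiv.ext fun g => Subtype.ext (Units.ext ?_)⟩
    rw [h2, key, h.charDiag_eq e, h.charDiag_eq (a := (fun i => χ (D.simple i.val))⁻¹) fun r => by rw [e, RS.chi_inv]]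
  · rintro ⟨a, rfl⟩
    refine ⟨_, h.isRootCharacter a, fun g => ?_⟩
    rw [key, h.charDiag_eq (a := a) fun r => by simp, h.charDiag_eq (a := a⁻¹) fun r => by simp [RS.chi_inv]]

variable [Finite K]

theorem mem_ker_perm (hΦ : h.toCD.Good) {α : (h.adj K).A0 (MonoidHom.id _)} :
    St.perm h.adj_Gx α = 1 ↔ ∃ a f, α.1 = h.diagAut a * h.fieldAut f := by
  constructor
  · intro e
    obtain ⟨a, g, h1⟩ := St.exists_of_perm h.adj_Gx hΦ e
    exact ⟨a, g, St.aut_ext h.adj_Gx α.2 (mul_mem (h.diagAut_mem a) (h.fieldAut_mem g)) fun i t => by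
      rw [h1, MulAut.mul_apply, fieldAut_x, diagAut_sim]⟩
  · rintro ⟨a, g, e⟩
    exact St.perm_eq _ fun i => by rw [e, MulAut.mul_apply, fieldAut_x, diagAut_sim]; rfl

theorem conj_diagAut {α : MulAut (D.group K)} (hα : α ∈ (h.adj K).A0 (MonoidHom.id _)) (b : Fin D.rank → Kˣ) :
    ∃ b', α * h.diagAut b * α⁻¹ = h.diagAut b' := by
  obtain ⟨π, a, g, h1, -⟩ := St.aut_data h.adj_Gx hα
  refine ⟨fun i => Units.map (g (π⁻¹ i) : K →* K) (b (π⁻¹ i)), mul_inv_eq_iff_eq_mul.2 (St.aut_ext h.adj_Gx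
    (mul_mem hα (h.diagAut_mem _)) (mul_mem (h.diagAut_mem _) hα) fun i t => ?_)⟩
  simp [diagAut_sim, h1, mul_left_comm]

theorem card_ker_perm (hΦ : h.toCD.Good) : Nat.card (St.perm (h.adj_Gx (K := K))).ker =
    (Nat.card K - 1) ^ D.rank * Nat.card (K ≃+* K) := by
  have hi : ∀ a a' : Fin D.rank → Kˣ, ∀ f f' : K ≃+* K, h.diagAut a * h.fieldAut f = h.diagAut a' * h.fieldAut f' →
      a = a' ∧ f = f' := fun a a' f f' e => by
    have h1 : ∀ i t, a i * f t = a' i * f' t := fun i t => St.x_inj (S := h.adj K) (r := h.toCD.sim i) (by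
      simpa [fieldAut_x, diagAut_sim] using DFunLike.congr_fun e ((h.adj K).x (h.toCD.sim i) t))
    obtain rfl : a = a' := funext fun i => Units.ext (by simpa using h1 i 1)
    obtain ⟨i⟩ := hΦ.ne
    exact ⟨rfl, RingEquiv.ext fun t => mul_left_cancel₀ (a i).ne_zero (h1 i t)⟩
  rw [← Nat.card_eq_of_bijective (fun p : (Fin D.rank → Kˣ) × (K ≃+* K) => (⟨⟨_, mul_mem (h.diagAut_mem p.1)
    (h.fieldAut_mem p.2)⟩, (h.mem_ker_perm hΦ).2 ⟨p.1, p.2, rfl⟩⟩ : (St.perm (h.adj_Gx (K := K))).ker))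
    ⟨fun p p' e => Prod.ext_iff.2 (hi _ _ _ _ (congrArg (fun x => x.1.1) e)), fun ⟨α, hα⟩ => by
      obtain ⟨a, f, e⟩ := (h.mem_ker_perm hΦ).1 hα
      exact ⟨(a, f), Subtype.ext (Subtype.ext e.symm)⟩⟩, Nat.card_prod, Nat.card_fun, Nat.card_units, Nat.card_fin]

variable (K) in
/-- the list of the permutations induced by graph automorphisms -/
def GraphList (L : List (Equiv.Perm (Fin D.rank))) : Prop :=
  L.Nodup ∧ (∀ α : (h.adj K).A0 (MonoidHom.id _), St.perm h.adj_Gx α ∈ L) ∧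
    ∀ π ∈ L, ∃ γ : (h.adj K).A0 (MonoidHom.id _), D.IsGraphAut γ.1 ∧ St.perm h.adj_Gx γ = π

variable {h} {L : List (Equiv.Perm (Fin D.rank))} (hL : h.GraphList K L) (hΦ : h.toCD.Good)
include hL

theorem GraphList.mem_range {π : Equiv.Perm (Fin D.rank)} : π ∈ (St.perm (h.adj_Gx (K := K))).range ↔ π ∈ L :=
  ⟨by rintro ⟨α, rfl⟩; exact hL.2.1 α, fun hπ => (hL.2.2 π hπ).imp fun _ h => h.2⟩

theorem GraphList.card_range : Nat.card (St.perm (h.adj_Gx (K := K))).range = L.length := by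
  rw [← List.toFinset_card_of_nodup hL.1, ← Nat.card_eq_finsetCard]
  exact Nat.card_congr (Equiv.subtypeEquivRight fun π => hL.mem_range.trans List.mem_toFinset.symm)

include hΦ

theorem GraphList.card_out : Nat.card (Out (D.group K)) =
    L.length * Nat.card (zmap Kˣ h.toCD.cm).ker * Nat.card (K ≃+* K) := by
  have hX := St.sub_one (h.adj_Gx (K := K))
  have h1 := hX.card_A0 Function.injective_id (hX.center_eq_bot Function.injective_id h.adj_inj fun i =>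
    ⟨(h.adj K).x (h.toCD.sim i) 1, St.x_mem_U (h.toCD.pos_sim i) 1, by simp [St.co_x]⟩)
  rw [Subgroup.card_eq_card_quotient_mul_card_subgroup (St.perm h.adj_Gx).ker,
    Nat.card_congr (QuotientGroup.quotientKerEquivRange _).toEquiv, hL.card_range, h.card_ker_perm hΦ,
    Subgroup.comap_id] at h1
  have h2 := St.card_H (S := h.adj K) h.adj_inj
  rw [Fintype.card_fin] at h2
  haveI := hX.finite Function.injective_id
  refine Nat.eq_of_mul_eq_mul_right (Nat.card_pos (α := (h.adj K).H)) ?_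
  rw [← h1, ← h2]; ring

theorem GraphList.exists_eq (θ : MulAut (D.group K)) : ∃ (x : D.group K) (d g f : MulAut (D.group K)),
    D.IsDiagonalAut d ∧ D.IsGraphAut g ∧ D.IsFieldAut f ∧ ∀ y, θ y = x * d (g (f y)) * x⁻¹ := by
  obtain ⟨x, hx⟩ := (St.sub_one (h.adj_Gx (K := K))).exists_A0 Function.injective_id θ
  obtain ⟨γ, h1, h2⟩ := hL.2.2 _ (hL.2.1 ⟨_, hx⟩)
  obtain ⟨a, f, e⟩ := (h.mem_ker_perm hΦ (α := γ⁻¹ * ⟨_, hx⟩)).1 (by rw [map_mul, map_inv, h2, inv_mul_cancel])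
  obtain ⟨b, e'⟩ := h.conj_diagAut γ.2 a
  refine ⟨x⁻¹, h.diagAut b, γ, h.fieldAut f, (h.isDiagonalAut_iff hΦ).2 ⟨b, rfl⟩, h1, h.isFieldAut_iff.2 ⟨f, rfl⟩,
    fun y => ?_⟩
  have : θ = (MulAut.conj x)⁻¹ * (h.diagAut b * γ * h.fieldAut f) := by
    rw [← e', inv_mul_cancel_right, mul_assoc γ.1, ← e]; simp
  rw [this]; simp

theorem GraphList.out_structure {Dbar Fbar : Subgroup (Out (D.group K))}
    (hD : Dbar = (Subgroup.closure {φ : MulAut (D.group K) | D.IsDiagonalAut φ}).map (QuotientGroup.mk' (Inn _)))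
    (hF : Fbar = (Subgroup.closure {φ : MulAut (D.group K) | D.IsFieldAut φ}).map (QuotientGroup.mk' (Inn _))) :
    Dbar.Normal ∧ IsMulCommutative Dbar ∧ IsCyclic Fbar ∧ (Dbar ⊔ Fbar).Normal ∧ (Dbar ⊔ Fbar).index = L.length ∧
      (commutator (Out (D.group K)) ≤ Dbar ⊔ Fbar → ∀ π ∈ L, ∀ π' ∈ L, π * π' = π' * π) := by
  have hX := St.sub_one (h.adj_Gx (K := K))
  have hs := hX.out_surj Function.injective_id
  set ψ := (QuotientGroup.mk' (Inn (D.group K))).comp ((h.adj K).A0 (MonoidHom.id _)).subtype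
  have e1 : Dbar = ((QuotientGroup.mk' (Inn _)).comp h.diagAut).range := by
    rw [hD, MonoidHom.range_comp, ← Subgroup.closure_eq h.diagAut.range]
    congr 2
    ext φ
    exact (h.isDiagonalAut_iff hΦ).trans (exists_congr fun _ => eq_comm)
  have e2 : Fbar = ((QuotientGroup.mk' (Inn _)).comp h.fieldAut).range := by
    rw [hF, MonoidHom.range_comp, ← Subgroup.closure_eq h.fieldAut.range]
    congr 2
    ext φ
    exact h.isFieldAut_iff.trans (exists_congr fun _ => eq_comm)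
  have e3 : ψ.ker ≤ (St.perm h.adj_Gx).ker := by
    rintro ⟨α, hα⟩ h1
    obtain ⟨g, rfl⟩ := (QuotientGroup.eq_one_iff _).1 h1
    obtain ⟨a, ha⟩ := St.exists_isTor ((hX.conj_mem_A0_iff Function.injective_id).1 hα)
    exact St.perm_eq _ fun i => ha.2 _ _
  have e4 : Dbar ⊔ Fbar = (St.perm h.adj_Gx).ker.map ψ := by
    rw [e1, e2]
    refine le_antisymm (sup_le ?_ ?_) ?_
    · rintro _ ⟨a, rfl⟩
      exact ⟨⟨_, h.diagAut_mem a⟩, (h.mem_ker_perm hΦ).2 ⟨a, 1, by simp⟩, rfl⟩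
    · rintro _ ⟨a, rfl⟩
      exact ⟨⟨_, h.fieldAut_mem a⟩, (h.mem_ker_perm hΦ).2 ⟨1, a, by simp⟩, rfl⟩
    · rintro _ ⟨α, hα, rfl⟩
      obtain ⟨a, f, e⟩ := (h.mem_ker_perm hΦ).1 hα
      rw [MonoidHom.comp_apply, Subgroup.coe_subtype, e, map_mul]
      exact Subgroup.mul_mem_sup ⟨a, rfl⟩ ⟨f, rfl⟩
  obtain ⟨p, hp⟩ := CharP.exists K
  haveI := Fintype.ofFinite K
  obtain ⟨n, hp', hn⟩ := FiniteField.card K p
  haveI := Fact.mk hp'
  haveI := (card_ringAut p n hn).2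
  refine ⟨⟨?_⟩, by rw [e1]; infer_instance, by rw [e2]; exact isCyclic_of_surjective _ (MonoidHom.rangeRestrict_surjective _),
    e4 ▸ Subgroup.Normal.map inferInstance _ hs, ?_, fun hc π hπ π' hπ' => ?_⟩
  · rw [e1]
    rintro _ ⟨a, rfl⟩ g
    obtain ⟨α, rfl⟩ := hs g
    obtain ⟨b, e⟩ := h.conj_diagAut α.2 a
    exact ⟨b, by rw [MonoidHom.comp_apply, ← e]; rfl⟩
  · rw [e4, Subgroup.index_map_eq _ hs e3, Subgroup.index_ker, hL.card_range]
  · obtain ⟨α, rfl⟩ := hL.mem_range.2 hπ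
    obtain ⟨β, rfl⟩ := hL.mem_range.2 hπ'
    have := hc (Subgroup.commutator_mem_commutator (Subgroup.mem_top (ψ α)) (Subgroup.mem_top (ψ β)))
    rw [e4, ← map_commutatorElement, ← Subgroup.mem_comap, Subgroup.comap_map_eq, sup_eq_left.2 e3, MonoidHom.mem_ker,
      map_commutatorElement] at this
    exact commutatorElement_eq_one_iff_mul_comm.1 this

end Checked
end Cfsg.Agent.Chev
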