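import Cfsg.Agent.Lib.Chev.TwTools

set_option autoImplicit false
set_option linter.unusedSectionVars false
set_option linter.style.haveILetI false

/-! Twisted groups whose orbits consist of orthogonal nodes. -/

namespace Cfsg.Agent.Chev

open Cfsg.Lie
open scoped commutatorElement

theorem prod_map_mul' {ι G : Type*} [Monoid G] {a b : ι → G} {L : List ι}
    (h : L.Pairwise fun i j => Commute (b i) (a j)) :
    (L.map fun i => a i * b i).prod = (L.map a).prod * (L.map b).prod := by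
  induction L with
  | nil => simp
  | cons i L ih =>
    rw [List.pairwise_cons] at h
    have : Commute (b i) (L.map a).prod := Commute.list_prod_right _ _ fun x hx => by
      obtain ⟨j, hj, rfl⟩ := List.mem_map.1 hx
      exact h.1 j hj
    simp only [List.map_cons, List.prod_cons, ih h.2]
    rw [mul_assoc, ← mul_assoc (b i), this.eq, mul_assoc, mul_assoc]

variable {I R : Type} [Fintype I] [DecidableEq I] [Fintype R] [DecidableEq R] {Φ : CD I R}

/-- the fundamental roots and their negatives -/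
def CD.pm (Φ : CD I R) (b : Bool) (i : I) : R := cond b (Φ.sim i) (Φ.neg (Φ.sim i))

/-- orbits of orthogonal nodes -/
structure OrthOrb (Φ : CD I R) {ρ : Φ.Sym} {K : Type} (o : ρ.Orb K) where
  L : K → List I
  e : I → ℕ
  m : K → ℕ
  rep : K → I
  nodup : ∀ k, (L k).Nodup
  mem : ∀ k i, i ∈ L k ↔ o.κ i = k
  κ_rep : ∀ k, o.κ (rep k) = k
  e_rep : ∀ k, e (rep k) = 0
  e_ρ : ∀ i, e (ρ.ρI i) = e i + 1 ∨ (e (ρ.ρI i) = 0 ∧ e i + 1 = m (o.κ i))
  iter : ∀ i, ρ.ρI^[e i] (rep (o.κ i)) = i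
  per : ∀ k, ρ.ρI^[m k] (rep k) = rep k
  comm : ∀ i j b b', o.κ i = o.κ j → i ≠ j →
    Φ.pm b' j ≠ Φ.pm b i ∧ Φ.pm b' j ≠ Φ.neg (Φ.pm b i) ∧ Φ.ct (Φ.pm b i) (Φ.pm b' j) = []
  hs : ∀ k r, Φ.Pos r → (∀ i, o.κ i ≠ k → Φ.rv r i = 0) → ∃ j, r = Φ.sim j

theorem RS.len_w0 {Φ : RS I R} (J : Set I) : len Φ.s (Φ.w0 J) = Nat.card {r | Φ.Pos r ∧ Φ.InJ J r} := by
  rw [← RS.card_invSet, ← Nat.card_eq_finsetCard]
  exact Nat.card_congr (Equiv.subtypeEquivRight fun r => RS.mem_invSet.trans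
    (and_congr_right fun h1 => ⟨RS.inJ_of_inv (RS.w0_mem J) h1, RS.w0_neg h1⟩))

namespace St
variable {F : Type*} [Field F] {G : Type*} [Group G] {S : St Φ F G}

/-- a graph-field endomorphism -/
abbrev mkTw (ρ : Φ.Sym) (ε : R → ℤ) (hε : ∀ i, ε (Φ.sim i) = 1 ∧ ε (Φ.neg (Φ.sim i)) = 1) (f : F →+* F) (σ : G →* G)
    (hσ : ∀ r t, σ (S.x r t) = S.x (ρ.ρ r) (ε r * f t)) : S.Tw where
  ρ := ρ
  σ := σ
  τ r t := ε r * f t
  f _ := f
  σ_x := hσ
  τ_sim i t := by simp [(hε i).1]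
  τ_neg i t := by simp [(hε i).2]

theorem Tw.σ_pm (T : S.Tw) (b : Bool) (i : I) (t : F) :
    T.σ (S.x (Φ.pm b i) t) = S.x (Φ.pm b (T.ρ.ρI i)) (T.f i t) := by
  cases b
  · exact (T.simMap i t).2
  · exact (T.simMap i t).1

end St

namespace OrthOrb
variable {F : Type*} [Field F] {G : Type*} [Group G]

section
variable {ρ : Φ.Sym} {K : Type} {o : ρ.Orb K} (d : OrthOrb Φ o) (S : St Φ F G) (f : F →+* F)

/-- the fixed elements of the root subgroups of an orbit -/
def Y (b : Bool) (k : K) (t : F) : G := ((d.L k).map fun j => S.x (Φ.pm b j) (f^[d.e j] t)).prod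

/-- the twisted group -/
def X : Subgroup G := Subgroup.closure {g | ∃ b k t, f^[d.m k] t = t ∧ g = d.Y S f b k t}

variable {S f}

theorem Y_mem (b : Bool) {k : K} {t : F} (h : f^[d.m k] t = t) : d.Y S f b k t ∈ d.X S f :=
  Subgroup.subset_closure ⟨b, k, t, h, rfl⟩

theorem map_Y {G' : Type*} [Group G'] {S' : St Φ F G'} {φ : G →* G'} (hφ : ∀ r t, φ (S.x r t) = S'.x r t)
    (b : Bool) (k : K) (t : F) : φ (d.Y S f b k t) = d.Y S' f b k t := by
  simp [Y, map_list_prod, Function.comp_def, hφ]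

theorem map_X {G' : Type*} [Group G'] {S' : St Φ F G'} {φ : G →* G'} (hφ : ∀ r t, φ (S.x r t) = S'.x r t) :
    (d.X S f).map φ = d.X S' f := by
  rw [X, MonoidHom.map_closure]
  congr 1
  ext g
  constructor
  · rintro ⟨_, ⟨b, k, t, h, rfl⟩, rfl⟩
    exact ⟨b, k, t, h, d.map_Y hφ b k t⟩
  · rintro ⟨b, k, t, h, rfl⟩
    exact ⟨_, ⟨b, k, t, h, rfl⟩, d.map_Y hφ b k t⟩

theorem pairwise {k : K} {p : I → I → Prop} (h : ∀ i j, o.κ i = o.κ j → i ≠ j → p i j) : (d.L k).Pairwise p :=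
  (d.nodup k).imp_of_mem fun hi hj e => h _ _ (((d.mem _ _).1 hi).trans ((d.mem _ _).1 hj).symm) e

include d in
theorem commute {i j : I} (h : o.κ i = o.κ j) (e : i ≠ j) (b b' : Bool) (t u : F) :
    Commute (S.x (Φ.pm b i) t) (S.x (Φ.pm b' j) u) := St.commute_of_ct (d.comm i j b b' h e) t u

include d in
theorem commute_n {i j : I} (h : o.κ i = o.κ j) (e : i ≠ j) (c c' : Fˣ) :
    Commute (S.n (Φ.sim i) c) (S.n (Φ.sim j) c') := by
  have : ∀ b t, Commute (S.x (Φ.pm b i) t) (S.n (Φ.sim j) c') := fun b t =>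
    ((d.commute h e b true _ _).mul_right (d.commute h e b false _ _)).mul_right (d.commute h e b true _ _)
  exact ((this true _).mul_left (this false _)).mul_left (this true _)

theorem Y_UL (k : K) (t : F) : d.Y S f true k t ∈ S.UL (o.J k) :=
  Subgroup.list_prod_mem _ fun g hg => by
    obtain ⟨j, hj, rfl⟩ := List.mem_map.1 hg
    exact St.x_mem (by exact ⟨Φ.pos_sim j, RS.inJ_sim.2 ((d.mem _ _).1 hj)⟩) _

theorem Y_VL (k : K) (t : F) : d.Y S f false k t ∈ S.VL (o.J k) :=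
  Subgroup.list_prod_mem _ fun g hg => by
    obtain ⟨j, hj, rfl⟩ := List.mem_map.1 hg
    have h1 : j ∈ o.J k := (d.mem _ _).1 hj
    exact St.x_mem (by exact ⟨by simp only [CD.pm, cond, RS.pos_neg_iff, not_not]; exact Φ.pos_sim j,
      (RS.inJ_sim.2 h1).neg⟩) _

theorem co_Y (i : I) (t : F) : S.co i (d.Y S f true (o.κ i) t) = f^[d.e i] t := by
  have : ∀ L : List I, L.Nodup → S.co i (L.map fun j => S.x (Φ.sim j) (f^[d.e j] t)).prod =
      if i ∈ L then f^[d.e i] t else 0 := by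
    intro L hL
    induction L with
    | nil => simp [St.co_one]
    | cons j L ih =>
      rw [List.nodup_cons] at hL
      rw [List.map_cons, List.prod_cons, St.co_mul i (St.x_mem_U (Φ.pos_sim j) _) (Subgroup.list_prod_mem _
        fun g hg => by obtain ⟨j, -, rfl⟩ := List.mem_map.1 hg; exact St.x_mem_U (Φ.pos_sim j) _), ih hL.2, St.co_x]
      by_cases e : j = i
      · subst e; simp [hL.1]
      · simp [e, Ne.symm e, Φ.sim_inj.eq_iff]
  exact (this _ (d.nodup _)).trans (if_pos ((d.mem _ _).2 rfl))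

theorem co_Y' (k : K) (t : F) : S.co (d.rep k) (d.Y S f true k t) = t := by
  have := d.co_Y (S := S) (f := f) (d.rep k) t
  rwa [d.κ_rep, d.e_rep] at this

theorem Y_ne_one (k : K) : d.Y S f false k 1 ≠ 1 := by
  intro e
  have h1 : d.Y S f false k 1 = S.P ((d.L k).map (Φ.pm false)) fun _ => 1 := by
    simp [Y, St.P, Function.comp_def, Function.iterate_fixed (map_one f)]
  have h2 : S.P ((d.L k).map (Φ.pm false)) (fun _ => 0) = 1 := St.P_zero fun _ _ => rfl
  refine one_ne_zero (St.P_inj RS.unip_neg ((d.nodup k).map fun i j e => Φ.sim_inj (Φ.neg_inj e)) (fun r hr => ?_)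
    (h1.symm.trans (e.trans h2.symm)) _ (List.mem_map_of_mem ((d.mem _ _).2 (d.κ_rep k))))
  obtain ⟨j, -, rfl⟩ := List.mem_map.1 hr
  simpa [CD.pm, RS.pos_neg_iff] using Φ.pos_sim j

theorem iter_ρ {A : Type*} {g : A → A} (i : I) {t : A} (h : g^[d.m (o.κ i)] t = t) :
    g^[d.e (ρ.ρI i)] t = g (g^[d.e i] t) := by
  rcases d.e_ρ i with e | ⟨e, e'⟩
  · rw [e, Function.iterate_succ_apply']
  · rw [e, ← Function.iterate_succ_apply' g, Nat.succ_eq_add_one, e', h]; rfl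

theorem prod_h_mem {k : K} {c : Fˣ} (h : (Units.map (f : F →* F))^[d.m k] c = c) :
    ((d.L k).map fun j => S.h (Φ.sim j) ((Units.map (f : F →* F))^[d.e j] c)).prod ∈ d.X S f := by
  have e : ∀ n (c : Fˣ), (((Units.map (f : F →* F))^[n] c : Fˣ) : F) = f^[n] c := fun n c => by
    induction n with
    | zero => rfl
    | succ n ih => simp [Function.iterate_succ_apply', ih]
  have key : ∀ c : Fˣ, f^[d.m k] c = c →
      ((d.L k).map fun j => S.n (Φ.sim j) ((Units.map (f : F →* F))^[d.e j] c)).prod ∈ d.X S f := fun c h => by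
    simp only [St.n]
    rw [prod_map_mul' (d.pairwise fun i j h e => by
      exact (d.commute h e true true _ _).mul_right (d.commute h e true false _ _)),
      prod_map_mul' (d.pairwise fun i j h e => by exact d.commute h e false true _ _)]
    have h1 := d.Y_mem (S := S) true h
    have h2 := d.Y_mem (S := S) (f := f) false (k := k) (t := -(c : F)⁻¹)
      (by rw [← RingHom.coe_pow] at h ⊢; rw [map_neg, map_inv₀, h])
    simp only [Y, ← RingHom.coe_pow, map_neg, map_inv₀] at h1 h2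
    simp only [e, ← RingHom.coe_pow]
    exact mul_mem (mul_mem h1 h2) h1
  have h3 := key (-1) (by rw [← RingHom.coe_pow]; simp)
  have h4 : ∀ n, (Units.map (f : F →* F))^[n] (-1) = -1 := fun n => Function.iterate_fixed (by ext; simp) n
  simp only [h4] at h3
  simp only [St.h]
  rw [prod_map_mul' (d.pairwise fun i j h e => d.commute_n h e _ _)]
  exact mul_mem (key c (by rw [← e, h])) h3

end

variable {S : St Φ F G} {T : S.Tw} {K : Type} {o : T.ρ.Orb K} (d : OrthOrb Φ o) {f : F →+* F} (hf : ∀ i, T.f i = f)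
include hf

theorem σ_Y (b : Bool) {k : K} {t : F} (h : f^[d.m k] t = t) : T.σ (d.Y S f b k t) = d.Y S f b k t := by
  have h1 : ((d.L k).map T.ρ.ρI).Perm (d.L k) := by
    rw [List.perm_ext_iff_of_nodup ((d.nodup k).map T.ρ.ρI.injective) (d.nodup k)]
    intro i
    obtain ⟨i, rfl⟩ := T.ρ.ρI.surjective i
    rw [List.mem_map_of_injective T.ρ.ρI.injective, d.mem, d.mem, o.inv]
  refine Eq.trans ?_ ((h1.symm.map _).prod_eq'
    (List.pairwise_map.2 (d.pairwise fun i j h e => d.commute h e _ _ _ _))).symm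
  rw [Y, map_list_prod, List.map_map, List.map_map]
  refine congrArg _ (List.map_congr_left fun j hj => ?_)
  rw [Function.comp_apply, Function.comp_apply, T.σ_pm, hf, d.iter_ρ j (by rwa [(d.mem _ _).1 hj])]

theorem fix {g : G} (hg : g ∈ d.X S f) : T.σ g = g :=
  (Subgroup.closure_le (T.σ.eqLocus (MonoidHom.id _))).2 (by rintro _ ⟨b, k, t, h, rfl⟩; exact d.σ_Y hf b h) hg

theorem fix_iff (k : K) (u : G) : (u ∈ S.UL (o.J k) ∧ T.σ u = u) ↔
    ∃ t : {t : F | f^[d.m k] t = t}, d.Y S f true k t = u := by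
  refine ⟨fun ⟨hu, e⟩ => ?_, fun ⟨t, e⟩ => e ▸ ⟨d.Y_UL k _, d.σ_Y hf _ t.2⟩⟩
  have h1 : ∀ n, S.co (T.ρ.ρI^[n] (d.rep k)) u = f^[n] (S.co (d.rep k) u) := fun n => by
    induction n with
    | zero => rfl
    | succ n ih => rw [Function.iterate_succ_apply', Function.iterate_succ_apply', ← ih, ← hf, ← T.co_σ _
        (St.UL_le_U _ hu), e]
  have h2 := h1 (d.m k)
  rw [d.per] at h2
  exact ⟨⟨_, h2.symm⟩, T.exists_param o (d.κ_rep k) (d.hs k) (d.Y_UL k _) (d.σ_Y hf _ h2.symm) hu e (d.co_Y' k _)⟩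

theorem sub : T.Sub o (d.X S f) where
  le := (Subgroup.closure_le _).2 (by
    rintro _ ⟨b, k, t, h, rfl⟩
    exact Subgroup.list_prod_mem _ fun g hg => by
      obtain ⟨j, -, rfl⟩ := List.mem_map.1 hg; exact St.x_mem_Gx _ _)
  fix g hg := d.fix hf hg
  UL k u hu e := by
    obtain ⟨t, rfl⟩ := (d.fix_iff hf k u).1 ⟨hu, e⟩
    exact d.Y_mem _ t.2
  VL k := ⟨_, d.Y_mem false (Function.iterate_fixed (map_one f) _), d.Y_VL k 1, d.Y_ne_one k⟩

theorem tfix_iter {c : I → Fˣ} (hc : c ∈ T.tfix) (n : ℕ) (i : I) :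
    c (T.ρ.ρI^[n] i) = (Units.map (f : F →* F))^[n] (c i) := by
  induction n with
  | zero => rfl
  | succ n ih => rw [Function.iterate_succ_apply', Function.iterate_succ_apply', ← ih, hc, hf]

theorem card_tfix [Fintype K] :
    Nat.card T.tfix = ∏ k, Nat.card {c : Fˣ // (Units.map (f : F →* F))^[d.m k] c = c} := by
  rw [← Nat.card_pi]
  refine Nat.card_eq_of_bijective (fun c k => ⟨c.1 (d.rep k), by rw [← tfix_iter hf c.2, d.per]⟩) ⟨?_, ?_⟩
  · intro c c' e
    ext1; ext1 i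
    rw [← d.iter i, tfix_iter hf c.2, tfix_iter hf c'.2]
    exact congrArg _ (congrArg Subtype.val (congrFun e _))
  · intro a
    refine ⟨⟨fun i => (Units.map (f : F →* F))^[d.e i] (a (o.κ i)), fun i => ?_⟩, funext fun k => Subtype.ext ?_⟩
    · simp only [hf]
      rw [o.inv]
      exact d.iter_ρ i (a _).2
    · simp only [d.e_rep, Function.iterate_zero, id]
      rw [d.κ_rep]

theorem hT_mem [Fintype K] [DecidableEq K] (hm : S.HMul) {c : I → Fˣ} (hc : c ∈ T.tfix) : hm.hT c ∈ d.X S f := by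
  have h1 : c = ∏ k, ((d.L k).map fun j => Pi.mulSingle j (c j)).prod := by
    rw [Finset.prod_congr rfl fun k _ => (List.prod_toFinset _ (d.nodup k)).symm]
    refine (Finset.univ_prod_mulSingle c).symm.trans ((Finset.prod_fiberwise (g := o.κ) _ _).symm.trans ?_)
    refine Finset.prod_congr rfl fun k _ => Finset.prod_congr ?_ fun _ _ => rfl
    ext i; simp [d.mem]
  rw [h1]
  refine Finset.prod_induction _ (fun c => hm.hT c ∈ d.X S f) (fun a b ha hb => by
    rw [map_mul]; exact mul_mem ha hb) (by simp) fun k _ => ?_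
  rw [map_list_prod, List.map_map]
  refine (congrArg (fun L : List G => L.prod ∈ d.X S f) (List.map_congr_left fun j hj => ?_)).mpr
    (d.prod_h_mem (S := S) (f := f) (k := k) (c := c (d.rep k)) (by rw [← tfix_iter hf hc, d.per]))
  rw [Function.comp_apply, hm.hT_single, ← tfix_iter hf hc, ← (d.mem _ _).1 hj, d.iter]

section
variable {Γ : Type*} [Group Γ] {ι : Γ →* G} (hι : Function.Injective ι) (hr : ι.range = d.X S f)
include hr

theorem sub' : T.Sub o ι.range := hr ▸ d.sub hf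

omit hf in
theorem exists_co (i : I) : ∃ u : Γ, ι u ∈ S.U ∧ S.co i (ι u) ≠ 0 := by
  obtain ⟨u, e⟩ : d.Y S f true (o.κ i) 1 ∈ ι.range := hr ▸ d.Y_mem _ (Function.iterate_fixed (map_one f) _)
  refine ⟨u, e ▸ St.UL_le_U _ (d.Y_UL _ _), ?_⟩
  rw [e, d.co_Y, Function.iterate_fixed (map_one f)]
  exact one_ne_zero

include hι
omit hf in
theorem gen (Z : Subgroup Γ) (h1 : S.U.comap ι ≤ Z) (h2 : S.V.comap ι ≤ Z) : Z = ⊤ :=
  eq_top_of_range hι hr (by
    rintro g ⟨_ | _, k, t, -, e⟩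
    · exact h2 (show ι g ∈ _ from e ▸ St.VL_le_V _ (d.Y_VL _ _))
    · exact h1 (show ι g ∈ _ from e ▸ St.UL_le_U _ (d.Y_UL _ _)))

theorem card_UL (k : K) : Nat.card ((S.UL (o.J k)).comap ι) = Nat.card {t : F | f^[d.m k] t = t} :=
  T.card_param o (d.sub' hf hr) hι (St.UL_le_U _)
    (fun t u e => Subtype.ext (by rw [← d.co_Y' (S := S) (f := f) k t, e, d.co_Y'])) (d.fix_iff hf k)

theorem card_H [Fintype K] [DecidableEq K] (hθ : Function.Injective S.θ) {G' : Type*} [Group G'] {S' : St Φ F G'}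
    (T' : S'.Tw) (o' : T'.ρ.Orb K) (d' : OrthOrb Φ o') (hf' : ∀ i, T'.f i = f) (e : T'.tfix = T.tfix)
    (φ : G' →* G) (hφ : ∀ r t, φ (S'.x r t) = S.x r t) (e' : (d'.X S' f).map φ = d.X S f)
    (had : S.ad = S'.ad) (hG : S'.Gx = ⊤) (hm : S'.HMul) (hi : Function.Injective hm.hT) :
    Nat.card (T.tfix ⊓ (zmap Fˣ Φ.cm).ker : Subgroup _) * Nat.card (S.H.comap ι) = Nat.card T.tfix :=
  St.Tw.card_H hι hθ (St.hMul_of_inj hθ) _ (fun c hc => hr ▸ d.hT_mem hf _ hc) fun g hg => by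
    obtain ⟨g', h1, h2⟩ : ι g ∈ (d'.X S' f).map φ := e' ▸ hr ▸ ⟨g, rfl⟩
    rw [← e, ← h2]
    exact T'.exists_tfix φ hφ had hG hm hi _ (d'.fix hf' h1) (h2 ▸ hg)

omit hf in
theorem le_comm_of_tor [Finite F] (k k' : K) {c : Fˣ} (hc : (Units.map (f : F →* F))^[d.m k'] c = c)
    (ha : ∀ j ∈ d.L k, ((d.L k').map fun i => (Units.map (f : F →* F))^[d.e i] c ^ Φ.A i (Φ.sim j)).prod ≠ 1) :
    (S.UL (o.J k)).comap ι ≤ commutator Γ := by
  obtain ⟨g, e⟩ : _ ∈ ι.range := hr ▸ d.prod_h_mem hc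
  have : ∀ L : List I, (L.map fun j => S.h (Φ.sim j) ((Units.map (f : F →* F))^[d.e j] c)).prod ∈ S.H ∧
      S.IsTor (L.map fun j => S.h (Φ.sim j) ((Units.map (f : F →* F))^[d.e j] c)).prod fun j =>
        (L.map fun i => (Units.map (f : F →* F))^[d.e i] c ^ Φ.A i (Φ.sim j)).prod := fun L => by
    induction L with
    | nil => exact ⟨one_mem _, St.isTor_one⟩
    | cons i L ih => exact ⟨mul_mem (St.h_sim_mem _ _) ih.1, (St.isTor_h_sim _ _).mul ih.2⟩
  refine St.Tw.Sub.le_commutator hι (St.unip_UL _) (e ▸ (this _).1) (e ▸ (this _).2) fun r hr => ?_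
  obtain ⟨j, rfl⟩ := d.hs k r hr.1 hr.2
  have h3 : j ∈ o.J k := RS.inJ_sim.1 hr.2
  rw [Φ.rv_sim, RS.chi_single, zpow_one]
  exact ha j ((d.mem _ _).2 h3)

theorem le_comm_of_Y (k : K) (h : ∀ t, f^[d.m k] t = t → d.Y S f true k t ∈ (commutator Γ).map ι) :
    (S.UL (o.J k)).comap ι ≤ commutator Γ := fun u hu => by
  obtain ⟨t, e⟩ := (d.fix_iff hf k (ι u)).1 ⟨hu, d.fix hf (hr ▸ ⟨u, rfl⟩)⟩
  exact (Subgroup.mem_map_iff_mem hι).1 (e ▸ h t t.2)

end
end OrthOrb

theorem comm_mem_map {Γ G : Type*} [Group Γ] [Group G] (ι : Γ →* G) :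
    (∀ a ∈ ι.range, ∀ b ∈ ι.range, ⁅a, b⁆ ∈ (commutator Γ).map ι) ∧
      ∀ a ∈ ι.range, ∀ y ∈ (commutator Γ).map ι, a * y * a⁻¹ ∈ (commutator Γ).map ι := by
  constructor
  · rintro _ ⟨a, rfl⟩ _ ⟨b, rfl⟩
    exact ⟨_, Subgroup.commutator_mem_commutator (trivial : a ∈ (⊤ : Subgroup Γ)) (trivial : b ∈ (⊤ : Subgroup Γ)),
      map_commutatorElement ι a b⟩
  · rintro _ ⟨a, rfl⟩ _ ⟨y, hy, rfl⟩
    exact ⟨_, (inferInstance : (commutator Γ).Normal).conj_mem y hy a, by simp⟩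

theorem mem_ker_zmap {A : Type*} [CommGroup A] {M N : Matrix I I ℤ} (M' : Matrix I I ℤ) (h : M * M' = N)
    {c : I → A} (hc : c ∈ (zmap A M).ker) (j : I) : zmap A N c j = 1 := by
  rw [← h, zmap_mul, MonoidHom.mem_ker.1 hc, map_one]; rfl

namespace Checked
variable {D : ChevalleyDatum} {c : Cert} (h : Checked D c) {K : Type*} [Field K] (W : Set (List (ℕ × K)))

/-- the inclusion of a subgroup generated by words -/
noncomputable abbrev inc : D.genSubgroup K W →* D.group K := Subgroup.inclusion (h.gen_le W)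

theorem inc_inj : Function.Injective (h.inc W) := Subgroup.inclusion_injective _

theorem card_inc_U : Nat.card ((h.adj K).U.comap (h.inc W)) =
    Nat.card (D.posUnipotent K ⊓ D.genSubgroup K W : Subgroup _) := by rw [h.adj_U, card_comap_inclusion]

theorem card_inc_H : Nat.card ((h.adj K).H.comap (h.inc W)) =
    Nat.card (D.diagonalSubgroup K ⊓ D.genSubgroup K W : Subgroup _) := by rw [h.adj_H, card_comap_inclusion]

variable {W} {T : (h.adj K).Tw} {n : Type} {o : T.ρ.Orb n} (hX : T.Sub o (h.inc W).range)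
include hX

theorem tw_bn : ∃ P : BNPair (D.genSubgroup K W),
    P.B = (D.borelSubgroup K ⊓ D.genSubgroup K W).subgroupOf (D.genSubgroup K W) ∧
    P.N = (D.monomialSubgroup K ⊓ D.genSubgroup K W).subgroupOf (D.genSubgroup K W) :=
  ⟨hX.bn (h.inc_inj W), by rw [← comap_inclusion (h.gen_le W), ← h.adj_B]; rfl,
    by rw [← comap_inclusion (h.gen_le W), ← h.adj_N]; rfl⟩

theorem tw_core (hc : ∀ i, ∃ u, h.inc W u ∈ (h.adj K).U ∧ (h.adj K).co i (h.inc W u) ≠ 0) :
    ((D.borelSubgroup K ⊓ D.genSubgroup K W).subgroupOf (D.genSubgroup K W)).normalCore = ⊥ := by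
  rw [← comap_inclusion (h.gen_le W), ← h.adj_B]
  exact hX.normalCore_B (h.inc_inj W) h.adj_inj hc

theorem tw_π {M : Type*} [Group M] (e : T.ρ.W1 ≃* M) :
    ∃ φ : (D.monomialSubgroup K ⊓ D.genSubgroup K W : Subgroup _) →* M, Function.Surjective φ ∧
      φ.ker = (D.diagonalSubgroup K ⊓ D.genSubgroup K W).subgroupOf (D.monomialSubgroup K ⊓ D.genSubgroup K W) := by
  have : ∃ φ : (h.adj K).N.comap (h.inc W) →* M, Function.Surjective φ ∧
      φ.ker = ((h.adj K).H.comap (h.inc W)).subgroupOf ((h.adj K).N.comap (h.inc W)) :=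
    ⟨e.toMonoidHom.comp hX.π, e.surjective.comp hX.π_surj, by
      rw [← hX.π_ker, ← MonoidHom.comap_ker, (MonoidHom.ker_eq_bot_iff _).2 e.injective, MonoidHom.comap_bot]⟩
  rw [h.adj_N, h.adj_H, comap_inclusion, comap_inclusion] at this
  obtain ⟨φ, h1, h2⟩ := this
  exact exists_hom_inf φ h1 h2

omit hX in
theorem exists_twist [Finite K] (ρ : h.toCD.Sym) (ε : Fin D.nroots → ℤ) (f : K →+* K)
    (h1 : ∃ φ : D.group K →* D.group K, ∀ r t, φ ((h.adj K).x r t) = (h.adj K).x (ρ.ρ r) (ε r * t)) :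
    ∃ φ : D.group K →* D.group K, ∀ r t, φ ((h.adj K).x r t) = (h.adj K).x (ρ.ρ r) (ε r * f t) := by
  obtain ⟨φ, hφ⟩ := h1
  exact ⟨φ.comp (h.fieldHom f), fun r t => by rw [MonoidHom.comp_apply, h.fieldHom_x, hφ]⟩

omit hX in
theorem exists_twist_uni (ρ : h.toCD.Sym) (ε : Fin D.nroots → ℤ)
    (hε : ∀ i, ε (h.toCD.sim i) = 1 ∧ ε (h.toCD.neg (h.toCD.sim i)) = 1) (f : K →+* K) {π : ℕ → ℕ}
    (hπ : ∀ r, π r.val = (ρ.ρ r).val) (h1 : h.toCD.Rel fun r t => xN (h.uni K).x (π r) (ε r * t)) :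
    ∃ φ : D.SteinbergGroup K →* D.SteinbergGroup K,
      ∀ r t, φ ((h.uni K).x r t) = (h.uni K).x (ρ.ρ r) (ε r * f t) := by
  simp only [hπ, xN_fin] at h1
  exact h.uni_lift' h.uni_hMul (h1.field f) (ν := ρ.ρI) (f := fun _ => f) fun i t => by
    simp [(hε i).1, (hε i).2, ρ.neg, ρ.sim]

end Checked

end Cfsg.Agent.Chev
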