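import Cfsg.Agent.Lib.Chev.AutTw
import Cfsg.Agent.Lib.Chev.TwSL

set_option autoImplicit false
set_option linter.unusedSectionVars false
set_option linter.style.haveILetI false

/-! Automorphisms of (twisted) Chevalley groups: coordinates on the fundamental root subgroups. -/

namespace Cfsg.Agent.Chev

open scoped commutatorElement

section Field
variable {P F : Type*} [Field P] [Finite P] [Field F]

theorem mem_of_sq (A : AddSubgroup P) (h : ∀ c, c ^ 2 ∈ A) (s : P) : s ∈ A := by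
  by_cases h2 : ringChar P = 2
  · obtain ⟨c, rfl⟩ := FiniteField.isSquare_of_char_two h2 s
    simpa [sq] using h c
  · have := Ring.two_ne_zero h2
    rw [show s = ((s + 1) / 2) ^ 2 - ((s - 1) / 2) ^ 2 by field_simp; ring]
    exact sub_mem (h _) (h _)

theorem ringHom_ext_sq {g g' : P →+* F} (h : ∀ c, c ≠ 0 → g (c ^ 2) = g' (c ^ 2)) : g = g' :=
  RingHom.ext (mem_of_sq ((g : P →+ F).eqLocus g') fun c => by
    by_cases e : c = 0
    · simp [e]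
    · exact h c e)

theorem exists_ringHom_of_sq (φ : P →+ F) (h1 : φ 1 ≠ 0) (h : ∀ c, c ≠ 0 → ∃ l, ∀ t, φ (c ^ 2 * t) = l * φ t) :
    ∃ g : P →+* F, ∀ t, φ t = φ 1 * g t := by
  have key : ∀ s t, φ (s * t) * φ 1 = φ s * φ t := fun s t =>
    mem_of_sq (((AddMonoidHom.mulRight (φ 1)).comp (φ.comp (AddMonoidHom.mulRight t))).eqLocus
      ((AddMonoidHom.mulRight (φ t)).comp φ)) (fun c => by
        change φ (c ^ 2 * t) * φ 1 = φ (c ^ 2) * φ t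
        by_cases e : c = 0
        · simp [e]
        · obtain ⟨l, hl⟩ := h c e
          rw [hl, ← mul_one (c ^ 2), hl]; ring) s
  exact ⟨{ toFun t := φ t / φ 1
           map_one' := div_self h1
           map_mul' s t := by field_simp; exact key s t
           map_zero' := by simp
           map_add' s t := by rw [map_add, add_div] }, fun t => (mul_div_cancel₀ _ h1).symm⟩

theorem card_ringAut [Fintype P] (p f : ℕ) [Fact p.Prime] [CharP P p] (h : Fintype.card P = p ^ f) :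
    Nat.card (P ≃+* P) = f ∧ IsCyclic (P ≃+* P) := by
  letI := ZMod.algebra P p
  have e : (P ≃ₐ[ZMod p] P) ≃* (P ≃+* P) :=
    { toFun := AlgEquiv.toRingEquiv
      invFun g := AlgEquiv.ofRingEquiv (f := g) fun x => by
        obtain ⟨n, rfl⟩ := ZMod.intCast_surjective x
        simp
      left_inv _ := rfl
      right_inv _ := rfl
      map_mul' _ _ := rfl }
  refine ⟨?_, isCyclic_of_surjective e e.surjective⟩
  rw [← Nat.card_congr e.toEquiv, IsGalois.card_aut_eq_finrank]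
  have := Module.card_eq_pow_finrank (K := ZMod p) (V := P)
  rw [ZMod.card, h] at this
  exact (Nat.pow_right_injective (Fact.out : p.Prime).two_le this).symm

end Field

variable {I R : Type} [Fintype I] [DecidableEq I] [Fintype R] [DecidableEq R]

namespace St
variable {Φ : CD I R} {F : Type*} [Field F] {G : Type*} [Group G] {S : St Φ F G}

namespace Tw.Sub
variable {T : S.Tw} {K : Type} {o : T.ρ.Orb K} {Γ : Type*} [Group Γ] {ι : Γ →* G} (hX : T.Sub o ι.range)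
  (hι : Function.Injective ι)
include hX hι

section
variable {α : MulAut Γ} {π : K → K} (h3 : ∀ k m, ι m ∈ S.N → S.Acts (ι m) (Φ.w0 (o.J k)) →
  ι (α m) ∈ S.N ∧ S.Acts (ι (α m)) (Φ.w0 (o.J (π k))))
include h3

theorem exists_word (ω : List K) : ∃ m, ι m ∈ S.N ∧ S.Acts (ι m) (wp (fun k => Φ.w0 (o.J k)) ω) ∧
    ι (α m) ∈ S.N ∧ S.Acts (ι (α m)) (wp (fun k => Φ.w0 (o.J k)) (ω.map π)) := by
  induction ω with
  | nil => exact ⟨1, by simp, by simpa using acts_one, by simp, by simpa using acts_one⟩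
  | cons k ω ih =>
    obtain ⟨m, h1, h2, h4, h5⟩ := ih
    obtain ⟨h6, h7⟩ := h3 k _ (hX.nw_mem _) (hX.acts_t k)
    refine ⟨hX.nw (o.t k) * m, ?_⟩
    simp only [map_mul, List.map_cons, wp_cons]
    exact ⟨mul_mem (hX.nw_mem _) h1, (hX.acts_t k).mul h2, mul_mem h6 h4, h7.mul h5⟩

theorem wp_map (hα : α ∈ S.A0 ι) {ω ω' : List K}
    (e : wp (fun k => Φ.w0 (o.J k)) ω = wp (fun k => Φ.w0 (o.J k)) ω') :
    wp (fun k => Φ.w0 (o.J k)) (ω.map π) = wp (fun k => Φ.w0 (o.J k)) (ω'.map π) := by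
  obtain ⟨m, h1, h2, h4, h5⟩ := hX.exists_word hι h3 ω
  obtain ⟨m', h1', h2', h4', h5'⟩ := hX.exists_word hι h3 ω'
  have := hX.map_H hι hα (g := m⁻¹ * m') (by simpa using inv_mul_mem_H h1 h1' h2 (e ▸ h2'))
  exact inv_mul_eq_one.1 ((h5.inv.mul h5').unique (by simpa using acts_of_mem_H this))

theorem tor_conj (hα : α ∈ S.A0 ι) (k : K) {h : Γ} (hh : ι h ∈ S.H) {b b' : I → Fˣ} (hb : S.IsTor (ι h) b)
    (hb' : S.IsTor (ι (α h)) b') : ∃ h' : Γ, ι h' ∈ S.H ∧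
      S.IsTor (ι h') (fun j => RS.chi b (Φ.rv (Φ.w0 (o.J k) • Φ.sim j))) ∧
      S.IsTor (ι (α h')) fun j => RS.chi b' (Φ.rv (Φ.w0 (o.J (π k)) • Φ.sim j)) := by
  obtain ⟨h6, h7⟩ := h3 k _ (hX.nw_mem _) (hX.acts_t k)
  refine ⟨hX.nw (o.t k) * h * (hX.nw (o.t k))⁻¹, ?_⟩
  simp only [map_mul, map_inv]
  exact ⟨conj_mem_H (hX.nw_mem _) hh, by simpa [RS.w0_inv] using hb.conj hh (hX.nw_mem _) (hX.acts_t k),
    by simpa [RS.w0_inv] using hb'.conj (hX.map_H hι hα hh) h6 h7⟩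

end

theorem exists_coord {α : MulAut Γ} (hα : α ∈ S.A0 ι) {A : Set R} (hA : ∀ r ∈ A, Φ.Pos r) {i i' : I}
    {P : Type*} [Field P] [Finite P] (j : P →+* F) (hy : ∀ t, ∃ x, ι x ∈ S.Ux A ∧ S.co i (ι x) = j t)
    (h0 : ∀ x, ι x ∈ S.Ux A → (S.co i (ι x) = 0 ↔ S.co i' (ι (α x)) = 0))
    (hsq : ∀ c, c ≠ 0 → ∃ h b, ι h ∈ S.H ∧ S.IsTor (ι h) b ∧ b i = j c ^ 2) :
    ∃ (a : Fˣ) (g : P →+* F), (∀ x t, ι x ∈ S.Ux A → S.co i (ι x) = j t → S.co i' (ι (α x)) = a * g t) ∧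
      ∀ h b b', ι h ∈ S.H → S.IsTor (ι h) b → S.IsTor (ι (α h)) b' → ∀ s, j s = b i → g s = b' i' := by
  have hU : S.Ux A ≤ S.U := Ux_mono hA
  have hU' : ∀ x, ι x ∈ S.Ux A → ι (α x) ∈ S.U := fun x hx => (hα.1 x).2 (hU hx)
  choose y hy1 hy2 using hy
  have h1 : ∀ x t, ι x ∈ S.Ux A → S.co i (ι x) = j t → S.co i' (ι (α x)) = S.co i' (ι (α (y t))) := fun x t hx e => by
    have := (h0 (x * (y t)⁻¹) (by simpa using mul_mem hx (inv_mem (hy1 t)))).1 (by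
      rw [map_mul, map_inv, co_mul i (hU hx) (inv_mem (hU (hy1 t))), co_inv i (hU (hy1 t)), e, hy2, add_neg_cancel])
    rwa [map_mul, map_inv, map_mul, map_inv, co_mul _ (hU' x hx) (inv_mem (hU' _ (hy1 t))), co_inv _ (hU' _ (hy1 t)),
      add_neg_eq_zero] at this
  let φ : P →+ F := AddMonoidHom.mk' (fun t => S.co i' (ι (α (y t)))) fun s t => by
    rw [← co_mul _ (hU' _ (hy1 s)) (hU' _ (hy1 t)), ← map_mul, ← map_mul, h1 (y s * y t) (s + t)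
      (by simpa using mul_mem (hy1 s) (hy1 t)) (by rw [map_mul, co_mul _ (hU (hy1 s)) (hU (hy1 t)), hy2, hy2, map_add])]
  have h2 : φ 1 ≠ 0 := fun e => by simpa [hy2] using (h0 _ (hy1 1)).2 e
  have h4 : ∀ h b b', ι h ∈ S.H → S.IsTor (ι h) b → S.IsTor (ι (α h)) b' → ∀ s, j s = b i → ∀ t,
      φ (s * t) = b' i' * φ t := fun h b b' hh hb hb' s e t => by
    have := h1 (h * y t * h⁻¹) (s * t) (by simpa using conj_H_Ux hh (hy1 t)) (by
      rw [map_mul, map_mul, map_inv, co_conj hb hh i (hU (hy1 t)), hy2, map_mul, e])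
    rw [map_mul, map_mul, map_inv, map_mul, map_mul, map_inv, co_conj hb' (hX.map_H hι hα hh) i' (hU' _ (hy1 t))] at this
    exact this.symm
  obtain ⟨g, hg⟩ := exists_ringHom_of_sq φ h2 fun c hc => by
    obtain ⟨h, b, hh, hb, e⟩ := hsq c hc
    obtain ⟨b', hb'⟩ := exists_isTor (hX.map_H hι hα hh)
    exact ⟨_, h4 h b b' hh hb hb' _ (by rw [e, map_pow])⟩
  refine ⟨Units.mk0 _ h2, g, fun x t hx e => (h1 x t hx e).trans (hg t), fun h b b' hh hb hb' s e => ?_⟩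
  have := h4 h b b' hh hb hb' s e 1
  rw [mul_one, hg s, mul_comm] at this
  exact mul_right_cancel₀ h2 this

theorem exists_res (hG : ∀ Z : Subgroup Γ, S.U.comap ι ≤ Z → S.V.comap ι ≤ Z → Z = ⊤) {ψ : MulAut G}
    (h1 : ψ ∈ S.A0 (MonoidHom.id G)) (h2 : ∀ g, ψ (T.σ g) = T.σ (ψ g)) :
    ∃ β ∈ S.A0 ι, ∀ g, ι (β g) = ψ (ι g) := by
  have key : ∀ {ψ : MulAut G}, ψ ∈ S.A0 (MonoidHom.id G) → (∀ g, ψ (T.σ g) = T.σ (ψ g)) →
      ∃ β : Γ →* Γ, ∀ g, ι (β g) = ψ (ι g) := fun {ψ} h1 h2 => by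
    have := hG (ι.range.comap ((ψ : G →* G).comp ι))
      (fun u hu => hX.mem_of_U ((h1.1 _).2 hu) ((h2 _).symm.trans (congrArg ψ (hX.fix _ ⟨u, rfl⟩))))
      fun u hu => hX.mem_of_V ((h1.2 _).2 hu) ((h2 _).symm.trans (congrArg ψ (hX.fix _ ⟨u, rfl⟩)))
    exact ⟨(MonoidHom.ofInjective hι).symm.toMonoidHom.comp (((ψ : G →* G).comp ι).codRestrict _
      fun g => (this ▸ Subgroup.mem_top g : g ∈ ι.range.comap _)), fun g =>
      MonoidHom.apply_ofInjective_symm hι _⟩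
  obtain ⟨β, hβ⟩ := key h1 h2
  obtain ⟨β', hβ'⟩ := key (inv_mem h1) fun g => ψ.injective (by rw [h2]; simp)
  exact ⟨β.toMulEquiv β' (MonoidHom.ext fun g => hι (by simp [hβ, hβ'])) (MonoidHom.ext fun g => hι (by simp [hβ, hβ'])),
    ⟨fun g => (iff_of_eq (congrArg (· ∈ S.U) (hβ g))).trans (h1.1 _),
      fun g => (iff_of_eq (congrArg (· ∈ S.V) (hβ g))).trans (h1.2 _)⟩, hβ⟩

theorem card_A0_eq (hG : ∀ Z : Subgroup Γ, S.U.comap ι ≤ Z → S.V.comap ι ≤ Z → Z = ⊤) {E : Type*} (ψ : E → MulAut G)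
    (h1 : ∀ e, ψ e ∈ S.A0 (MonoidHom.id G)) (h2 : ∀ e g, ψ e (T.σ g) = T.σ (ψ e g))
    (h3 : ∀ e e', (∀ g, ι g ∈ S.U → ψ e (ι g) = ψ e' (ι g)) → e = e')
    (h4 : ∀ α ∈ S.A0 ι, ∃ e, ∀ β ∈ S.A0 ι, (∀ g, ι (α (β g)) = ψ e (ι g)) → ∀ k g, ι g ∈ S.UL (o.J k) → β g = g) :
    Nat.card (S.A0 ι) = Nat.card E := by
  choose β hβ hβ' using fun e => hX.exists_res hι hG (h1 e) (h2 e)
  refine (Nat.card_eq_of_bijective (fun e => ⟨β e, hβ e⟩) ⟨fun e e' h => h3 e e' fun g _ => ?_, fun ⟨α, hα⟩ => ?_⟩).symm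
  · rw [← hβ', ← hβ', show β e = β e' from congrArg Subtype.val h]
  · obtain ⟨e, he⟩ := h4 α hα
    have := mul_mem (inv_mem hα) (hβ e)
    exact ⟨e, Subtype.ext (inv_mul_eq_one.1 (hX.aut_eq_one hι hG this (he _ this fun g => by simp [hβ']))).symm⟩

theorem center_eq_bot (hθ : Function.Injective S.θ) (hc : ∀ i, ∃ u : Γ, ι u ∈ S.U ∧ S.co i (ι u) ≠ 0) :
    Subgroup.center Γ = ⊥ := by
  rw [eq_bot_iff, ← hX.normalCore_B hι hθ hc]
  refine Subgroup.normal_le_normalCore.2 fun g hg => hX.mem_B_of_conj' hι fun u hu => ?_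
  rw [← Subgroup.mem_center_iff.1 hg u, mul_inv_cancel_right]
  exact U_le_B hu

end Tw.Sub
end St

namespace OrthOrb
variable {Φ : CD I R} {F : Type*} [Field F] {G : Type*} [Group G] {S : St Φ F G} {T : S.Tw} {K : Type}
  {o : T.ρ.Orb K} (d : OrthOrb Φ o) {f : F →+* F} (hf : ∀ i, T.f i = f)
  {Γ : Type*} [Group Γ] {ι : Γ →* G} (hι : Function.Injective ι) (hr : ι.range = d.X S f)

include d in
theorem A_eq_zero {i j : I} (h : o.κ i = o.κ j) (e : i ≠ j) : Φ.A i (Φ.sim j) = 0 := by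
  by_contra h0
  have h1 := RS.A_nonpos (Φ := Φ.toRS) e
  have h2 : ∀ l, l ≠ i → Φ.rv (Φ.rf i (Φ.sim j)) l = Φ.rv (Φ.sim j) l := fun l hl => by
    rw [Φ.rv_rf, Pi.sub_apply, Pi.single_eq_of_ne hl, sub_zero]
  obtain ⟨l, hl⟩ := d.hs (o.κ i) _ ((Φ.pos_sim j).rf fun e' => e (Φ.sim_inj e').symm) fun l hl => by
    rw [h2 l (by rintro rfl; exact hl rfl), Φ.rv_sim, Pi.single_eq_of_ne (by rintro rfl; exact hl h.symm)]
  have h3 := RS.ht_rf (Φ := Φ.toRS) i (Φ.sim j)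
  rw [hl, RS.ht_sim, RS.ht_sim] at h3
  omega

include hf hr in
theorem exists_tor (k : K) {c : Fˣ} (hc : f^[d.m k] c = c) : ∃ h : Γ, ι h ∈ S.H ∧
    S.IsTor (ι h) (fun j => ((d.L k).map fun i => (Units.map (f : F →* F))^[d.e i] c ^ Φ.A i (Φ.sim j)).prod) := by
  have e : ∀ n (c : Fˣ), (((Units.map (f : F →* F))^[n] c : Fˣ) : F) = f^[n] c := fun n c => by
    induction n with
    | zero => rfl
    | succ n ih => simp [Function.iterate_succ_apply', ih]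
  obtain ⟨h, hh⟩ : _ ∈ ι.range := hr ▸ d.prod_h_mem (S := S) (c := c) (Units.ext (by rw [e, hc]))
  refine ⟨h, hh ▸ ?_⟩
  induction d.L k with
  | nil => exact ⟨one_mem _, St.isTor_one⟩
  | cons i L ih => exact ⟨mul_mem (St.h_sim_mem _ _) ih.1, (St.isTor_h_sim i _).mul ih.2⟩

include hf hr in
theorem exists_tor_sq (k : K) {c : Fˣ} (hc : f^[d.m k] c = c) :
    ∃ h b, ι h ∈ S.H ∧ S.IsTor (ι h) b ∧ b (d.rep k) = c ^ 2 := by
  obtain ⟨h, h1, h2⟩ := d.exists_tor hf hr k hc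
  refine ⟨h, _, h1, h2, ?_⟩
  rw [List.prod_map_eq_pow_single (d.rep k), List.count_eq_one_of_mem (d.nodup k) ((d.mem _ _).2 (d.κ_rep k)), d.e_rep,
    Φ.A_self]
  · simp [zpow_ofNat]
  · intro i h hi
    rw [d.A_eq_zero (((d.mem _ _).1 hi).trans (d.κ_rep k).symm) h, zpow_zero]

include hf hι hr

theorem coord {α : MulAut Γ} (hα : α ∈ S.A0 ι) {k k' : K}
    (h1 : ∀ g, ι (α g) ∈ S.UL (o.J k') ↔ ι g ∈ S.UL (o.J k)) {P : Type*} [Field P] [Finite P] (j : P →+* F)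
    (hj : ∀ t, f^[d.m k] t = t ↔ ∃ s, j s = t) :
    ∃ (a : Fˣ) (g : P →+* F), (∀ t x, ι x = d.Y S f true k (j t) → f^[d.m k'] (a * g t) = a * g t ∧
        ι (α x) = d.Y S f true k' (a * g t)) ∧
      ∀ h b b', ι h ∈ S.H → S.IsTor (ι h) b → S.IsTor (ι (α h)) b' → ∀ s, j s = b (d.rep k) → g s = b' (d.rep k') := by
  have hX := d.sub' hf hr
  have h2 : ∀ k x, ι x ∈ S.UL (o.J k) → f^[d.m k] (S.co (d.rep k) (ι x)) = S.co (d.rep k) (ι x) ∧
      ι x = d.Y S f true k (S.co (d.rep k) (ι x)) := fun k x hx => by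
    obtain ⟨t, e⟩ := (d.fix_iff hf k _).1 ⟨hx, hX.fix _ ⟨x, rfl⟩⟩
    rw [← e, d.co_Y']
    exact ⟨t.2, rfl⟩
  have h3 : ∀ k x, ι x ∈ S.UL (o.J k) → (S.co (d.rep k) (ι x) = 0 ↔ x = 1) := fun k x hx =>
    ⟨fun e => hι (by rw [(h2 k x hx).2, e]; simp [Y, Function.iterate_fixed (map_zero f)]),
      fun e => by rw [e, map_one, St.co_one]⟩
  obtain ⟨a, g, h4, h5⟩ := hX.exists_coord hι hα (A := {r | Φ.Pos r ∧ Φ.InJ (o.J k) r}) (fun r hr => hr.1) (i := d.rep k) (i' := d.rep k') j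
    (fun t => by
      obtain ⟨x, hx⟩ : _ ∈ ι.range := hr ▸ d.Y_mem (S := S) true ((hj _).2 ⟨t, rfl⟩)
      exact ⟨x, hx ▸ d.Y_UL k _, by rw [hx, d.co_Y']⟩)
    (fun x hx => by rw [h3 k x hx, h3 k' _ ((h1 x).2 hx), map_eq_one_iff _ α.injective])
    (fun c hc => by
      obtain ⟨h, b, h⟩ := d.exists_tor_sq hf hr k (c := Units.mk0 (j c) (by simpa)) ((hj _).2 ⟨c, rfl⟩)
      exact ⟨_, b, h.1, h.2.1, by rw [h.2.2]; rfl⟩)
  refine ⟨a, g, fun t x hx => ?_, h5⟩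
  have h6 : ι x ∈ S.UL (o.J k) := hx ▸ d.Y_UL k _
  rw [← h4 x t h6 (by rw [hx, d.co_Y'])]
  exact h2 k' _ ((h1 x).2 h6)

end OrthOrb
end Cfsg.Agent.Chev
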