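import Cfsg.Agent.Lib.Chev.TwRee

set_option autoImplicit false
set_option maxRecDepth 100000
set_option linter.unusedSectionVars false
set_option linter.style.haveILetI false

/-! The small Ree groups. -/

namespace Cfsg.Agent.Chev

open Cfsg.Lie Checked
open scoped commutatorElement

/-- nodes of type `G₂` -/
def g2n (i : Fin 2) : Fin chevG2.rank := i

/-- roots of type `G₂` -/
def g2r (i : Fin 12) : Fin chevG2.nroots := i

/-- the orbit -/
noncomputable def orbG2 : symG2.Orb (Fin 1) where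
  κ _ := 0
  surj := by decide +kernel
  inv _ := rfl
  cyc i j _ := by
    have : ∀ i j : Fin chevG2.rank, ∃ n < 2, symG2.ρI^[n] i = j := by decide +kernel
    exact (this i j).imp fun _ h => h.2

theorem orbG2_J (k : Fin 1) : orbG2.J k = Set.univ := Set.eq_univ_of_forall fun _ => Subsingleton.elim _ _

theorem W1_G2 (w : checkedG2.toCD.W) (hw : w ∈ symG2.W1) : w = 1 ∨ w = checkedG2.toCD.w0 Set.univ :=
  orbG2_J 0 ▸ orbG2.eq_of_mem hw (by rw [orbG2_J, RS.WJ_univ]; trivial)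

theorem W1_G2' (w : symG2.W1) : w = 1 ∨ w = orbG2.t 0 :=
  (W1_G2 _ w.2).imp Subtype.ext fun h => Subtype.ext (h.trans (congrArg _ (orbG2_J 0).symm))

theorem w0_G2 : checkedG2.toCD.w0 Set.univ = wp checkedG2.toCD.s [g2n 0, g2n 1, g2n 0, g2n 1, g2n 0, g2n 1] :=
  orbG2_J 0 ▸ checkedG2.w0_eq orbG2 (fun _ => [g2n 0, g2n 1, g2n 0, g2n 1, g2n 0, g2n 1]) (by decide +kernel) 0

section
variable {K : Type*} [Field K] {G : Type*} [Group G] (S : St checkedG2.toCD K G)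

/-- the general element of `U` -/
def uG2 (a b c d e f : K) : G := wd S.x [(7, a), (6, b), (8, c), (9, d), (10, e), (11, f)]

theorem uG2_eq (a b c d e f : K) : uG2 S a b c d e f =
    S.P [g2r 7, g2r 6, g2r 8, g2r 9, g2r 10, g2r 11] fun r => [b, a, c, d, e, f].getD (r.val - 6) 0 := rfl

theorem posG2 : [g2r 7, g2r 6, g2r 8, g2r 9, g2r 10, g2r 11].Nodup ∧
    ∀ r, r ∈ [g2r 7, g2r 6, g2r 8, g2r 9, g2r 10, g2r 11] ↔ checkedG2.toCD.Pos r := by decide +kernel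

variable {S}

theorem uG2_mem (a b c d e f : K) : uG2 S a b c d e f ∈ S.U :=
  uG2_eq S a b c d e f ▸ St.P_mem (fun r hr => (posG2.2 r).1 hr) _

theorem exists_uG2 {u : G} (hu : u ∈ S.U) : ∃ a b c d e f, u = uG2 S a b c d e f := by
  obtain ⟨t, rfl⟩ := St.exists_P RS.unip_pos posG2.1 posG2.2 hu
  exact ⟨_, _, _, _, _, _, rfl⟩

theorem uG2_inj {a b c d e f a' b' c' d' e' f' : K} (h : uG2 S a b c d e f = uG2 S a' b' c' d' e' f') :
    a = a' ∧ b = b' ∧ c = c' ∧ d = d' ∧ e = e' ∧ f = f' := by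
  have := St.P_inj RS.unip_pos posG2.1 (fun r => (posG2.2 r).1)
    ((uG2_eq S ..).symm.trans (h.trans (uG2_eq S ..)))
  exact ⟨this (g2r 7) (by simp), this (g2r 6) (by simp), this (g2r 8) (by simp), this (g2r 9) (by simp),
    this (g2r 10) (by simp), this (g2r 11) (by simp)⟩

theorem co_uG2 (a b c d e f : K) : S.co (g2n 0) (uG2 S a b c d e f) = a ∧ S.co (g2n 1) (uG2 S a b c d e f) = b := by
  rw [uG2_eq, St.co_P _ posG2.1 (fun r => (posG2.2 r).1), St.co_P _ posG2.1 (fun r => (posG2.2 r).1),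
    if_pos (by decide +kernel), if_pos (by decide +kernel)]
  exact ⟨rfl, rfl⟩

variable [CharP K 3] {θ : K →+* K} {σ : G →* G} (hσ : ∀ r t, σ (S.x r t) = S.x (symG2.ρ r) (θ t ^ look exG2 2 r))
include hσ

theorem σ_xG2 (r r' e : ℕ) (t : K)
    (h : r < chevG2.nroots ∧ look wxG2 8 r = r' ∧ look exG2 2 r = e := by decide +kernel) :
    σ (xN S.x r t) = xN S.x r' (θ t ^ e) := by
  obtain ⟨h, rfl, rfl⟩ := h
  rw [xN_lt _ h, hσ, ← xN_fin S.x]; rfl

theorem σ_uG2 (a b c d e f : K) : σ (uG2 S a b c d e f) = uG2 S (θ b) (θ a ^ 3) (θ b * θ a ^ 3 + θ e)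
    (θ b ^ 2 * θ a ^ 3 + θ f) (θ c ^ 3 - θ b ^ 3 * θ a ^ 3) (θ d ^ 3 - θ b ^ 3 * θ a ^ 6) := by
  have h1 : σ (uG2 S a b c d e f) = wd S.x [(6, θ a ^ 3), (7, θ b ^ 1), (10, θ c ^ 3), (11, θ d ^ 3), (8, θ e ^ 1),
      (9, θ f ^ 1)] := by
    simp only [uG2, wd, List.map_cons, List.map_nil, List.prod_cons, List.prod_nil, map_mul, map_one]
    rw [σ_xG2 hσ 7 6 3, σ_xG2 hσ 6 7 1, σ_xG2 hσ 8 10 3, σ_xG2 hσ 9 11 3, σ_xG2 hσ 10 8 1, σ_xG2 hσ 11 9 1]
  have h2 := checkedG2.xN_comm S.rel (r := 7) (s := 6) (by decide) (by decide) (θ b) (θ a ^ 3) (by decide)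
    (by decide +kernel)
  rw [show chevG2.commTerms 7 6 = [(8, -1, 1, 1), (9, 1, 2, 1), (10, 1, 3, 1), (11, 1, 3, 2)] by decide +kernel] at h2
  have h3 : ∀ a ∈ [8, 9, 10, 11], ∀ b ∈ [8, 9, 10, 11], ∀ t u g,
      xN S.x a t * (xN S.x b u * g) = xN S.x b u * (xN S.x a t * g) := fun a ha b hb t u g => by
    have : ∀ a ∈ [8, 9, 10, 11], ∀ b ∈ [8, 9, 10, 11], a < chevG2.nroots ∧ b < chevG2.nroots ∧
      (b = a ∨ b ≠ ngP chevG2.nroots a ∧ redL 3 (chevG2.commTerms a b) = []) := by decide +kernel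
    obtain ⟨h1, h2, h3⟩ := this a ha b hb
    exact (checkedG2.commute_of_redL S.rel 3 h1 h2 h3 t u).left_comm g
  have h4 : ∀ a t u g, xN S.x a t * (xN S.x a u * g) = xN S.x a (t + u) * g := fun a t u g => by
    rw [← mul_assoc, checkedG2.xN_add S.rel]
  rw [h1]
  simp only [wd, List.map_cons, List.map_nil, List.prod_cons, List.prod_nil, pow_one]
  rw [← mul_assoc, h2]
  simp only [evT, List.map_cons, List.map_nil, List.prod_cons, List.prod_nil, mul_assoc, one_mul,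
    h3 9 (by simp) 8 (by simp), h3 10 (by simp) 8 (by simp), h3 11 (by simp) 8 (by simp),
    h3 10 (by simp) 9 (by simp), h3 11 (by simp) 9 (by simp), h3 11 (by simp) 10 (by simp), h4]
  show uG2 S _ _ _ _ _ _ = _
  congr 1 <;> push_cast <;> ring

theorem fix_uG2 (hθ : ∀ t, θ (θ t) ^ 3 = t) {u : G} : (u ∈ S.U ∧ σ u = u) ↔
    ∃ t v w, u = uG2 S (θ t) t (θ t * t + θ v) (θ t ^ 2 * t + θ w) v w := by
  constructor
  · rintro ⟨hu, e⟩
    obtain ⟨a, b, c, d, e, f, rfl⟩ := exists_uG2 hu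
    rw [σ_uG2 hσ] at e
    obtain ⟨rfl, h2, h3, h4, -, -⟩ := uG2_inj e
    exact ⟨b, _, f, by rw [← h3, ← h4, h2]⟩
  · rintro ⟨t, v, w, rfl⟩
    refine ⟨uG2_mem _ _ _ _ _ _, ?_⟩
    rw [σ_uG2 hσ, show θ (θ t) ^ 6 = (θ (θ t) ^ 3) ^ 2 by ring]
    simp only [map_add, map_mul, map_pow, add_pow_char _ _ 3, mul_pow, hθ, ← pow_mul _ 2 3, mul_comm 2 3, pow_mul _ 3 2]
    congr 1 <;> ring

end

theorem Checked.wd_negWord {D : ChevalleyDatum} {c : Cert} (h : Checked D c) {K : Type*} [Field K] {G : Type*} [Group G]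
    {S : St h.toCD K G} {ν : G →* G} (hν : ∀ r t, ν (S.x r t) = S.x (h.toCD.neg r) (-t)) {w : List (ℕ × K)}
    (hw : ∀ p ∈ w, p.1 < D.nroots) : wd S.x (D.negWord w) = ν (wd S.x w) := by
  rw [wd, wd, map_list_prod, ChevalleyDatum.negWord, List.map_map, List.map_map]
  refine congrArg _ (List.map_congr_left fun p hp => ?_)
  simp only [Function.comp_apply]
  rw [xN_lt _ (hw p hp), hν, ← xN_fin S.x]; rfl

theorem exp_G2 : (∀ r : Fin chevG2.nroots, look exG2 2 r = 1 ∨ look exG2 2 r = 3) ∧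
    ∀ r : Fin chevG2.nroots, look exG2 2 (checkedG2.toCD.neg r) = look exG2 2 r := by decide +kernel

variable {K : Type*} [Field K] [Fintype K] [CharP K 3]

theorem exists_2G2 (θ : K →+* K) : ∃ σ : chevG2.group K →* chevG2.group K, ∀ r t,
    σ ((checkedG2.adj K).x r t) = (checkedG2.adj K).x (symG2.ρ r) (θ t ^ look exG2 2 r) :=
  checkedG2.exists_ree symG2 (fun r => look exG2 2 r) θ
    (graph_G2 (Finite.surjective_of_injective (frobenius K 3).injective))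

/-- the twisting endomorphism -/
noncomputable abbrev twG2 (θ : K →+* K) : (checkedG2.adj K).Tw :=
  St.mkRee symG2 3 (fun r => look exG2 2 r) exp_G2.1 (fun _ => exp_G2.2 _) θ _ (exists_2G2 θ).choose_spec

section
variable {θ : K →+* K} {e : ℕ} (hf : ∀ t, θ t = t ^ e) (hθ : ∀ t, θ (θ t) ^ 3 = t)
include hf

theorem wd_reeU {G : Type*} [Group G] (S : St checkedG2.toCD K G) (t u v : K) : wd S.x (reeWordU e t u v) =
    uG2 S (θ t) t (θ t * t + θ u) (θ t ^ 2 * t + θ v) u v := by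
  simp only [hf, ← pow_succ, ← pow_mul']; rfl

include hθ

theorem fix_iff_2G2 {u : chevG2.group K} : (u ∈ (checkedG2.adj K).U ∧ (twG2 θ).σ u = u) ↔
    ∃ p : K × K × K, wd (checkedG2.adj K).x (reeWordU e p.1 p.2.1 p.2.2) = u := by
  rw [fix_uG2 (exists_2G2 θ).choose_spec hθ]
  simp only [wd_reeU hf, Prod.exists, eq_comm]

theorem reeV_2G2 (t u v : K) : wd (checkedG2.adj K).x (reeWordV e t u v) ∈ (checkedG2.adj K).V ∧
    (twG2 θ).σ (wd (checkedG2.adj K).x (reeWordV e t u v)) = wd (checkedG2.adj K).x (reeWordV e t u v) ∧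
    (wd (checkedG2.adj K).x (reeWordV e t u v) = 1 → t = 0 ∧ v = 0) := by
  obtain ⟨ν, hν⟩ := neg_G2 (K := K)
  obtain ⟨h1, h2⟩ := (fix_iff_2G2 hf hθ).2 ⟨(t, u, v), rfl⟩
  have h3 : (twG2 θ).σ.comp ν = ν.comp (twG2 θ).σ := St.hom_ext checkedG2.adj_Gx fun r t => by
    simp only [MonoidHom.comp_apply, hν, (exists_2G2 θ).choose_spec, symG2.neg, exp_G2.2, map_neg]
    rcases exp_G2.1 r with e | e <;> rw [e] <;> congr 1 <;> ring
  have h4 : ν.comp ν = MonoidHom.id _ := St.hom_ext checkedG2.adj_Gx fun r t => by simp [hν, RS.neg_neg]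
  rw [reeWordV, checkedG2.wd_negWord hν (by
    simp only [reeWordU, List.forall_mem_cons, List.not_mem_nil, false_imp_iff, implies_true]; decide +kernel)]
  refine ⟨(St.Ux_le (K := (checkedG2.adj K).V.comap ν)).2 (fun r hr t => ?_) h1,
    (DFunLike.congr_fun h3 _).trans (congrArg ν h2), fun h => ?_⟩
  · rw [Subgroup.mem_comap, hν]
    exact St.x_mem_V (by simpa [RS.pos_neg_iff] using hr) _
  · have := (DFunLike.congr_fun h4 _).symm.trans ((congrArg ν h).trans (map_one ν))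
    rw [MonoidHom.id_apply, wd_reeU hf, ← St.P_zero (S := checkedG2.adj K)
      (L := [g2r 7, g2r 6, g2r 8, g2r 9, g2r 10, g2r 11]) (t := fun _ => 0) fun _ _ => rfl] at this
    have := uG2_inj (a' := 0) (b' := 0) (c' := 0) (d' := 0) (e' := 0) (f' := 0) this
    exact ⟨this.2.1, this.2.2.2.2.2⟩

omit hf hθ in
theorem mem_2G2 {w : List (ℕ × K)} (hw : w ∈ g2Words K e) :
    wd (checkedG2.adj K).x w ∈ (checkedG2.inc (g2Words K e)).range :=
  checkedG2.gen_range (g2Words K e) ▸ Subgroup.subset_closure ⟨w, hw, rfl⟩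

theorem sub_2G2 : (twG2 θ).Sub orbG2 (checkedG2.inc (g2Words K e)).range where
  le := checkedG2.adj_Gx (K := K) ▸ le_top
  fix g hg := by
    rw [checkedG2.gen_range] at hg
    refine (Subgroup.closure_le ((twG2 θ).σ.eqLocus (MonoidHom.id _))).2 ?_ hg
    rintro _ ⟨_, ⟨t, u, v, rfl | rfl⟩, rfl⟩
    exacts [((fix_iff_2G2 hf hθ).2 ⟨(t, u, v), rfl⟩).2, (reeV_2G2 hf hθ t u v).2.1]
  UL k u hu e := by
    obtain ⟨p, rfl⟩ := (fix_iff_2G2 hf hθ).1 ⟨St.UL_le_U _ hu, e⟩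
    exact mem_2G2 ⟨_, _, _, Or.inl rfl⟩
  VL k := ⟨_, mem_2G2 ⟨1, 0, 0, Or.inr rfl⟩, St.Ux_mono (fun r hr => by
      exact ⟨hr, orbG2_J k ▸ fun i hi => absurd trivial hi⟩) (reeV_2G2 hf hθ 1 0 0).1,
    fun h => one_ne_zero ((reeV_2G2 hf hθ 1 0 0).2.2 h).1⟩

theorem gen_2G2 (Z : Subgroup (chevG2.genSubgroup K (g2Words K e)))
    (h1 : (checkedG2.adj K).U.comap (checkedG2.inc _) ≤ Z) (h2 : (checkedG2.adj K).V.comap (checkedG2.inc _) ≤ Z) :
    Z = ⊤ :=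
  eq_top_of_range (checkedG2.inc_inj _) (checkedG2.gen_range _) (by
    rintro g ⟨_, ⟨t, u, v, rfl | rfl⟩, h⟩
    · exact h1 (show checkedG2.inc _ g ∈ _ from h ▸ ((fix_iff_2G2 hf hθ).2 ⟨(t, u, v), rfl⟩).1)
    · exact h2 (show checkedG2.inc _ g ∈ _ from h ▸ (reeV_2G2 hf hθ t u v).1))

theorem card_U_2G2 : Nat.card ((checkedG2.adj K).U.comap (checkedG2.inc (g2Words K e))) = Fintype.card K ^ 3 := by
  rw [(twG2 θ).card_param orbG2 (sub_2G2 hf hθ) (checkedG2.inc_inj _) le_rfl ?_ fun u => fix_iff_2G2 hf hθ]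
  · simp [pow_succ, mul_assoc]
  · rintro ⟨t, u, v⟩ ⟨t', u', v'⟩ h
    simp only [wd_reeU hf] at h
    obtain ⟨-, rfl, -, -, rfl, rfl⟩ := uG2_inj h
    rfl

omit hf in
theorem tfix_2G2 {c : Fin chevG2.rank → Kˣ} :
    c ∈ (twG2 θ).tfix ↔ c (g2n 0) = Units.map (θ : K →* K) (c (g2n 1)) := by
  refine ⟨fun h => Units.ext ((congrArg Units.val (h (g2n 1))).trans (pow_one _)), fun h => ?_⟩
  have : ∀ i : Fin 2, c (symG2.ρI (g2n i)) = Units.map ((twG2 θ).f (g2n i)) (c (g2n i)) := fun i => by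
    fin_cases i
    · exact Units.ext ((hθ _).symm.trans (congrArg (fun t => θ t ^ 3) (congrArg Units.val h).symm))
    · exact Units.ext ((congrArg Units.val h).trans (pow_one _).symm)
  exact this

omit hf in
theorem tfix_ext_2G2 {c c' : Fin chevG2.rank → Kˣ} (hc : c ∈ (twG2 θ).tfix) (hc' : c' ∈ (twG2 θ).tfix)
    (h : c (g2n 1) = c' (g2n 1)) : c = c' := by
  have : ∀ i : Fin 2, c (g2n i) = c' (g2n i) := fun i => by
    fin_cases i
    exacts [((tfix_2G2 hθ).1 hc).trans ((congrArg _ h).trans ((tfix_2G2 hθ).1 hc').symm), h]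
  exact funext this

omit hf in
theorem card_tfix_2G2 : Nat.card (twG2 θ).tfix = Fintype.card K - 1 := by
  rw [← Nat.card_eq_fintype_card, ← Nat.card_units]
  exact Nat.card_eq_of_bijective (fun c => c.1 (g2n 1)) ⟨fun c c' h => Subtype.ext (tfix_ext_2G2 hθ c.2 c'.2 h),
    fun s => ⟨⟨![Units.map (θ : K →* K) s, s], (tfix_2G2 hθ).2 rfl⟩, rfl⟩⟩

theorem ent_2G2 : (checkedG2.adj K).mat (wd (checkedG2.adj K).x (reeWordV e 1 0 0))
      (.inr (checkedG2.toCD.neg (g2r 11))) (.inr (g2r 11)) = 1 ∧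
    (checkedG2.adj K).mat (wd (checkedG2.adj K).x (reeWordV e 0 0 1))
      (.inr (checkedG2.toCD.neg (g2r 11))) (.inr (g2r 11)) = -1 := by
  have he : e ≠ 0 := fun h => zero_ne_one ((map_zero θ).symm.trans ((hf 0).trans (by rw [h, pow_zero])))
  let f := ZMod.castHom dvd_rfl K
  have h1 : wd (checkedG2.adj K).x (reeWordV e 1 0 0) = wd (checkedG2.adj K).x
      ([(4, -1), (5, -1), (3, -1), (2, -1)].map fun p => (p.1, f p.2)) := by
    show wd _ [(4, _), (5, _), (3, _), (2, _), (1, _), (0, _)] = _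
    simp [wd, he, checkedG2.xN_zero (checkedG2.adj K).rel]
  have h2 : wd (checkedG2.adj K).x (reeWordV e 0 0 1) = wd (checkedG2.adj K).x
      ([(2, -1), (0, -1)].map fun p => (p.1, f p.2)) := by
    show wd _ [(4, _), (5, _), (3, _), (2, _), (1, _), (0, _)] = _
    simp [wd, he, checkedG2.xN_zero (checkedG2.adj K).rel]
  have h3 : ∀ w a b, (checkedG2.adj K).mat (wd (checkedG2.adj K).x (w.map fun p => (p.1, f p.2))) a b =
      f (chevG2.wordMat (ZMod 3) w a b) := fun w a b =>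
    congrFun₂ ((checkedG2.wd_val _).trans (wordMat_map _ f w).symm) a b
  rw [h1, h2, h3, h3, ← map_one f, ← map_neg]
  exact ⟨congrArg f (by decide +kernel), congrArg f (by decide +kernel)⟩

theorem hT_mem_2G2 (h4 : Fintype.card K % 4 = 3) {c : Fin chevG2.rank → Kˣ} (hc : c ∈ (twG2 θ).tfix) :
    (St.hMul_of_inj checkedG2.adj_inj).hT c ∈ (checkedG2.inc (g2Words K e)).range := by
  have hX := sub_2G2 hf hθ
  generalize St.hMul_of_inj (checkedG2.adj_inj (K := K)) = hm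
  have hi := hT_inj_G2 hm
  have a1 := reeV_2G2 hf hθ 0 0 1
  have a2 := reeV_2G2 hf hθ 1 0 0
  obtain ⟨z, h1, h2, h3⟩ := hX.exists_H_ent W1_G2 (δ := g2r 11) (by decide +kernel)
    (mem_2G2 ⟨0, 0, 1, Or.inr rfl⟩) (mem_2G2 ⟨1, 0, 0, Or.inr rfl⟩)
    (fun h => one_ne_zero (a1.2.2 (St.eq_one_of_mem_B_V h a1.1)).2)
    (fun h => one_ne_zero (a2.2.2 (St.eq_one_of_mem_B_V h a2.1)).1)
  obtain ⟨z, rfl⟩ := hm.exists_hT h1
  have h5 := h3 _ (hm.isTor_hT z)
  have h6 : ∀ i : Fin 2, checkedG2.toCD.A (g2n i) (checkedG2.toCD.neg (g2r 11)) = ![0, -1] i := by decide +kernel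
  rw [(ent_2G2 hf hθ).1, (ent_2G2 hf hθ).2, mul_one, chi_zmap] at h5
  erw [Fin.prod_univ_two, h6 0, h6 1] at h5
  have h7 : z (g2n 1) = -1 := by
    rw [← inv_inj]; ext; simpa [g2n] using h5.symm
  obtain ⟨j, hj⟩ : ∃ j, Fintype.card K - 1 = (2 * j + 1) * 2 := ⟨Fintype.card K / 4, by omega⟩
  have h8 : hm.hT (c ^ (2 * j + 1)) ∈ (checkedG2.inc (g2Words K e)).range := by
    have : ((c ^ (2 * j + 1)) (g2n 1) : K) * (c ^ (2 * j + 1)) (g2n 1) = 1 := by
      rw [← sq, Pi.pow_apply, Units.val_pow_eq_pow_val, ← pow_mul, ← hj,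
        FiniteField.pow_card_sub_one_eq_one _ (Units.ne_zero _)]
    rcases mul_self_eq_one_iff.1 this with e | e
    · rw [tfix_ext_2G2 hθ (pow_mem hc _) (one_mem _) (Units.ext e), map_one]; exact one_mem _
    · rwa [tfix_ext_2G2 hθ (pow_mem hc _) ((St.Tw.mem_tfix_iff _ hm hi z).2 (hX.fix _ h2))
        (h7 ▸ Units.ext e)]
  have h9 := hX.sq_mem (gen_2G2 hf hθ) checkedG2.adj_inj (by rw [w0_G2]; decide +kernel) (hm.hT_mem (c ^ (j + 1)))
    ((St.Tw.mem_tfix_iff _ hm hi _).1 (pow_mem hc _))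
  have := mul_mem h9 (inv_mem h8)
  rwa [← map_mul, ← map_inv, ← map_mul, ← pow_add, show j + 1 + (j + 1) = 1 + (2 * j + 1) by ring, pow_add, pow_one,
    mul_inv_cancel_right] at this

theorem card_H_2G2 (h4 : Fintype.card K % 4 = 3) :
    Nat.card ((checkedG2.adj K).H.comap (checkedG2.inc (g2Words K e))) = Fintype.card K - 1 :=
  (St.Tw.Sub.card_H_eq (checkedG2.inc_inj _) (sub_2G2 hf hθ).fix checkedG2.adj_inj _ (hT_inj_G2 _)
    fun _ => hT_mem_2G2 hf hθ h4).trans (card_tfix_2G2 hθ)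

theorem co_2G2 (i : Fin chevG2.rank) : ∃ u, checkedG2.inc (g2Words K e) u ∈ (checkedG2.adj K).U ∧
    (checkedG2.adj K).co i (checkedG2.inc (g2Words K e) u) ≠ 0 := by
  obtain ⟨u, h⟩ := mem_2G2 (K := K) (e := e) ⟨1, 0, 0, Or.inl rfl⟩
  rw [wd_reeU hf] at h
  have : ∀ i : Fin 2, (checkedG2.adj K).co (g2n i) (checkedG2.inc (g2Words K e) u) ≠ 0 := fun i => by
    rw [h]
    fin_cases i
    · exact (co_uG2 ..).1.trans_ne (by simp)
    · exact (co_uG2 ..).2.trans_ne (by simp)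
  exact ⟨u, h ▸ uG2_mem _ _ _ _ _ _, this i⟩

theorem perfect_2G2 (h4 : Fintype.card K % 4 = 3) (h3 : 3 < Fintype.card K) : commutator (twistedG2 K e) = ⊤ := by
  unfold twistedG2
  obtain ⟨s, hs⟩ := exists_pow_ne_one (K := K) two_pos (by omega)
  refine (sub_2G2 hf hθ).eq_top (checkedG2.inc_inj _) (gen_2G2 hf hθ) fun k => ?_
  refine St.Tw.Sub.le_comm_hT (checkedG2.inc_inj _) _ (hT_mem_2G2 hf hθ h4 (c := ![Units.map (θ : K →* K) s, s])
    ((tfix_2G2 hθ).2 rfl)) _ fun r hr _ h => hs ?_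
  have : ∀ r, checkedG2.toCD.Pos r → checkedG2.toCD.A (g2n 0) r * checkedG2.toCD.A (g2n 0) r -
    (3 : ℕ) * checkedG2.toCD.A (g2n 1) r * checkedG2.toCD.A (g2n 1) r ∣ (3 : ℕ) * (2 : ℕ) := by decide +kernel
  exact pow_eq_one_of_tw (f := Units.map (θ : K →* K)) (fun c => Units.ext (hθ c))
    ((Fin.prod_univ_two _).symm.trans h) (this r hr)

theorem card_2G2 (h4 : Fintype.card K % 4 = 3) : Nat.card (twistedG2 K e) =
    Fintype.card K ^ 3 * (Fintype.card K - 1) * (Fintype.card K ^ 3 + 1) := by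
  classical
  have hX := sub_2G2 hf hθ
  have h1 : (Finset.univ : Finset (twG2 θ).ρ.W1) = {1, orbG2.t 0} := by
    exact (Finset.eq_univ_of_forall fun w => Finset.mem_insert.2 ((W1_G2' w).imp_right Finset.mem_singleton.2)).symm
  have h2 : (checkedG2.adj K).Uw 1 = ⊥ := by rw [← St.Ux_empty (S := checkedG2.adj K)]; unfold St.Uw; congr 1; ext; simp
  unfold twistedG2
  rw [hX.card_eq (checkedG2.inc_inj _), hX.card_B (checkedG2.inc_inj _), card_U_2G2 hf hθ, card_H_2G2 hf hθ h4, h1,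
    Finset.sum_pair fun e => RS.w0_ne_one (orbG2.mem_J (g2n 0)) (congrArg Subtype.val e).symm]
  simp only [RS.Sym.Orb.t, orbG2_J, St.Uw_w0, card_U_2G2 hf hθ, OneMemClass.coe_one, h2, MonoidHom.comap_bot,
    (MonoidHom.ker_eq_bot_iff _).2 (checkedG2.inc_inj _), Subgroup.card_bot, add_comm]

end

theorem W1_equiv_G2 : Nonempty (symG2.W1 ≃* Multiplicative (ZMod 2)) := by
  refine ⟨mulEquivOfPrimeCardEq (p := 2) ?_ (by simp)⟩
  rw [Nat.card_eq_two_iff]
  refine ⟨1, orbG2.t 0, fun e => RS.w0_ne_one (orbG2.mem_J (g2n 0)) (congrArg Subtype.val e).symm, ?_⟩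
  exact Set.eq_univ_of_forall W1_G2'

theorem three_pow_mod (m : ℕ) : 3 ^ (2 * m + 1) % 4 = 3 := by
  rw [pow_succ, pow_mul, Nat.mul_mod, Nat.pow_mod]; simp

end Cfsg.Agent.Chev
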