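import Cfsg.Agent.Lib.Chev.AutChev
import Cfsg.Agent.Lib.Chev.TwG2
import Cfsg.Agent.Lib.Chev.TwF4

set_option autoImplicit false
set_option linter.unusedSectionVars false
set_option linter.style.haveILetI false

/-! The graph automorphisms of the Chevalley groups over finite fields. -/

namespace Cfsg.Agent.Chev

open Cfsg.Lie
open scoped commutatorElement

/-- partial graph automorphisms -/
def cands (l : ℕ) (adj : ℕ → ℕ → Bool) : ℕ → List (List ℕ)
  | 0 => [[]]
  | k + 1 => (cands l adj k).flatMap fun M => ((List.range l).filter fun a =>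
      (List.range k).all fun i => M.getD i 0 != a && adj (M.getD i 0) a == adj i k).map fun a => M ++ [a]

theorem mem_cands {l : ℕ} {adj : ℕ → ℕ → Bool} {f : ℕ → ℕ} (h1 : ∀ i < l, f i < l)
    (h2 : ∀ i < l, ∀ j < l, adj (f i) (f j) = adj i j) (h3 : ∀ i < l, ∀ j < l, f i = f j → i = j) {k : ℕ} (hk : k ≤ l) :
    (List.range k).map f ∈ cands l adj k := by
  induction k with
  | zero => simp [cands]
  | succ k ih =>
    rw [cands, List.range_succ, List.map_append]
    refine List.mem_flatMap.2 ⟨_, ih (by omega), List.mem_map.2 ⟨f k, List.mem_filter.2 ⟨List.mem_range.2 (h1 k hk), ?_⟩, rfl⟩⟩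
    refine List.all_eq_true.2 fun i hi => ?_
    rw [List.mem_range] at hi
    have : ((List.range k).map f).getD i 0 = f i := by simp [hi]
    rw [this, h2 i (by omega) k hk]
    simpa using fun e => hi.ne (h3 i (by omega) k hk e)

namespace Checked
variable {D : ChevalleyDatum} {c : Cert} (h : Checked D c) {K : Type*} [Field K]

theorem perm_mem {L : List (Equiv.Perm (Fin D.rank))}
    (e : ∀ M ∈ cands D.rank (fun i j => D.cartan i (D.simple j) == 0) D.rank,
      ∃ π ∈ L, ∀ i : Fin D.rank, M.getD i 0 = π i) {π : Equiv.Perm (Fin D.rank)}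
    (hπ : ∀ i j, h.toCD.A i (h.toCD.sim j) = 0 ↔ h.toCD.A (π i) (h.toCD.sim (π j)) = 0) : π ∈ L := by
  obtain ⟨π', h1, h2⟩ := e _ (mem_cands (f := fun i => if hi : i < D.rank then π ⟨i, hi⟩ else 0)
    (fun i hi => by simp [hi]) (fun i hi j hj => by
      simp only [hi, hj, dif_pos]
      exact Bool.eq_iff_iff.2 (by simp only [beq_iff_eq]; exact (hπ ⟨i, hi⟩ ⟨j, hj⟩).symm))
    (fun i hi j hj e => by simpa [hi, hj, Fin.val_inj] using e) le_rfl)
  rwa [show π = π' from Equiv.ext fun i => Fin.ext (by simpa using h2 i)]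

variable (K) in
/-- graph automorphisms -/
def Gr (π : Equiv.Perm (Fin D.rank)) (e : Fin D.rank → ℕ) : Prop :=
  ∃ γ ∈ (h.adj K).A0 (MonoidHom.id _), ∀ i t,
    γ ((h.adj K).x (h.toCD.sim i) t) = (h.adj K).x (h.toCD.sim (π i)) (t ^ e i) ∧
    γ ((h.adj K).x (h.toCD.neg (h.toCD.sim i)) t) = (h.adj K).x (h.toCD.neg (h.toCD.sim (π i))) (t ^ e i)

theorem gr_one : h.Gr K 1 1 := ⟨1, one_mem _, fun _ _ => by simp⟩

theorem Gr.mul {h : Checked D c} {π π' : Equiv.Perm (Fin D.rank)} (h1 : h.Gr K π 1) (h2 : h.Gr K π' 1) :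
    h.Gr K (π * π') 1 := by
  obtain ⟨γ, a1, a2⟩ := h1
  obtain ⟨γ', a3, a4⟩ := h2
  exact ⟨γ * γ', mul_mem a1 a3, fun i t => by simp [a2, a4]⟩

variable [Finite K]

theorem exists_mem_A0 (ρ : h.toCD.Sym) {τ : Fin D.nroots → K → K} (hτ : ∀ r, Function.Surjective (τ r))
    {φ : D.group K →* D.group K} (hφ : ∀ r t, φ ((h.adj K).x r t) = (h.adj K).x (ρ.ρ r) (τ r t)) :
    ∃ γ ∈ (h.adj K).A0 (MonoidHom.id _), ∀ g, γ g = φ g := by
  haveI := (St.sub_one (h.adj_Gx (K := K))).finite Function.injective_id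
  have : Function.Surjective φ := MonoidHom.range_eq_top.1 (eq_top_iff.2 (h.adj_Gx.ge.trans (St.Ux_le.2 fun r _ t => by
    obtain ⟨r, rfl⟩ := ρ.ρ.surjective r
    obtain ⟨t, rfl⟩ := hτ r t
    exact ⟨_, hφ r t⟩)))
  exact ⟨MulEquiv.ofBijective φ (Finite.surjective_iff_bijective.1 this),
    St.mem_A0_of (fun _ => ρ.pos_iff) hτ hφ, fun _ => rfl⟩

theorem gr_of (ρ : h.toCD.Sym) {τ : Fin D.nroots → K → K} (hτ : ∀ r, Function.Surjective (τ r))
    (hφ : ∃ φ : D.group K →* D.group K, ∀ r t, φ ((h.adj K).x r t) = (h.adj K).x (ρ.ρ r) (τ r t)) {e : Fin D.rank → ℕ}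
    (he : ∀ i t, τ (h.toCD.sim i) t = t ^ e i ∧ τ (h.toCD.neg (h.toCD.sim i)) t = t ^ e i) : h.Gr K ρ.ρI e := by
  obtain ⟨φ, hφ⟩ := hφ
  obtain ⟨γ, h1, h2⟩ := h.exists_mem_A0 ρ hτ hφ
  exact ⟨γ, h1, fun i t => by simp [h2, hφ, he, ρ.sim, ρ.neg]⟩

theorem gr_eta (ρ : h.toCD.Sym) {e : ℕ}
    (hφ : ∃ φ : D.group K →* D.group K, ∀ r t, φ ((h.adj K).x r t) = (h.adj K).x (ρ.ρ r) (etaP e r * t))
    (he : ∀ i, etaP e (h.toCD.sim i) = 1 ∧ etaP e (h.toCD.neg (h.toCD.sim i)) = 1) : h.Gr K ρ.ρI 1 :=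
  h.gr_of ρ (fun r => etaP_surj e r) hφ fun i t => by simp [he]

theorem Gr.graph {h : Checked D c} {π : Equiv.Perm (Fin D.rank)} {e : Fin D.rank → ℕ} (h1 : h.Gr K π e) {p : ℕ}
    (hp : ringChar K = p) (h2 : D.IsDiagramSymmetry π ∧ ∀ i : Fin D.rank, D.graphExp p i (π i) = e i) :
    ∃ γ : (h.adj K).A0 (MonoidHom.id _), D.IsGraphAut γ.1 ∧ St.perm h.adj_Gx γ = π := by
  obtain ⟨γ, a1, a2⟩ := h1
  refine ⟨⟨γ, a1⟩, ⟨π, h2.1, fun g i t => ⟨fun e => ?_, fun e => ?_⟩⟩, St.perm_eq _ fun i => (a2 i 1).1⟩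
  · rw [(h.eq_adj_x (h.toCD.sim i).2).1 e, hp, h2.2]
    exact congrArg (fun g : D.group K => ((g : GL D.Idx K) : Matrix D.Idx D.Idx K)) (a2 i t).1
  · rw [(h.eq_adj_x (h.toCD.neg (h.toCD.sim i)).2).1 e, hp, h2.2]
    exact congrArg (fun g : D.group K => ((g : GL D.Idx K) : Matrix D.Idx D.Idx K)) (a2 i t).2

theorem graph_one : ∃ γ : (h.adj K).A0 (MonoidHom.id _), D.IsGraphAut γ.1 ∧ St.perm h.adj_Gx γ = 1 :=
  h.gr_one.graph rfl ⟨fun _ _ _ => rfl, fun i => by simp [ChevalleyDatum.graphExp]⟩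

theorem Gr.graph' {h : Checked D c} {π : Equiv.Perm (Fin D.rank)} (h1 : h.Gr K π 1)
    (h2 : D.IsDiagramSymmetry π ∧ ∀ i : Fin D.rank, D.isLong (D.simple i) = false) :
    ∃ γ : (h.adj K).A0 (MonoidHom.id _), D.IsGraphAut γ.1 ∧ St.perm h.adj_Gx γ = π :=
  h1.graph rfl ⟨h2.1, fun i => by simp [ChevalleyDatum.graphExp, h2.2]⟩

theorem perm_mem' {L : List (Equiv.Perm (Fin D.rank))}
    (e : ∀ M ∈ cands D.rank (fun i j => D.cartan i (D.simple j) == 0) D.rank,
      ∃ π ∈ L, ∀ i : Fin D.rank, M.getD i 0 = π i) (α : (h.adj K).A0 (MonoidHom.id _)) : St.perm h.adj_Gx α ∈ L := by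
  obtain ⟨a, g, -, h1, -⟩ := St.perm_spec h.adj_Gx α
  exact h.perm_mem e h1

theorem graphList_one (h1 : ∀ α : (h.adj K).A0 (MonoidHom.id _), St.perm h.adj_Gx α = 1) : h.GraphList K [1] :=
  ⟨by simp, fun α => by simp [h1], fun π hπ => by rw [List.mem_singleton.1 hπ]; exact h.graph_one⟩

theorem graphList_two {π : Equiv.Perm (Fin D.rank)} (h0 : 1 ≠ π)
    (e : ∀ M ∈ cands D.rank (fun i j => D.cartan i (D.simple j) == 0) D.rank,
      ∃ π' ∈ [1, π], ∀ i : Fin D.rank, M.getD i 0 = π' i)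
    (h2 : ∃ γ : (h.adj K).A0 (MonoidHom.id _), D.IsGraphAut γ.1 ∧ St.perm h.adj_Gx γ = π) : h.GraphList K [1, π] :=
  ⟨by simpa, h.perm_mem' e, by simpa using ⟨by simpa using h.graph_one, by simpa using h2⟩⟩

end Checked

instance instDecDiagSym (D : ChevalleyDatum) (π : Equiv.Perm (Fin D.rank)) : Decidable (D.IsDiagramSymmetry π) :=
  inferInstanceAs (Decidable (∀ i j : Fin D.rank, i ≠ j → D.bonds (π i) (π j) = D.bonds i j))

variable (K : Type*) [Field K] [Finite K]

theorem graphList_E8 : checkedE8.GraphList K [1] :=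
  checkedE8.graphList_one fun α => List.mem_singleton.1 (checkedE8.perm_mem' (by decide +kernel) α)

theorem graphList_E7 : checkedE7.GraphList K [1] :=
  checkedE7.graphList_one fun α => List.mem_singleton.1 (checkedE7.perm_mem' (by decide +kernel) α)

theorem graphList_E6 : checkedE6.GraphList K [1, symE6.ρI] :=
  checkedE6.graphList_two (by decide +kernel) (by decide +kernel)
    ((checkedE6.gr_eta _ (graph_E6 K) eta_gE6).graph' (by decide +kernel))

theorem graphList_D4 : checkedD4.GraphList K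
    [1, symD4a.ρI, symD4b.ρI, symD4c.ρI, symD4c.ρI * symD4a.ρI, symD4c.ρI * symD4b.ρI] := by
  have ha := checkedD4.gr_eta _ (graph_D4a K) eta_gD4a
  have hb := checkedD4.gr_eta _ (graph_D4b K) eta_gD4b
  have hc := checkedD4.gr_eta _ (graph_D4c K) eta_gD4c
  refine ⟨by decide +kernel, checkedD4.perm_mem' (by decide +kernel), ?_⟩
  simp only [List.forall_mem_cons]
  exact ⟨checkedD4.graph_one, ha.graph' (by decide +kernel), hb.graph' (by decide +kernel), hc.graph' (by decide +kernel),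
    (hc.mul ha).graph' (by decide +kernel), (hc.mul hb).graph' (by decide +kernel), by simp⟩

variable {K} in
theorem exists_root (p : ℕ) [Fact p.Prime] [CharP K p] (x : K) : ∃ y, y ^ p = x :=
  (Finite.surjective_of_injective (frobenius K p).injective) x

theorem graphList_B2 : checkedB2.GraphList K (if ringChar K = 2 then [1, symB2.ρI] else [1]) := by
  have e : ∀ M ∈ cands chevB2.rank (fun i j => chevB2.cartan i (chevB2.simple j) == 0) chevB2.rank,
      ∃ π' ∈ [1, symB2.ρI], ∀ i : Fin chevB2.rank, M.getD i 0 = π' i := by decide +kernel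
  split_ifs with hp
  · haveI := ringChar.of_eq hp
    have : ∀ r : Fin chevB2.nroots, look exB2 2 r = 1 ∨ look exB2 2 r = 2 := by decide +kernel
    have e' : ∀ i, look exB2 2 (checkedB2.toCD.neg (checkedB2.toCD.sim i)) = look exB2 2 (checkedB2.toCD.sim i) := by
      decide +kernel
    exact checkedB2.graphList_two (by decide +kernel) e ((checkedB2.gr_of _ (fun r => pow_surj (exists_root 2) (this r))
      (graph_B2 (exists_root 2)) fun i t => ⟨rfl, by rw [e']⟩).graph hp (by decide +kernel))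
  · refine checkedB2.graphList_one fun α => ?_
    have := checkedB2.perm_mem' e α
    simp only [List.mem_cons, List.not_mem_nil, or_false] at this
    refine this.resolve_right fun h => hp ((Ring.two_ne_zero · (St.two_eq_zero _ (α := α) (k := (1 : Fin 2))
      (i := (0 : Fin 2)) (j := (1 : Fin 2)) (by rw [h]; decide +kernel))) |> not_not.1)

theorem graphList_F4 : checkedF4.GraphList K (if ringChar K = 2 then [1, symF4.ρI] else [1]) := by
  have e : ∀ M ∈ cands chevF4.rank (fun i j => chevF4.cartan i (chevF4.simple j) == 0) chevF4.rank,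
      ∃ π' ∈ [1, symF4.ρI], ∀ i : Fin chevF4.rank, M.getD i 0 = π' i := by decide +kernel
  split_ifs with hp
  · haveI := ringChar.of_eq hp
    exact checkedF4.graphList_two (by decide +kernel) e ((checkedF4.gr_of _ (fun r => pow_surj (exists_root 2) (exp_F4.1 r))
      (graph_F4 (exists_root 2)) fun i t => ⟨rfl, by rw [exp_F4.2]⟩).graph hp (by decide +kernel))
  · refine checkedF4.graphList_one fun α => ?_
    have := checkedF4.perm_mem' e α
    simp only [List.mem_cons, List.not_mem_nil, or_false] at this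
    refine this.resolve_right fun h => hp ((Ring.two_ne_zero · (St.two_eq_zero _ (α := α) (k := f4n 0)
      (i := f4n 1) (j := f4n 2) (by rw [h]; decide +kernel))) |> not_not.1)

theorem graphList_G2 : checkedG2.GraphList K (if ringChar K = 3 then [1, symG2.ρI] else [1]) := by
  have e : ∀ M ∈ cands chevG2.rank (fun i j => chevG2.cartan i (chevG2.simple j) == 0) chevG2.rank,
      ∃ π' ∈ [1, symG2.ρI], ∀ i : Fin chevG2.rank, M.getD i 0 = π' i := by decide +kernel
  split_ifs with hp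
  · haveI := ringChar.of_eq hp
    haveI := Fact.mk Nat.prime_three
    exact checkedG2.graphList_two (by decide +kernel) e ((checkedG2.gr_of _ (fun r => pow_surj (exists_root 3) (exp_G2.1 r))
      (graph_G2 (exists_root 3)) fun i t => ⟨rfl, by rw [exp_G2.2]⟩).graph hp (by decide +kernel))
  · refine checkedG2.graphList_one fun α => ?_
    have := checkedG2.perm_mem' e α
    simp only [List.mem_cons, List.not_mem_nil, or_false] at this
    refine this.resolve_right fun h => hp ?_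
    obtain ⟨a, g, -, -, -, h1⟩ := St.perm_spec checkedG2.adj_Gx α
    obtain ⟨t, e1⟩ := h1 [g2n 1] (g2n 0) 1
    obtain ⟨u, e2⟩ := h1 [g2n 0, g2n 1] (g2n 0) 1
    have h2 := (St.commute_of_ct (S := checkedG2.adj K) (r := g2r 10) (s := g2r 11) (by decide +kernel) t u).eq
    have h3 := (checkedG2.adj K).comm (g2r 8) (g2r 9) 1 1 (by decide +kernel) (by decide +kernel)
    rw [h, show wp checkedG2.toCD.s [g2n 1] • checkedG2.toCD.sim (g2n 0) = g2r 8 by decide +kernel,
      show wp checkedG2.toCD.s ([g2n 1].map symG2.ρI) • checkedG2.toCD.sim (symG2.ρI (g2n 0)) = g2r 10 by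
        decide +kernel] at e1
    rw [h, show wp checkedG2.toCD.s [g2n 0, g2n 1] • checkedG2.toCD.sim (g2n 0) = g2r 9 by decide +kernel,
      show wp checkedG2.toCD.s ([g2n 0, g2n 1].map symG2.ρI) • checkedG2.toCD.sim (symG2.ρI (g2n 0)) = g2r 11 by
        decide +kernel] at e2
    rw [← e1, ← e2, ← map_mul, ← map_mul] at h2
    rw [← α.1.injective h2, show checkedG2.toCD.ct (g2r 8) (g2r 9) = [(g2r 11, 3, 1, 1)] by decide +kernel] at h3
    have h4 : ((3 : ℕ) : K) = 0 := by simpa [St.x_eq_one_iff] using h3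
    exact ((Nat.prime_dvd_prime_iff_eq (CharP.char_is_prime K _) Nat.prime_three).1 ((ringChar.spec K 3).1 h4))

theorem graphList_of_mem {D : ChevalleyDatum} (hD : D ∈ [chevG2, chevB2, chevD4, chevF4, chevE6, chevE7, chevE8]) :
    ∃ c, ∃ h : Checked D c, h.toCD.Good ∧ ∃ L, h.GraphList K L ∧
      (L.length = 1 ∨ L.length = 2 ∨ L.length = 6 ∧ ¬ ∀ π ∈ L, ∀ π' ∈ L, π * π' = π' * π) := by
  simp only [List.mem_cons, List.not_mem_nil, or_false] at hD
  rcases hD with rfl | rfl | rfl | rfl | rfl | rfl | rfl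
  · exact ⟨_, _, good_G2, _, graphList_G2 K, by split_ifs <;> simp⟩
  · exact ⟨_, _, good_B2, _, graphList_B2 K, by split_ifs <;> simp⟩
  · exact ⟨_, _, good_D4, _, graphList_D4 K, Or.inr (Or.inr ⟨rfl, by decide +kernel⟩)⟩
  · exact ⟨_, _, good_F4, _, graphList_F4 K, by split_ifs <;> simp⟩
  · exact ⟨_, _, good_E6, _, graphList_E6 K, by simp⟩
  · exact ⟨_, _, good_E7, _, graphList_E7 K, by simp⟩
  · exact ⟨_, _, good_E8, _, graphList_E8 K, by simp⟩

end Cfsg.Agent.Chev
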