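import Cfsg.Agent.Lib.Chev.TwE6

set_option autoImplicit false
set_option maxRecDepth 100000
set_option linter.unusedSectionVars false
set_option linter.style.haveILetI false

/-! The twisted groups of type `³D₄`. -/

namespace Cfsg.Agent.Chev

open Cfsg.Lie
open scoped commutatorElement

/-- nodes of type `D₄` -/
def d4n (i : Fin 4) : Fin chevD4.rank := i

/-- the orbits -/
noncomputable def orbD4 : symD4a.Orb (Fin 2) where
  κ i := ([0, 1, 0, 0] : List (Fin 2)).getD i 0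
  surj := by decide +kernel
  inv := by decide +kernel
  cyc i j e := by
    have : ∀ i j : Fin chevD4.rank, ([0, 1, 0, 0] : List (Fin 2)).getD i 0 =
      ([0, 1, 0, 0] : List (Fin 2)).getD j 0 → ∃ n < 3, symD4a.ρI^[n] i = j := by decide +kernel
    exact (this i j e).imp fun _ h => h.2

/-- the orbits are orthogonal -/
noncomputable def ortD4 : OrthOrb checkedD4.toCD orbD4 where
  L := ![[d4n 0, d4n 2, d4n 3], [d4n 1]]
  e i := [0, 0, 1, 2].getD i 0
  m := ![3, 1]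
  rep := ![d4n 0, d4n 1]
  nodup := by decide +kernel
  mem := by decide +kernel
  κ_rep := by decide +kernel
  e_rep := by decide +kernel
  e_ρ := by decide +kernel
  iter := by decide +kernel
  per := by decide +kernel
  comm := by decide +kernel
  hs := by decide +kernel

theorem w0_3D4 (k : Fin 2) : checkedD4.toCD.w0 (orbD4.J k) = wp checkedD4.toCD.s (ortD4.L k) :=
  checkedD4.w0_eq orbD4 ortD4.L (by decide +kernel) k

theorem cox_3D4 : Nonempty (symD4a.W1 ≃* CoxeterMatrix.G₂.Group) := by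
  obtain ⟨cs, -⟩ := checkedD4.cox_W1 orbD4 ortD4.L w0_3D4 CoxeterMatrix.G₂ (by decide +kernel)
  exact ⟨cs.mulEquiv⟩

theorem poinc_3D4 (q : ℕ) : ((q : ℤ) ^ 3 - 1) * ((q : ℤ) - 1) * symD4a.poinc Set.univ q =
    (q ^ 2 - 1) * (q ^ 6 - 1) * (q ^ 8 + q ^ 4 + 1) := by
  have := checkedD4.poinc_tw symD4a (π := look wgD4a 8) (πI := ([2, 1, 3, 0].getD · 0)) (fun _ => rfl)
    (fun _ => rfl) [(15, 23, 0x102020304020303040404050505060607050607070809), (13, 9, 0x10102000102020300)]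
    [pbin 3 (-1), pbin 1 (-1)] [pbin 2 (-1), pbin 6 (-1), padd (pmono 8) (pbin 4 1)] (by decide +kernel) q
  simp only [List.map_cons, List.map_nil, List.prod_cons, List.prod_nil, pe_pbin, pe_padd, pe_pmono] at this
  linear_combination this

variable {K : Type*} [Field K]

theorem words_3D4 {G : Type*} [Group G] (S : St checkedD4.toCD K G) {f : K →+* K} {q : ℕ} (hf : ∀ t, f t = t ^ q)
    (h3 : ∀ t, f^[3] t = t) : Subgroup.closure (Checked.wd S.x '' d4Words K q) = ortD4.X S f := by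
  have h2 : ∀ t, t ^ q ^ 2 = f (f t) := fun t => (iter_pow hf 2 t).symm
  rw [OrthOrb.X]
  congr 1
  ext g
  constructor
  · rintro ⟨w, (⟨t, ht, r, hr, rfl⟩ | ⟨t, rs, hr, rfl⟩), rfl⟩
    · rw [← hf] at ht
      simp only [List.mem_cons, List.not_mem_nil, or_false] at hr
      rcases hr with rfl | rfl
      exacts [⟨true, 1, t, ht, rfl⟩, ⟨false, 1, t, ht, rfl⟩]
    · rw [← hf, h2]
      simp only [List.mem_cons, List.not_mem_nil, or_false] at hr
      rcases hr with rfl | rfl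
      exacts [⟨true, 0, t, h3 t, rfl⟩, ⟨false, 0, t, h3 t, rfl⟩]
  · rintro ⟨b, k, t, ht, rfl⟩
    fin_cases k <;> cases b
    · exact ⟨_, Or.inr ⟨t, (d4m1, d4m3, d4m4), by simp, rfl⟩, by rw [← hf, h2]; rfl⟩
    · exact ⟨_, Or.inr ⟨t, (d4p1, d4p3, d4p4), by simp, rfl⟩, by rw [← hf, h2]; rfl⟩
    · exact ⟨_, Or.inl ⟨t, (hf t).symm.trans ht, d4m2, by simp, rfl⟩, rfl⟩
    · exact ⟨_, Or.inl ⟨t, (hf t).symm.trans ht, d4p2, by simp, rfl⟩, rfl⟩

theorem exists_3D4 [Finite K] (f : K →+* K) : ∃ σ : chevD4.group K →* chevD4.group K, ∀ r t,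
    σ ((checkedD4.adj K).x r t) = (checkedD4.adj K).x (symD4a.ρ r) (etaP egD4a r * f t) :=
  checkedD4.exists_twist symD4a (fun r => etaP egD4a r) f (graph_D4a K)

/-- the twisting endomorphism -/
noncomputable abbrev twD4 [Finite K] (f : K →+* K) : (checkedD4.adj K).Tw :=
  St.mkTw symD4a (fun r => etaP egD4a r) eta_gD4a f _ (exists_3D4 f).choose_spec

section
variable [Fintype K] {q : ℕ} {f : K →+* K} (hf : ∀ t, f t = t ^ q) (hK : Fintype.card K = q ^ 3)
include hf hK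

theorem frob_cube (t : K) : f^[3] t = t := by rw [iter_pow hf, ← hK, FiniteField.pow_card]

theorem range_3D4 : (checkedD4.inc (d4Words K q)).range = ortD4.X (checkedD4.adj K) f :=
  (checkedD4.gen_range _).trans (words_3D4 _ hf (frob_cube hf hK))

theorem sub_3D4 : (twD4 f).Sub orbD4 (checkedD4.inc (d4Words K q)).range :=
  ortD4.sub' (T := twD4 f) (fun _ => rfl) (range_3D4 hf hK)

theorem card_poinc_3D4 (hq : 1 ≤ q) : Nat.card (chevD4.posUnipotent K ⊓ twistedD4 K q : Subgroup _) = q ^ 12 ∧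
    Nat.card (twistedD4 K q) = q ^ 12 * Nat.card (chevD4.diagonalSubgroup K ⊓ twistedD4 K q : Subgroup _) *
      symD4a.poinc Set.univ q := by
  have := (sub_3D4 hf hK).card_poinc (checkedD4.inc_inj _) (q := q) fun k => by
    rw [ortD4.card_UL (T := twD4 f) (fun _ => rfl) (checkedD4.inc_inj _) (range_3D4 hf hK), ortD4.len_w0]
    fin_cases k
    exacts [(card_fix_iter (k := 3) (m := 1) hf hq hK).1, (card_fix_iter (k := 1) (m := 3) hf hq hK).1]
  rw [checkedD4.card_inc_U, checkedD4.card_inc_H] at this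
  erw [checkedD4.card_pos] at this
  exact this

theorem card_H_3D4 (hq : 1 ≤ q) :
    Nat.card (chevD4.diagonalSubgroup K ⊓ twistedD4 K q : Subgroup _) = (q ^ 3 - 1) * (q - 1) := by
  obtain ⟨σ, hσ⟩ := checkedD4.exists_twist_uni symD4a (fun r => etaP egD4a r) eta_gD4a f (fun _ => rfl)
    (rel_gD4a (checkedD4.uni K).rel)
  have := ortD4.card_H (T := twD4 f) (fun _ => rfl) (checkedD4.inc_inj _) (range_3D4 hf hK) checkedD4.adj_inj
    (St.mkTw symD4a _ eta_gD4a f σ hσ) orbD4 ortD4 (fun _ => rfl) rfl _ (checkedD4.proj_x checkedD4.uni_Gx rfl)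
    (ortD4.map_X (checkedD4.proj_x checkedD4.uni_Gx rfl)) rfl checkedD4.uni_Gx _ hT_inj_D4
  rw [checkedD4.card_inc_H, ortD4.card_tfix (T := twD4 f) (fun _ => rfl), Fin.prod_univ_two] at this
  erw [(card_fix_iter (k := 1) (m := 3) hf hq hK).2, (card_fix_iter (k := 3) (m := 1) hf hq hK).2] at this
  rw [pow_one, Subgroup.card_eq_one.2, one_mul] at this
  · exact this
  rw [eq_bot_iff]
  rintro c ⟨h1, h2⟩
  have h3 := mem_ker_zmap (N := lmat [[2, 0, 1, 0], [0, 1, 0, 0], [0, 0, 1, 0], [0, 0, 1, 0]])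
    (lmat [[2, 1, 2, 0], [2, 2, 3, 0], [1, 1, 2, 0], [1, 1, 2, 0]]) (by decide +kernel) h2
  have h4 : ∀ j : Fin 4, ∏ i : Fin 4, c (d4n i) ^ (lmat [[2, 0, 1, 0], [0, 1, 0, 0], [0, 0, 1, 0], [0, 0, 1, 0]] :
    Matrix (Fin 4) (Fin 4) ℤ) i j = 1 := h3
  have a0 := h4 0
  have a1 := h4 1
  have a2 := h4 2
  simp [Fin.prod_univ_four, lmat, zpow_ofNat] at a0 a1 a2
  have b2 : c (d4n 2) = Units.map (f : K →* K) (c (d4n 0)) := h1 (d4n 0)
  have b3 : c (d4n 3) = Units.map (f : K →* K) (c (d4n 2)) := h1 (d4n 2)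
  have b0 : Units.map (f : K →* K) (c (d4n 0)) = c (d4n 0) := by
    have : (c (d4n 0) : K) * c (d4n 0) = 1 := by rw [← Units.val_mul, ← sq, a0, Units.val_one]
    ext
    rcases mul_self_eq_one_iff.1 this with e | e <;> simp [e]
  rw [b0] at b2
  rw [b2, b0] at b3
  rw [b2, b3, ← sq, a0, one_mul] at a2
  have : ∀ i : Fin 4, c (d4n i) = 1 := fun i => by
    fin_cases i
    exacts [a2, a1, b2.trans a2, b3.trans a2]
  exact funext this

theorem perfect_3D4 (hq : 2 ≤ q) : commutator (twistedD4 K q) = ⊤ := by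
  unfold twistedD4
  obtain ⟨c, hc⟩ := exists_pow_ne_one (K := K) two_pos (by rw [hK]; have := Nat.pow_le_pow_left hq 3; omega)
  have hc' : ∀ c : Kˣ, c ^ 2 ≠ 1 → Units.map (f : K →* K) c ^ 2 ≠ 1 := fun c hc e =>
    hc (Units.map_injective f.injective (by simpa using e))
  have h2 : (Units.map (f : K →* K))^[3] c = c := Units.ext (frob_cube hf hK c)
  have hr := range_3D4 hf hK
  have hi := checkedD4.inc_inj (d4Words K q)
  have hY : ∀ b k t, f^[ortD4.m k] t = t → ortD4.Y (checkedD4.adj K) f b k t ∈ (checkedD4.inc (d4Words K q)).range :=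
    fun b k t h => hr ▸ ortD4.Y_mem b h
  have h0 := St.h_mem_of_one (S := checkedD4.adj K) (r := checkedD4.toCD.sim (d4n 1)) (f := f) (c := 1)
    (fun t h => ⟨(mul_mem_cancel_right (one_mem _)).1 (hY true 1 t h),
      (mul_mem_cancel_right (one_mem _)).1 (hY false 1 t h)⟩) (map_one f)
  refine (sub_3D4 hf hK).eq_top hi (ortD4.gen (T := twD4 f) hi hr) fun k => ?_
  fin_cases k
  · refine ortD4.le_comm_of_tor (T := twD4 f) hi hr _ 0 h2 fun j hj => ?_
    have : ∀ j ∈ ortD4.L 0, let a := fun i => checkedD4.toCD.A (d4n i) (checkedD4.toCD.sim j)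
      (a 0 = 2 ∧ a 2 = 0 ∧ a 3 = 0) ∨ (a 0 = 0 ∧ a 2 = 2 ∧ a 3 = 0) ∨ (a 0 = 0 ∧ a 2 = 0 ∧ a 3 = 2) := by
      decide +kernel
    show c ^ checkedD4.toCD.A (d4n 0) _ * (Units.map (f : K →* K) c ^ checkedD4.toCD.A (d4n 2) _ *
      (Units.map (f : K →* K) (Units.map (f : K →* K) c) ^ checkedD4.toCD.A (d4n 3) _ * 1)) ≠ 1
    rcases this j hj with ⟨e, e', e''⟩ | ⟨e, e', e''⟩ | ⟨e, e', e''⟩ <;>
      simp [e, e', e'', zpow_ofNat, hc, hc' c hc, hc' _ (hc' c hc)]
  · refine ortD4.le_comm_of_Y (T := twD4 f) (fun _ => rfl) hi hr _ fun t ht => mul_mem ?_ (one_mem _)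
    obtain ⟨m, h3, -, χ, -, h4⟩ := (sub_3D4 hf hK).exists_n 0
    have h5 := mul_mem (mul_mem h3 ((mul_mem_cancel_right (one_mem _)).1 (hY true 1 t ht))) (inv_mem h3)
    have h6 := h4 (checkedD4.toCD.sim (d4n 1)) t
    have h7 : checkedD4.toCD.w0 (orbD4.J 0) • checkedD4.toCD.sim (d4n 1) = ⟨22, Nat.le_of_ble_eq_true rfl⟩ := by
      rw [w0_3D4]; decide +kernel
    erw [h6] at h5
    rw [h7] at h5 h6
    have h8 := St.x_mem_comm (comm_mem_map _).1 (comm_mem_map _).2 (i := d4n 1) (e := 1) (by decide +kernel)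
      ((mul_mem_cancel_right (one_mem _)).1 (hY true 1 1 (map_one f))) h0.1 h5
    have h9 := (comm_mem_map _).2 _ (inv_mem h3) _ h8
    rw [← h6] at h9
    rwa [show ∀ a b : chevD4.group K, a⁻¹ * (a * b * a⁻¹) * a⁻¹⁻¹ = b by intros; group] at h9

theorem co_3D4 (i : Fin chevD4.rank) : ∃ u, checkedD4.inc (d4Words K q) u ∈ (checkedD4.adj K).U ∧
    (checkedD4.adj K).co i (checkedD4.inc (d4Words K q) u) ≠ 0 := ortD4.exists_co (T := twD4 f) (range_3D4 hf hK) i

theorem simple_3D4 (hq : 2 ≤ q) : IsSimpleGroup (twistedD4 K q) ∧ ¬ IsMulCommutative (twistedD4 K q) :=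
  haveI : Nonempty (Fin chevD4.rank) := ⟨d4n 0⟩
  (sub_3D4 hf hK).isSimpleGroup (checkedD4.inc_inj _) checkedD4.adj_inj conn_D4 (co_3D4 hf hK) (perfect_3D4 hf hK hq)

theorem card_3D4 (hq : 1 ≤ q) : Nat.card (twistedD4 K q) =
    q ^ 12 * (q ^ 2 - 1) * (q ^ 6 - 1) * (q ^ 8 + q ^ 4 + 1) := by
  have h2 := poinc_3D4 q
  rw [(card_poinc_3D4 hf hK hq).2, card_H_3D4 hf hK hq]
  zify [hq, Nat.one_le_pow _ _ hq]
  linear_combination (q : ℤ) ^ 12 * h2

end

end Cfsg.Agent.Chev
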