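import Cfsg.Agent.Lib.Chev.TwSL
import Cfsg.Prelude.Def_LieTwisted

set_option autoImplicit false
set_option maxRecDepth 100000
set_option linter.unusedSectionVars false
set_option linter.style.haveILetI false

/-! The twisted groups of type `²E₆`. -/

namespace Cfsg.Agent.Chev

open Cfsg.Lie
open scoped commutatorElement

theorem Checked.poinc_tw {D : ChevalleyDatum} {c : Cert} (h : Checked D c) (σ : h.toCD.Sym) {π πI : ℕ → ℕ}
    (hπ : ∀ r, (σ.ρ r).val = π r) (hπI : ∀ i, (σ.ρI i).val = πI i) (L : List (ℕ × ℕ × ℕ)) (A B : List (List ℤ))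
    (h1 : chainB D.rank D.nroots c π πI L = true ∧ headJ L = 2 ^ D.rank - 1 ∧
      peqB (pmu (pprod A) (pprod (chainP D.rank D.nroots c π L))) (pprod B) = true) (q : ℕ) :
    (A.map (pe q)).prod * σ.poinc Set.univ q = (B.map (pe q)).prod := by
  have e := h.chain_spec σ hπ hπI h1.1 q
  have e2 : {i : Fin D.rank | (headJ L).testBit i} = Set.univ := by
    ext i; simp [h1.2.1, Nat.testBit_two_pow_sub_one]
  have := pe_eq_of_peqB q h1.2.2
  rwa [pe_pmu, ← e, e2, pe_pprod, pe_pprod] at this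

theorem iter_pow {M : Type*} [Monoid M] {f : M → M} {q : ℕ} (hf : ∀ t, f t = t ^ q) (n : ℕ) (t : M) :
    f^[n] t = t ^ q ^ n := by
  rw [funext hf, pow_iterate]

theorem units_map_pow {K : Type*} [Field K] {f : K →+* K} {q : ℕ} (hf : ∀ t, f t = t ^ q) (c : Kˣ) :
    Units.map (f : K →* K) c = c ^ q := Units.ext (by simp [hf])

theorem card_fix_iter {K : Type*} [Field K] [Fintype K] {f : K →+* K} {q m k : ℕ} (hf : ∀ t, f t = t ^ q) (hq : 1 ≤ q)
    (hK : Fintype.card K = q ^ (k * m)) : Nat.card {t : K | f^[k] t = t} = q ^ k ∧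
      Nat.card {c : Kˣ // (Units.map (f : K →* K))^[k] c = c} = q ^ k - 1 := by
  simp only [iter_pow hf, iter_pow (units_map_pow hf)]
  rw [pow_mul] at hK
  exact ⟨card_fixed (Nat.one_le_pow _ _ hq) hK, card_fixed_units (Nat.one_le_pow _ _ hq) hK⟩

theorem OrthOrb.len_w0 {I R : Type} [Fintype I] [DecidableEq I] [Fintype R] [DecidableEq R] {Φ : CD I R}
    {ρ : Φ.Sym} {K : Type} {o : ρ.Orb K} (d : OrthOrb Φ o) (k : K) : len Φ.s (Φ.w0 (o.J k)) = (d.L k).length := by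
  rw [RS.len_w0, ← List.toFinset_card_of_nodup (d.nodup k), ← Nat.card_eq_finsetCard]
  symm
  refine Nat.card_eq_of_bijective (fun i => ⟨Φ.sim i, Φ.pos_sim _,
    RS.inJ_sim.2 ((d.mem _ _).1 (List.mem_toFinset.1 i.2))⟩) ⟨fun i j e => Subtype.ext (Φ.sim_inj (congrArg Subtype.val e)), ?_⟩
  rintro ⟨r, h1, h2⟩
  obtain ⟨j, rfl⟩ := d.hs k r h1 h2
  have h3 : j ∈ o.J k := RS.inJ_sim.1 h2
  exact ⟨⟨j, List.mem_toFinset.2 ((d.mem _ _).2 h3)⟩, rfl⟩

theorem mem_ker_cyc {I : Type} [Fintype I] [DecidableEq I] {A : Type*} [CommGroup A] {M : Matrix I I ℤ}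
    (M' : Matrix I I ℤ) (a : I → ℕ) (d : ℕ) (k : I) (h : a k = 1 ∧ (∀ j, (d : ℤ) ∣ ∑ i, a i * M i j) ∧
      M * M' = 1 + Matrix.of fun i j => if i = k then (if j = k then (d : ℤ) else 0) - a j else 0) (c : I → A) :
    c ∈ (zmap A M).ker ↔ ∃ ω : A, ω ^ d = 1 ∧ c = fun i => ω ^ a i := by
  constructor
  · intro hc
    have h1 := mem_ker_zmap M' h.2.2 hc
    simp only [zmap_apply, Matrix.add_apply, Matrix.one_apply, Matrix.of_apply, zpow_add, Finset.prod_mul_distrib,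
      pow_ite, zpow_one, zpow_zero, Finset.prod_ite_eq', Finset.mem_univ, if_true, zpow_sub, zpow_natCast] at h1
    have h2 := h1 k
    simp only [if_true, h.1, pow_one, mul_inv_cancel_comm_assoc, mul_comm _ (c k)⁻¹, mul_inv_cancel_left] at h2
    refine ⟨c k, h2, funext fun j => ?_⟩
    simpa [h2, mul_inv_eq_one] using h1 j
  · rintro ⟨ω, hω, rfl⟩
    ext j
    simp only [zmap_apply, ← zpow_natCast, ← zpow_mul, ← zpow_finsum]
    obtain ⟨k, hk⟩ := h.2.1 j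
    rw [hk, zpow_mul, zpow_natCast, hω, one_zpow, Pi.one_apply]

/-- nodes of type `E₆` -/
def e6n (i : Fin 6) : Fin chevE6.rank := i

/-- the orbits -/
noncomputable def orbE6 : symE6.Orb (Fin 4) where
  κ i := ([3, 0, 2, 1, 2, 3] : List (Fin 4)).getD i 0
  surj := by decide +kernel
  inv := by decide +kernel
  cyc i j e := by
    have : ∀ i j : Fin chevE6.rank, ([3, 0, 2, 1, 2, 3] : List (Fin 4)).getD i 0 =
      ([3, 0, 2, 1, 2, 3] : List (Fin 4)).getD j 0 → ∃ n < 2, symE6.ρI^[n] i = j := by decide +kernel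
    exact (this i j e).imp fun _ h => h.2

/-- the orbits are orthogonal -/
noncomputable def ortE6 : OrthOrb checkedE6.toCD orbE6 where
  L := ![[e6n 1], [e6n 3], [e6n 2, e6n 4], [e6n 0, e6n 5]]
  e i := [0, 0, 0, 0, 1, 1].getD i 0
  m := ![1, 1, 2, 2]
  rep := ![e6n 1, e6n 3, e6n 2, e6n 0]
  nodup := by decide +kernel
  mem := by decide +kernel
  κ_rep := by decide +kernel
  e_rep := by decide +kernel
  e_ρ := by decide +kernel
  iter := by decide +kernel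
  per := by decide +kernel
  comm := by decide +kernel
  hs := by decide +kernel

theorem cox_2E6 : Nonempty (symE6.W1 ≃* CoxeterMatrix.F₄.Group) := by
  obtain ⟨cs, -⟩ := checkedE6.cox_W1 orbE6 ortE6.L (checkedE6.w0_eq orbE6 ortE6.L (by decide +kernel)) CoxeterMatrix.F₄ (by decide +kernel)
  exact ⟨cs.mulEquiv⟩

theorem poinc_2E6 (q : ℕ) : ((q : ℤ) - 1) ^ 2 * ((q : ℤ) ^ 2 - 1) ^ 2 * symE6.poinc Set.univ q =
    (q ^ 2 - 1) * (q ^ 5 + 1) * (q ^ 6 - 1) * (q ^ 8 - 1) * (q ^ 9 + 1) * (q ^ 12 - 1) := by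
  have := checkedE6.poinc_tw symE6 (π := look wgE6 8) (πI := ([5, 1, 4, 3, 2, 0].getD · 0)) (fun _ => rfl)
    (fun _ => rfl) [
  (63, 71, 0x1020304030405050607060708090a0405060607080708090a0708090a08090a090a0a0b0b0c0b0c0d0b0c0d0e0b0c0d0e0d0e0f0f10110b0c0d0e0f0e0f101011121112131415),
  (61, 25, 0x1020302030404050600000000000304050506070607080900),
  (53, 32, 0x102000102030000000000000000000000000203040000000000000000000000),
  (33, 27, 0x10000000000000000000000000001020000000000000000000000)]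
    [pbin 1 (-1), pbin 1 (-1), pbin 2 (-1), pbin 2 (-1)]
    [pbin 2 (-1), pbin 5 1, pbin 6 (-1), pbin 8 (-1), pbin 9 1, pbin 12 (-1)] (by decide +kernel) q
  simp only [List.map_cons, List.map_nil, List.prod_cons, List.prod_nil, pe_pbin] at this
  linear_combination this

variable {K : Type*} [Field K]

theorem words_2E6 {G : Type*} [Group G] (S : St checkedE6.toCD K G) {f : K →+* K} {q : ℕ} (hf : ∀ t, f t = t ^ q)
    (h2 : ∀ t, f (f t) = t) : Subgroup.closure (Checked.wd S.x '' e6Words K q) = ortE6.X S f := by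
  rw [OrthOrb.X]
  congr 1
  ext g
  constructor
  · rintro ⟨w, (⟨t, ht, r, hr, rfl⟩ | ⟨t, rs, hr, rfl⟩), rfl⟩
    · rw [← hf] at ht
      simp only [List.mem_cons, List.not_mem_nil, or_false] at hr
      rcases hr with rfl | rfl | rfl | rfl
      exacts [⟨true, 0, t, ht, rfl⟩, ⟨false, 0, t, ht, rfl⟩, ⟨true, 1, t, ht, rfl⟩, ⟨false, 1, t, ht, rfl⟩]
    · rw [← hf]
      simp only [List.mem_cons, List.not_mem_nil, or_false] at hr
      rcases hr with rfl | rfl | rfl | rfl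
      exacts [⟨true, 3, t, h2 t, rfl⟩, ⟨false, 3, t, h2 t, rfl⟩, ⟨true, 2, t, h2 t, rfl⟩, ⟨false, 2, t, h2 t, rfl⟩]
  · rintro ⟨b, k, t, ht, rfl⟩
    fin_cases k <;> cases b
    · exact ⟨_, Or.inl ⟨t, (hf t).symm.trans ht, e6m2, by simp, rfl⟩, rfl⟩
    · exact ⟨_, Or.inl ⟨t, (hf t).symm.trans ht, e6p2, by simp, rfl⟩, rfl⟩
    · exact ⟨_, Or.inl ⟨t, (hf t).symm.trans ht, e6m4, by simp, rfl⟩, rfl⟩
    · exact ⟨_, Or.inl ⟨t, (hf t).symm.trans ht, e6p4, by simp, rfl⟩, rfl⟩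
    · exact ⟨_, Or.inr ⟨t, (e6m3, e6m5), by simp, rfl⟩, hf t ▸ rfl⟩
    · exact ⟨_, Or.inr ⟨t, (e6p3, e6p5), by simp, rfl⟩, hf t ▸ rfl⟩
    · exact ⟨_, Or.inr ⟨t, (e6m1, e6m6), by simp, rfl⟩, hf t ▸ rfl⟩
    · exact ⟨_, Or.inr ⟨t, (e6p1, e6p6), by simp, rfl⟩, hf t ▸ rfl⟩

theorem ker_2E6 {A : Type*} [CommGroup A] (c : Fin chevE6.rank → A) : c ∈ (zmap A checkedE6.toCD.cm).ker ↔
    ∃ ω : A, ω ^ 3 = 1 ∧ c = fun i => ω ^ [1, 0, 2, 0, 1, 2].getD i.val 0 :=
  mem_ker_cyc (lmat [[4, 1, -1, 2, 0, -2], [3, 2, 0, 3, 1, -1], [5, 2, 0, 4, 1, -2], [6, 3, 0, 6, 2, -2], [4, 2, 0, 4, 2, -1], [2, 1, 0, 2, 1, 0]]) _ 3 (e6n 0) (by decide +kernel) c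

theorem exists_2E6 [Finite K] (f : K →+* K) : ∃ σ : chevE6.group K →* chevE6.group K, ∀ r t,
    σ ((checkedE6.adj K).x r t) = (checkedE6.adj K).x (symE6.ρ r) (etaP egE6 r * f t) :=
  checkedE6.exists_twist symE6 (fun r => etaP egE6 r) f (graph_E6 K)

/-- the twisting endomorphism -/
noncomputable abbrev twE6 [Finite K] (f : K →+* K) : (checkedE6.adj K).Tw :=
  St.mkTw symE6 (fun r => etaP egE6 r) eta_gE6 f _ (exists_2E6 f).choose_spec

section
variable [Fintype K] {q : ℕ} {f : K →+* K} (hf : ∀ t, f t = t ^ q) (hK : Fintype.card K = q ^ 2)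
include hf hK

theorem frob_sq (t : K) : f (f t) = t := by rw [hf, hf, ← pow_mul, ← sq, ← hK, FiniteField.pow_card]

theorem range_2E6 : (checkedE6.inc (e6Words K q)).range = ortE6.X (checkedE6.adj K) f :=
  (checkedE6.gen_range _).trans (words_2E6 _ hf (frob_sq hf hK))

theorem sub_2E6 : (twE6 f).Sub orbE6 (checkedE6.inc (e6Words K q)).range :=
  ortE6.sub' (T := twE6 f) (fun _ => rfl) (range_2E6 hf hK)

theorem card_poinc_2E6 (hq : 1 ≤ q) : Nat.card (chevE6.posUnipotent K ⊓ twistedE6 K q : Subgroup _) = q ^ 36 ∧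
    Nat.card (twistedE6 K q) = q ^ 36 * Nat.card (chevE6.diagonalSubgroup K ⊓ twistedE6 K q : Subgroup _) *
      symE6.poinc Set.univ q := by
  have := (sub_2E6 hf hK).card_poinc (checkedE6.inc_inj _) (q := q) fun k => by
    rw [ortE6.card_UL (T := twE6 f) (fun _ => rfl) (checkedE6.inc_inj _) (range_2E6 hf hK), ortE6.len_w0]
    fin_cases k
    exacts [(card_fix_iter (k := 1) (m := 2) hf hq hK).1, (card_fix_iter (k := 1) (m := 2) hf hq hK).1,
      (card_fix_iter (k := 2) (m := 1) hf hq hK).1, (card_fix_iter (k := 2) (m := 1) hf hq hK).1]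
  rw [checkedE6.card_inc_U, checkedE6.card_inc_H] at this
  erw [checkedE6.card_pos] at this
  exact this

theorem card_H_2E6 (hq : 1 ≤ q) : Nat.gcd 3 (q + 1) *
    Nat.card (chevE6.diagonalSubgroup K ⊓ twistedE6 K q : Subgroup _) = (q - 1) ^ 2 * (q ^ 2 - 1) ^ 2 := by
  obtain ⟨σ, hσ⟩ := checkedE6.exists_twist_uni symE6 (fun r => etaP egE6 r) eta_gE6 f (fun _ => rfl)
    (rel_gE6 (checkedE6.uni K).rel)
  have := ortE6.card_H (T := twE6 f) (fun _ => rfl) (checkedE6.inc_inj _) (range_2E6 hf hK) checkedE6.adj_inj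
    (St.mkTw symE6 _ eta_gE6 f σ hσ) orbE6 ortE6 (fun _ => rfl) rfl _ (checkedE6.proj_x checkedE6.uni_Gx rfl)
    (ortE6.map_X (checkedE6.proj_x checkedE6.uni_Gx rfl)) rfl checkedE6.uni_Gx _ hT_inj_E6
  rw [checkedE6.card_inc_H, ortE6.card_tfix (T := twE6 f) (fun _ => rfl), Fin.prod_univ_four] at this
  erw [(card_fix_iter (k := 1) (m := 2) hf hq hK).2, (card_fix_iter (k := 2) (m := 1) hf hq hK).2] at this
  rw [pow_one] at this
  refine Eq.trans ?_ (this.trans (by ring))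
  congr 1
  have h1 := card_pow_eq_one (K := K) (Nat.gcd 3 (q + 1))
  rw [hK, Nat.gcd_eq_left ((Nat.gcd_dvd_right _ _).trans ⟨q - 1, by rw [← Nat.sq_sub_sq]⟩)] at h1
  rw [← h1]
  refine Nat.card_eq_of_bijective (fun ω => ⟨fun i => ω.1 ^ [1, 0, 2, 0, 1, 2].getD i.val 0, fun i => ?_,
    (ker_2E6 _).2 ⟨ω, (pow_gcd_eq_one.1 ω.2).1, rfl⟩⟩) ⟨fun a b e => ?_, ?_⟩
  · have : ∀ i : Fin chevE6.rank, [1, 0, 2, 0, 1, 2].getD (symE6.ρI i).val 0 + [1, 0, 2, 0, 1, 2].getD i.val 0 = 0 ∨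
      [1, 0, 2, 0, 1, 2].getD (symE6.ρI i).val 0 + [1, 0, 2, 0, 1, 2].getD i.val 0 = 3 := by decide +kernel
    obtain ⟨h2, h3⟩ := pow_gcd_eq_one.1 ω.2
    refine Eq.trans ?_ (units_map_pow hf _).symm
    rw [← pow_mul, mul_comm, pow_mul, eq_inv_of_mul_eq_one_left ((pow_succ _ _).symm.trans h3), inv_pow,
      eq_inv_iff_mul_eq_one, ← pow_add]
    rcases this i with e | e <;> simp only [e, h2, pow_zero]
  · have : a.1 ^ 1 = b.1 ^ 1 := congrFun (congrArg Subtype.val e) (e6n 0)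
    exact Subtype.ext (by simpa using this)
  · rintro ⟨c, h2, h3⟩
    obtain ⟨ω, h4, rfl⟩ := (ker_2E6 c).1 h3
    refine ⟨⟨ω, pow_gcd_eq_one.2 ⟨h4, ?_⟩⟩, rfl⟩
    have h5 : ω ^ 2 = (ω ^ 1) ^ q := (h2 (e6n 0)).trans (units_map_pow hf _)
    rw [pow_one] at h5
    rw [pow_succ, ← h5, ← pow_succ, h4]

theorem perfect_2E6 (hq : 2 ≤ q) : commutator (twistedE6 K q) = ⊤ := by
  unfold twistedE6
  obtain ⟨c, hc⟩ := exists_pow_ne_one (K := K) one_pos (by rw [hK]; have := Nat.pow_le_pow_left hq 2; omega)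
  rw [pow_one] at hc
  have hc' : Units.map (f : K →* K) c ≠ 1 := fun e => hc (Units.map_injective f.injective (by simpa using e))
  have h2 : Units.map (f : K →* K) (Units.map (f : K →* K) c) = c := Units.ext (frob_sq hf hK c)
  have hr := range_2E6 hf hK
  have hi := checkedE6.inc_inj (e6Words K q)
  have hY : ∀ b k t, f^[ortE6.m k] t = t → ortE6.Y (checkedE6.adj K) f b k t ∈ (checkedE6.inc (e6Words K q)).range :=
    fun b k t h => hr ▸ ortE6.Y_mem b h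
  have h0 := St.h_mem_of_one (S := checkedE6.adj K) (r := checkedE6.toCD.sim (e6n 1)) (f := f) (c := 1)
    (fun t h => ⟨(mul_mem_cancel_right (one_mem _)).1 (hY true 0 t h), (mul_mem_cancel_right (one_mem _)).1 (hY false 0 t h)⟩) (map_one f)
  have h1 := St.h_mem_of_one (S := checkedE6.adj K) (r := checkedE6.toCD.sim (e6n 3)) (f := f) (c := 1)
    (fun t h => ⟨(mul_mem_cancel_right (one_mem _)).1 (hY true 1 t h), (mul_mem_cancel_right (one_mem _)).1 (hY false 1 t h)⟩) (map_one f)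
  refine (sub_2E6 hf hK).eq_top hi (ortE6.gen (T := twE6 f) hi hr) fun k => ?_
  fin_cases k
  · refine ortE6.le_comm_of_Y (T := twE6 f) (fun _ => rfl) hi hr _ fun t ht => mul_mem ?_ (one_mem _)
    exact St.x_mem_comm (comm_mem_map _).1 (comm_mem_map _).2 (i := e6n 3) (e := 1) (by decide +kernel)
      ((mul_mem_cancel_right (one_mem _)).1 (hY true 1 1 (map_one f))) h1.1 ((mul_mem_cancel_right (one_mem _)).1 (hY true 0 t ht))
  · refine ortE6.le_comm_of_Y (T := twE6 f) (fun _ => rfl) hi hr _ fun t ht => mul_mem ?_ (one_mem _)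
    exact St.x_mem_comm (comm_mem_map _).1 (comm_mem_map _).2 (i := e6n 1) (e := -1) (by decide +kernel)
      ((mul_mem_cancel_right (one_mem _)).1 (hY true 0 1 (map_one f))) h0.1 ((mul_mem_cancel_right (one_mem _)).1 (hY true 1 t ht))
  · refine ortE6.le_comm_of_tor (T := twE6 f) hi hr _ 3 h2 fun j hj => ?_
    have : ∀ j ∈ ortE6.L 2, (checkedE6.toCD.A (e6n 0) (checkedE6.toCD.sim j) = -1 ∧
      checkedE6.toCD.A (e6n 5) (checkedE6.toCD.sim j) = 0) ∨ (checkedE6.toCD.A (e6n 0) (checkedE6.toCD.sim j) = 0 ∧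
      checkedE6.toCD.A (e6n 5) (checkedE6.toCD.sim j) = -1) := by decide +kernel
    show c ^ checkedE6.toCD.A (e6n 0) _ * (Units.map (f : K →* K) c ^ checkedE6.toCD.A (e6n 5) _ * 1) ≠ 1
    rcases this j hj with ⟨e, e'⟩ | ⟨e, e'⟩ <;> simp [e, e', hc, hc']
  · refine ortE6.le_comm_of_tor (T := twE6 f) hi hr _ 2 h2 fun j hj => ?_
    have : ∀ j ∈ ortE6.L 3, (checkedE6.toCD.A (e6n 2) (checkedE6.toCD.sim j) = -1 ∧
      checkedE6.toCD.A (e6n 4) (checkedE6.toCD.sim j) = 0) ∨ (checkedE6.toCD.A (e6n 2) (checkedE6.toCD.sim j) = 0 ∧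
      checkedE6.toCD.A (e6n 4) (checkedE6.toCD.sim j) = -1) := by decide +kernel
    show c ^ checkedE6.toCD.A (e6n 2) _ * (Units.map (f : K →* K) c ^ checkedE6.toCD.A (e6n 4) _ * 1) ≠ 1
    rcases this j hj with ⟨e, e'⟩ | ⟨e, e'⟩ <;> simp [e, e', hc, hc']

theorem co_2E6 (i : Fin chevE6.rank) : ∃ u, checkedE6.inc (e6Words K q) u ∈ (checkedE6.adj K).U ∧
    (checkedE6.adj K).co i (checkedE6.inc (e6Words K q) u) ≠ 0 := ortE6.exists_co (T := twE6 f) (range_2E6 hf hK) i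

theorem simple_2E6 (hq : 2 ≤ q) : IsSimpleGroup (twistedE6 K q) ∧ ¬ IsMulCommutative (twistedE6 K q) :=
  haveI : Nonempty (Fin chevE6.rank) := ⟨e6n 0⟩
  (sub_2E6 hf hK).isSimpleGroup (checkedE6.inc_inj _) checkedE6.adj_inj conn_E6 (co_2E6 hf hK) (perfect_2E6 hf hK hq)

theorem card_2E6 (hq : 1 ≤ q) : Nat.gcd 3 (q + 1) * Nat.card (twistedE6 K q) =
    q ^ 36 * (q ^ 2 - 1) * (q ^ 5 + 1) * (q ^ 6 - 1) * (q ^ 8 - 1) * (q ^ 9 + 1) * (q ^ 12 - 1) := by
  have h1 := card_H_2E6 hf hK hq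
  have h2 := poinc_2E6 q
  rw [(card_poinc_2E6 hf hK hq).2]
  zify [hq, Nat.one_le_pow _ _ hq] at h1 ⊢
  linear_combination (q : ℤ) ^ 36 * symE6.poinc Set.univ q * h1 + (q : ℤ) ^ 36 * h2

end

end Cfsg.Agent.Chev
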