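import Cfsg.Agent.Lib.Chev.AutChev
import Cfsg.Agent.Lib.Chev.TwE6
import Cfsg.Agent.Lib.Chev.TwD4

set_option autoImplicit false
set_option linter.unusedSectionVars false
set_option linter.style.haveILetI false

/-! Automorphisms of the Steinberg groups ²E₆ and ³D₄. -/

namespace Cfsg.Agent.Chev

open Cfsg.Lie
open scoped commutatorElement

theorem ringHom_comm {K : Type*} [Field K] [Finite K] (f g : K →+* K) (t : K) : f (g t) = g (f t) := by
  obtain ⟨p, hp⟩ := CharP.exists K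
  haveI := Fintype.ofFinite K
  obtain ⟨n, hp', hn⟩ := FiniteField.card K p
  haveI := Fact.mk hp'
  haveI := (card_ringAut p n hn).2
  exact DFunLike.congr_fun (mul_comm' (RingEquiv.ofBijective f (Finite.injective_iff_bijective.1 f.injective))
    (RingEquiv.ofBijective g (Finite.injective_iff_bijective.1 g.injective))) t

theorem units_iter {F : Type*} [Field F] (f : F →+* F) (n : ℕ) (c : Fˣ) :
    (((Units.map (f : F →* F))^[n] c : Fˣ) : F) = f^[n] c := by
  induction n with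
  | zero => rfl
  | succ n ih => simp [Function.iterate_succ_apply', ih]

variable {I R : Type} [Fintype I] [DecidableEq I] [Fintype R] [DecidableEq R]

theorem St.co_hom {Φ : CD I R} {F : Type*} [Field F] {G : Type*} [Group G] {S : St Φ F G} {φ : G →* G}
    {τ : R → F → F} (h : ∀ r t, φ (S.x r t) = S.x r (τ r t)) {i : I} {m : F →+ F} (hm : ∀ t, τ (Φ.sim i) t = m t)
    {u : G} (hu : u ∈ S.U) : S.co i (φ u) = m (S.co i u) := by
  refine (St.Ux_induction (p := fun u => φ u ∈ S.U ∧ S.co i (φ u) = m (S.co i u)) (by simp [St.co_one]) ?_ hu).2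
  intro r hr t u hu ih
  rw [map_mul, h, St.co_mul i ih.1 (St.x_mem_U hr _), St.co_mul i hu (St.x_mem_U hr _), ih.2, St.co_x, St.co_x]
  refine ⟨mul_mem ih.1 (St.x_mem_U hr _), ?_⟩
  split_ifs with e
  · rw [e, hm, map_add]
  · simp

namespace Checked
variable {D : ChevalleyDatum} {c : Cert} (h : Checked D c) {K : Type*} [Field K] [Finite K]

theorem df_x (a : Fin D.rank → Kˣ) (g : K ≃+* K) (r : Fin D.nroots) (t : K) :
    (h.diagAut a * h.fieldAut g) ((h.adj K).x r t) = (h.adj K).x r (RS.chi a (h.toCD.rv r) * g t) := by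
  rw [MulAut.mul_apply, fieldAut_x, diagAut_x]

theorem co_df (a : Fin D.rank → Kˣ) (g : K ≃+* K) (i : Fin D.rank) {u : D.group K} (hu : u ∈ (h.adj K).U) :
    (h.adj K).co i ((h.diagAut a * h.fieldAut g) u) = a i * g ((h.adj K).co i u) :=
  St.co_hom (φ := (h.diagAut a * h.fieldAut g : MulAut _)) (h.df_x a g)
    (m := (AddMonoidHom.mulLeft (a i : K)).comp g) (fun t => by simp [RS.rv_sim, RS.chi_single]) hu

theorem card_out_tw {T : (h.adj K).Tw} {n : Type} {o : T.ρ.Orb n} {Γ : Type*} [Group Γ] {ι : Γ →* D.group K}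
    (hX : T.Sub o ι.range) (hι : Function.Injective ι)
    (hG : ∀ Z : Subgroup Γ, (h.adj K).U.comap ι ≤ Z → (h.adj K).V.comap ι ≤ Z → Z = ⊤)
    (h1 : ∀ i, ∃ u, ι u ∈ (h.adj K).U ∧ (h.adj K).co i (ι u) = 1)
    (h2 : ∃ i, ∀ t, ∃ u, ι u ∈ (h.adj K).U ∧ (h.adj K).co i (ι u) = t)
    (h3 : ∀ α ∈ (h.adj K).A0 ι, ∃ a ∈ T.tfix, ∃ g : K ≃+* K, ∀ β ∈ (h.adj K).A0 ι,
      (∀ x, ι (α (β x)) = (h.diagAut a * h.fieldAut g : MulAut _) (ι x)) → ∀ k x, ι x ∈ (h.adj K).UL (o.J k) → β x = x) :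
    Nat.card (Out Γ) * Nat.card ((h.adj K).H.comap ι) = Nat.card T.tfix * Nat.card (K ≃+* K) := by
  rw [← hX.card_A0 hι (hX.center_eq_bot hι h.adj_inj fun i => (h1 i).imp fun u hu => ⟨hu.1, by simp [hu.2]⟩),
    ← Nat.card_prod]
  refine hX.card_A0_eq hι hG (fun e => h.diagAut e.1.1 * h.fieldAut e.2)
    (fun e => mul_mem (h.diagAut_mem _) (h.fieldAut_mem _)) (fun ⟨⟨a, ha⟩, g⟩ => DFunLike.congr_fun
      (St.hom_ext_sim (φ := (h.diagAut a * h.fieldAut g : MulAut _).toMonoidHom.comp T.σ)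
        (ψ := T.σ.comp (h.diagAut a * h.fieldAut g : MulAut _).toMonoidHom) h.adj_Gx fun i t => ?_))
    (fun ⟨⟨a, ha⟩, g⟩ ⟨⟨a', ha'⟩, g'⟩ e => ?_) fun α hα => ?_
  · have := ringHom_comm g.toRingHom (T.f i) t
    simp only [RingEquiv.toRingHom_eq_coe, RingHom.coe_coe] at this
    simp [fieldAut_x, diagAut_x, T.σ_x, T.τ_sim, T.τ_neg, T.ρ.sim, T.ρ.neg, RS.rv_sim, RS.rv_neg, RS.chi_neg,
      RS.chi_single, ha i, this]
  · have key : ∀ i u, ι u ∈ (h.adj K).U → a i * g ((h.adj K).co i (ι u)) = a' i * g' ((h.adj K).co i (ι u)) :=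
      fun i u hu => by rw [← h.co_df _ _ _ hu, ← h.co_df _ _ _ hu, e u hu]
    obtain rfl : a = a' := funext fun i => by
      obtain ⟨u, hu, e⟩ := h1 i
      exact Units.ext (by simpa [e] using key i u hu)
    obtain ⟨i, hi⟩ := h2
    obtain rfl : g = g' := RingEquiv.ext fun t => by
      obtain ⟨u, hu, rfl⟩ := hi t
      exact mul_left_cancel₀ (a i).ne_zero (key i u hu)
    rfl
  · obtain ⟨a, ha, g, e⟩ := h3 α hα
    exact ⟨(⟨a, ha⟩, g), e⟩

end Checked

namespace OrthOrb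
section
variable {Φ : CD I R} {F : Type*} [Field F] [Finite F] {G : Type*} [Group G] {S : St Φ F G} {T : S.Tw} {K : Type}
  {o : T.ρ.Orb K} (d : OrthOrb Φ o) {f : F →+* F} (hf : ∀ i, T.f i = f)
  {Γ : Type*} [Group Γ] {ι : Γ →* G} (hι : Function.Injective ι) (hr : ι.range = d.X S f)
include hf hι hr

theorem tor_fix {h : Γ} (hh : ι h ∈ S.H) {b : I → Fˣ} (hb : S.IsTor (ι h) b) (k : K) :
    f^[d.m k] (b (d.rep k)) = b (d.rep k) := by
  obtain ⟨x, hx⟩ : _ ∈ ι.range := hr ▸ d.Y_mem (S := S) true (k := k) (Function.iterate_fixed (map_one f) _)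
  obtain ⟨t, e⟩ := (d.fix_iff hf k (ι (h * x * h⁻¹))).1 ⟨by rw [map_mul, map_mul, map_inv, hx]; exact St.conj_H_Ux hh (d.Y_UL k 1),
    (d.sub' hf hr).fix _ ⟨_, rfl⟩⟩
  have := congrArg (S.co (d.rep k)) e
  rw [d.co_Y', map_mul, map_mul, map_inv, hx, St.co_conj hb hh _ (St.UL_le_U _ (d.Y_UL k 1)), d.co_Y', mul_one] at this
  exact this ▸ t.2

theorem m_perm {α : MulAut Γ} {k k' : K} (h1 : ∀ g, ι (α g) ∈ S.UL (o.J k') ↔ ι g ∈ S.UL (o.J k)) :
    Nat.card {t : F | f^[d.m k] t = t} = Nat.card {t : F | f^[d.m k'] t = t} := by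
  rw [← d.card_UL hf hι hr, ← d.card_UL hf hι hr]
  exact Nat.card_congr (α.toEquiv.subtypeEquiv fun g => (h1 g).symm)

theorem coord' {α : MulAut Γ} (hα : α ∈ S.A0 ι) (h1 : ∀ k g, ι (α g) ∈ S.UL (o.J k) ↔ ι g ∈ S.UL (o.J k))
    (h3 : ∀ k m, ι m ∈ S.N → S.Acts (ι m) (Φ.w0 (o.J k)) → ι (α m) ∈ S.N ∧ S.Acts (ι (α m)) (Φ.w0 (o.J k))) :
    ∃ (a : K → Fˣ) (g : K → F → F), (∀ k, f^[d.m k] (a k) = a k) ∧
      (∀ k t x, f^[d.m k] t = t → ι x = d.Y S f true k t → ι (α x) = d.Y S f true k (a k * g k t)) ∧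
      (∀ k, (∀ t, f^[d.m k] t = t) → ∃ γ : F ≃+* F, g k = γ) ∧
      ∀ k k', Φ.rv (Φ.w0 (o.J k) • Φ.sim (d.rep k')) = Φ.rv (Φ.sim (d.rep k')) + Φ.rv (Φ.sim (d.rep k)) →
        (∀ t, f^[d.m k] t = t → f^[d.m k'] t = t) → ∀ t, f^[d.m k] t = t → g k t = g k' t := by
  classical
  have hX := d.sub' hf hr
  let P : K → Subfield F := fun k => (f ^ d.m k).eqLocusField (RingHom.id F)
  have hP : ∀ k t, t ∈ P k ↔ f^[d.m k] t = t := fun k t => by simp [P]
  choose a g h4 h5 using fun k => d.coord hf hι hr hα (h1 k) (P k).subtype fun t =>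
    ⟨fun h => ⟨⟨t, (hP k t).2 h⟩, rfl⟩, by rintro ⟨s, rfl⟩; exact (hP k _).1 s.2⟩
  refine ⟨a, fun k t => if h : t ∈ P k then g k ⟨t, h⟩ else 0, fun k => ?_, fun k t x ht hx => ?_, fun k hk => ?_,
    fun k k' e hk t ht => ?_⟩
  · obtain ⟨x, hx⟩ : _ ∈ ι.range := hr ▸ d.Y_mem (S := S) true (k := k) (Function.iterate_fixed (map_one f) _)
    simpa using (h4 k 1 x hx).1
  · simpa [(hP k t).2 ht] using (h4 k ⟨t, (hP k t).2 ht⟩ x hx).2
  · let j : F →+* F := (g k).comp ((RingHom.id F).codRestrict _ fun t => (hP k t).2 (hk t))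
    exact ⟨RingEquiv.ofBijective j (Finite.injective_iff_bijective.1 j.injective),
      funext fun t => dif_pos ((hP k t).2 (hk t))⟩
  · have hle : P k ≤ P k' := fun t ht => (hP _ _).2 (hk t ((hP _ _).1 ht))
    have : g k = (g k').comp (Subfield.inclusion hle) := ringHom_ext_sq fun c hc => by
      obtain ⟨h, b, hh, hb, e1⟩ := d.exists_tor_sq hf hr k (c := Units.mk0 c (by simpa)) ((hP _ _).1 c.2)
      obtain ⟨b', hb'⟩ := St.exists_isTor (hX.map_H hι hα hh)
      obtain ⟨h', a1, a2, a3⟩ := hX.tor_conj hι h3 hα k hh hb hb'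
      let s : P k' := ⟨_, (hP _ _).2 (d.tor_fix hf hι hr hh hb k')⟩
      have a4 := h5 k' h' _ _ a1 a2 a3 (s * Subfield.inclusion hle (c ^ 2)) (by
        simp only [e, RS.chi_add, Φ.rv_sim, RS.chi_single, zpow_one, e1]; rfl)
      simp only [e, RS.chi_add, Φ.rv_sim, RS.chi_single, zpow_one, map_mul, Units.val_mul] at a4
      rw [h5 k' h _ _ hh hb hb' s rfl, ← h5 k h _ _ hh hb hb' (c ^ 2) (by rw [e1]; rfl)] at a4
      exact (mul_left_cancel₀ (b' _).ne_zero a4).symm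
    simp only [dif_pos ((hP k t).2 ht), dif_pos ((hP k' t).2 (hk t ht)), this]
    rfl

end

variable {D : ChevalleyDatum} {c : Cert} {h : Checked D c} {F : Type*} [Field F] [Finite F] {T : (h.adj F).Tw}
  {K : Type} {o : T.ρ.Orb K} (d : OrthOrb h.toCD o) {f : F →+* F} (hf : ∀ i, T.f i = f)
  {Γ : Type*} [Group Γ] {ι : Γ →* D.group F} (hι : Function.Injective ι) (hr : ι.range = d.X (h.adj F) f)
include hf hι hr

theorem card_out (h2 : ∃ k, ∀ t, f^[d.m k] t = t)
    (h3 : ∀ α ∈ (h.adj F).A0 ι, ∃ (a : K → Fˣ) (g : F ≃+* F), (∀ k, f^[d.m k] (a k) = a k) ∧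
      ∀ k t x, f^[d.m k] t = t → ι x = d.Y (h.adj F) f true k t → ι (α x) = d.Y (h.adj F) f true k (a k * g t)) :
    Nat.card (Out Γ) * Nat.card ((h.adj F).H.comap ι) = Nat.card T.tfix * Nat.card (F ≃+* F) := by
  refine h.card_out_tw (d.sub' hf hr) hι (d.gen hι hr) (fun i => ?_) ?_ fun α hα => ?_
  · obtain ⟨x, hx⟩ : _ ∈ ι.range := hr ▸ d.Y_mem true (k := o.κ i) (Function.iterate_fixed (map_one f) _)
    exact ⟨x, hx ▸ St.UL_le_U _ (d.Y_UL _ 1), by rw [hx, d.co_Y, Function.iterate_fixed (map_one f)]⟩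
  · obtain ⟨k, hk⟩ := h2
    refine ⟨d.rep k, fun t => ?_⟩
    obtain ⟨x, hx⟩ : _ ∈ ι.range := hr ▸ d.Y_mem true (hk t)
    exact ⟨x, hx ▸ St.UL_le_U _ (d.Y_UL _ t), by rw [hx, d.co_Y']⟩
  obtain ⟨a, g, h4, h5⟩ := h3 α hα
  refine ⟨fun i => (Units.map (f : F →* F))^[d.e i] (a (o.κ i)), fun i => ?_, g, fun β hβ e k x hx => ?_⟩
  · simp only [o.inv, hf]
    exact d.iter_ρ i (Units.ext (by rw [units_iter, h4]))
  · obtain ⟨t, e'⟩ := (d.fix_iff hf k _).1 ⟨hx, (d.sub' hf hr).fix _ ⟨x, rfl⟩⟩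
    refine α.injective (hι ?_)
    rw [e, h5 k t x t.2 e'.symm, ← e', Y, Y, map_list_prod, List.map_map]
    refine congrArg List.prod (List.map_congr_left fun j hj => ?_)
    have : ∀ n (t : F), f^[n] (g t) = g (f^[n] t) := fun n t => by
      simpa using ringHom_comm (f ^ n) g.toRingHom t
    simp [h.fieldAut_x, h.diagAut_x, CD.pm, RS.rv_sim, RS.chi_single, units_iter, (d.mem _ _).1 hj, iterate_map_mul, this]

end OrthOrb

section
variable {K : Type*} [Field K] [Fintype K] {q : ℕ} {f : K →+* K} (hf : ∀ t, f t = t ^ q)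
include hf

theorem card_out_2E6 (hK : Fintype.card K = q ^ 2) (hq : 2 ≤ q) :
    Nat.card (Out (twistedE6 K q)) = Nat.gcd 3 (q + 1) * Nat.card (K ≃+* K) := by
  have hr := range_2E6 hf hK
  have hι := checkedE6.inc_inj (e6Words K q)
  have h1 := card_H_2E6 hf hK (by omega)
  have c1 := card_fix_iter (k := 1) (m := 2) hf (by omega) hK
  have c2 := card_fix_iter (k := 2) (m := 1) hf (by omega) hK
  have w := checkedE6.w0_eq orbE6 ortE6.L (by decide +kernel)
  have lk : ∀ k : Fin 4, k = 3 ∨ checkedE6.toCD.rv (checkedE6.toCD.w0 (orbE6.J k) • checkedE6.toCD.sim (ortE6.rep (k + 1))) =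
      checkedE6.toCD.rv (checkedE6.toCD.sim (ortE6.rep (k + 1))) + checkedE6.toCD.rv (checkedE6.toCD.sim (ortE6.rep k)) := by
    simp only [w]; decide +kernel
  have h2 := ortE6.card_out (T := twE6 f) (fun _ => rfl) hι hr ⟨2, frob_sq hf hK⟩ fun α hα => by
    have hX := sub_2E6 hf hK
    obtain ⟨π, a1, -, a3⟩ := hX.exists_perm hι hα
    obtain rfl : π = 1 := by
      have e1 : ∀ k, ortE6.m k = ortE6.m (π k) := fun k => by
        have := ortE6.m_perm (T := twE6 f) (fun _ => rfl) hι hr (a1 k)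
        have e : ∀ k, Nat.card {t : K | f^[ortE6.m k] t = t} = q ^ ortE6.m k := fun k => by
          fin_cases k
          exacts [c1.1, c1.1, c2.1, c2.1]
        rw [e, e] at this
        exact Nat.pow_right_injective hq this
      have e2 : ∀ k k' : Fin 4, wp (fun k => checkedE6.toCD.w0 (orbE6.J k)) [k, k'] =
          wp (fun k => checkedE6.toCD.w0 (orbE6.J k)) [k', k] ↔ (k.val + 1 ≠ k' ∧ k'.val + 1 ≠ k) := fun k k' => by
        have : ∀ k k' : Fin 4, (∀ r : Fin chevE6.nroots, wp checkedE6.toCD.s (ortE6.L k ++ ortE6.L k') • r =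
          wp checkedE6.toCD.s (ortE6.L k' ++ ortE6.L k) • r) ↔ (k.val + 1 ≠ k' ∧ k'.val + 1 ≠ k) := by decide +kernel
        rw [← this]
        simp only [w, wp_cons, wp_nil, mul_one, wp_append]
        exact ⟨fun e r => by rw [e], RS.W_ext⟩
      have e3 := fun k k' e => (e2 _ _).1 (hX.wp_map hι a3 hα ((e2 k k').2 e))
      revert e1 e3
      clear a1 a3
      revert π
      decide +kernel
    obtain ⟨a, g, b1, b2, b3, b4⟩ := ortE6.coord' (T := twE6 f) (fun _ => rfl) hι hr hα a1 a3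
    obtain ⟨γ, e⟩ := b3 3 (frob_sq hf hK)
    have l2 := b4 2 3 ((lk 2).resolve_left (by decide)) fun _ h => h
    have l1 := b4 1 2 ((lk 1).resolve_left (by decide)) fun t _ => frob_sq hf hK t
    have l0 := b4 0 1 ((lk 0).resolve_left (by decide)) fun _ h => h
    refine ⟨a, γ, b1, fun k t x ht hx => (b2 k t x ht hx).trans ?_⟩
    have := frob_sq hf hK t
    rw [← e]
    fin_cases k
    exacts [congrArg _ (congrArg _ ((l0 t ht).trans ((l1 t ht).trans (l2 t this)))),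
      congrArg _ (congrArg _ ((l1 t ht).trans (l2 t this))), congrArg _ (congrArg _ (l2 t this)), rfl]
  rw [checkedE6.card_inc_H, ortE6.card_tfix (T := twE6 f) (fun _ => rfl), Fin.prod_univ_four] at h2
  erw [c1.2, c2.2] at h2
  have h3 : 0 < Nat.card (chevE6.diagonalSubgroup K ⊓ twistedE6 K q : Subgroup _) := Nat.card_pos
  refine Nat.eq_of_mul_eq_mul_right h3 (h2.trans ?_)
  rw [mul_right_comm (Nat.gcd _ _), h1, pow_one]; ring

theorem card_out_3D4 (hK : Fintype.card K = q ^ 3) (hq : 2 ≤ q) :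
    Nat.card (Out (twistedD4 K q)) = Nat.card (K ≃+* K) := by
  have hr := range_3D4 hf hK
  have hι := checkedD4.inc_inj (d4Words K q)
  have h1 := card_H_3D4 hf hK (by omega)
  have c1 := card_fix_iter (k := 1) (m := 3) hf (by omega) hK
  have c2 := card_fix_iter (k := 3) (m := 1) hf (by omega) hK
  have lk : checkedD4.toCD.rv (checkedD4.toCD.w0 (orbD4.J 1) • checkedD4.toCD.sim (ortD4.rep 0)) =
      checkedD4.toCD.rv (checkedD4.toCD.sim (ortD4.rep 0)) + checkedD4.toCD.rv (checkedD4.toCD.sim (ortD4.rep 1)) := by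
    rw [w0_3D4]; decide +kernel
  have h2 := ortD4.card_out (T := twD4 f) (fun _ => rfl) hι hr ⟨0, frob_cube hf hK⟩ fun α hα => by
    obtain ⟨π, a1, -, a3⟩ := (sub_3D4 hf hK).exists_perm hι hα
    obtain rfl : π = 1 := by
      have e1 : ∀ k, ortD4.m k = ortD4.m (π k) := fun k => by
        have := ortD4.m_perm (T := twD4 f) (fun _ => rfl) hι hr (a1 k)
        have e : ∀ k, Nat.card {t : K | f^[ortD4.m k] t = t} = q ^ ortD4.m k := fun k => by
          fin_cases k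
          exacts [c2.1, c1.1]
        rw [e, e] at this
        exact Nat.pow_right_injective hq this
      revert e1
      clear a1 a3
      revert π
      decide +kernel
    obtain ⟨a, g, b1, b2, b3, b4⟩ := ortD4.coord' (T := twD4 f) (fun _ => rfl) hι hr hα a1 a3
    obtain ⟨γ, e⟩ := b3 0 (frob_cube hf hK)
    have l1 := b4 1 0 lk fun t _ => frob_cube hf hK t
    refine ⟨a, γ, b1, fun k t x ht hx => (b2 k t x ht hx).trans ?_⟩
    rw [← e]
    fin_cases k
    exacts [rfl, congrArg _ (congrArg _ (l1 t ht))]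
  rw [checkedD4.card_inc_H, ortD4.card_tfix (T := twD4 f) (fun _ => rfl), Fin.prod_univ_two] at h2
  erw [c1.2, c2.2] at h2
  have h3 : 0 < Nat.card (chevD4.diagonalSubgroup K ⊓ twistedD4 K q : Subgroup _) := Nat.card_pos
  refine Nat.eq_of_mul_eq_mul_right h3 (h2.trans ?_)
  rw [h1, pow_one, mul_comm]

end
end Cfsg.Agent.Chev
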