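import Cfsg.Agent.Lib.Chev.Collect
import Cfsg.Agent.Lib.Chev.TwF4
import Cfsg.Agent.Lib.Chev.TwG2

set_option autoImplicit false
set_option linter.unusedSectionVars false
set_option linter.style.haveILetI false

/-! Centralizers of unipotent elements, Sylow subgroups. -/

namespace Cfsg.Agent.Chev

open Cfsg.Lie
open scoped commutatorElement

variable {I R : Type} [Fintype I] [DecidableEq I] [Fintype R] [DecidableEq R]

theorem RS.exists_fn_pos {Φ : RS I R} {r s : R} (h : s ≠ Φ.neg r) : ∃ f, 0 < Φ.fn f r ∧ 0 < Φ.fn f s := by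
  obtain ⟨w, i, rfl⟩ := RS.exists_smul_sim (Φ := Φ) r
  obtain ⟨s, rfl⟩ : ∃ s', s = w • s' := ⟨w⁻¹ • s, by simp⟩
  suffices ∃ f, 0 < Φ.fn f (Φ.sim i) ∧ 0 < Φ.fn f s by
    obtain ⟨f, h1, h2⟩ := this
    obtain ⟨g, hg⟩ := Φ.exists_fn_smul f w⁻¹
    exact ⟨g, by simpa [hg] using h1, by simpa [hg] using h2⟩
  by_cases hp : Φ.Pos s
  · exact ⟨1, RS.unip_pos.pos _ (Φ.pos_sim i), RS.unip_pos.pos _ hp⟩
  obtain ⟨j, hj, hs⟩ : ∃ j, j ≠ i ∧ Φ.rv s j ≠ 0 := by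
    by_contra hn
    push Not at hn
    refine h ?_
    rw [← RS.smul_neg', ← RS.eq_sim_of_support (RS.pos_neg_iff.2 hp) fun j hj => by simp [Φ.rv_neg, hn j hj],
      Φ.neg_neg]
  refine ⟨Pi.single i 1 + Pi.single j ((1 - Φ.rv s i) * Φ.rv s j), ?_, ?_⟩
  · simp [RS.fn, Φ.rv_sim, Pi.single_apply, hj.symm]
  · simp only [RS.fn, Pi.add_apply, add_mul, Finset.sum_add_distrib, Pi.single_apply, ite_mul, zero_mul,
      Finset.sum_ite_eq', Finset.mem_univ, if_true]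
    have := RS.not_pos_iff.1 hp i
    have := mul_self_pos.2 hs
    nlinarith

theorem RS.mem_WJ_of_fix {Φ : RS I R} {J : Set I} {w : Φ.W} (L : List (R × ℤ)) (h : ∀ a ∈ L, w • a.1 = a.1)
    (h1 : ∀ k, Φ.Pos k → (∃ i, i ∉ J ∧ Φ.rv k i ≠ 0) → 0 < (L.map fun a => a.2 * Φ.pair a.1 k).sum)
    (h2 : ∀ k, ¬ Φ.Pos k → (L.map fun a => a.2 * Φ.pair a.1 k).sum ≤ 0) : w ∈ Φ.WJ J := by
  refine RS.mem_WJ_of_pos fun r hr hJ => by_contra fun hn => ?_
  have e1 := h1 r hr (by simpa [RS.InJ] using hJ)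
  have e2 := h2 _ hn
  rw [List.map_congr_left (g := fun a => a.2 * Φ.pair a.1 r) fun a ha => by
    rw [← RS.pair_smul w a.1 r, h a ha]] at e2
  omega

theorem closed_of_list {Φ : RS I R} {L : List R} (h : ∀ r ∈ L, Φ.Pos r ∧ ∀ s ∈ L, ∀ k,
    (∀ i, Φ.rv r i + Φ.rv s i ≤ Φ.rv k i) → k ∈ L) : Φ.Closed {r | r ∈ L} :=
  fun r hr s hs k hk => (h r hr).2 s hs k fun i => hk.rv_le ((h r hr).1 i) ((h s hs).1 i)

namespace St
variable {Φ : CD I R} {F : Type*} [Field F] {G : Type*} [Group G] {S : St Φ F G}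

theorem commute_P {A : Set R} {L : List R} (h : ∀ r ∈ A, ∀ s ∈ L, ∀ t u, Commute (S.x r t) (S.x s u)) {g : G}
    (hg : g ∈ S.Ux A) (t : R → F) : Commute g (S.P L t) :=
  Subgroup.mem_centralizer_singleton_iff.1 ((Ux_le (K := Subgroup.centralizer {S.P L t})).2 (fun r hr t =>
    Subgroup.mem_centralizer_singleton_iff.2 (Commute.list_prod_right _ _ fun g hg => by
      obtain ⟨s, hs, rfl⟩ := List.mem_map.1 hg
      exact h r hr s hs _ _)) hg)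

theorem eq_zero_of_P_mem {f : I → ℤ} {A B : Set R} (hA : Φ.Unip f A) (hB : Φ.Closed B) (hBA : B ⊆ A) {L : List R}
    (hL : L.Nodup) (h : ∀ r ∈ L, r ∈ A) {t : R → F} (hP : S.P L t ∈ S.Ux B) {r : R} (hr : r ∈ L) (hrB : r ∉ B) :
    t r = 0 := by
  classical
  obtain ⟨L', h1, h2⟩ := exists_list {r | r ∈ B ∧ r ∉ L}
  have hn : (L ++ L').Nodup := List.nodup_append.2 ⟨hL, h1, fun a ha b hb e => ((h2 b).1 hb).2 (e ▸ ha)⟩
  obtain ⟨s, hs⟩ := exists_P (hA.subset hB hBA) (hn.filter fun r => decide (r ∈ B)) (fun r => by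
    have := h2 r
    simp only [List.mem_filter, List.mem_append, decide_eq_true_eq, Set.mem_ofPred_eq] at *
    tauto) hP
  have e1 : ∀ M : List R, S.P (M.filter fun r => decide (r ∈ B)) s = S.P M fun r => if r ∈ B then s r else 0 := by
    intro M
    induction M with
    | nil => rfl
    | cons a M ih => by_cases ha : a ∈ B <;> simp [List.filter_cons, ha, ih]
  have e2 : S.P L t = S.P (L ++ L') fun r => if r ∈ L then t r else 0 := by
    rw [P_append, P_zero (L := L') fun r hr => if_neg ((h2 r).1 hr).2, mul_one]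
    exact P_congr fun r hr => (if_pos hr).symm
  have := P_inj hA hn (fun r hr => (List.mem_append.1 hr).elim (h r) fun hr => hBA ((h2 r).1 hr).1)
    (e2.symm.trans (hs.trans (e1 _))) r (by simp [hr])
  simpa [hr, hrB] using this

theorem mem_Ux_pos {f : I → ℤ} {B : Set R} (hB : Φ.Unip f B) {u : G} (hu : u ∈ S.U) (h : u ∈ S.Ux B) :
    u ∈ S.Ux {r | r ∈ B ∧ Φ.Pos r} := by
  obtain ⟨b, hb, c, hc, rfl⟩ := exists_mul hB (B := {r | r ∈ B ∧ Φ.Pos r}) (C := {r | r ∈ B ∧ ¬ Φ.Pos r})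
    (fun r => by simp only [Set.mem_ofPred_eq]; tauto) h
  have h1 : b ∈ S.U := Ux_mono (fun r hr => hr.2) hb
  rw [eq_one_of_mem_B_V (g := c) (U_le_B (by simpa using mul_mem (inv_mem h1) hu)) (Ux_mono (fun r hr => hr.2) hc),
    mul_one]
  exact hb

theorem n_mem_of {K : Subgroup G} {r : R} (h : ∀ t, S.x r t ∈ K ∧ S.x (Φ.neg r) t ∈ K) (c : Fˣ) :
    S.n r c ∈ K ∧ S.h r c ∈ K :=
  have := fun c : Fˣ => mul_mem (mul_mem (h c).1 (h (-(c : F)⁻¹)).2) (h c).1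
  ⟨this c, mul_mem (this c) (this (-1))⟩

theorem UxJ_le {J : Set I} {K : Subgroup G} (h : ∀ j ∈ J, ∀ t, S.x (Φ.sim j) t ∈ K ∧ S.x (Φ.neg (Φ.sim j)) t ∈ K) :
    S.Ux {r | Φ.InJ J r} ≤ K := by
  refine Ux_le.2 fun r hr => ?_
  obtain ⟨w, hw, j, hj, rfl⟩ := RS.exists_smul_sim_of_inJ hr
  clear hr
  refine RS.WJ_induction_left (p := fun w => ∀ t, S.x (w • Φ.sim j) t ∈ K) (fun t => by simpa using (h j hj t).1)
    (fun i hi w _ _ ih t => ?_) hw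
  obtain ⟨χ, -, e⟩ := acts_n (S := S) i 1
  have := e (w • Φ.sim j) ((χ (w • Φ.sim j))⁻¹ * t)
  rw [Units.mul_inv_cancel_left] at this
  rw [mul_smul, ← this]
  exact mul_mem (mul_mem (n_mem_of (h i hi) 1).1 (ih _)) (inv_mem (n_mem_of (h i hi) 1).1)

theorem IsTor.conj_P {g : G} {a : I → Fˣ} (h : S.IsTor g a) (L : List R) (t : R → F) :
    g * S.P L t * g⁻¹ = S.P L fun r => RS.chi a (Φ.rv r) * t r := by
  induction L with
  | nil => simp
  | cons r L ih => rw [P_cons, P_cons, ← ih, ← h.2]; group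

theorem HMul.hT_mem_of (hm : S.HMul) {K : Subgroup G} {c : I → Fˣ} (h : ∀ i, S.h (Φ.sim i) (c i) ∈ K) : hm.hT c ∈ K := by
  rw [hm.hT_eq_list (Finset.nodup_toList Finset.univ) (by simp)]
  refine K.list_prod_mem fun x hx => ?_
  obtain ⟨i, -, rfl⟩ := List.mem_map.1 hx
  exact h i

theorem bruhat' {g : G} (hg : g ∈ S.Gx) : ∃ u ∈ S.U, ∃ m ∈ S.N, ∃ w, S.Acts m w ∧ ∃ u' ∈ S.Uw w, g = u * m * u' := by
  obtain ⟨u, hu, m, hm, w, -, h⟩ := bruhat_PJ (J := Set.univ) (PJ_univ (S := S) ▸ hg)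
  exact ⟨u, hu, m, hm, w, h⟩

/-- the Weyl group element of an element conjugating `z₁` to `z₂` -/
theorem smul_mem_of_conj {T : Set R} (hT : Φ.Closed T) (hT' : ∀ r ∈ T, Φ.Pos r) {m : G} {w : Φ.W} (hw : S.Acts m w)
    {L : List R} (hL : L.Nodup) (h : ∀ r ∈ L, Φ.Pos r) {t : R → F} (e : m * S.P L t * m⁻¹ ∈ S.Ux T) {r : R}
    (hr : r ∈ L) (ht : t r ≠ 0) : w • r ∈ T := by
  obtain ⟨g, hg⟩ := Φ.exists_fn_smul 1 w
  have hB : Φ.Unip g {r | w • r ∈ T} :=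
    ⟨fun a ha b hb k hk => hT _ ha _ hb _ (hk.smul w), fun r hr => hg r ▸ RS.unip_pos.pos _ (hT' _ hr)⟩
  have h1 : S.P L t ∈ S.Ux {r | w • r ∈ T} := by
    simpa [mul_assoc] using hw.conj_mem' (B := {r | w • r ∈ T}) (fun r hr => by simpa using hr) e
  by_contra hn
  exact ht (eq_zero_of_P_mem RS.unip_pos (hB.closed.inter RS.unip_pos.closed) (fun r hr => hr.2) hL h
    (mem_Ux_pos hB (P_mem h _) h1) hr fun e => hn e.1)

theorem mem_of_commute (hm : S.HMul) {L₀ L' : List R} {J : Set I} {M : Subgroup G} (hn : (L₀ ++ L').Nodup)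
    (hp : ∀ r ∈ L₀ ++ L', Φ.Pos r) (hc : Φ.Closed {r | r ∈ L₀ ++ L'})
    (hb : ∀ u ∈ S.U, ∃ t, u * S.P L₀ 1 * u⁻¹ = S.P L₀ 1 * S.P L' t ∧ (S.P L' t = 1 → u ∈ M))
    (hw : ∀ w : Φ.W, (∀ r ∈ L₀, w • r ∈ L₀ ++ L') → w ∈ Φ.WJ J)
    (hJ : ∀ j ∈ J, ∀ t, S.x (Φ.sim j) t ∈ M ∧ S.x (Φ.neg (Φ.sim j)) t ∈ M)
    (hM : ∀ g ∈ M, g * S.P L₀ 1 * g⁻¹ = S.P L₀ 1)
    (hf : ∀ c : I → Fˣ, (∀ r ∈ L₀, ∏ i, c i ^ Φ.A i r = 1) → ∀ i ∉ J, c i = 1)
    {g : G} (hg : g ∈ S.Gx) (e : g * S.P L₀ 1 * g⁻¹ = S.P L₀ 1) : g ∈ M := by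
  classical
  have hd := List.nodup_append.1 hn
  have e0 : ∀ s t, S.P L₀ s * S.P L' t = S.P (L₀ ++ L') fun r => if r ∈ L₀ then s r else t r := fun s t => by
    rw [P_append]
    congr 1
    · exact P_congr fun r hr => (if_pos hr).symm
    · exact P_congr fun r hr => (if_neg fun h => hd.2.2 r h r hr rfl).symm
  obtain ⟨u, hu, m, hm', w, hmw, u', hu', rfl⟩ := bruhat' hg
  obtain ⟨t, e1, -⟩ := hb u' (Uw_le_U _ hu')
  obtain ⟨t', e2, e3⟩ := hb u⁻¹ (inv_mem hu)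
  have hwJ : w ∈ Φ.WJ J := hw w fun r hr => smul_mem_of_conj hc hp hmw hn hp (by
    rw [← e0 1 t, ← e1, show m * (u' * S.P L₀ 1 * u'⁻¹) * m⁻¹ = u⁻¹ * S.P L₀ 1 * u⁻¹⁻¹ by
      conv_rhs => rw [← e]
      group, e2, e0]
    exact P_mem (fun _ h => h) _) (by simp [hr]) (by simp [hr])
  obtain ⟨a, ha, k, hk, rfl⟩ := mem_Ux_sup_H.1 (NJ_le J ⟨hm', w, hwJ, hmw⟩)
  have h1 : k⁻¹ * a * k * u' ∈ M := UxJ_le hJ (mul_mem (by simpa using conj_H_Ux (inv_mem hk) ha)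
    (Ux_mono (fun r hr => RS.inJ_of_inv hwJ hr.1 hr.2) hu'))
  have e4 : k * S.P L₀ 1 * k⁻¹ = u⁻¹ * S.P L₀ 1 * u⁻¹⁻¹ := by
    conv_lhs => rw [← hM _ h1]
    conv_rhs => rw [← e]
    group
  obtain ⟨c, rfl⟩ := hm.exists_hT hk
  have h2 : hm.hT c ∈ M := by
    have := hf c fun r hr => ?_
    · refine hm.hT_mem_of fun i => ?_
      by_cases hi : i ∈ J
      · exact (n_mem_of (hJ i hi) _).2
      · rw [this i hi, h_one]; exact one_mem _
    rw [(hm.isTor_hT c).conj_P, e2, ← mul_one (S.P L₀ fun _ => _), ← P_zero (S := S) (L := L') (t := 0) fun _ _ => rfl,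
      e0, e0] at e4
    have := P_inj RS.unip_pos hn hp e4 r (by simp [hr])
    rw [← chi_zmap]
    simpa [hr] using this
  have h3 := e3 (by rw [← e4, hM _ h2] at e2; simpa using e2.symm)
  have := mul_mem (mul_mem (inv_mem h3) h2) h1
  simpa [mul_assoc] using this

theorem cent_eq (hm : S.HMul) {L₀ L' : List R} {J : Set I} {M : Subgroup G} (hn : (L₀ ++ L').Nodup)
    (hp : ∀ r ∈ L₀ ++ L', Φ.Pos r) (hc : Φ.Closed {r | r ∈ L₀ ++ L'})
    (hb : ∀ u ∈ S.U, ∃ t, u * S.P L₀ 1 * u⁻¹ = S.P L₀ 1 * S.P L' t ∧ (S.P L' t = 1 → u ∈ M))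
    (hw : ∀ w : Φ.W, (∀ r ∈ L₀, w • r ∈ L₀ ++ L') → w ∈ Φ.WJ J)
    (hJ : ∀ j ∈ J, ∀ t, S.x (Φ.sim j) t ∈ M ∧ S.x (Φ.neg (Φ.sim j)) t ∈ M)
    {A : Set R} (hA : M = S.Ux A) (hM : ∀ r ∈ A, ∀ s ∈ L₀, ∀ t u, Commute (S.x r t) (S.x s u))
    (hf : ∀ c : I → Fˣ, (∀ r ∈ L₀, ∏ i, c i ^ Φ.A i r = 1) → ∀ i ∉ J, c i = 1) :
    S.Gx ⊓ Subgroup.centralizer {S.P L₀ 1} = M := by
  have h1 : M ≤ Subgroup.centralizer {S.P L₀ 1} := hA ▸ Ux_le.2 fun r hr t =>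
    Subgroup.mem_centralizer_singleton_iff.2 (Commute.list_prod_right _ _ fun g hg => by
      obtain ⟨s, hs, rfl⟩ := List.mem_map.1 hg
      exact hM r hr s hs _ _)
  refine le_antisymm (fun g hg => mem_of_commute hm hn hp hc hb hw hJ (fun g hg => ?_) hf hg.1 ?_)
    (le_inf (hA ▸ Ux_le_Gx _) h1)
  · rw [Subgroup.mem_centralizer_singleton_iff.1 (h1 hg), mul_inv_cancel_right]
  · rw [Subgroup.mem_centralizer_singleton_iff.1 hg.2, mul_inv_cancel_right]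

theorem cent_eq_central (hm : S.HMul) {L₀ : List R} {J : Set I} (hn : L₀.Nodup)
    (hp : ∀ r ∈ L₀, Φ.Pos r) (hc : Φ.Closed {r | r ∈ L₀})
    (hw : ∀ w : Φ.W, (∀ r ∈ L₀, w • r ∈ L₀) → w ∈ Φ.WJ J)
    {A : Set R} (hA : ∀ r, Φ.Pos r → r ∈ A) (hJ : ∀ j ∈ J, Φ.neg (Φ.sim j) ∈ A)
    (hM : ∀ r ∈ A, ∀ s ∈ L₀, ∀ t u, Commute (S.x r t) (S.x s u))
    (hf : ∀ c : I → Fˣ, (∀ r ∈ L₀, ∏ i, c i ^ Φ.A i r = 1) → ∀ i ∉ J, c i = 1) :
    S.Gx ⊓ Subgroup.centralizer {S.P L₀ 1} = S.Ux A := by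
  refine cent_eq (L' := []) hm (by simpa) (by simpa) (by simpa) (fun u hu => ⟨1, ?_, fun _ => Ux_mono hA hu⟩)
    (by simpa only [List.append_nil]) (fun j hj t => ⟨x_mem (hA _ (Φ.pos_sim j)) t, x_mem (hJ j hj) t⟩) rfl hM hf
  have : S.U ≤ Subgroup.centralizer {S.P L₀ 1} := Ux_le.2 fun r hr t =>
    Subgroup.mem_centralizer_singleton_iff.2 (Commute.list_prod_right _ _ fun g hg => by
      obtain ⟨s, hs, rfl⟩ := List.mem_map.1 hg
      exact hM r (hA r hr) s hs _ _)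
  rw [Subgroup.mem_centralizer_singleton_iff.1 (this hu), mul_inv_cancel_right, P_nil, mul_one]

theorem commute_U {δ : R} (h : ∀ r, Φ.Pos r → ∀ t u, Commute (S.x r t) (S.x δ u)) {g : G} (hg : g ∈ S.U) (u : F) :
    Commute g (S.x δ u) :=
  Subgroup.mem_centralizer_singleton_iff.1 ((Ux_le (K := Subgroup.centralizer {S.x δ u})).2 (fun r hr t =>
    Subgroup.mem_centralizer_singleton_iff.2 (h r hr t u)) hg)

theorem exists_eq_P_mul {f : I → ℤ} {A : Set R} (hA : Φ.Unip f A) {L : List R} (hL : L.Nodup) (h : ∀ r ∈ L, r ∈ A)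
    {g : G} (hg : g ∈ S.Ux A) : ∃ t, ∃ v ∈ S.Ux {r | r ∈ A ∧ r ∉ L}, g = S.P L t * v := by
  obtain ⟨L', h1, h2⟩ := exists_list {r | r ∈ A ∧ r ∉ L}
  obtain ⟨t, rfl⟩ := exists_P hA (List.nodup_append.2 ⟨hL, h1, fun a ha b hb e => ((h2 b).1 hb).2 (e ▸ ha)⟩)
    (fun r => by have := h2 r; have := h r; simp only [List.mem_append, Set.mem_ofPred_eq] at *; tauto) hg
  exact ⟨t, _, P_mem (fun r hr => (h2 r).1 hr) t, P_append ..⟩

section Sylow
variable [Finite F] (p : ℕ) [Fact p.Prime] [CharP F p]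

theorem isPGroup_Ux {f : I → ℤ} {A : Set R} (hA : Φ.Unip f A) : IsPGroup p (S.Ux A) := by
  haveI := Fintype.ofFinite F
  obtain ⟨n, -, hn⟩ := FiniteField.card F p
  exact IsPGroup.of_card (by rw [card_Ux hA, Nat.card_eq_fintype_card, hn, ← pow_mul])

theorem not_dvd_card_H (hm : S.HMul) : ¬ p ∣ Nat.card S.H := by
  haveI := Fintype.ofFinite F
  obtain ⟨n, -, hn⟩ := FiniteField.card F p
  intro h
  have h1 := (Fact.out : p.Prime).dvd_of_dvd_pow (hm.card_H ▸ Dvd.dvd.mul_left h _)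
  have h2 : p ∣ Nat.card F := by rw [Nat.card_eq_fintype_card, hn]; exact dvd_pow_self _ n.ne_zero
  exact (Fact.out : p.Prime).not_dvd_one ((Nat.dvd_sub_iff_right Nat.card_pos h2).1 h1)

theorem not_dvd_relIndex (hm : S.HMul) (J : Set I) : ¬ p ∣ S.U.relIndex (S.PJ J) := by
  classical
  haveI := Fintype.ofFinite F
  haveI := Fintype.ofFinite (Φ.WJ J)
  obtain ⟨n, -, hn⟩ := FiniteField.card F p
  have h2 : p ∣ Nat.card F := by rw [Nat.card_eq_fintype_card, hn]; exact dvd_pow_self _ n.ne_zero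
  have hle : S.U ≤ S.PJ J := U_le_B.trans le_sup_left
  have e := (S.U.subgroupOf (S.PJ J)).card_mul_index
  haveI : Finite S.U := finite_Ux RS.unip_pos
  rw [card_PJ, card_B, Nat.card_congr (Subgroup.subgroupOfEquivOfLe hle).toEquiv, mul_assoc,
    Nat.mul_right_inj Nat.card_pos.ne'] at e
  rw [Subgroup.relIndex, e, (Fact.out : p.Prime).dvd_mul, ← Finset.add_sum_erase _ _ (Finset.mem_univ 1)]
  rintro (h | h)
  · exact not_dvd_card_H p hm h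
  · rw [Nat.dvd_add_left (Finset.dvd_sum fun w hw => h2.trans (dvd_pow_self _ fun e =>
      Finset.ne_of_mem_erase hw (Subtype.ext (Φ.invGen.len_eq_zero.1 e))))] at h
    simp [(Fact.out : p.Prime).ne_one] at h

theorem finite_PJ (hm : S.HMul) (J : Set I) : Finite (S.PJ J) := by
  haveI := Fintype.ofFinite F
  obtain ⟨p, _⟩ := CharP.exists F
  haveI := Fact.mk (CharP.char_is_prime F p)
  haveI : Finite S.U := finite_Ux RS.unip_pos
  have hle : S.U ≤ S.PJ J := U_le_B.trans le_sup_left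
  haveI := Finite.of_equiv _ (Subgroup.subgroupOfEquivOfLe hle).toEquiv.symm
  haveI : (S.U.subgroupOf (S.PJ J)).FiniteIndex := ⟨fun e => not_dvd_relIndex p hm J (by rw [Subgroup.relIndex, e]; simp)⟩
  exact Finite.of_subgroup_quotient (H := S.U.subgroupOf (S.PJ J))

/-- `U` as a Sylow subgroup of `P_J` -/
noncomputable def sylowPJ (hm : S.HMul) (J : Set I) : Sylow p (S.PJ J) :=
  haveI := finite_PJ hm J
  ((isPGroup_Ux p RS.unip_pos).comap_subtype (H := S.U)).toSylow (not_dvd_relIndex p hm J)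

theorem exists_conj_le_U (hm : S.HMul) {J : Set I} {Q : Subgroup G} (hQ : IsPGroup p Q) (h : Q ≤ S.PJ J) :
    ∃ k ∈ S.PJ J, ∀ g ∈ Q, k * g * k⁻¹ ∈ S.U := by
  haveI := finite_PJ hm J
  obtain ⟨P, hP⟩ := (hQ.comap_subtype (K := S.PJ J)).exists_le_sylow
  obtain ⟨k, hk⟩ := MulAction.exists_smul_eq (S.PJ J) P (sylowPJ p hm J)
  refine ⟨k, k.2, fun g hg => ?_⟩
  have : k * ⟨g, h hg⟩ * k⁻¹ ∈ (sylowPJ p hm J : Subgroup _) := by
    rw [← hk, Sylow.coe_subgroup_smul]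
    exact Subgroup.smul_mem_pointwise_smul _ _ _ (hP hg)
  exact this

theorem exists_conj_mem_U (hm : S.HMul) {J : Set I} {g : G} (h : g ∈ S.PJ J) {n : ℕ} (hg : g ^ p ^ n = 1) :
    ∃ k ∈ S.PJ J, k * g * k⁻¹ ∈ S.U := by
  obtain ⟨k, hk, e⟩ := exists_conj_le_U p hm (Q := Subgroup.zpowers g) (fun ⟨_, m, rfl⟩ => ⟨n, Subtype.ext (by
    show (g ^ m) ^ p ^ n = 1
    rw [← zpow_natCast, ← zpow_mul, mul_comm, zpow_mul, zpow_natCast, hg, one_zpow])⟩) (by simpa)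
  exact ⟨k, hk, e g (Subgroup.mem_zpowers g)⟩

end Sylow

end St

namespace Checked
variable {D : ChevalleyDatum} {c : Cert} (h : Checked D c) {K : Type*} [Field K] {G : Type*} [Group G]

theorem commute_fin (S : St h.toCD K G) (p : ℕ) [CharP K p] {a b : Fin D.nroots}
    (e : b.val = a ∨ b.val ≠ ngP D.nroots a ∧ redL p (D.commTerms a b) = []) (t u : K) :
    Commute (S.x a t) (S.x b u) := by
  simpa only [xN_fin] using h.commute_of_redL S.rel p a.2 b.2 e t u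

theorem hMul_st : (h.st K).HMul := St.hMul_of_inj h.st_inj

theorem hMul_adj : (h.adj K).HMul := St.hMul_of_inj h.adj_inj

theorem cent_root (p : ℕ) [CharP K p] (δ : Fin D.nroots) (i₀ : Fin D.rank) (A : Fin D.nroots → Prop)
    (e : h.toCD.Pos δ ∧ (∀ i, h.toCD.A i δ = if i = i₀ then 1 else 0) ∧ (∀ r, h.toCD.Pos r → A r) ∧
      (∀ j, j ≠ i₀ → A (h.toCD.neg (h.toCD.sim j))) ∧
      ∀ r, A r → δ.val = r ∨ δ.val ≠ ngP D.nroots r ∧ redL p (D.commTerms r δ) = []) :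
    D.group K ⊓ Subgroup.centralizer {(h.st K).x δ 1} = (h.st K).Ux {r | A r} := by
  obtain ⟨h1, h2, h3, h4, h5⟩ := e
  rw [h.group_eq, ← St.cent_eq_central h.hMul_st (L₀ := [δ]) (J := {j | j ≠ i₀}) (A := {r | A r}) (by simp) (by simpa) ?_ ?_ h3 h4
    (by simpa using fun r hr => h.commute_fin _ p (h5 r hr)) (by simp [h2])]
  · simp
  · rintro r hr s hs k ⟨i, j, hi, hj, e⟩
    simp only [List.mem_singleton, Set.mem_ofPred_eq] at *
    subst hr hs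
    rw [← add_smul, ← Nat.cast_add] at e
    exact RS.eq_of_rv_eq_smul e
  · intro w hw
    have := RS.mem_WK_of_smul (J := Set.univ) (θ := δ) (w := w) (fun j _ => by rw [h2]; split_ifs <;> simp)
      (by rw [RS.WJ_univ]; trivial) (by simpa using hw)
    simpa [h2] using this

end Checked

end Cfsg.Agent.Chev
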