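import Cfsg.Agent.Lib.Chev.TwTools

set_option autoImplicit false
set_option linter.unusedSectionVars false

/-! A verified collection procedure for words in root elements with polynomial coefficients. -/

namespace Cfsg.Agent.Chev

open Cfsg.Lie

namespace Col

/-- multivariate polynomials: coefficient and exponent vector -/
abbrev MP := List (ℤ × List ℕ)

/-- product of monomials -/
def madd : List ℕ → List ℕ → List ℕ
  | [], b => b
  | a :: l, [] => a :: l
  | a :: l, b :: m => (a + b) :: madd l m

/-- comparison of monomials: 0 equal, 1 less, 2 greater -/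
def mcmp : List ℕ → List ℕ → ℕ
  | [], [] => 0
  | [], _ :: _ => 1
  | _ :: _, [] => 2
  | a :: l, b :: m => if a = b then mcmp l m else if a < b then 1 else 2

/-- insert a term -/
def tins (p : ℕ) (c : ℤ) (m : List ℕ) : MP → MP
  | [] => if c % p = 0 then [] else [(c % p, m)]
  | a :: P => if mcmp m a.2 = 0 then (if (c + a.1) % p = 0 then P else ((c + a.1) % p, m) :: P)
      else if mcmp m a.2 = 1 then (if c % p = 0 then a :: P else (c % p, m) :: a :: P) else a :: tins p c m P

/-- sum -/
def padd (p : ℕ) (P Q : MP) : MP := P.foldr (fun a R => tins p a.1 a.2 R) Q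

/-- product -/
def mpmul (p : ℕ) (P Q : MP) : MP :=
  P.foldr (fun a R => Q.foldr (fun b R => tins p (a.1 * b.1) (madd a.2 b.2) R) R) []

/-- power -/
def mppow (p : ℕ) (P : MP) : ℕ → MP
  | 0 => [(1, [])]
  | e + 1 => mpmul p P (mppow p P e)

/-- words -/
abbrev Wd := List (ℕ × MP)

/-- insert a letter on the left of a collected word -/
def ins (D : ChevalleyDatum) (p : ℕ) (key : ℕ → ℕ) : ℕ → ℕ × MP → Option Wd → Option Wd
  | _, _, none => none
  | 0, _, _ => none
  | f + 1, a, some w =>
    if a.2 = [] then some w else if D.nroots ≤ a.1 then none else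
    match w with
    | [] => some [a]
    | b :: w =>
      if a.1 = b.1 then (if padd p a.2 b.2 = [] then some w else some ((a.1, padd p a.2 b.2) :: w))
      else if key a.1 < key b.1 then some (a :: b :: w)
      else if D.nroots ≤ b.1 ∨ a.1 = ngP D.nroots b.1 then none
      else (ins D p key f a ((D.commTerms b.1 a.1).foldr (fun c o => ins D p key f
        (c.1, mpmul p (mpmul p (tins p (c.2.1 * (-1) ^ c.2.2.1) [] []) (mppow p b.2 c.2.2.1)) (mppow p a.2 c.2.2.2)) o)
          (some w))).map (b :: ·)

/-- collect a word -/
def collect (D : ChevalleyDatum) (p : ℕ) (key : ℕ → ℕ) (f : ℕ) (w : Wd) : Option Wd :=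
  w.foldr (fun a o => ins D p key f (a.1, padd p a.2 []) o) (some [])

/-- two words have the same collected form -/
def same (D : ChevalleyDatum) (p : ℕ) (key : ℕ → ℕ) (f : ℕ) (w w' : Wd) : Bool :=
  (collect D p key f w).isSome && collect D p key f w == collect D p key f w'

section Ev
variable {K : Type*} [Field K]

/-- value of a monomial -/
def mev : List K → List ℕ → K
  | _, [] => 1
  | [], _ :: _ => 1
  | x :: v, a :: l => x ^ a * mev v l

/-- value of a polynomial -/
def mpev (v : List K) (P : MP) : K := (P.map fun a => (a.1 : K) * mev v a.2).sum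

/-- value of a word -/
def ev (v : List K) (w : Wd) : List (ℕ × K) := w.map fun a => (a.1, mpev v a.2)

theorem mev_madd (v : List K) (a b : List ℕ) : mev v (madd a b) = mev v a * mev v b := by
  induction a generalizing v b with
  | nil => simp [madd, mev]
  | cons x a ih =>
    cases b with
    | nil => simp [madd, mev]
    | cons y b =>
      cases v with
      | nil => simp [madd, mev]
      | cons z v => simp only [madd, mev, ih, pow_add]; ring

theorem eq_of_mcmp {a b : List ℕ} (h : mcmp a b = 0) : a = b := by
  induction a generalizing b with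
  | nil => cases b with
    | nil => rfl
    | cons => simp [mcmp] at h
  | cons x a ih => cases b with
    | nil => simp [mcmp] at h
    | cons y b =>
      simp only [mcmp] at h
      split_ifs at h with h1 h2
      rw [h1, ih h]

@[simp] theorem mpev_nil (v : List K) : mpev v [] = 0 := rfl

theorem mpev_cons (v : List K) (a : ℤ × List ℕ) (P : MP) : mpev v (a :: P) = a.1 * mev v a.2 + mpev v P := by
  simp [mpev]

variable (p : ℕ) [CharP K p] (v : List K)

theorem cast_mod (c : ℤ) : ((c % p : ℤ) : K) = c := by
  rw [Int.emod_def]; simp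

theorem cast_zero {c : ℤ} (h : c % p = 0) : (c : K) = 0 := by rw [← cast_mod p, h, Int.cast_zero]

theorem mpev_tins (c : ℤ) (m : List ℕ) (P : MP) : mpev v (tins p c m P) = c * mev v m + mpev v P := by
  induction P with
  | nil =>
    simp only [tins]
    split_ifs with h
    · simp [cast_zero (K := K) p h]
    · simp [mpev_cons, cast_mod]
  | cons a P ih =>
    simp only [tins]
    split_ifs with h1 h2 h3 h4
    · have := cast_zero (K := K) p h2
      rw [mpev_cons, ← eq_of_mcmp h1, ← add_assoc, ← add_mul, ← Int.cast_add, this]; simp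
    · rw [mpev_cons, mpev_cons, cast_mod, ← eq_of_mcmp h1]; push_cast; ring
    · simp [cast_zero (K := K) p h4]
    · rw [mpev_cons, cast_mod]
    · rw [mpev_cons, mpev_cons, ih]; ring

theorem mpev_padd (P Q : MP) : mpev v (padd p P Q) = mpev v P + mpev v Q := by
  induction P with
  | nil => simp [padd]
  | cons a P ih => rw [padd, List.foldr_cons, mpev_tins, ← padd, ih, mpev_cons, add_assoc]

theorem mpev_mpmul (P Q : MP) : mpev v (mpmul p P Q) = mpev v P * mpev v Q := by
  induction P with
  | nil => simp [mpmul]
  | cons a P ih =>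
    have : ∀ R, mpev v (Q.foldr (fun b R => tins p (a.1 * b.1) (madd a.2 b.2) R) R) =
        a.1 * mev v a.2 * mpev v Q + mpev v R := by
      intro R
      clear ih
      induction Q with
      | nil => simp
      | cons b Q ih' => rw [List.foldr_cons, mpev_tins, mev_madd, mpev_cons, ih']; push_cast; ring
    rw [mpmul, List.foldr_cons, this, ← mpmul, ih, mpev_cons]; ring

theorem mpev_mppow (P : MP) (e : ℕ) : mpev v (mppow p P e) = mpev v P ^ e := by
  induction e with
  | zero => simp [mppow, mpev, mev]
  | succ e ih => rw [mppow, mpev_mpmul, ih, pow_succ']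

end Ev

end Col

namespace Checked
open Col
variable {D : ChevalleyDatum} {c : Cert} (h : Checked D c) {K : Type*} [Field K] {G : Type*} [Group G]
  {y : Fin D.nroots → K → G} (hy : h.toCD.Rel y) (p : ℕ) [CharP K p] (v : List K)

theorem wd_nil (y : Fin D.nroots → K → G) : wd y [] = 1 := rfl

theorem wd_cons (y : Fin D.nroots → K → G) (a : ℕ × K) (w : List (ℕ × K)) : wd y (a :: w) = xN y a.1 a.2 * wd y w := by
  simp [wd]

theorem wd_append (y : Fin D.nroots → K → G) (w w' : List (ℕ × K)) : wd y (w ++ w') = wd y w * wd y w' := by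
  simp [wd]

include hy

theorem ins_spec (key : ℕ → ℕ) (f : ℕ) (a : ℕ × MP) (o : Option Wd) {w' : Wd} (e : ins D p key f a o = some w') :
    ∃ w, o = some w ∧ wd y (ev v w') = xN y a.1 (mpev v a.2) * wd y (ev v w) := by
  induction f generalizing a o w' with
  | zero => cases o <;> simp [ins] at e
  | succ f ih =>
    cases o with
    | none => simp [ins] at e
    | some w =>
      refine ⟨w, rfl, ?_⟩
      simp only [ins] at e
      split_ifs at e with h1 h2
      · cases e; rw [h1, mpev_nil, h.xN_zero hy, one_mul]
      cases w with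
      | nil => cases e; simp [ev, wd]
      | cons b w =>
        simp only at e
        have e1 : ∀ (b : ℕ × MP) w, wd y (ev v (b :: w)) = xN y b.1 (mpev v b.2) * wd y (ev v w) := fun b w =>
          wd_cons y _ _
        split_ifs at e with h3 h4 h5 h6
        · cases e
          rw [e1, h3, ← mul_assoc, h.xN_add hy, ← mpev_padd p, h4, mpev_nil, h.xN_zero hy, one_mul]
        · cases e
          rw [e1, e1, h3, ← mul_assoc, h.xN_add hy, ← mpev_padd p]
        · cases e; rw [e1]
        obtain ⟨w₁, e2, rfl⟩ := Option.map_eq_some_iff.1 e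
        obtain ⟨w₂, e3, e4⟩ := ih _ _ e2
        push Not at h2 h6
        rw [e1, e1, e4, ← mul_assoc, ← mul_assoc, h.xN_comm hy h6.1 h2 _ _ h3 h6.2, mul_assoc (_ * _)]
        congr 1
        generalize D.commTerms b.1 a.1 = L at e3
        clear e2 e e4
        induction L generalizing w₂ with
        | nil => cases e3; simp [evT]
        | cons q L ih' =>
          obtain ⟨w₃, e5, e6⟩ := ih _ _ e3
          rw [e6, ih' _ e5]
          simp only [evT, List.map_cons, List.prod_cons, mpev_mpmul, mpev_tins, mpev_mppow, neg_pow (mpev v b.2)]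
          simp [mev, mul_assoc]

theorem collect_spec (key : ℕ → ℕ) (f : ℕ) (w : Wd) {w' : Wd} (e : collect D p key f w = some w') :
    wd y (ev v w') = wd y (ev v w) := by
  induction w generalizing w' with
  | nil => cases e; rfl
  | cons a w ih =>
    obtain ⟨w₁, e1, e2⟩ := h.ins_spec hy p v key f _ _ e
    rw [e2, ih e1, mpev_padd, mpev_nil, add_zero]
    exact (wd_cons y (a.1, mpev v a.2) _).symm

theorem wd_eq_of_same (key : ℕ → ℕ) (f : ℕ) (w w' : Wd) (e : same D p key f w w' = true) :
    wd y (ev v w) = wd y (ev v w') := by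
  simp only [same, Bool.and_eq_true, beq_iff_eq, Option.isSome_iff_exists] at e
  obtain ⟨⟨w₁, e1⟩, e2⟩ := e
  rw [← h.collect_spec hy p v key f w e1, h.collect_spec hy p v key f w' (e2 ▸ e1)]

end Checked

end Cfsg.Agent.Chev
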