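import Cfsg.Agent.Lib.Chev.TwG2
import Cfsg.Agent.Lib.Chev.TwF4
import Cfsg.Agent.Lib.Chev.Collect
import Cfsg.Agent.Lib.Chev.Cent

set_option autoImplicit false
set_option linter.unusedSectionVars false
set_option linter.style.haveILetI false

/-! The Suzuki 2-groups and the Ree 3-groups. -/

namespace Cfsg.Agent.Chev

open Cfsg.Lie Checked

section Rigid
variable {Γ : Type*} [Group Γ] {K : Type*} [Field K] [Finite K]

theorem suz_bij {θ : K →+* K} (hθ : ∀ t, θ (θ t) ^ 2 = t) : Function.Bijective fun t => θ t * t := by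
  refine Finite.injective_iff_bijective.1 fun s t e => ?_
  beta_reduce at e
  by_cases h : t = 0
  · simpa [h] using e
  have h0 : s ≠ 0 := by rintro rfl; simp [h] at e
  have h1 := congrArg θ e
  have h2 := congrArg (fun x => θ x ^ 2) h1
  simp only [map_mul, mul_pow, hθ] at h1 h2
  have h3 := congrArg (· ^ 2) h1
  simp only [mul_pow, hθ] at h3
  have := map_ne_zero θ |>.2 h
  have : θ t ^ 2 * t * (t - s) * s = 0 := by
    linear_combination (-(θ t * t + θ s * s)) * s * e + s * s * h3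
  exact Eq.symm (by simpa [h, h0, sub_eq_zero] using this)

theorem suz_rigid [CharP K 2] {θ : K →+* K} (hθ : ∀ t, θ (θ t) ^ 2 = t) {y : K → K → Γ}
    (hi : ∀ t u u', y t u = y t u' → u = u')
    (hm : ∀ t u t' u', y t u * y t' u' = y (t + t') (u + u' + θ t * t')) {β : Γ →* Γ}
    (hβ : ∀ t u, ∃ u', β (y t u) = y t u')
    (hh : ∀ s, s ≠ 0 → ∃ h, β h = h ∧ ∀ t u, h * y t u * h⁻¹ = y (s * t) (θ s * s * u))
    (hK : ∃ a : K, a ^ 2 ≠ a) (t u : K) : β (y t u) = y t u := by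
  have h1 : ∀ c, β (y 0 c) = y 0 c := fun c => by
    obtain ⟨t, rfl⟩ := (suz_bij hθ).2 c
    obtain ⟨u', e⟩ := hβ t 0
    have : ∀ u, y 0 (θ t * t) = y t u * y t u := fun u => by simp [hm, CharTwo.add_self_eq_zero]
    rw [this 0, map_mul, e, ← this, ← this]
  choose z hz using fun t => hβ t 0
  have h2 : ∀ t u, β (y t u) = y t (z t + u) := fun t u => by
    rw [show y t u = y t 0 * y 0 u by simp [hm], map_mul, hz, h1, hm]; simp
  have h3 : ∀ t t', z (t + t') = z t + z t' := fun t t' => by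
    have := congrArg β (hm t 0 t' 0)
    rw [map_mul, hz, hz, hm, h2] at this
    linear_combination - hi _ _ _ this
  have h4 : ∀ s, z s = θ s * s * z 1 := fun s => by
    by_cases h : s = 0
    · simpa [h] using h3 0 0
    obtain ⟨h, e, e'⟩ := hh s h
    have := congrArg β (e' 1 0)
    rw [map_mul, map_mul, map_inv, e, hz, e', h2, mul_one] at this
    linear_combination - hi _ _ _ this
  suffices z 1 = 0 by rw [h2, h4, this]; simp
  by_contra h0
  obtain ⟨a, ha⟩ := hK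
  have h5 : ∀ s, θ s = s := fun s => by
    have := h3 1 s
    rw [h4, h4 s, map_add, map_one] at this
    have : (θ s + s) * z 1 = 0 := by linear_combination this
    exact CharTwo.add_eq_zero.1 ((mul_eq_zero.1 this).resolve_right h0)
  exact ha (by simpa [h5] using hθ a)

theorem ree_bij {τ : K →+* K} (hτ : ∀ t, τ (τ t) = t ^ 3) : Function.Bijective fun t => t ^ 2 * τ t := by
  refine Finite.injective_iff_bijective.1 fun s t e => ?_
  beta_reduce at e
  by_cases h : t = 0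
  · simpa [h] using e
  have h0 : s ≠ 0 := by rintro rfl; simp [h] at e
  have h1 := congrArg τ e
  simp only [map_mul, map_pow, hτ] at h1
  have := map_ne_zero τ |>.2 h
  have : τ t ^ 2 * t ^ 3 * (t - s) = 0 := by
    linear_combination (-(t ^ 2 * τ t + s ^ 2 * τ s)) * e + s * h1
  exact Eq.symm (by simpa [h, h0, sub_eq_zero] using this)

theorem ree_rigid [CharP K 3] {τ : K →+* K} (hτ : ∀ t, τ (τ t) = t ^ 3) {y : K → K → K → Γ}
    (hi : ∀ t u v u' v', y t u v = y t u' v' → u = u' ∧ v = v')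
    (hm : ∀ t u v t' u' v', y t u v * y t' u' v' =
      y (t + t') (u + u' - t * τ t') (v + v' - u * t' + t * τ t' * t' - t ^ 2 * τ t')) {β : Γ →* Γ}
    (hβ : ∀ t u v, ∃ u' v', β (y t u v) = y t u' v')
    (hh : ∀ s, s ≠ 0 → ∃ h, β h = h ∧ ∀ t u v, h * y t u v * h⁻¹ = y (s * t) (s * τ s * u) (s ^ 2 * τ s * v))
    (hK : ∃ a : K, a ^ 3 ≠ a) (t u v : K) : β (y t u v) = y t u v := by
  have c3 : (3 : K) = 0 := CharP.cast_eq_zero K 3
  have c2 : (2 : K) ≠ 0 := fun e => one_ne_zero (by linear_combination c3 - e : (1 : K) = 0)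
  have h1 : ∀ c, β (y 0 0 c) = y 0 0 c := fun c => by
    obtain ⟨t, e'⟩ := (ree_bij hτ).2 (-c)
    obtain ⟨u', v', e⟩ := hβ t 0 0
    have : ∀ u v, y 0 0 c = y t u v * y t u v * y t u v := fun u v => by
      rw [hm, hm]
      congr 1
      · linear_combination -t * c3
      · linear_combination (t * τ t - u) * c3
      · linear_combination e' + (u * t - v) * c3
    rw [this 0 0, map_mul, map_mul, e, ← this, ← this]
  obtain ⟨h, e0, e1⟩ := hh (-1) (by simp)
  have h2 : ∀ u v, β (y 0 u v) = y 0 u v := fun u v => by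
    obtain ⟨u', v', e⟩ := hβ 0 u 0
    obtain ⟨a, b, e'⟩ := hβ 1 0 0
    have := congrArg β (show y 0 u 0 * y 1 0 0 = y 1 0 0 * y 0 u 0 * y 0 0 (-u) by simp [hm])
    rw [map_mul, map_mul, map_mul, e, e', h1, hm, hm, hm] at this
    obtain rfl : u' = u := by linear_combination - (hi _ _ _ _ _ (by simpa using this)).2
    have := congrArg β (e1 0 u' 0)
    rw [map_mul, map_mul, map_inv, e0, e, e1] at this
    simp only [map_neg, map_one, mul_zero, mul_neg, neg_neg, mul_one, one_mul, e] at this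
    obtain rfl : v' = 0 := mul_left_cancel₀ c2 (by linear_combination - (hi _ _ _ _ _ this).2)
    rw [show y 0 u' v = y 0 u' 0 * y 0 0 v by simp [hm], map_mul, e, h1]
  choose a b hz using fun t => hβ t 0 0
  have h3 : ∀ t u v, β (y t u v) = y t (a t + u) (b t + v) := fun t u v => by
    rw [show y t u v = y t 0 0 * y 0 u v by simp [hm], map_mul, hz, h2, hm]; simp
  have h4 : ∀ t t', a (t + t') = a t + a t' ∧ b (t + t') = b t + b t' - a t * t' := fun t t' => by
    have := congrArg β (hm t 0 0 t' 0 0)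
    rw [map_mul, hz, hz, hm, h3] at this
    exact ⟨by linear_combination - (hi _ _ _ _ _ this).1, by linear_combination - (hi _ _ _ _ _ this).2⟩
  have h5 : ∀ s t, s ≠ 0 → a (s * t) = s * τ s * a t ∧ b (s * t) = s ^ 2 * τ s * b t := fun s t h => by
    obtain ⟨h, e, e'⟩ := hh s h
    have := congrArg β (e' t 0 0)
    rw [map_mul, map_mul, map_inv, e, hz, e', h3] at this
    exact ⟨by linear_combination - (hi _ _ _ _ _ this).1, by linear_combination - (hi _ _ _ _ _ this).2⟩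
  have h6 : ∀ t, a t = 0 := fun t => by
    have e := (h5 (-1) t (by simp)).1
    have e' := (h4 t (-1 * t)).1
    have e'' := (h4 0 0).1
    rw [show t + -1 * t = 0 by ring] at e'
    rw [add_zero] at e''
    simp only [map_neg, map_one] at e
    exact mul_left_cancel₀ c2 (by linear_combination - e' - e - e'')
  have h7 : ∀ s, b s = s ^ 2 * τ s * b 1 := fun s => by
    by_cases h : s = 0
    · simpa [h] using (h4 0 0).2
    · simpa using (h5 s 1 h).2
  suffices b 1 = 0 by rw [h3, h6, h7, this]; simp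
  by_contra h0
  obtain ⟨c, hc⟩ := hK
  have h8 : ∀ s, 2 * s + s ^ 2 + τ s + 2 * s * τ s = 0 := fun s => by
    have := (h4 1 s).2
    rw [h7, h7 s, map_add, map_one, h6] at this
    exact (mul_eq_zero.1 (by linear_combination this : _ * b 1 = 0)).resolve_right h0
  have h9 : ∀ s, τ s = s := fun s => by
    by_cases h : s = 0
    · simp [h]
    have := h8 (-s)
    rw [map_neg] at this
    exact mul_left_cancel₀ h (by linear_combination this + h8 s - (s * τ s + s ^ 2) * c3)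
  exact hc (by rw [← hτ, h9, h9])

end Rigid

section G2
variable {K : Type*} [Field K] [CharP K 3] {G : Type*} [Group G] (S : St checkedG2.toCD K G)

theorem uG2_mul (a b c d e f A B C D E F : K) : uG2 S a b c d e f * uG2 S A B C D E F =
    uG2 S (a + A) (b + B) (c + C + b * A) (d + D + 2 * c * A + b * A ^ 2) (e + E + 2 * b * A ^ 3)
      (f + F + 2 * e * B + b * A ^ 3 * B + 2 * b ^ 2 * A ^ 3) := by
  have := checkedG2.wd_eq_of_same S.rel 3 [a, b, c, d, e, f, A, B, C, D, E, F] (fun r => if r = 7 then 0 else r) 40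
    [(7, [(1, [1])]), (6, [(1, [0, 1])]), (8, [(1, [0, 0, 1])]), (9, [(1, [0, 0, 0, 1])]), (10, [(1, [0, 0, 0, 0, 1])]),
      (11, [(1, [0, 0, 0, 0, 0, 1])]), (7, [(1, [0, 0, 0, 0, 0, 0, 1])]), (6, [(1, [0, 0, 0, 0, 0, 0, 0, 1])]),
      (8, [(1, [0, 0, 0, 0, 0, 0, 0, 0, 1])]), (9, [(1, [0, 0, 0, 0, 0, 0, 0, 0, 0, 1])]),
      (10, [(1, [0, 0, 0, 0, 0, 0, 0, 0, 0, 0, 1])]), (11, [(1, [0, 0, 0, 0, 0, 0, 0, 0, 0, 0, 0, 1])])]
    [(7, [(1, [1]), (1, [0, 0, 0, 0, 0, 0, 1])]), (6, [(1, [0, 1]), (1, [0, 0, 0, 0, 0, 0, 0, 1])]),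
      (8, [(1, [0, 0, 1]), (1, [0, 0, 0, 0, 0, 0, 0, 0, 1]), (1, [0, 1, 0, 0, 0, 0, 1])]),
      (9, [(1, [0, 0, 0, 1]), (1, [0, 0, 0, 0, 0, 0, 0, 0, 0, 1]), (2, [0, 0, 1, 0, 0, 0, 1]), (1, [0, 1, 0, 0, 0, 0, 2])]),
      (10, [(1, [0, 0, 0, 0, 1]), (1, [0, 0, 0, 0, 0, 0, 0, 0, 0, 0, 1]), (2, [0, 1, 0, 0, 0, 0, 3])]),
      (11, [(1, [0, 0, 0, 0, 0, 1]), (1, [0, 0, 0, 0, 0, 0, 0, 0, 0, 0, 0, 1]), (2, [0, 0, 0, 0, 1, 0, 0, 1]),
        (1, [0, 1, 0, 0, 0, 0, 3, 1]), (2, [0, 2, 0, 0, 0, 0, 3])])] (by decide +kernel)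
  simpa [uG2, wd, Col.ev, Col.mpev, Col.mev, mul_assoc, add_assoc] using this

variable (θ : K →+* K)

/-- the elements of the Sylow 3-subgroup of the Ree group -/
def ree (t u v : K) : G := uG2 S (θ t) t (θ t * t + θ u) (θ t ^ 2 * t + θ v) u v

/-- the map `t ↦ θ(t)³` -/
def tau : K →+* K := (frobenius K 3).comp θ

theorem tau_apply (t : K) : tau θ t = θ t ^ 3 := rfl

variable {S θ}

theorem ree_inj {t u v t' u' v' : K} (h : ree S θ t u v = ree S θ t' u' v') : t = t' ∧ u = u' ∧ v = v' :=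
  have := uG2_inj h
  ⟨this.2.1, this.2.2.2.2⟩

theorem co_ree (t u v : K) : S.co (g2n 1) (ree S θ t u v) = t := (co_uG2 ..).2

theorem ree_zero : ree S θ 0 0 0 = 1 := by
  simp [ree, uG2, wd, checkedG2.xN_zero S.rel]

variable (hθ : ∀ t, θ (θ t) ^ 3 = t)
include hθ

theorem θ_tau (t : K) : θ (tau θ t) = t := by rw [tau_apply, map_pow, hθ]

theorem tau_tau (t : K) : tau θ (tau θ t) = t ^ 3 := by rw [tau_apply, θ_tau hθ]

theorem ree_mul (t u v t' u' v' : K) : ree S θ t u v * ree S θ t' u' v' = ree S θ (t + t') (u + u' - t * tau θ t')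
    (v + v' - u * t' + t * tau θ t' * t' - t ^ 2 * tau θ t') := by
  have c3 : (3 : K) = 0 := CharP.cast_eq_zero K 3
  simp only [ree, uG2_mul, map_add, map_sub, map_mul, map_pow, θ_tau hθ]
  simp only [tau_apply]
  congr 1
  · ring
  · linear_combination (θ u * θ t' - θ t * θ t' * t') * c3
  · linear_combination t * θ t' ^ 3 * c3
  · linear_combination (u * t' + t ^ 2 * θ t' ^ 3) * c3

theorem ree_conj {g : G} {a : Fin chevG2.rank → Kˣ} (h : S.IsTor g a) (ha : (a (g2n 0) : K) = θ (a (g2n 1))) (t u v : K) :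
    g * ree S θ t u v * g⁻¹ = ree S θ (a (g2n 1) * t) (a (g2n 1) * tau θ (a (g2n 1)) * u)
      (a (g2n 1) ^ 2 * tau θ (a (g2n 1)) * v) := by
  have e : ∀ r (m n : ℕ), checkedG2.toCD.rv (g2r r) (g2n 0) = m ∧ checkedG2.toCD.rv (g2r r) (g2n 1) = n →
      (RS.chi a (checkedG2.toCD.rv (g2r r)) : K) = θ (a (g2n 1)) ^ m * a (g2n 1) ^ n := fun r m n h => by
    rw [RS.chi, ← ha, ← zpow_natCast, ← zpow_natCast, ← h.1, ← h.2, ← Units.val_zpow_eq_zpow_val,
      ← Units.val_zpow_eq_zpow_val, ← Units.val_mul]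
    exact congrArg Units.val (Fin.prod_univ_two _)
  rw [ree, uG2_eq, h.conj_P]
  show uG2 S (_ * θ t) (_ * t) (_ * (θ t * t + θ u)) (_ * (θ t ^ 2 * t + θ v)) (_ * u) (_ * v) = _
  rw [e 7 1 0 (by decide +kernel), e 6 0 1 (by decide +kernel), e 8 1 1 (by decide +kernel), e 9 2 1 (by decide +kernel),
    e 10 3 1 (by decide +kernel), e 11 3 2 (by decide +kernel)]
  simp only [ree, map_mul, map_pow, θ_tau hθ]
  simp only [tau_apply]
  congr 1 <;> ring

end G2

section F4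
variable {K : Type*} [Field K] [CharP K 2] {G : Type*} [Group G] (S : St checkedF4.toCD K G)

theorem b2_mul (a b c d A B C D : K) : wd S.x [(27, a), (25, b), (28, c), (30, d)] * wd S.x [(27, A), (25, B), (28, C), (30, D)] =
    wd S.x [(27, a + A), (25, b + B), (28, c + C + b * A), (30, d + D + b * A ^ 2)] := by
  have := checkedF4.wd_eq_of_same S.rel 2 [a, b, c, d, A, B, C, D] (fun r => if r = 27 then 0 else r) 40
    [(27, [(1, [1])]), (25, [(1, [0, 1])]), (28, [(1, [0, 0, 1])]), (30, [(1, [0, 0, 0, 1])]),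
      (27, [(1, [0, 0, 0, 0, 1])]), (25, [(1, [0, 0, 0, 0, 0, 1])]), (28, [(1, [0, 0, 0, 0, 0, 0, 1])]),
      (30, [(1, [0, 0, 0, 0, 0, 0, 0, 1])])]
    [(27, [(1, [1]), (1, [0, 0, 0, 0, 1])]), (25, [(1, [0, 1]), (1, [0, 0, 0, 0, 0, 1])]),
      (28, [(1, [0, 0, 1]), (1, [0, 0, 0, 0, 0, 0, 1]), (1, [0, 1, 0, 0, 1])]),
      (30, [(1, [0, 0, 0, 1]), (1, [0, 0, 0, 0, 0, 0, 0, 1]), (1, [0, 1, 0, 0, 2])])] (by decide +kernel)
  simpa [wd, Col.ev, Col.mpev, Col.mev, mul_assoc, add_assoc] using this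

variable (θ : K →+* K)

/-- the elements of the Suzuki 2-group -/
def suz (t u : K) : G := wd S.x [(27, θ t), (25, t), (28, θ t * t + u), (30, θ u ^ 2)]

variable {S θ}

theorem suz_inj {t u t' u' : K} (h : suz S θ t u = suz S θ t' u') : t = t' ∧ u = u' := by
  obtain ⟨-, rfl, h3, -⟩ := b2_inj h
  exact ⟨rfl, add_left_cancel h3⟩

theorem co_suz (t u : K) : S.co (f4n 1) (suz S θ t u) = θ t ∧ S.co (f4n 2) (suz S θ t u) = t := by
  have h2 := fun i => St.co_P (S := S) i (rootsF4 1).1 fun r hr => (((rootsF4 1).2.1 r).1 hr).1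
  rw [suz, (b2_eq ..).1]
  exact ⟨(h2 _ _).trans (if_pos (by decide +kernel)), (h2 _ _).trans (if_pos (by decide +kernel))⟩

theorem co_pair (a b : K) : S.co (f4n 0) (wd S.x [(33, a), (24, b)]) = a ∧ S.co (f4n 3) (wd S.x [(33, a), (24, b)]) = b := by
  have h1 := fun i => St.co_P (S := S) i (rootsF4 0).1 fun r hr => (((rootsF4 0).2.1 r).1 hr).1
  rw [(pair_eq ..).1]
  exact ⟨(h1 _ _).trans (if_pos (by decide +kernel)), (h1 _ _).trans (if_pos (by decide +kernel))⟩

theorem suz_zero : suz S θ 0 0 = 1 := by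
  simp [suz, wd, checkedF4.xN_zero S.rel]

variable (hθ : ∀ t, θ (θ t) ^ 2 = t)
include hθ

theorem suz_mul (t u t' u' : K) : suz S θ t u * suz S θ t' u' = suz S θ (t + t') (u + u' + θ t * t') := by
  have c2 : (2 : K) = 0 := CharP.cast_eq_zero K 2
  simp only [suz, b2_mul, map_add, map_mul, add_pow_char _ _ 2, mul_pow, hθ]
  congr 3
  congr 2
  linear_combination - θ t * t' * c2

theorem suz_conj {g : G} {a : Fin chevF4.rank → Kˣ} (h : S.IsTor g a) (ha : (a (f4n 1) : K) = θ (a (f4n 2))) (t u : K) :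
    g * suz S θ t u * g⁻¹ = suz S θ (a (f4n 2) * t) (θ (a (f4n 2)) * a (f4n 2) * u) := by
  have e : ∀ r (m n : ℕ), checkedF4.toCD.rv (f4r r) (f4n 0) = 0 ∧ checkedF4.toCD.rv (f4r r) (f4n 1) = m ∧
      checkedF4.toCD.rv (f4r r) (f4n 2) = n ∧ checkedF4.toCD.rv (f4r r) (f4n 3) = 0 →
      (RS.chi a (checkedF4.toCD.rv (f4r r)) : K) = θ (a (f4n 2)) ^ m * a (f4n 2) ^ n := fun r m n h => by
    rw [RS.chi, ← ha, ← zpow_natCast, ← zpow_natCast, ← h.2.1, ← h.2.2.1, ← Units.val_zpow_eq_zpow_val,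
      ← Units.val_zpow_eq_zpow_val, ← Units.val_mul]
    refine congrArg Units.val ((Fin.prod_univ_four _).trans ?_)
    show a (f4n 0) ^ checkedF4.toCD.rv (f4r r) (f4n 0) * _ * _ * a (f4n 3) ^ checkedF4.toCD.rv (f4r r) (f4n 3) = _
    rw [h.1, h.2.2.2, zpow_zero, zpow_zero, one_mul, mul_one]; rfl
  rw [suz, (b2_eq ..).1, h.conj_P]
  show wd S.x [(27, _ * θ t), (25, _ * t), (28, _ * (θ t * t + u)), (30, _ * θ u ^ 2)] = _
  rw [e 27 1 0 (by decide +kernel), e 25 0 1 (by decide +kernel), e 28 1 1 (by decide +kernel), e 30 2 1 (by decide +kernel)]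
  simp only [suz, map_mul, mul_pow, hθ]
  congr 3
  · ring
  congr 2
  · ring
  congr 2
  · ring
  · congr 1; ring

end F4
end Cfsg.Agent.Chev
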