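import Cfsg.Agent.Lib.Chev.AutOrb
import Cfsg.Agent.Lib.Chev.ReeU

set_option autoImplicit false
set_option linter.unusedSectionVars false
set_option linter.style.haveILetI false

/-! Automorphisms of the Ree groups. -/

namespace Cfsg.Agent.Chev

open Cfsg.Lie Checked

variable {I R : Type} [Fintype I] [DecidableEq I] [Fintype R] [DecidableEq R]

namespace St.Tw
variable {Φ : CD I R} {F : Type*} [Field F] {G : Type*} [Group G] {S : St Φ F G} (T : S.Tw)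

theorem tor_mem_tfix {h : G} (e : T.σ h = h) {b : I → Fˣ} (hb : S.IsTor h b) : b ∈ T.tfix := fun i => by
  have := congrArg T.σ (hb.2 (Φ.sim i) 1)
  rw [map_mul, map_mul, map_inv, e, T.σ_x, T.σ_x, hb.2, T.ρ.sim] at this
  simpa [co_x, T.τ_sim, RS.rv_sim, RS.chi_single, Units.ext_iff] using congrArg (S.co (T.ρ.ρI i)) this

theorem co_eq_of {K : Type} (o : T.ρ.Orb K) {i j : I} (h : o.κ i = o.κ j) {u v : G} (hu : u ∈ S.U) (e : T.σ u = u)
    (hv : v ∈ S.U) (e' : T.σ v = v) (h' : S.co i u = S.co i v) : S.co j u = S.co j v := by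
  obtain ⟨n, rfl⟩ := o.cyc i j h
  clear h
  induction n with
  | zero => exact h'
  | succ n ih => rw [Function.iterate_succ_apply', ← e, ← e', T.co_σ _ hu, T.co_σ _ hv, ih]

theorem exists_tor_tfix [Finite F] {Γ : Type*} [Group Γ] {ι : Γ →* G} (hX : ∀ g ∈ ι.range, T.σ g = g) (hm : S.HMul)
    (hz : Function.Injective (zmap Fˣ Φ.cm)) (h : ∀ c ∈ T.tfix, hm.hT c ∈ ι.range) {b : I → Fˣ} (hb : b ∈ T.tfix) :
    ∃ h, ι h ∈ S.H ∧ S.IsTor (ι h) b := by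
  obtain ⟨⟨c, hc⟩, e⟩ := (Finite.injective_iff_surjective (f := fun c : T.tfix => (⟨zmap Fˣ Φ.cm c,
    T.tor_mem_tfix (hX _ (h _ c.2)) (hm.isTor_hT c)⟩ : T.tfix))).1
    (fun a b e => Subtype.ext (hz (congrArg Subtype.val e))) ⟨b, hb⟩
  obtain ⟨g, hg⟩ := h c hc
  obtain rfl : zmap Fˣ Φ.cm c = b := congrArg Subtype.val e
  exact ⟨g, hg ▸ hm.hT_mem c, hg ▸ hm.isTor_hT c⟩

end St.Tw

theorem Checked.card_out_ree {D : ChevalleyDatum} {c : Cert} (h : Checked D c) {K : Type*} [Field K] [Finite K]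
    {T : (h.adj K).Tw} {n : Type} {o : T.ρ.Orb n} {Γ : Type*} [Group Γ] {ι : Γ →* D.group K}
    (hX : T.Sub o ι.range) (hι : Function.Injective ι)
    (hG : ∀ Z : Subgroup Γ, (h.adj K).U.comap ι ≤ Z → (h.adj K).V.comap ι ≤ Z → Z = ⊤)
    (rep : n → Fin D.rank) (hrep : ∀ k, o.κ (rep k) = k) (m : n → ℕ) (k₀ : n)
    (hy : ∀ k t, ∃ x, ι x ∈ (h.adj K).UL (o.J k) ∧ (h.adj K).co (rep k) (ι x) = t)
    (hm : ∀ k x, ι x ∈ (h.adj K).UL (o.J k) → ((h.adj K).co (rep k) (ι x) = 0 ↔ x ^ m k = 1))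
    (htf : ∀ a : n → Kˣ, ∃ d ∈ T.tfix, ∀ k, d (rep k) = a k)
    (htor : ∀ b ∈ T.tfix, ∃ g, ι g ∈ (h.adj K).H ∧ (h.adj K).IsTor (ι g) b)
    (hc : ∀ k k', Nat.card (((h.adj K).UL (o.J k)).comap ι) = Nat.card (((h.adj K).UL (o.J k')).comap ι) → k = k')
    (hl : ∀ k, k = k₀ ∨ h.toCD.rv (h.toCD.w0 (o.J k) • h.toCD.sim (rep k₀)) =
      h.toCD.rv (h.toCD.sim (rep k₀)) + h.toCD.rv (h.toCD.sim (rep k)))
    (hr : ∀ β : Γ →* Γ, (∀ g, ι g ∈ (h.adj K).H → β g = g) → ∀ k, (∀ x, ι x ∈ (h.adj K).UL (o.J k) →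
      ι (β x) ∈ (h.adj K).UL (o.J k) ∧ (h.adj K).co (rep k) (ι (β x)) = (h.adj K).co (rep k) (ι x)) →
      ∀ x, ι x ∈ (h.adj K).UL (o.J k) → β x = x) :
    Nat.card (Out Γ) * Nat.card ((h.adj K).H.comap ι) = Nat.card T.tfix * Nat.card (K ≃+* K) := by
  have h1 : ∀ i, ∃ u, ι u ∈ (h.adj K).UL (o.J (o.κ i)) ∧ (h.adj K).co i (ι u) = 1 := fun i => by
    obtain ⟨x, hx, e⟩ := hy (o.κ i) 1
    obtain ⟨n, e'⟩ := o.cyc _ _ (hrep (o.κ i))
    refine ⟨x, hx, ?_⟩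
    rw [← e']
    clear e'
    induction n with
    | zero => exact e
    | succ n ih => rw [Function.iterate_succ_apply', ← hX.fix _ ⟨x, rfl⟩, T.co_σ _ (St.UL_le_U _ hx), ih, map_one]
  have hp : ∀ α ∈ (h.adj K).A0 ι, (∀ k g, ι (α g) ∈ (h.adj K).UL (o.J k) ↔ ι g ∈ (h.adj K).UL (o.J k)) ∧
      ∀ k m, ι m ∈ (h.adj K).N → (h.adj K).Acts (ι m) (h.toCD.w0 (o.J k)) →
        ι (α m) ∈ (h.adj K).N ∧ (h.adj K).Acts (ι (α m)) (h.toCD.w0 (o.J k)) := fun α hα => by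
    obtain ⟨π, a1, -, a3⟩ := hX.exists_perm hι hα
    obtain rfl : π = 1 := Equiv.ext fun k =>
      (hc _ _ (Nat.card_congr (α.toEquiv.subtypeEquiv fun g => (a1 k g).symm))).symm
    exact ⟨a1, a3⟩
  refine h.card_out_tw hX hι hG (fun i => (h1 i).imp fun u hu => ⟨St.UL_le_U _ hu.1, hu.2⟩)
    ⟨rep k₀, fun t => (hy k₀ t).imp fun u hu => ⟨St.UL_le_U _ hu.1, hu.2⟩⟩ fun α hα => ?_
  obtain ⟨a1, a3⟩ := hp α hα
  have htor' : ∀ a : n → Kˣ, ∃ g b, ι g ∈ (h.adj K).H ∧ (h.adj K).IsTor (ι g) b ∧ ∀ k, b (rep k) = a k := fun a => by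
    obtain ⟨d, hd, e⟩ := htf a
    obtain ⟨g, hg, e'⟩ := htor d hd
    exact ⟨g, d, hg, e', e⟩
  choose a g h4 h5 using fun k => hX.exists_coord hι hα (A := {r | h.toCD.Pos r ∧ h.toCD.InJ (o.J k) r})
    (fun _ h => h.1) (i := rep k) (i' := rep k) (RingHom.id K) (hy k) (fun x hx => by
      rw [hm k x hx, hm k _ ((a1 k x).2 hx), ← map_pow, map_eq_one_iff _ α.injective]) fun c hc => by
      obtain ⟨g, b, h1, h2, h3⟩ := htor' fun _ => Units.mk0 c hc ^ 2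
      exact ⟨g, b, h1, h2, by rw [h3]; rfl⟩
  have h6 : ∀ k, g k = g k₀ := fun k => (hl k).elim (congrArg g) fun e => RingHom.ext fun t => by
    by_cases ht : t = 0
    · simp [ht]
    obtain ⟨g', b, h1, h2, h3⟩ := htor' fun _ => Units.mk0 t ht
    obtain ⟨b', hb'⟩ := St.exists_isTor (hX.map_H hι hα h1)
    obtain ⟨h', b1, b2, b3⟩ := hX.tor_conj hι a3 hα k h1 h2 hb'
    have b4 := h5 k₀ h' _ _ b1 b2 b3 (t * t) (by
      simp only [e, RS.chi_add, RS.rv_sim, RS.chi_single, zpow_one, h3]; rfl)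
    simp only [e, RS.chi_add, RS.rv_sim, RS.chi_single, zpow_one, map_mul, Units.val_mul] at b4
    rw [← h5 k₀ g' _ _ h1 h2 hb' t (by rw [h3]; rfl), ← h5 k g' _ _ h1 h2 hb' t (by rw [h3]; rfl)] at b4
    exact (mul_left_cancel₀ ((map_ne_zero _).2 ht) b4).symm
  obtain ⟨d, hd, e⟩ := htf a
  refine ⟨d, hd, RingEquiv.ofBijective (g k₀) (Finite.injective_iff_bijective.1 (g k₀).injective), fun β hβ e' k => ?_⟩
  have h7 : ∀ k x, ι x ∈ (h.adj K).UL (o.J k) → ι (β x) ∈ (h.adj K).UL (o.J k) ∧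
      (h.adj K).co (rep k) (ι (β x)) = (h.adj K).co (rep k) (ι x) := fun k x hx => by
    have hx' := ((hp β hβ).1 k x).2 hx
    have := h4 k _ _ hx' rfl
    rw [e', h.co_df _ _ _ (St.UL_le_U _ hx), e, h6 k] at this
    exact ⟨hx', ((g k₀).injective (mul_left_cancel₀ (a k).ne_zero this)).symm⟩
  refine hr β (fun y hy => hι ?_) k (h7 k)
  obtain ⟨b, hb⟩ := St.exists_isTor hy
  obtain ⟨b', hb'⟩ := St.exists_isTor (hX.map_H hι hβ hy)
  obtain rfl : b = b' := funext fun i => by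
    obtain ⟨u, hu, e⟩ := h1 i
    have h8 : ∀ x, ι x ∈ (h.adj K).UL (o.J (o.κ i)) → (h.adj K).co i (ι (β x)) = (h.adj K).co i (ι x) := fun x hx =>
      T.co_eq_of o (hrep _) (St.UL_le_U _ (h7 _ x hx).1) (hX.fix _ ⟨_, rfl⟩) (St.UL_le_U _ hx) (hX.fix _ ⟨_, rfl⟩)
        (h7 _ x hx).2
    have := h8 (y * u * y⁻¹) (by rw [map_mul, map_mul, map_inv]; exact St.conj_H_Ux hy hu)
    simp only [map_mul, map_inv] at this
    rw [St.co_conj hb hy _ (St.UL_le_U _ hu), St.co_conj hb' (hX.map_H hι hβ hy) _ (St.UL_le_U _ (h7 _ u hu).1),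
      h8 u hu, e, mul_one, mul_one] at this
    exact Units.ext this.symm
  exact hb'.eq_of_inj h.adj_inj hb

theorem exists_pow_ne {K : Type*} [Field K] [Fintype K] {n : ℕ} (h1 : 1 < n) (h : n < Fintype.card K) :
    ∃ a : K, a ^ n ≠ a := by
  obtain ⟨c, hc⟩ := exists_pow_ne_one (K := K) (d := n - 1) (by omega) (by omega)
  refine ⟨c, fun e => hc (mul_right_cancel (b := c) ?_)⟩
  rw [← pow_succ, one_mul, Nat.sub_add_cancel h1.le]
  exact Units.ext e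

variable {K : Type*} [Field K] [Fintype K] {θ : K →+* K} {e : ℕ} (hf : ∀ t, θ t = t ^ e)
include hf

theorem exists_ree [CharP K 3] (hθ : ∀ t, θ (θ t) ^ 3 = t) : ∃ y : K → K → K → chevG2.genSubgroup K (g2Words K e),
    (∀ t u v, checkedG2.inc (g2Words K e) (y t u v) = ree (checkedG2.adj K) θ t u v) ∧
    ∀ x, checkedG2.inc (g2Words K e) x ∈ (checkedG2.adj K).U ↔ ∃ t u v, x = y t u v := by
  have hσ := fun u => fix_uG2 (u := u) (exists_2G2 θ).choose_spec hθ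
  choose y hy using fun t u v => (sub_2G2 hf hθ).mem_of_U ((hσ _).2 ⟨t, u, v, rfl⟩).1 ((hσ _).2 ⟨t, u, v, rfl⟩).2
  refine ⟨y, hy, fun x => ⟨fun hx => ?_, ?_⟩⟩
  · obtain ⟨t, u, v, e⟩ := (hσ _).1 ⟨hx, (sub_2G2 hf hθ).fix _ ⟨x, rfl⟩⟩
    exact ⟨t, u, v, checkedG2.inc_inj _ (e.trans (hy t u v).symm)⟩
  · rintro ⟨t, u, v, rfl⟩
    rw [hy]; exact uG2_mem _ _ _ _ _ _

theorem tor_2G2 [CharP K 3] (hθ : ∀ t, θ (θ t) ^ 3 = t) (h4 : Fintype.card K % 4 = 3) (s : Kˣ) :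
    ∃ g b, checkedG2.inc (g2Words K e) g ∈ (checkedG2.adj K).H ∧
      (checkedG2.adj K).IsTor (checkedG2.inc (g2Words K e) g) b ∧ (b (g2n 0) : K) = θ (b (g2n 1)) ∧ b (g2n 1) = s := by
  obtain ⟨g, h1, h2⟩ := (twG2 θ).exists_tor_tfix (sub_2G2 hf hθ).fix _ (zmap_inj cm_inv_G2) (fun _ => hT_mem_2G2 hf hθ h4)
    ((tfix_2G2 hθ (c := ![Units.map (θ : K →* K) s, s])).2 rfl)
  exact ⟨g, _, h1, h2, rfl, rfl⟩

theorem card_out_2G2 [CharP K 3] (hθ : ∀ t, θ (θ t) ^ 3 = t) (h4 : Fintype.card K % 4 = 3) (h3 : 3 < Fintype.card K) :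
    Nat.card (Out (twistedG2 K e)) = Nat.card (K ≃+* K) := by
  have hι := checkedG2.inc_inj (K := K) (g2Words K e)
  obtain ⟨y, hy, hy'⟩ := exists_ree hf hθ
  have c3 : (3 : K) = 0 := CharP.cast_eq_zero K 3
  have hU : ∀ k, (checkedG2.adj K).UL (orbG2.J k) = (checkedG2.adj K).U := fun k => by
    rw [orbG2_J, ← St.Uw_w0_eq, St.Uw_w0]
  have hm := fun t u v t' u' v' => hι ((map_mul _ (y t u v) (y t' u' v')).trans
    ((congrArg₂ _ (hy ..) (hy ..)).trans ((ree_mul hθ ..).trans (hy ..).symm)))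
  have hi : ∀ {t u v t' u' v'}, y t u v = y t' u' v' → _ := fun h => ree_inj ((hy ..).symm.trans ((congrArg _ h).trans (hy ..)))
  have := checkedG2.card_out_ree (sub_2G2 hf hθ) hι (gen_2G2 hf hθ) (fun _ => g2n 1) (fun _ => Subsingleton.elim _ _)
    (fun _ => 3) 0 (fun k t => ⟨y t 0 0, hU k ▸ (hy' _).2 ⟨_, _, _, rfl⟩, by rw [hy, co_ree]⟩) (fun k x hx => ?_)
    (fun a => ⟨![Units.map (θ : K →* K) (a 0), a 0], (tfix_2G2 hθ).2 rfl, fun k => congrArg a (Subsingleton.elim _ _)⟩)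
    (fun b => (twG2 θ).exists_tor_tfix (sub_2G2 hf hθ).fix _ (zmap_inj cm_inv_G2) fun _ => hT_mem_2G2 hf hθ h4)
    (fun _ _ _ => Subsingleton.elim _ _) (fun _ => .inl (Subsingleton.elim _ _)) fun β h1 k h2 x hx => ?_
  · rw [card_H_2G2 hf hθ h4, card_tfix_2G2 hθ, mul_comm] at this
    exact Nat.eq_of_mul_eq_mul_left (by omega) this
  · obtain ⟨t, u, v, rfl⟩ := (hy' x).1 (hU k ▸ hx)
    have h0 : y 0 0 0 = 1 := hι (by rw [hy, ree_zero, map_one])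
    rw [hy, co_ree, pow_three', hm, hm, ← h0]
    refine ⟨fun e => ?_, fun e => ?_⟩
    · subst e
      congr 1
      · simp
      · linear_combination (norm := (simp; ring)) u * c3
      · linear_combination (norm := (simp; ring)) v * c3
    · have e := (hi e).2.2
      exact (ree_bij (tau_tau hθ)).1 (by beta_reduce; linear_combination - e + (v - u * t) * c3)
  · obtain ⟨t, u, v, rfl⟩ := (hy' x).1 (hU k ▸ hx)
    refine ree_rigid (y := y) (tau_tau hθ) (fun _ _ _ _ _ h => (hi h).2) hm (fun t u v => ?_) (fun s hs => ?_)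
      (exists_pow_ne (by omega) h3) t u v
    · obtain ⟨h3, h4⟩ := h2 (y t u v) (hU k ▸ (hy' _).2 ⟨_, _, _, rfl⟩)
      obtain ⟨t', u', v', e⟩ := (hy' _).1 (hU k ▸ h3)
      rw [e, hy, hy, co_ree, co_ree] at h4
      exact ⟨u', v', h4 ▸ e⟩
    · obtain ⟨g, b, a1, a2, a3, a4⟩ := tor_2G2 hf hθ h4 (Units.mk0 s hs)
      refine ⟨g, h1 g a1, fun t u v => hι ?_⟩
      rw [map_mul, map_mul, map_inv, hy, hy, ree_conj hθ a2 a3, a4]; rfl

theorem card_out_2F4 [CharP K 2] (hθ : ∀ t, θ (θ t) ^ 2 = t) (h3 : 2 < Fintype.card K) :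
    Nat.card (Out (twistedF4 K e)) = Nat.card (K ≃+* K) := by
  have hι := checkedF4.inc_inj (K := K) (f4Words K e)
  have hX := sub_2F4 hf hθ
  choose y hy using fun t u => (mem_2F4 hf t u).2.2.1
  choose z hz using fun t => (mem_2F4 hf t 0).1
  have hy' : ∀ x, checkedF4.inc (f4Words K e) x ∈ (checkedF4.adj K).UL (orbF4.J 1) → ∃ t u, x = y t u := fun x hx => by
    obtain ⟨p, e⟩ := (fix_b2 (exists_2F4 θ).choose_spec hθ).1 ⟨hx, hX.fix _ ⟨x, rfl⟩⟩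
    exact ⟨p.1, p.2, hι (e.symm.trans (hy ..).symm)⟩
  have hz' : ∀ x, checkedF4.inc (f4Words K e) x ∈ (checkedF4.adj K).UL (orbF4.J 0) → ∃ t, x = z t := fun x hx => by
    obtain ⟨t, e⟩ := (fix_pair (exists_2F4 θ).choose_spec hθ).1 ⟨hx, hX.fix _ ⟨x, rfl⟩⟩
    exact ⟨t, hι (e.symm.trans (hz ..).symm)⟩
  replace hy : ∀ t u, checkedF4.inc (f4Words K e) (y t u) = suz (checkedF4.adj K) θ t u := hy
  have hm := fun t u t' u' => hι ((map_mul _ (y t u) (y t' u')).trans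
    ((congrArg₂ _ (hy ..) (hy ..)).trans ((suz_mul hθ ..).trans (hy ..).symm)))
  have hi : ∀ {t u t' u'}, y t u = y t' u' → _ := fun h => suz_inj ((hy ..).symm.trans ((congrArg _ h).trans (hy ..)))
  have ht := fun b => (twF4 θ).exists_tor_tfix (b := b) hX.fix _ (zmap_inj cm_inv_F4) fun _ => hT_mem_2F4 hf hθ
  have := checkedF4.card_out_ree hX hι (gen_2F4 hf) ![f4n 3, f4n 2] (Fin.forall_fin_two.2 ⟨rfl, rfl⟩) ![1, 2] 1
    (Fin.forall_fin_two.2 ⟨fun t => ⟨z t, hz t ▸ (pair_mem ..).1, hz t ▸ (co_pair ..).2⟩,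
      fun t => ⟨y t 0, hy t 0 ▸ (b2_mem ..).1, hy t 0 ▸ (co_suz ..).2⟩⟩)
    (Fin.forall_fin_two.2 ⟨fun x hx => ?_, fun x hx => ?_⟩)
    (fun a => ⟨![Units.map (θ : K →* K) (a 0), Units.map (θ : K →* K) (a 1), a 1, a 0], (tfix_2F4 hθ).2 ⟨rfl, rfl⟩,
      Fin.forall_fin_two.2 ⟨rfl, rfl⟩⟩) ht (fun k k' h => ?_)
    (Fin.forall_fin_two.2 ⟨.inr (by rw [w0_2F4]; decide +kernel), .inl rfl⟩)
    fun β h1 => Fin.forall_fin_two.2 ⟨fun h2 x hx => ?_, fun h2 x hx => ?_⟩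
  · rw [card_H_2F4 hf hθ, card_tfix_2F4 hθ, mul_comm] at this
    exact Nat.eq_of_mul_eq_mul_left (pow_pos (by omega) _) this
  · obtain ⟨t, rfl⟩ := hz' x hx
    refine ((congrArg _ (hz t)).trans (co_pair ..).2).congr_left.trans ⟨fun e => ?_, fun e => ?_⟩
    · exact (pow_one _).trans (hι (by simp [hz, e, wd, checkedF4.xN_zero (checkedF4.adj K).rel]))
    · have := (co_pair (S := checkedF4.adj K) (θ t) t).2
      rwa [← hz, (pow_one _).symm.trans e, map_one, St.co_one, eq_comm] at this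
  · obtain ⟨t, u, rfl⟩ := hy' x hx
    have h0 : y 0 0 = 1 := hι (by rw [hy, suz_zero, map_one])
    refine ((congrArg _ (hy t u)).trans (co_suz ..).2).congr_left.trans ?_
    show _ ↔ _ ^ 2 = _
    rw [pow_two, hm, ← h0, CharTwo.add_self_eq_zero, CharTwo.add_self_eq_zero, zero_add]
    exact ⟨fun e => by simp [e], fun e => by simpa using (hi e).2⟩
  · have h1 := card_UL_2F4 hf hθ k
    rw [h, card_UL_2F4 hf hθ k'] at h1
    have h2 := Nat.pow_right_injective h3.le h1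
    have : ∀ k, len checkedF4.toCD.s (checkedF4.toCD.w0 (orbF4.J k)) = ![2, 4] k := fun k => by
      rw [← RS.card_invSet, w0_2F4]; revert k; decide +kernel
    rw [this, this] at h2
    clear h h1
    revert k k'; decide
  · obtain ⟨h3, h4⟩ := h2 x hx
    obtain ⟨t, rfl⟩ := hz' x hx
    obtain ⟨t', e⟩ := hz' _ h3
    rw [e, hz, hz] at h4
    rw [e, ((co_pair ..).2.symm.trans h4).trans (co_pair ..).2]
  · obtain ⟨t, u, rfl⟩ := hy' x hx
    refine suz_rigid (y := y) hθ (fun _ _ _ h => (hi h).2) hm (fun t u => ?_) (fun s hs => ?_) (exists_pow_ne (by omega) h3) t u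
    · obtain ⟨h3, h4⟩ := h2 (y t u) (hy t u ▸ (b2_mem ..).1)
      obtain ⟨t', u', e⟩ := hy' _ h3
      rw [e, hy, hy] at h4
      exact ⟨u', ((co_suz ..).2.symm.trans h4).trans (co_suz ..).2 ▸ e⟩
    · obtain ⟨g, a1, a2⟩ := ht ![1, Units.map (θ : K →* K) (Units.mk0 s hs), Units.mk0 s hs, 1]
        ((tfix_2F4 hθ).2 ⟨(map_one _).symm, rfl⟩)
      refine ⟨g, h1 g a1, fun t u => hι ?_⟩
      rw [map_mul, map_mul, map_inv, hy, hy, suz_conj hθ a2 rfl]; rfl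

end Cfsg.Agent.Chev
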