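import Cfsg.Agent.Lib.Chev.Twist

set_option autoImplicit false
set_option linter.unusedSectionVars false
set_option linter.style.haveILetI false

/-! The BN-pair, order and simplicity of twisted groups. -/

namespace Cfsg.Agent.Chev

open scoped commutatorElement

variable {I R : Type} [Fintype I] [DecidableEq I] [Fintype R] [DecidableEq R]

theorem mem_of_fpf {G : Type*} [Group G] {A Y : Subgroup G} [Finite A] {g : G}
    (hg : ∀ a ∈ A, g * a * g⁻¹ ∈ A) (hY : ∀ a ∈ A, ⁅a, g⁆ ∈ Y) (hf : ∀ a ∈ A, g * a * g⁻¹ = a → a = 1) : A ≤ Y := by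
  have : Function.Injective fun a : A => (⟨a⁻¹ * (g * a * g⁻¹), mul_mem (inv_mem a.2) (hg a a.2)⟩ : A) := by
    rintro ⟨a, ha⟩ ⟨b, hb⟩ e
    replace e : a⁻¹ * (g * a * g⁻¹) = b⁻¹ * (g * b * g⁻¹) := congrArg Subtype.val e
    have := hf _ (mul_mem ha (inv_mem hb)) (by
      calc _ = a * (a⁻¹ * (g * a * g⁻¹)) * (g * b * g⁻¹)⁻¹ := by group
        _ = _ := by rw [e]; group)
    exact Subtype.ext (mul_inv_eq_one.1 this)
  intro a ha
  obtain ⟨⟨b, hb⟩, e⟩ := Finite.surjective_of_injective this ⟨a, ha⟩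
  have := hY _ (inv_mem hb)
  rw [← show b⁻¹ * (g * b * g⁻¹) = a from congrArg Subtype.val e]
  simpa [commutatorElement_def, mul_assoc] using this

namespace St
variable {Φ : CD I R} {F : Type*} [Field F] {G : Type*} [Group G] {S : St Φ F G}

theorem IsTor.eq_one_of_fix {g : G} {a : I → Fˣ} (h : S.IsTor g a) {f : I → ℤ} {A : Set R} (hA : Φ.Unip f A)
    (ha : ∀ r ∈ A, RS.chi a (Φ.rv r) ≠ 1) {u : G} (hu : u ∈ S.Ux A) (e : g * u * g⁻¹ = u) : u = 1 := by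
  obtain ⟨L, hL, hL'⟩ := exists_list A
  obtain ⟨t, rfl⟩ := exists_P hA hL hL' hu
  have e2 : ∀ L : List R, g * S.P L t * g⁻¹ = S.P L fun r => RS.chi a (Φ.rv r) * t r := by
    intro L
    induction L with
    | nil => simp
    | cons r L ih => rw [P_cons, P_cons, ← ih, ← h.2]; group
  rw [e2] at e
  refine P_zero fun r hr => ?_
  have := P_inj hA hL (fun r hr => (hL' r).1 hr) e r hr
  by_contra h0
  exact ha r ((hL' r).1 hr) (Units.ext (mul_left_eq_self₀.1 this |>.resolve_right h0))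

theorem finite_Ux [Finite F] {f : I → ℤ} {A : Set R} (hA : Φ.Unip f A) : Finite (S.Ux A) :=
  Nat.finite_of_card_ne_zero (by rw [card_Ux hA]; exact pow_ne_zero _ Nat.card_pos.ne')

namespace Tw.Sub
variable {T : S.Tw} {K : Type} {o : T.ρ.Orb K} {Γ : Type*} [Group Γ] {ι : Γ →* G} (hX : T.Sub o ι.range)
  (hι : Function.Injective ι)
include hX

theorem exists_n' {w : Φ.W} (hw : w ∈ T.ρ.W1) : ∃ m : Γ, ι m ∈ S.N ∧ S.Acts (ι m) w := by
  obtain ⟨_, ⟨m, rfl⟩, h⟩ := hX.exists_of_W1 hw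
  exact ⟨m, h⟩

/-- representatives of the elements of the Weyl group -/
noncomputable def nw (w : T.ρ.W1) : Γ := (hX.exists_n' w.2).choose

theorem nw_mem (w : T.ρ.W1) : ι (hX.nw w) ∈ S.N := (hX.exists_n' w.2).choose_spec.1
theorem nw_acts (w : T.ρ.W1) : S.Acts (ι (hX.nw w)) w := (hX.exists_n' w.2).choose_spec.2

/-- the map to the Weyl group -/
noncomputable def π : S.N.comap ι →* T.ρ.W1 :=
  (S.π.comp (ι.subgroupComap S.N)).codRestrict _ fun m => hX.acts_mem (ι.subgroupComap S.N m).2 ⟨m, rfl⟩ (acts_π _)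

theorem π_eq {m : S.N.comap ι} {w : T.ρ.W1} (h : S.Acts (ι m) w) : hX.π m = w :=
  Subtype.ext (St.π_eq (m := ι.subgroupComap S.N m) h)

theorem acts_π (m : S.N.comap ι) : S.Acts (ι m) (hX.π m) := St.acts_π (ι.subgroupComap S.N m)

theorem π_surj : Function.Surjective hX.π := fun w => ⟨⟨_, hX.nw_mem w⟩, hX.π_eq (hX.nw_acts w)⟩

theorem π_ker : hX.π.ker = (S.H.comap ι).subgroupOf (S.N.comap ι) := by
  ext m
  refine ⟨fun h => mem_H_of_acts m.2 ?_, fun h => hX.π_eq (acts_of_mem_H h)⟩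
  have := hX.acts_π m
  rwa [MonoidHom.mem_ker.1 h] at this

include hι

theorem bruhat' (g : Γ) : ∃ w : T.ρ.W1, ∀ m : Γ, ι m ∈ S.N → S.Acts (ι m) w →
    ∃ b, ι b ∈ S.B ∧ ∃ u, ι u ∈ S.Uw w ∧ g = b * m * u := by
  obtain ⟨w, hw, h⟩ := hX.bruhat (g := ι g) ⟨g, rfl⟩
  refine ⟨⟨w, hw⟩, fun m h1 h2 => ?_⟩
  obtain ⟨_, h3, _, h4, ⟨b, rfl⟩, ⟨u, rfl⟩, e⟩ := h _ ⟨m, rfl⟩ h1 h2
  exact ⟨b, h3, u, h4, hι (by simpa using e)⟩

theorem cell' {m g : Γ} (hm : ι m ∈ S.N) {b b' : G} (hb : b ∈ S.B) (hb' : b' ∈ S.B) (e : ι g = b * ι m * b') :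
    g ∈ DoubleCoset.doubleCoset m (S.B.comap ι : Set Γ) (S.B.comap ι) := by
  obtain ⟨w, hw⟩ := exists_acts hm
  obtain ⟨_, h1, _, h2, ⟨c, rfl⟩, ⟨u, rfl⟩, e2⟩ := hX.cell hm ⟨m, rfl⟩ hw hb hb' ⟨g, e⟩
  exact DoubleCoset.mem_doubleCoset.2 ⟨c, h1, u, U_le_B (Uw_le_U _ h2), hι (by rw [e, e2]; simp)⟩

/-- the BN-pair -/
noncomputable def bn : BNPair Γ where
  B := S.B.comap ι
  N := S.N.comap ι
  S := Set.range fun k => hX.nw (o.t k)
  sup_eq_top := by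
    rw [eq_top_iff]
    intro g _
    obtain ⟨w, h⟩ := hX.bruhat' hι g
    obtain ⟨b, h1, u, h2, rfl⟩ := h _ (hX.nw_mem w) (hX.nw_acts w)
    exact mul_mem (Subgroup.mul_mem_sup h1 (hX.nw_mem w)) (Subgroup.mem_sup_left (U_le_B (Uw_le_U _ h2)))
  conj_mem m hm t ht := by
    simpa using H_le_B (conj_mem_H hm (show ι t ∈ S.H by rw [← B_inf_N]; exact ht))
  subset := by rintro _ ⟨k, rfl⟩; exact hX.nw_mem _
  sq_mem := by
    rintro _ ⟨k, rfl⟩
    have := (hX.nw_acts (o.t k)).mul (hX.nw_acts (o.t k))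
    rw [← Subgroup.coe_mul, o.invGen.sq, ← map_mul] at this
    exact H_le_B (mem_H_of_acts (by simpa using mul_mem (hX.nw_mem _) (hX.nw_mem _)) this)
  inj := by
    rintro _ ⟨i, rfl⟩ _ ⟨j, rfl⟩ h
    have := ((hX.nw_acts (o.t i)).inv.mul (hX.nw_acts (o.t j))).unique
      (acts_one_of_mem_B (mul_mem (inv_mem (hX.nw_mem _)) (hX.nw_mem _)) (by simpa using h))
    rw [o.t_inj (Subtype.ext (inv_mul_eq_one.1 this))]
  closure_sup := by
    refine le_antisymm (sup_le ((Subgroup.closure_le _).2 ?_) inf_le_right) fun m hm => ?_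
    · rintro _ ⟨k, rfl⟩; exact hX.nw_mem _
    · obtain ⟨ω, e⟩ := o.invGen.gen (hX.π ⟨m, hm⟩)
      have key : ∀ ω : List K, wp (fun k => hX.nw (o.t k)) ω ∈ Subgroup.closure (Set.range fun k => hX.nw (o.t k)) ∧
          ι (wp (fun k => hX.nw (o.t k)) ω) ∈ S.N ∧ S.Acts (ι (wp (fun k => hX.nw (o.t k)) ω)) (wp o.t ω : T.ρ.W1) := by
        intro ω
        induction ω with
        | nil => simpa using acts_one
        | cons k ω ih =>
          rw [wp_cons, wp_cons, map_mul]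
          exact ⟨mul_mem (Subgroup.subset_closure ⟨k, rfl⟩) ih.1, mul_mem (hX.nw_mem _) ih.2.1,
            (hX.nw_acts _).mul ih.2.2⟩
      obtain ⟨h1, h2, h3⟩ := key ω
      have h4 := inv_mul_mem_H h2 hm h3 (e ▸ hX.acts_π ⟨m, hm⟩)
      rw [← B_inf_N, ← map_inv, ← map_mul] at h4
      simpa using Subgroup.mul_mem_sup h1 (show _ ∈ S.B.comap ι ⊓ S.N.comap ι from h4)
  mul_mem_union := by
    rintro _ ⟨k, rfl⟩ m hm b hb
    obtain ⟨m', ⟨h1, v, hv, h2⟩, b₁, h3, b₂, h4, e⟩ :=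
      mul_cell (J := o.J k) ⟨hX.nw_mem (o.t k), _, RS.w0_mem _, hX.nw_acts _⟩ hm hb
    have h5 := hX.acts_π ⟨m, hm⟩
    have h6 := T.mem_W1 h3 (mul_mem h1 hm) (h2.mul h5) h4 (by
      rw [← e, ← map_mul, ← map_mul]; exact hX.fix _ ⟨_, rfl⟩)
    rcases o.eq_of_mem ((Subgroup.mul_mem_cancel_right _ (hX.π ⟨m, hm⟩).2).1 h6) hv with rfl | rfl
    · exact Or.inr (hX.cell' hι hm (mul_mem h3 (H_le_B (mem_H_of_acts h1 h2))) h4 (by simp only [map_mul, e]; group))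
    · refine Or.inl (hX.cell' hι (by simpa using mul_mem (hX.nw_mem _) hm) (mul_mem h3 (H_le_B
        (mul_inv_mem_H h1 (hX.nw_mem (o.t k)) h2 (hX.nw_acts _)))) h4 ?_)
      simp only [map_mul, e]; group
  conj_ne := by
    rintro _ ⟨k, rfl⟩ h
    obtain ⟨_, ⟨v, rfl⟩, h1, h2⟩ := hX.VL k
    have ha := hX.nw_acts (o.t k)
    have hn := hX.nw_mem (o.t k)
    simp only at h
    generalize hX.nw (o.t k) = m at *
    have h3 : (ι m)⁻¹ * ι v * ι m ∈ S.U := ha.conj_mem' (fun r hr => by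
      rw [RS.Sym.Orb.t, RS.w0_inv]; exact (RS.pos_w0_iff hr.2).2 hr.1) h1
    have h4 : ι m * ι m ∈ S.H := mem_H_of_acts (mul_mem hn hn) (by simpa [RS.Sym.Orb.t, RS.w0_sq] using ha.mul ha)
    have h5 : m * (m⁻¹ * v * m) * m ∈ (S.B.comap ι : Set Γ) := by
      rw [← h]; exact ⟨m⁻¹ * v * m, by simpa using U_le_B h3, rfl⟩
    have := mul_mem (show ι _ ∈ S.B from h5) (inv_mem (H_le_B h4))
    exact h2 (eq_one_of_mem_B_V (by simpa [mul_assoc] using this) (VL_le_V _ h1))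

theorem bn_irreducible (hc : Φ.Conn) : (hX.bn hι).Irreducible := by
  rintro J hJ ⟨a, ha⟩ ⟨b, ⟨j, rfl⟩, hb⟩
  obtain ⟨i, rfl⟩ := hJ ha
  obtain ⟨i, hi, j, hj, h⟩ := o.conn hc {k | hX.nw (o.t k) ∈ J} ⟨i, ha⟩ ⟨j, hb⟩
  refine ⟨_, hi, _, ⟨⟨j, rfl⟩, hj⟩, fun hB => h (Subtype.ext ?_)⟩
  have := ((((hX.nw_acts (o.t i)).mul (hX.nw_acts (o.t j))).mul (hX.nw_acts (o.t i)).inv).mul
    (hX.nw_acts (o.t j)).inv).unique (acts_one_of_mem_B (mul_mem (mul_mem (mul_mem (hX.nw_mem _) (hX.nw_mem _))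
      (inv_mem (hX.nw_mem _))) (inv_mem (hX.nw_mem _))) (by simpa [bn] using hB))
  rw [← commutatorElement_def, commutatorElement_eq_one_iff_mul_comm] at this
  exact this

omit hX in
theorem isSolvable_B : Group.IsSolvable (S.B.comap ι) :=
  haveI := St.isSolvable_B (S := S)
  Group.isSolvable_of_isSolvable_injective (f := ι.subgroupComap S.B) fun _ _ e => Subtype.ext (hι (congrArg Subtype.val e))

theorem normalCore_B (hθ : Function.Injective S.θ) (hc : ∀ i, ∃ u : Γ, ι u ∈ S.U ∧ S.co i (ι u) ≠ 0) :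
    (S.B.comap ι).normalCore = ⊥ := by
  obtain ⟨_, ⟨m, rfl⟩, hm, -, h1, -⟩ := hX.exists_n0
  have hn := (S.B.comap ι).normalCore_normal
  have key : ∀ k ∈ (S.B.comap ι).normalCore, ι k ∈ S.H := by
    intro k hk
    rw [← B_inf_V_sup_H]
    refine ⟨(S.B.comap ι).normalCore_le hk, ?_⟩
    obtain ⟨u, hu, h, hh, e⟩ := mem_B_iff.1 ((S.B.comap ι).normalCore_le (hn.conj_mem k hk m⁻¹))
    have : ι k = (ι m * u * (ι m)⁻¹) * (ι m * h * (ι m)⁻¹) := by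
      calc ι k = ι m * ι (m⁻¹ * k * m⁻¹⁻¹) * (ι m)⁻¹ := by simp [mul_assoc]
        _ = _ := by rw [e]; group
    rw [this]
    exact Subgroup.mul_mem_sup (h1 u hu) (conj_mem_H hm hh)
  rw [eq_bot_iff]
  intro k hk
  obtain ⟨a, ha⟩ := exists_isTor (key k hk)
  suffices a = 1 from hι (hθ (by simpa [this] using ha.1))
  ext1 i
  obtain ⟨u, hu, h0⟩ := hc i
  have h2 := key _ (mul_mem hk (hn.conj_mem _ (inv_mem hk) u))
  have h3 := eq_one_of_mem_H RS.unip_pos (mul_mem (conj_H_Ux (key k hk) hu) (inv_mem hu))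
    (by simpa [mul_assoc] using h2)
  have h4 := co_conj ha (key k hk) i hu
  rw [mul_inv_eq_one.1 h3] at h4
  exact Units.ext (mul_left_eq_self₀.1 h4.symm |>.resolve_right h0)

theorem isSimpleGroup [Nonempty I] (hθ : Function.Injective S.θ) (hc : Φ.Conn)
    (hco : ∀ i, ∃ u : Γ, ι u ∈ S.U ∧ S.co i (ι u) ≠ 0) (hp : commutator Γ = ⊤) :
    IsSimpleGroup Γ ∧ ¬ IsMulCommutative Γ := by
  obtain ⟨i⟩ := ‹Nonempty I›
  obtain ⟨u, -, hu⟩ := hco i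
  haveI : Nontrivial Γ := ⟨⟨u, 1, fun e => hu (by simp [e, co_one])⟩⟩
  refine ⟨BN.simple_of_solvable (P := hX.bn hι) (hX.bn_irreducible hι hc) (isSolvable_B hι) hp
    (hX.normalCore_B hι hθ hco), fun h => ?_⟩
  have : commutator Γ = ⊥ := by
    rw [commutator_def, Subgroup.commutator_eq_bot_iff_le_centralizer]
    intro g _ g' _
    exact h.is_comm.comm _ _
  rw [this] at hp
  exact bot_ne_top hp

theorem eq_top {Y : Subgroup Γ} [hY : Y.Normal]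
    (hG : ∀ Z : Subgroup Γ, S.U.comap ι ≤ Z → S.V.comap ι ≤ Z → Z = ⊤)
    (hU : ∀ k, (S.UL (o.J k)).comap ι ≤ Y) : Y = ⊤ := by
  have h1 : ∀ x ∈ ι.range, ∀ y ∈ Y.map ι, x * y * x⁻¹ ∈ Y.map ι := by
    rintro _ ⟨x, rfl⟩ _ ⟨y, hy, rfl⟩
    exact ⟨_, hY.conj_mem y hy x, by simp⟩
  have h2 : ∀ k, ∀ u ∈ S.UL (o.J k), T.σ u = u → u ∈ Y.map ι := fun k u hu e => by
    obtain ⟨u, rfl⟩ := hX.UL k u hu e
    exact ⟨u, hU k hu, rfl⟩
  exact hG Y (fun u hu => (Subgroup.mem_map_iff_mem hι).1 (hX.mem_of_U' h1 h2 hu (hX.fix _ ⟨_, rfl⟩)))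
    fun u hu => (Subgroup.mem_map_iff_mem hι).1 (hX.mem_of_V' h1 h2 hu (hX.fix _ ⟨_, rfl⟩))

omit hX in
theorem le_commutator [Finite F] {f : I → ℤ} {A : Set R} (hA : Φ.Unip f A) {g : Γ} (hg : ι g ∈ S.H) {a : I → Fˣ}
    (h : S.IsTor (ι g) a) (ha : ∀ r ∈ A, RS.chi a (Φ.rv r) ≠ 1) : (S.Ux A).comap ι ≤ commutator Γ := by
  haveI := finite_Ux (S := S) hA
  haveI : Finite ((S.Ux A).comap ι) := Finite.of_injective (ι.subgroupComap _)
    fun _ _ e => Subtype.ext (hι (congrArg Subtype.val e))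
  exact mem_of_fpf (g := g) (fun u hu => by simpa using conj_H_Ux hg hu)
    (fun u _ => Subgroup.commutator_mem_commutator trivial trivial)
    fun u hu e => hι (by simpa using h.eq_one_of_fix hA ha hu (by simpa using congrArg ι e))

theorem card_B : Nat.card (S.B.comap ι) = Nat.card (S.U.comap ι) * Nat.card (S.H.comap ι) := by
  rw [← Nat.card_prod]
  symm
  refine Nat.card_eq_of_bijective (fun p : S.U.comap ι × S.H.comap ι => ⟨p.1 * p.2, by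
    simpa using mul_mem (U_le_B p.1.2) (H_le_B p.2.2)⟩) ⟨?_, ?_⟩
  · rintro ⟨⟨u, hu⟩, ⟨h, hh⟩⟩ ⟨⟨u', hu'⟩, ⟨h', hh'⟩⟩ e
    replace e : u * h = u' * h' := congrArg Subtype.val e
    have h1 : u'⁻¹ * u = h' * h⁻¹ := by
      calc _ = u'⁻¹ * (u * h) * h⁻¹ := by group
        _ = _ := by rw [e]; group
    have h2 : u'⁻¹ * u = 1 := hι (by
      simpa using eq_one_of_mem_H RS.unip_pos (g := ι (u'⁻¹ * u)) ((S.U.comap ι).mul_mem (inv_mem hu') hu)
        (h1 ▸ (S.H.comap ι).mul_mem hh' (inv_mem hh)))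
    rw [h2] at h1
    simp [(inv_mul_eq_one.1 h2), (mul_inv_eq_one.1 h1.symm)]
  · rintro ⟨b, hb⟩
    obtain ⟨_, hu, _, hh, ⟨u, rfl⟩, ⟨h, rfl⟩, e⟩ := hX.split_B hb ⟨b, rfl⟩
    exact ⟨(⟨u, hu⟩, ⟨h, hh⟩), Subtype.ext (hι (by simpa using e.symm))⟩

theorem card_Uw {e Q : ℕ} (he : ∀ k, Nat.card ((S.UL (o.J k)).comap ι) ^ e = Q ^ len Φ.s (Φ.w0 (o.J k)))
    {w : Φ.W} (hw : w ∈ T.ρ.W1) : Nat.card ((S.Uw w).comap ι) ^ e = Q ^ len Φ.s w := by
  refine o.W1_induction (p := fun w => Nat.card ((S.Uw w).comap ι) ^ e = Q ^ len Φ.s w) ?_ ?_ hw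
  · have : S.Uw 1 = ⊥ := by rw [← Ux_empty (S := S)]; unfold Uw; congr 1; ext; simp
    simp [this, MonoidHom.comap_bot, (MonoidHom.ker_eq_bot_iff ι).2 hι]
  intro k w hw h ih
  rw [RS.len_mul_w0 h, pow_add, ← ih, ← he, ← mul_pow, ← Nat.card_prod]
  congr 1
  have ha := hX.nw_acts (o.t k)
  generalize hX.nw (o.t k) = m at *
  symm
  refine Nat.card_eq_of_bijective (fun p => ⟨p.1 * (m⁻¹ * p.2 * m), (exists_mul_w0 h ha).2
    ⟨_, p.1.2, _, p.2.2, by simp⟩⟩) ⟨?_, ?_⟩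
  · rintro ⟨⟨a, h1⟩, ⟨c, h2⟩⟩ ⟨⟨a', h3⟩, ⟨c', h4⟩⟩ e
    replace e : a * (m⁻¹ * c * m) = a' * (m⁻¹ * c' * m) := congrArg Subtype.val e
    have h5 : m * (a'⁻¹ * a) * m⁻¹ = c' * c⁻¹ := by
      calc _ = m * a'⁻¹ * (a * (m⁻¹ * c * m)) * m⁻¹ * c⁻¹ := by group
        _ = _ := by rw [e]; group
    have h6 : a'⁻¹ * a = 1 := hι (by
      simpa using eq_one_of_w0 ha (mul_mem (inv_mem h3) h1) (by
        have := mul_mem h4 (inv_mem h2)
        rw [← h5] at this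
        simpa using this))
    rw [h6] at h5
    simp only [mul_one, mul_inv_cancel] at h5
    simp [(inv_mul_eq_one.1 h6), (mul_inv_eq_one.1 h5.symm)]
  · rintro ⟨u, hu⟩
    obtain ⟨a, h1, c, h2, e⟩ := (exists_mul_w0 h ha).1 hu
    obtain ⟨h3, h4⟩ := hX.fix_split hw ⟨m, rfl⟩ ha h1 h2 (e ▸ hX.fix _ ⟨u, rfl⟩)
    obtain ⟨a, rfl⟩ := hX.UL k a h1 h3
    obtain ⟨c, rfl⟩ := hX.mem_of_U (Uw_le_U _ h2) h4
    exact ⟨(⟨a, h1⟩, ⟨c, h2⟩), Subtype.ext (hι (by simpa using e.symm))⟩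

theorem card_eq [Finite F] [Fintype T.ρ.W1] :
    Nat.card Γ = Nat.card (S.B.comap ι) * ∑ w : T.ρ.W1, Nat.card ((S.Uw w).comap ι) := by
  have e : Nat.card (Σ w : T.ρ.W1, S.B.comap ι × (S.Uw w).comap ι) = Nat.card Γ := by
    refine Nat.card_eq_of_bijective (fun p => p.2.1 * hX.nw p.1 * p.2.2) ⟨?_, ?_⟩
    · rintro ⟨w, b, u⟩ ⟨w', b', u'⟩ e
      replace e := congrArg ι e
      simp only [map_mul] at e
      obtain rfl : w = w' := Subtype.ext (bruhat_unique' (hX.nw_mem _) (hX.nw_mem _) (hX.nw_acts _)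
        (hX.nw_acts _) b.2 (U_le_B (Uw_le_U _ u.2)) b'.2 (U_le_B (Uw_le_U _ u'.2)) e)
      obtain ⟨h1, h2⟩ := normal_form_unique (hX.nw_acts _) b.2 b'.2 u.2 u'.2 e
      rw [Subtype.ext (hι h1), Subtype.ext (hι h2)]
    · intro g
      obtain ⟨w, h⟩ := hX.bruhat' hι g
      obtain ⟨b, h1, u, h2, rfl⟩ := h _ (hX.nw_mem w) (hX.nw_acts w)
      exact ⟨⟨w, ⟨b, h1⟩, ⟨u, h2⟩⟩, rfl⟩
  by_cases hB : Finite (S.B.comap ι)
  · haveI : ∀ w : Φ.W, Finite ((S.Uw w).comap ι) := fun w =>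
      haveI : Finite (S.Uw w) := finite_Ux (unip_invSet w)
      Finite.of_injective (ι.subgroupComap _) fun _ _ e => Subtype.ext (hι (congrArg Subtype.val e))
    rw [← e, Nat.card_sigma, Finset.mul_sum]
    exact Finset.sum_congr rfl fun w _ => Nat.card_prod _ _
  · rw [not_finite_iff_infinite] at hB
    haveI : Infinite Γ := Infinite.of_injective _ (S.B.comap ι).subtype_injective
    rw [Nat.card_eq_zero_of_infinite, Nat.card_eq_zero_of_infinite, zero_mul]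

theorem card_poinc [Finite F] {q : ℕ} (he : ∀ k, Nat.card ((S.UL (o.J k)).comap ι) = q ^ len Φ.s (Φ.w0 (o.J k))) :
    Nat.card (S.U.comap ι) = q ^ Nat.card {r | Φ.Pos r} ∧
    Nat.card Γ = q ^ Nat.card {r | Φ.Pos r} * Nat.card (S.H.comap ι) * T.ρ.poinc Set.univ q := by
  classical
  have h1 := fun w hw => hX.card_Uw hι (e := 1) (Q := q) (by simpa using he) (w := w) hw
  simp only [pow_one] at h1
  have h2 : Nat.card (S.U.comap ι) = q ^ Nat.card {r | Φ.Pos r} := by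
    rw [← Uw_w0, h1 _ (RS.Sym.w0_mem T.ρ.stable_univ), ← RS.card_invSet, ← Nat.card_eq_finsetCard]
    congr 1
    exact Nat.card_congr (Equiv.subtypeEquivRight fun r => RS.mem_invSet.trans
      (and_iff_left_of_imp fun h => RS.w0_neg h fun i hi => absurd trivial hi))
  refine ⟨h2, ?_⟩
  rw [hX.card_eq hι, hX.card_B hι, h2, RS.Sym.poinc, Finset.sum_subtype (p := fun w => w ∈ T.ρ.W1)]
  · exact congrArg _ (Finset.sum_congr rfl fun w _ => h1 _ w.2)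
  · simp [RS.WJ_univ]

end Tw.Sub
end St

end Cfsg.Agent.Chev
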