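import Cfsg.Agent.Lib.Chev.Fix
import Cfsg.Agent.Lib.Chev.Cent
import Cfsg.Agent.Lib.Chev.TwBN
import Cfsg.Prelude.Def_KGroupFacts

set_option autoImplicit false
set_option linter.unusedSectionVars false
set_option linter.style.haveILetI false

/-! Automorphisms of (twisted) Chevalley groups: reduction to the stabiliser of `U` and `V`. -/

namespace Cfsg.Agent.Chev

open scoped commutatorElement Pointwise

variable {I R : Type} [Fintype I] [DecidableEq I] [Fintype R] [DecidableEq R]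

namespace RS
variable {Φ : RS I R}

theorem exists_w0_sim (i : I) : ∃ j, Φ.w0 Set.univ • Φ.sim i = Φ.neg (Φ.sim j) := by
  have hp : ∀ j, Φ.Pos (Φ.neg (Φ.w0 Set.univ • Φ.sim j)) := fun j =>
    pos_neg_iff.2 (w0_neg (Φ.pos_sim j) fun i hi => absurd trivial hi)
  set r := Φ.neg (Φ.w0 Set.univ • Φ.sim i) with hr
  obtain ⟨j, hj, -⟩ := (hp i).exists_A_pos
  have h1 : Φ.ht (Φ.neg (Φ.w0 Set.univ • r)) = 1 := by
    rw [hr, smul_neg', Φ.neg_neg, w0_smul_smul, ht_sim]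
  have h2 : Φ.ht (Φ.neg (Φ.w0 Set.univ • r)) = ∑ k, Φ.rv r k * Φ.ht (Φ.neg (Φ.w0 Set.univ • Φ.sim k)) := by
    simp only [ht_neg]
    rw [ht, rv_smul]
    simp only [Finset.sum_apply, Pi.smul_apply, smul_eq_mul, mul_neg, Finset.sum_neg_distrib, ht, Finset.mul_sum]
    rw [Finset.sum_comm]
  have h3 : ∀ k, Φ.rv r k ≤ Φ.rv r k * Φ.ht (Φ.neg (Φ.w0 Set.univ • Φ.sim k)) := fun k =>
    le_mul_of_one_le_right (hp i k) (hp k).ht_pos
  refine ⟨j, ?_⟩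
  rw [← eq_sim_of_support (hp i) (i := j) fun k hk => ?_, Φ.neg_neg]
  have h4 : Φ.rv r j + Φ.rv r k ≤ ∑ k, Φ.rv r k := by
    rw [← Finset.sum_pair hk.symm]
    exact Finset.sum_le_sum_of_subset_of_nonneg (Finset.subset_univ _) fun k _ _ => hp i k
  have h5 := Finset.sum_le_sum fun k (_ : k ∈ Finset.univ) => h3 k
  have := hp i k
  rw [← hr] at this hj ⊢
  omega

theorem Sym.Orb.exists_opp {σ : Φ.Sym} {K : Type} (o : σ.Orb K) (k : K) :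
    ∃ k', ∀ r, Φ.InJ (o.J k) r → Φ.InJ (o.J k') (Φ.w0 Set.univ • r) := by
  choose st hst using exists_w0_sim (Φ := Φ)
  have h1 : ∀ i, st (σ.ρI i) = σ.ρI (st i) := fun i => by
    have := Sym.mem_W1_iff.1 (Sym.w0_mem σ.stable_univ) (Φ.sim i)
    rw [hst, σ.neg, σ.sim, σ.sim, hst] at this
    exact (Φ.sim_inj (Φ.neg_inj this)).symm
  have h2 : ∀ n i, o.κ (st (σ.ρI^[n] i)) = o.κ (st i) := fun n i => by
    induction n with
    | zero => rfl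
    | succ n ih => rw [Function.iterate_succ_apply', h1, o.inv, ih]
  obtain ⟨i, hi⟩ := o.exists_mem k
  refine ⟨o.κ (st i), fun r hr j hj => ?_⟩
  rw [rv_smul, Finset.sum_apply]
  refine Finset.sum_eq_zero fun l _ => ?_
  by_cases hl : l ∈ o.J k
  · obtain ⟨n, rfl⟩ := o.cyc i l (hi.trans hl.symm)
    rw [hst, Φ.rv_neg, Φ.rv_sim, Pi.smul_apply, Pi.neg_apply, Pi.single_eq_of_ne, neg_zero, smul_zero]
    rintro rfl
    exact hj (h2 n i)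
  · simp [hr l hl]

theorem s_comm_of_A {i j : I} (h : Φ.A i (Φ.sim j) = 0) : Φ.s i * Φ.s j = Φ.s j * Φ.s i :=
  (conj_of_smul_sim (w := Φ.s i) (rf_of_A_eq_zero Φ h)).symm

end RS

namespace St
variable {Φ : CD I R} {F : Type*} [Field F] {G : Type*} [Group G] {S : St Φ F G}

theorem VL_le_LJ (J : Set I) : S.VL J ≤ S.LJ J := le_sup_of_le_left (Ux_mono fun _ h => h.2)
theorem UL_le_LJ (J : Set I) : S.UL J ≤ S.LJ J := le_sup_of_le_left (Ux_mono fun _ h => h.2)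
theorem LJ_le_PJ (J : Set I) : S.LJ J ≤ S.PJ J := by rw [← UJ_sup_LJ]; exact le_sup_right

theorem mem_VL_of_PJ {J : Set I} {v : G} (hv : v ∈ S.V) (h : v ∈ S.PJ J) : v ∈ S.VL J := by
  obtain ⟨a, ha, c, hc, rfl⟩ := exists_mul (S := S) (B := {r | ¬ Φ.Pos r ∧ Φ.InJ J r})
    (C := {r | 0 < Φ.fn (-fJ J) r}) RS.unip_neg (fun r => by
      simp only [Set.mem_ofPred_eq, RS.fn_neg_left, ← RS.fn_neg, fJ_pos_iff, RS.pos_neg_iff, RS.inJ_neg_iff]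
      tauto) hv
  have h1 : c ∈ S.PJ J := by simpa using mul_mem (inv_mem (LJ_le_PJ J (VL_le_LJ J ha))) h
  rw [PJ_eq] at h1
  rw [eq_one_of_raise (f' := fJ J) (RS.unip_fn _) hc (fun r hr => by
    simpa [RS.fn_neg_left] using hr) (raise_sup_H (fun r hr => ?_) h1), mul_one]
  · exact ha
  · by_cases e : Φ.InJ J r
    · exact (fJ_eq_zero e).ge
    · exact (fJ_pos_iff.2 ⟨hr.resolve_right e, e⟩).le

theorem Uw_w0_eq (J : Set I) : S.Uw (Φ.w0 J) = S.UL J := by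
  unfold Uw UL
  congr 1
  ext r
  exact and_congr_right fun h => ⟨RS.inJ_of_inv (RS.w0_mem J) h, RS.w0_neg h⟩

theorem Acts.conj_UL {J : Set I} {m : G} (hm : S.Acts m (Φ.w0 J)) {u : G} (hu : u ∈ S.UL J) :
    m * u * m⁻¹ ∈ S.VL J :=
  hm.conj_mem (fun _ h => by exact ⟨RS.w0_neg h.1 h.2, h.2.smul (RS.w0_mem J)⟩) hu

theorem Acts.conj_VL {J : Set I} {m : G} (hm : S.Acts m (Φ.w0 J)) {u : G} (hu : u ∈ S.VL J) :
    m * u * m⁻¹ ∈ S.UL J :=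
  hm.conj_mem (fun _ h => by exact ⟨(RS.pos_w0_iff h.2).2 h.1, h.2.smul (RS.w0_mem J)⟩) hu

theorem Acts.conj_U {m : G} (hm : S.Acts m (Φ.w0 Set.univ)) {u : G} (hu : u ∈ S.U) : m * u * m⁻¹ ∈ S.V :=
  hm.conj_mem (fun _ hr => RS.w0_neg hr fun _ hi => absurd trivial hi) hu

theorem Acts.conj_V {m : G} (hm : S.Acts m (Φ.w0 Set.univ)) {u : G} (hu : u ∈ S.V) : m * u * m⁻¹ ∈ S.U :=
  hm.conj_mem (fun _ hr => (RS.pos_w0_iff fun _ hi => absurd trivial hi).2 hr) hu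

theorem Acts.inv_w0 {J : Set I} {m : G} (hm : S.Acts m (Φ.w0 J)) : S.Acts m⁻¹ (Φ.w0 J) :=
  RS.w0_inv (Φ := Φ.toRS) J ▸ hm.inv

theorem commute_UL_VL {J J' : Set I} (h : ∀ j ∈ J, j ∉ J') {u v : G} (hu : u ∈ S.UL J) (hv : v ∈ S.VL J') :
    Commute u v := by
  have key : ∀ r, Φ.Pos r ∧ Φ.InJ J r → ∀ s, ¬ Φ.Pos s ∧ Φ.InJ J' s → ∀ t t', Commute (S.x s t') (S.x r t) := by
    rintro r ⟨h1, h2⟩ s ⟨h3, h4⟩ t t'
    obtain ⟨i, hi, -⟩ := h1.exists_A_pos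
    obtain ⟨j, hj, -⟩ := (RS.pos_neg_iff.2 h3).exists_A_pos
    rw [Φ.rv_neg, Pi.neg_apply] at hj
    have hi' : i ∈ J := by by_contra e; exact hi.ne' (h2 i e)
    have hj' : j ∉ J := fun e => by have := h4 j (h j e); omega
    refine commute_x (fun e => ?_) (fun k ⟨a, b, ha, hb, e⟩ => ?_) t t'
    · have := h4 i (h i hi')
      rw [e, Φ.rv_neg, Pi.neg_apply] at this
      omega
    · have e1 := congrFun e i
      have e2 := congrFun e j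
      simp only [Pi.add_apply, Pi.smul_apply, smul_eq_mul, h4 i (h i hi'), h2 j hj'] at e1 e2
      exact RS.not_pos_of_neg (r := k) (i := j) (by nlinarith) (RS.pos_of_pos (i := i) (by nlinarith))
  refine Ux_induction (p := fun u => Commute u v) (Commute.one_left v) (fun r hr t g _ ih => ih.mul_left ?_) hu
  exact Ux_induction (p := fun v => Commute (S.x r t) v) (Commute.one_right _)
    (fun s hs t' g _ ih => ih.mul_right (key r hr s hs t t').symm) hv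

namespace Tw.Sub
variable {T : S.Tw} {K : Type} {o : T.ρ.Orb K} {Γ : Type*} [Group Γ] {ι : Γ →* G} (hX : T.Sub o ι.range)
include hX

theorem acts_t (k : K) : S.Acts (ι (hX.nw (o.t k))) (Φ.w0 (o.J k)) := hX.nw_acts _

theorem exists_UL (k : K) : ∃ u : Γ, ι u ∈ S.UL (o.J k) ∧ ι u ≠ 1 := by
  obtain ⟨_, ⟨v, rfl⟩, h1, h2⟩ := hX.VL k
  refine ⟨hX.nw (o.t k) * v * (hX.nw (o.t k))⁻¹, by simpa using (hX.acts_t k).conj_VL h1, ?_⟩
  simpa using h2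

theorem eq_one_of_conj {m : G} {w : Φ.W} (hw : w ∈ T.ρ.W1) (ha : S.Acts m w)
    (h : ∀ u : Γ, ι u ∈ S.U → m * ι u * m⁻¹ ∈ S.B) : w = 1 := by
  refine RS.eq_one_of_pos fun i => ?_
  by_contra hi
  obtain ⟨u, h1, h2⟩ := hX.exists_UL (o.κ i)
  have := eq_one_of_mem_B_V (h u (UL_le_U _ h1)) (ha.conj_mem (fun r hr => by
    exact RS.neg_smul_of_inJ (fun j hj => by rwa [o.pos_iff hw hj (o.mem_J i)]) hr.1 hr.2) h1)
  exact h2 (by simpa using this)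

theorem exists_n0' : ∃ m : Γ, ι m ∈ S.N ∧ S.Acts (ι m) (Φ.w0 Set.univ) ∧ (∀ u, ι (m * u * m⁻¹) ∈ S.V ↔ ι u ∈ S.U) ∧
    ∀ u, ι (m * u * m⁻¹) ∈ S.U ↔ ι u ∈ S.V := by
  obtain ⟨m, h1, h2⟩ := hX.exists_n' (RS.Sym.w0_mem T.ρ.stable_univ)
  simp only [map_mul, map_inv]
  refine ⟨m, h1, h2, fun u => ⟨fun h => ?_, h2.conj_U⟩, fun u => ⟨fun h => ?_, h2.conj_V⟩⟩
  · simpa [mul_assoc] using h2.inv_w0.conj_V h
  · simpa [mul_assoc] using h2.inv_w0.conj_U h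

variable (hι : Function.Injective ι)
include hι

theorem mem_B_of_conj' {g : Γ} (h : ∀ u : Γ, ι u ∈ S.U → ι (g * u * g⁻¹) ∈ S.B) : ι g ∈ S.B := by
  obtain ⟨w, hw⟩ := hX.bruhat' hι g
  obtain ⟨b, h1, u, h2, rfl⟩ := hw _ (hX.nw_mem w) (hX.nw_acts w)
  have h3 := Uw_le_U _ h2
  have : (w : Φ.W) = 1 := hX.eq_one_of_conj w.2 (hX.nw_acts w) fun x hx => by
    have := h (u⁻¹ * x * u) (by simpa using mul_mem (mul_mem (inv_mem h3) hx) h3)
    have := mul_mem (mul_mem (inv_mem h1) this) h1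
    simpa [mul_assoc] using this
  simpa using mul_mem (mul_mem h1 (H_le_B (mem_H_of_acts (hX.nw_mem w) (this ▸ hX.nw_acts w)))) (U_le_B h3)

theorem mem_H_of_conj {g : Γ} (h : ∀ u : Γ, ι u ∈ S.U → ι (g * u * g⁻¹) ∈ S.U)
    (h' : ∀ u : Γ, ι u ∈ S.V → ι (g * u * g⁻¹) ∈ S.V) : ι g ∈ S.H := by
  obtain ⟨m, h1, h2, h3, h4⟩ := hX.exists_n0'
  have h5 := hX.mem_B_of_conj' hι (g := m * g * m⁻¹) fun u hu => by
    have := (h4 _).2 (h' (m⁻¹ * u * m) ((h4 _).1 (by simpa [mul_assoc] using hu)))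
    exact U_le_B (by simpa [mul_assoc] using this)
  obtain ⟨u, hu, k, hk, e⟩ := mem_B_iff.1 h5
  rw [← B_inf_V_sup_H]
  refine ⟨hX.mem_B_of_conj' hι fun u hu => U_le_B (h u hu), ?_⟩
  have : ι g = ((ι m)⁻¹ * u * (ι m)⁻¹⁻¹) * ((ι m)⁻¹ * k * (ι m)⁻¹⁻¹) := by
    calc ι g = (ι m)⁻¹ * ι (m * g * m⁻¹) * ι m := by simp [mul_assoc]
      _ = _ := by rw [e]; group
  rw [this]
  exact Subgroup.mul_mem_sup (h2.inv_w0.conj_U hu)
    (conj_mem_H (inv_mem h1) hk)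

/-- rank one Bruhat decomposition -/
theorem exists_LJ {k : K} {g : Γ} (hg : ι g ∈ S.LJ (o.J k)) (hB : ι g ∉ S.B) :
    ∃ u m u' : Γ, ι u ∈ S.UL (o.J k) ∧ ι m ∈ S.N ∧ S.Acts (ι m) (Φ.w0 (o.J k)) ∧ ι u' ∈ S.UL (o.J k) ∧
      g = u * m * u' := by
  obtain ⟨u, hu, m, hm, w, hw, ha, u', hu', e⟩ := bruhat_PJ (LJ_le_PJ _ hg)
  obtain ⟨h1, h2, -, h4⟩ := T.fix_normal_form hu hm ha hu' (e ▸ hX.fix _ ⟨g, rfl⟩)
  rcases o.eq_of_mem h1 hw with rfl | rfl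
  · exact absurd (e ▸ mul_mem (mul_mem (U_le_B hu) (H_le_B (mem_H_of_acts hm ha))) (U_le_B (Uw_le_U _ hu'))) hB
  obtain ⟨a, rfl⟩ := hX.mem_of_U hu h2
  obtain ⟨c, rfl⟩ := hX.mem_of_U (Uw_le_U _ hu') h4
  rw [Uw_w0_eq] at hu'
  have e' : ι (a⁻¹ * g * c⁻¹) = m := by simp [e, mul_assoc]
  refine ⟨a, a⁻¹ * g * c⁻¹, c, mem_UL_of_LJ hu ?_, e' ▸ hm, e' ▸ ha, hu', by group⟩
  rw [show ι a = ι g * (ι c)⁻¹ * m⁻¹ by rw [e]; group]
  exact mul_mem (mul_mem hg (inv_mem (UL_le_LJ _ hu'))) (inv_mem (NJ_le _ ⟨hm, _, hw, ha⟩))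

theorem eq_one_of_VL {k : K} {v : Γ} (hv : ι v ∈ S.VL (o.J k))
    (h : ∀ x : Γ, ι x ∈ S.UL (o.J k) → ι (v * x * v⁻¹) ∈ S.B) : v = 1 := by
  by_contra h0
  obtain ⟨u, m, u', h1, h2, h3, h4, rfl⟩ := hX.exists_LJ hι (VL_le_LJ _ hv) fun hB =>
    h0 (hι (by simpa using eq_one_of_mem_B_V hB (VL_le_V _ hv)))
  obtain ⟨x, h5, h6⟩ := hX.exists_UL k
  have := h (u'⁻¹ * x * u') (by simpa using mul_mem (mul_mem (inv_mem h4) h5) h4)
  have := mul_mem (mul_mem (inv_mem (U_le_B (UL_le_U _ h1))) this) (U_le_B (UL_le_U _ h1))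
  have := eq_one_of_mem_B_V (g := ι m * ι x * (ι m)⁻¹) (by simpa [mul_assoc] using this) (VL_le_V _ (h3.conj_UL h5))
  exact h6 (by simpa using this)

theorem eq_of_commute {k k' : K} (h : ∀ u v : Γ, ι u ∈ S.UL (o.J k) → ι v ∈ S.VL (o.J k') → Commute u v) : k ≠ k' := by
  rintro rfl
  obtain ⟨_, ⟨v, rfl⟩, h1, h2⟩ := hX.VL k
  refine h2 ((congrArg ι (hX.eq_one_of_VL hι h1 fun x hx => ?_)).trans (map_one ι))
  rw [← (h x v hx h1).eq, mul_inv_cancel_right]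
  exact U_le_B (UL_le_U _ hx)

theorem nw_mem_PJ {k k' : K} : ι (hX.nw (o.t k)) ∈ S.PJ (o.J k') ↔ k = k' := by
  constructor
  · intro h
    obtain ⟨b, hb, m, ⟨hm, w, hw, ha⟩, b', hb', e⟩ := mem_PJ_iff.1 h
    obtain rfl := bruhat_unique hm (hX.nw_mem _) ha (hX.acts_t k) hb hb' e.symm
    obtain ⟨i, hi⟩ := o.exists_mem k
    exact o.t_inj (Subtype.ext ((o.eq_of_mem (o.t k).2 hw).resolve_left (RS.w0_ne_one hi)))
  · rintro rfl
    exact Subgroup.mem_sup_right ⟨hX.nw_mem _, _, RS.w0_mem _, hX.acts_t k⟩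

theorem PJ_le {k : K} {M : Subgroup Γ} (hB : S.B.comap ι ≤ M) (h : hX.nw (o.t k) ∈ M) :
    (S.PJ (o.J k)).comap ι ≤ M := by
  rw [BN.eq_parabolic (P := hX.bn hι) ((S.PJ (o.J k)).comap ι) (Subgroup.comap_mono le_sup_left)]
  refine sup_le hB ((Subgroup.closure_le _).2 ?_)
  rintro _ ⟨⟨k', rfl⟩, h'⟩
  rwa [(hX.nw_mem_PJ hι).1 h']

theorem exists_nw_mem {M : Subgroup Γ} (hB : S.B.comap ι ≤ M) {g : Γ} (hg : g ∈ M) (h : ι g ∉ S.B) :
    ∃ k, hX.nw (o.t k) ∈ M := by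
  by_contra h0
  rw [BN.eq_parabolic (P := hX.bn hι) M hB] at hg
  refine h ((sup_le le_rfl ((Subgroup.closure_le _).2 ?_) : _ ≤ S.B.comap ι) hg)
  rintro _ ⟨⟨k', rfl⟩, h'⟩
  exact absurd ⟨k', h'⟩ h0

theorem nw_not_mem (k : K) : ι (hX.nw (o.t k)) ∉ S.B := fun h => by
  obtain ⟨i, hi⟩ := o.exists_mem k
  exact RS.w0_ne_one hi ((hX.acts_t k).unique (acts_one_of_mem_B (hX.nw_mem _) h))

end Tw.Sub

variable (S) in
/-- the automorphisms stabilising `U` and `V` -/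
def A0 {Γ : Type*} [Group Γ] (ι : Γ →* G) : Subgroup (MulAut Γ) where
  carrier := {α | (∀ g, ι (α g) ∈ S.U ↔ ι g ∈ S.U) ∧ ∀ g, ι (α g) ∈ S.V ↔ ι g ∈ S.V}
  one_mem' := ⟨fun _ => Iff.rfl, fun _ => Iff.rfl⟩
  mul_mem' := fun h h' => ⟨fun g => (h.1 _).trans (h'.1 g), fun g => (h.2 _).trans (h'.2 g)⟩
  inv_mem' := fun {α} h => ⟨fun g => by rw [← h.1]; simp, fun g => by rw [← h.2]; simp⟩

theorem conj_mem_A0 {Γ : Type*} [Group Γ] {ι : Γ →* G} {g : Γ} (hg : ι g ∈ S.H) : MulAut.conj g ∈ S.A0 ι := by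
  have : ∀ (A : Set R) (u : Γ), ι (MulAut.conj g u) ∈ S.Ux A ↔ ι u ∈ S.Ux A := fun A u =>
    ⟨fun h => by simpa [mul_assoc] using conj_H_Ux (inv_mem hg) h, fun h => by simpa using conj_H_Ux hg h⟩
  exact ⟨this _, this _⟩

namespace Tw.Sub
variable {T : S.Tw} {K : Type} {o : T.ρ.Orb K} {Γ : Type*} [Group Γ] {ι : Γ →* G} (hX : T.Sub o ι.range)
  (hι : Function.Injective ι)
include hX hι

theorem conj_mem_A0_iff {g : Γ} : MulAut.conj g ∈ S.A0 ι ↔ ι g ∈ S.H :=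
  ⟨fun h => hX.mem_H_of_conj hι (fun u => (h.1 u).2) fun u => (h.2 u).2, conj_mem_A0⟩

theorem map_B {α : MulAut Γ} (h : ∀ g, ι (α g) ∈ S.U ↔ ι g ∈ S.U) {g : Γ} (hg : ι g ∈ S.B) : ι (α g) ∈ S.B :=
  hX.mem_B_of_conj' hι fun u hu => by
    obtain ⟨u, rfl⟩ := α.surjective u
    rw [← map_inv, ← map_mul, ← map_mul]
    exact U_le_B ((h _).2 (by simpa using conj_U hg ((h _).1 hu)))

section
variable {α : MulAut Γ} (hα : α ∈ S.A0 ι)
include hα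

theorem map_B_iff {g : Γ} : ι (α g) ∈ S.B ↔ ι g ∈ S.B :=
  ⟨fun h => by simpa using hX.map_B hι (inv_mem hα).1 h, hX.map_B hι hα.1⟩

theorem map_H {g : Γ} (hg : ι g ∈ S.H) : ι (α g) ∈ S.H := by
  rw [← hX.conj_mem_A0_iff hι, show MulAut.conj (α g) = α * MulAut.conj g * α⁻¹ by ext; simp]
  exact mul_mem (mul_mem hα (conj_mem_A0 hg)) (inv_mem hα)

theorem map_H_iff {g : Γ} : ι (α g) ∈ S.H ↔ ι g ∈ S.H :=
  ⟨fun h => by simpa using hX.map_H hι (inv_mem hα) h, hX.map_H hι hα⟩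

theorem exists_PJ (k : K) : ∃ k', ∀ g, ι (α g) ∈ S.PJ (o.J k') ↔ ι g ∈ S.PJ (o.J k) := by
  have hB : ∀ k, S.B.comap ι ≤ (S.PJ (o.J k)).comap ι := fun k => Subgroup.comap_mono le_sup_left
  have h1 : ∀ {α}, α ∈ S.A0 ι → ∀ k, S.B.comap ι ≤ ((S.PJ (o.J k)).comap ι).comap (α : Γ →* Γ) :=
    fun hα k g hg => hB k (hX.map_B hι hα.1 hg)
  have h2 : ∀ {α}, α ∈ S.A0 ι → ∀ k, ∃ k', ∀ g, ι g ∈ S.PJ (o.J k') → ι (α g) ∈ S.PJ (o.J k) := fun {α} hα k => by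
    obtain ⟨k', h⟩ := hX.exists_nw_mem hι (h1 hα k) (g := α⁻¹ (hX.nw (o.t k)))
      (by simpa using (hX.nw_mem_PJ hι).2 rfl) (by rw [hX.map_B_iff hι (inv_mem hα)]; exact hX.nw_not_mem hι k)
    exact ⟨k', hX.PJ_le hι (h1 hα k) h⟩
  obtain ⟨k', h3⟩ := h2 (inv_mem hα) k
  obtain ⟨k'', h4⟩ := h2 hα k'
  obtain rfl : k'' = k := (hX.nw_mem_PJ hι).1 (by simpa using h3 _ (h4 _ ((hX.nw_mem_PJ hι).2 rfl)))
  exact ⟨k', fun g => ⟨fun h => by simpa using h3 _ h, h4 g⟩⟩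

theorem exists_VL (k : K) : ∃ k', ∀ g, ι (α g) ∈ S.VL (o.J k') ↔ ι g ∈ S.VL (o.J k) := by
  obtain ⟨k', h⟩ := hX.exists_PJ hι hα k
  have : ∀ (J) (g : G), g ∈ S.VL J ↔ g ∈ S.V ∧ g ∈ S.PJ J := fun J g =>
    ⟨fun h => ⟨VL_le_V _ h, LJ_le_PJ _ (VL_le_LJ _ h)⟩, fun h => mem_VL_of_PJ h.1 h.2⟩
  exact ⟨k', fun g => by rw [this, this, h, hα.2]⟩

theorem map_UL {k k' : K} (h : ∀ g, ι (α g) ∈ S.VL (o.J k') ↔ ι g ∈ S.VL (o.J k)) {g : Γ} (hg : ι g ∈ S.UL (o.J k)) :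
    ι (α g) ∈ S.UL (o.J k') := by
  obtain ⟨m, h1, h2, h3, h4⟩ := hX.exists_n0'
  have h5 : MulAut.conj m * α * (MulAut.conj m)⁻¹ ∈ S.A0 ι := by
    refine ⟨fun g => ?_, fun g => ?_⟩ <;> obtain ⟨g, rfl⟩ := (MulAut.conj m).surjective g
    · rw [MulAut.mul_apply, MulAut.inv_apply_self, MulAut.mul_apply, MulAut.conj_apply, MulAut.conj_apply, h4, h4, hα.2]
    · rw [MulAut.mul_apply, MulAut.inv_apply_self, MulAut.mul_apply, MulAut.conj_apply, MulAut.conj_apply, h3, h3, hα.1]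
  obtain ⟨k1, e1⟩ := o.exists_opp k
  obtain ⟨k2, e2⟩ := hX.exists_VL hι h5 k1
  obtain ⟨k3, e3⟩ := o.exists_opp k2
  have key : ∀ g, ι g ∈ S.UL (o.J k) → ι (α g) ∈ S.UL (o.J k3) := fun g hg => by
    have a1 : ι (MulAut.conj m g) ∈ S.VL (o.J k1) := by
      rw [MulAut.conj_apply, map_mul, map_mul, map_inv]
      exact h2.conj_mem (fun r hr => by exact ⟨RS.w0_neg hr.1 fun i hi => absurd trivial hi, e1 r hr.2⟩) hg
    have a2 : _ ∈ S.UL (o.J k3) := h2.inv_w0.conj_mem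
      (fun r hr => by exact ⟨(RS.pos_w0_iff fun i hi => absurd trivial hi).2 hr.1, e3 r hr.2⟩) ((e2 _).2 a1)
    simpa [mul_assoc] using a2
  by_cases e : k3 = k'
  · exact e ▸ key g hg
  refine absurd rfl (hX.eq_of_commute hι (k := k) fun u v hu hv => ?_)
  have := commute_UL_VL (fun j h h' => e (h.symm.trans h')) (key u hu) ((h v).2 hv)
  exact α.injective (hι (by simpa using this.eq))

theorem map_N_t {k k' : K} (h : ∀ g, ι (α g) ∈ S.VL (o.J k') ↔ ι g ∈ S.VL (o.J k))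
    (h' : ∀ g, ι (α g) ∈ S.UL (o.J k') ↔ ι g ∈ S.UL (o.J k)) {m : Γ} (hm : ι m ∈ S.N)
    (ha : S.Acts (ι m) (Φ.w0 (o.J k))) : ι (α m) ∈ S.N ∧ S.Acts (ι (α m)) (Φ.w0 (o.J k')) := by
  obtain ⟨_, ⟨v, rfl⟩, h1, h2⟩ := hX.VL k
  obtain ⟨u, m1, u', h3, h4, h5, h6, rfl⟩ := hX.exists_LJ hι (VL_le_LJ _ h1) fun hB =>
    h2 (eq_one_of_mem_B_V hB (VL_le_V _ h1))
  have h7 : ι (α m) ∈ S.LJ (o.J k') := by
    have a1 := hX.map_H hι hα (g := m1⁻¹ * m) (by simpa using inv_mul_mem_H h4 hm h5 ha)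
    have := mul_mem (mul_mem (mul_mem (inv_mem (UL_le_LJ _ ((h' _).2 h3))) (VL_le_LJ _ ((h _).2 h1)))
      (inv_mem (UL_le_LJ _ ((h' _).2 h6)))) (Subgroup.mem_sup_right a1)
    simpa [mul_assoc] using this
  obtain ⟨i, hi⟩ := o.exists_mem k
  obtain ⟨a, n, a', h8, h9, h10, h11, e⟩ := hX.exists_LJ hι h7 fun hB => by
    rw [hX.map_B_iff hι hα] at hB
    exact RS.w0_ne_one hi (ha.unique (acts_one_of_mem_B hm hB))
  have c1 : ∀ x, ι x ∈ S.VL (o.J k') → ι (α m * x * (α m)⁻¹) ∈ S.UL (o.J k') := fun x hx => by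
    obtain ⟨x, rfl⟩ := α.surjective x
    rw [← map_inv, ← map_mul, ← map_mul, h']
    simpa using ha.conj_VL ((h _).1 hx)
  have c2 : ∀ x, ι x ∈ S.UL (o.J k') → ι (α m * x * (α m)⁻¹) ∈ S.VL (o.J k') := fun x hx => by
    obtain ⟨x, rfl⟩ := α.surjective x
    rw [← map_inv, ← map_mul, ← map_mul, h]
    simpa using ha.conj_UL ((h' _).1 hx)
  have d1 : n * a' * n⁻¹ = 1 := hX.eq_one_of_VL hι (by simpa using h10.conj_UL h11) fun x hx => by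
    have := c1 (n⁻¹ * x * n) (by simpa using h10.inv_w0.conj_UL hx)
    have := mul_mem (mul_mem (inv_mem h8) this) h8
    exact U_le_B (UL_le_U _ (by simpa [e, mul_assoc] using this))
  obtain rfl : a' = 1 := by simpa using d1
  have d2 : n⁻¹ * a * n = 1 := hX.eq_one_of_VL hι (by simpa using h10.inv_w0.conj_UL h8) fun x hx => by
    have := h10.inv_w0.conj_VL (c2 x hx)
    exact U_le_B (UL_le_U _ (by simpa [e, mul_assoc] using this))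
  obtain rfl : a = 1 := by simpa [mul_assoc, inv_mul_eq_one] using d2
  rw [e]
  simpa using ⟨h9, h10⟩

theorem exists_perm : ∃ π : Equiv.Perm K, (∀ k g, ι (α g) ∈ S.UL (o.J (π k)) ↔ ι g ∈ S.UL (o.J k)) ∧
    (∀ k g, ι (α g) ∈ S.VL (o.J (π k)) ↔ ι g ∈ S.VL (o.J k)) ∧
    ∀ k m, ι m ∈ S.N → S.Acts (ι m) (Φ.w0 (o.J k)) → ι (α m) ∈ S.N ∧ S.Acts (ι (α m)) (Φ.w0 (o.J (π k))) := by
  choose π hπ using hX.exists_VL hι hα
  choose π' hπ' using hX.exists_VL hι (inv_mem hα)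
  have h0 : ∀ k k', (∀ g, ι g ∈ S.VL (o.J k) → ι g ∈ S.VL (o.J k')) → k = k' := fun k k' h => by
    by_contra e
    exact hX.eq_of_commute hι (k := k) (fun u v hu hv => hι (by
      simpa using (commute_UL_VL (fun j h h' => e (h.symm.trans h')) hu (h v hv)).eq)) rfl
  have h1 : ∀ k g, ι (α g) ∈ S.UL (o.J (π k)) ↔ ι g ∈ S.UL (o.J k) := fun k g =>
    ⟨fun h => by simpa using hX.map_UL hι (inv_mem hα) (k' := k) (fun g => by rw [← hπ]; simp) h,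
      hX.map_UL hι hα (hπ k)⟩
  exact ⟨⟨π, π', fun k => (h0 _ _ fun g hg => by simpa using (hπ' _ _).2 ((hπ _ _).2 hg)).symm,
    fun k => (h0 _ _ fun g hg => by simpa using (hπ _ _).2 ((hπ' _ _).2 hg)).symm⟩, h1, hπ,
    fun k m => hX.map_N_t hι hα (hπ k) (h1 k)⟩

end

theorem eq_of_UL {k k' : K} {g : Γ} (h : ι g ∈ S.UL (o.J k)) (h' : ι g ∈ S.UL (o.J k')) (h1 : ι g ≠ 1) : k = k' := by
  by_contra e
  have := Ux_inf (S := S) (f := 1) (unip_UL (o.J k)).closed (unip_UL (o.J k')).closed fun r hr =>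
    RS.unip_pos.pos r (hr.elim And.left And.left)
  rw [show _ ∩ _ = ∅ from Set.eq_empty_of_forall_notMem fun r hr => Φ.rv_ne_zero r (funext fun i => by
    by_cases hi : i ∈ o.J k
    · exact hr.2.2 i fun h' => e (hi.symm.trans h')
    · exact hr.1.2 i hi), Ux_empty] at this
  exact h1 (Subgroup.mem_bot.1 (this ▸ Subgroup.mem_inf.2 ⟨h, h'⟩))

theorem aut_eq_one (hG : ∀ Z : Subgroup Γ, S.U.comap ι ≤ Z → S.V.comap ι ≤ Z → Z = ⊤) {α : MulAut Γ}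
    (hα : α ∈ S.A0 ι) (h : ∀ k g, ι g ∈ S.UL (o.J k) → α g = g) : α = 1 := by
  obtain ⟨π, h1, h2, h3⟩ := hX.exists_perm hι hα
  have hπ : ∀ k, π k = k := fun k => by
    obtain ⟨u, hu, hu'⟩ := hX.exists_UL k
    exact hX.eq_of_UL hι (h k u hu ▸ (h1 k u).2 hu) hu hu'
  simp only [hπ] at h2 h3
  have h4 : ∀ k g, ι g ∈ S.VL (o.J k) → α g = g := fun k v hv => by
    by_cases hB : ι v ∈ S.B
    · rw [hι ((eq_one_of_mem_B_V hB (VL_le_V _ hv)).trans (map_one ι).symm), map_one]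
    obtain ⟨u, m, u', a1, a2, a3, a4, rfl⟩ := hX.exists_LJ hι (VL_le_LJ _ hv) hB
    have a5 := U_le_B (UL_le_U _ a1)
    have := eq_one_of_mem_B_V (mul_mem (mul_mem a5 (H_le_B (mul_inv_mem_H (h3 k m a2 a3).1 a2 (h3 k m a2 a3).2 a3)))
      (inv_mem a5)) (by
        simpa [h k u a1, h k u' a4, mul_assoc] using VL_le_V _ (mul_mem ((h2 k _).2 hv) (inv_mem hv)))
    rw [map_mul, map_mul, h k u a1, h k u' a4, hι (show ι (α m) = ι m by simpa [mul_inv_eq_one] using this)]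
  set Z := (α : Γ →* Γ).eqLocus (MonoidHom.id Γ)
  have hZ : T.Sub o (Z.map ι) := {
    le := (Subgroup.map_le_range ι Z).trans hX.le
    fix := fun g hg => hX.fix g (Subgroup.map_le_range ι Z hg)
    UL := fun k u hu e => by
      obtain ⟨u, rfl⟩ := hX.UL k u hu e
      exact ⟨u, h k u hu, rfl⟩
    VL := fun k => by
      obtain ⟨_, ⟨v, rfl⟩, hv⟩ := hX.VL k
      exact ⟨_, ⟨v, h4 k v hv.1, rfl⟩, hv⟩ }
  have := hG Z (fun u hu => (Subgroup.mem_map_iff_mem hι).1 (hZ.mem_of_U hu (hX.fix _ ⟨u, rfl⟩)))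
    fun u hu => (Subgroup.mem_map_iff_mem hι).1 (hZ.mem_of_V hu (hX.fix _ ⟨u, rfl⟩))
  ext g
  exact (this ▸ Subgroup.mem_top g : g ∈ Z)

section Finite
variable [Finite F]

theorem finite : Finite Γ := by
  haveI := finite_PJ S.hMul_of_finite Set.univ
  exact Finite.of_injective (fun g => (⟨ι g, by rw [PJ_univ]; exact hX.le ⟨g, rfl⟩⟩ : S.PJ Set.univ))
    fun a b e => hι (congrArg Subtype.val e)

omit hX hι in
theorem _root_.Cfsg.Agent.Chev.St.mem_U_of_pow (p : ℕ) [Fact p.Prime] [CharP F p] {b : G} (hb : b ∈ S.B) {n : ℕ}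
    (e : b ^ p ^ n = 1) : b ∈ S.U := by
  obtain ⟨k, hk, h⟩ := exists_conj_mem_U p S.hMul_of_finite (J := ∅) (PJ_empty (S := S) ▸ hb) e
  rw [PJ_empty] at hk
  simpa [mul_assoc] using conj_U (inv_mem hk) h

theorem exists_sylow (p : ℕ) [Fact p.Prime] [CharP F p] : ∃ P : Sylow p Γ, (P : Subgroup Γ) = S.U.comap ι := by
  haveI := hX.finite hι
  have h1 : IsPGroup p (S.U.comap ι) := (isPGroup_Ux p RS.unip_pos).comap_of_injective ι hι
  obtain ⟨P, hP⟩ := h1.exists_le_sylow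
  refine ⟨P, le_antisymm ?_ hP⟩
  haveI := P.isPGroup'.isNilpotent
  by_contra h0
  have h2 := Group.normalizerCondition_of_isNilpotent (G := P) ((S.U.comap ι).subgroupOf P)
    (lt_top_iff_ne_top.2 fun e => h0 (Subgroup.subgroupOf_eq_top.1 e))
  obtain ⟨g, h3, h4⟩ := SetLike.exists_of_lt h2
  obtain ⟨n, hn⟩ := P.isPGroup' g
  refine h4 (mem_U_of_pow p (hX.mem_B_of_conj' hι fun u hu => U_le_B ?_) (n := n) ?_)
  · exact (Subgroup.mem_normalizer_iff.1 h3 ⟨u, hP hu⟩).1 hu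
  · rw [← map_pow, ← map_pow, hn]; simp

theorem exists_A0 (α : MulAut Γ) : ∃ g, MulAut.conj g * α ∈ S.A0 ι := by
  haveI := hX.finite hι
  obtain ⟨p, hp⟩ := CharP.exists F
  haveI : Fact p.Prime := ⟨(CharP.char_is_prime_or_zero F p).resolve_right (CharP.char_ne_zero_of_finite F p)⟩
  obtain ⟨P, hP⟩ := hX.exists_sylow hι p
  obtain ⟨g, hg⟩ := MulAction.exists_smul_eq Γ (α • P) P
  set β := MulAut.conj g * α
  have h1 : ∀ x, ι (β x) ∈ S.U ↔ ι x ∈ S.U := fun x => by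
    have : β • (P : Subgroup Γ) = P := by
      rw [mul_smul]; exact congrArg (fun Q : Sylow p Γ => (Q : Subgroup Γ)) hg
    change β x ∈ S.U.comap ι ↔ x ∈ S.U.comap ι
    rw [← hP]
    conv_lhs => rw [← this]
    exact Subgroup.smul_mem_pointwise_smul_iff
  obtain ⟨m, h2, h3, h4, h5⟩ := hX.exists_n0'
  obtain ⟨w, hw⟩ := hX.bruhat' hι (β m)
  obtain ⟨b, h6, u, h7, e⟩ := hw _ (hX.nw_mem w) (hX.nw_acts w)
  have h8 := Uw_le_U _ h7
  have cB : ∀ {b : Γ}, ι b ∈ S.B → ∀ x, ι (b * x * b⁻¹) ∈ S.U ↔ ι x ∈ S.U := fun hb x =>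
    ⟨fun h => by simpa [mul_assoc] using conj_U (inv_mem hb) h, fun h => by simpa using conj_U hb h⟩
  have h9 : ∀ x, ι ((hX.nw w)⁻¹ * (b⁻¹ * β x * b) * hX.nw w) ∈ S.U ↔ ι x ∈ S.V := fun x => by
    obtain ⟨x, rfl⟩ := (MulAut.conj m).surjective x
    rw [MulAut.conj_apply, h4, ← h1 x, ← cB (U_le_B h8) (β x), map_mul β, map_mul β, map_inv β, e]
    simp [mul_assoc]
  have h10 : (w : Φ.W) = Φ.w0 Set.univ := by
    refine RS.eq_w0 (by rw [RS.WJ_univ]; trivial) fun i _ hi => ?_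
    obtain ⟨x, a1, a2⟩ := hX.exists_UL (o.κ i)
    obtain ⟨y, e'⟩ := β.surjective (b * (hX.nw w * x * (hX.nw w)⁻¹) * b⁻¹)
    have a3 : ι y ∈ S.U := by
      rw [← h1, e', cB h6, map_mul, map_mul, map_inv]
      exact (hX.nw_acts w).conj_mem (fun r hr => by
        exact RS.pos_smul_of_inJ (fun j hj => by rwa [o.pos_iff w.2 hj (o.mem_J i)]) hr.1 hr.2) a1
    have a4 : ι y ∈ S.V := by
      rw [← h9, e']
      simpa [mul_assoc] using UL_le_U _ a1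
    rw [hι ((eq_one_of_mem_B_V (U_le_B a3) a4).trans (map_one ι).symm), map_one, eq_comm] at e'
    exact a2 (by rw [show x = 1 by simpa using e', map_one])
  refine ⟨b⁻¹ * g, fun x => ?_, fun x => ?_⟩
  · rw [map_mul, mul_assoc, MulAut.mul_apply, MulAut.conj_apply, cB (by simpa using inv_mem h6), h1]
  · rw [map_mul, mul_assoc, MulAut.mul_apply, MulAut.conj_apply, inv_inv, ← h9 x]
    have a : S.Acts (ι (hX.nw w)) (Φ.w0 Set.univ) := h10 ▸ hX.nw_acts w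
    refine ⟨fun h => ?_, fun h => ?_⟩
    · have := a.inv_w0.conj_V h
      rwa [inv_inv, ← map_inv, ← map_mul, ← map_mul] at this
    · have := a.conj_U h
      rwa [← map_inv, ← map_mul, ← map_mul, show ∀ a b : Γ, a * (a⁻¹ * b * a) * a⁻¹ = b by intros; group] at this

theorem out_surj : Function.Surjective ((QuotientGroup.mk' (Inn Γ)).comp (S.A0 ι).subtype) := fun a => by
  obtain ⟨α, rfl⟩ := QuotientGroup.mk'_surjective _ a
  obtain ⟨g, hg⟩ := hX.exists_A0 hι α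
  exact ⟨⟨_, hg⟩, by
    simp only [MonoidHom.comp_apply, Subgroup.coe_subtype, map_mul]
    rw [show QuotientGroup.mk' (Inn Γ) (MulAut.conj g) = 1 from (QuotientGroup.eq_one_iff _).2 ⟨g, rfl⟩, one_mul]⟩

theorem card_A0 (hZ : Subgroup.center Γ = ⊥) :
    Nat.card (S.A0 ι) = Nat.card (Out Γ) * Nat.card (S.H.comap ι) := by
  rw [Subgroup.card_eq_card_quotient_mul_card_subgroup ((QuotientGroup.mk' (Inn Γ)).comp (S.A0 ι).subtype).ker,
    Nat.card_congr (QuotientGroup.quotientKerEquivOfSurjective _ (hX.out_surj hι)).toEquiv]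
  congr 1
  refine (Nat.card_eq_of_bijective (fun g => ⟨⟨MulAut.conj g.1, conj_mem_A0 g.2⟩,
    (QuotientGroup.eq_one_iff _).2 ⟨g, rfl⟩⟩) ⟨fun a b e => Subtype.ext ?_, ?_⟩).symm
  · have : MulAut.conj a.1 = MulAut.conj b.1 := congrArg (fun x => x.1.1) e
    refine (inv_mul_eq_one.1 (Subgroup.mem_bot.1 (hZ ▸ Subgroup.mem_center_iff.2 fun g => ?_)))
    have := DFunLike.congr_fun this g
    simp only [MulAut.conj_apply] at this
    calc _ = a.1⁻¹ * (a.1 * g * a.1⁻¹) * b.1 := by group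
      _ = _ := by rw [this]; group
  · rintro ⟨⟨α, h1⟩, h2⟩
    obtain ⟨g, rfl⟩ := (QuotientGroup.eq_one_iff _).1 h2
    exact ⟨⟨g, (hX.conj_mem_A0_iff hι).1 h1⟩, rfl⟩

end Finite
end Tw.Sub
end St
end Cfsg.Agent.Chev
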