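import Cfsg.Agent.Lib.Chev.Cl6
import Cfsg.Agent.Lib.Chev.Cent
import Cfsg.Agent.S0246

set_option autoImplicit false
set_option linter.unusedSectionVars false
set_option linter.style.haveILetI false

/-! Elements central in a Sylow subgroup of the symplectic group are transvections. -/

namespace Cfsg.Agent.Chev.BC
open Cfsg.Agent.Classical Matrix

variable {F : Type*} [Field F] {m : ℕ}

local notation "β" => Cfsg.sympForm m F
local notation "Sp" => symplecticGroup (Fin m) F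

theorem b_add_l (x y z : Fin m ⊕ Fin m → F) : β (x + y) z = β x z + β y z := add_dotProduct _ _ _
theorem b_smul_l (c : F) (x z : Fin m ⊕ Fin m → F) : β (c • x) z = c * β x z := smul_dotProduct _ _ _
theorem b_add_r (x y z : Fin m ⊕ Fin m → F) : β z (x + y) = β z x + β z y := by simp [Cfsg.sympForm, mulVec_add]
theorem b_smul_r (c : F) (x z : Fin m ⊕ Fin m → F) : β z (c • x) = c * β z x := by simp [Cfsg.sympForm, mulVec_smul]
theorem b_self (x : Fin m ⊕ Fin m → F) : β x x = 0 := by simp [sympForm_eq, mul_comm]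
theorem b_anti (x y : Fin m ⊕ Fin m → F) : β x y = - β y x := by
  have := b_self (x + y)
  rw [b_add_l, b_add_r, b_add_r, b_self, b_self] at this
  linear_combination this
theorem b_inv (g : Sp) (x y : Fin m ⊕ Fin m → F) : β (g.1 *ᵥ x) (g.1 *ᵥ y) = β x y := (mem_symplecticGroup_iff_form m).1 g.2 x y
theorem b_nd {v : Fin m ⊕ Fin m → F} (h : ∀ u, β u v = 0) : v = 0 := spForm_nondeg m v h
theorem inv_act (g : Sp) (x : Fin m ⊕ Fin m → F) : (g⁻¹).1 *ᵥ (g.1 *ᵥ x) = x := by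
  rw [mulVec_mulVec, ← Submonoid.coe_mul, inv_mul_cancel, OneMemClass.coe_one, one_mulVec]
theorem act_inv (g : Sp) (x : Fin m ⊕ Fin m → F) : g.1 *ᵥ ((g⁻¹).1 *ᵥ x) = x := by
  simpa only [inv_inv] using inv_act g⁻¹ x
theorem mul_act (g h : Sp) (x : Fin m ⊕ Fin m → F) : (g * h).1 *ᵥ x = g.1 *ᵥ (h.1 *ᵥ x) := (mulVec_mulVec _ _ _).symm

/-- the unipotent radical of a point stabiliser -/
def Rad (v : Fin m ⊕ Fin m → F) : Subgroup Sp where
  carrier := {g | g.1 *ᵥ v = v ∧ ∀ u, β u v = 0 → ∃ c : F, g.1 *ᵥ u = u + c • v}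
  one_mem' := ⟨one_mulVec _, fun u _ => ⟨0, by simp⟩⟩
  mul_mem' {a b} ha hb := ⟨by rw [mul_act, hb.1, ha.1], fun u hu => by
    obtain ⟨c, e⟩ := hb.2 u hu
    obtain ⟨d, e'⟩ := ha.2 u hu
    exact ⟨d + c, by rw [mul_act, e, mulVec_add, mulVec_smul, e', ha.1, add_smul, add_assoc]⟩⟩
  inv_mem' {a} ha := by
    have h1 : (a⁻¹).1 *ᵥ v = v := by conv_lhs => rw [← ha.1, inv_act]
    refine ⟨h1, fun u hu => ?_⟩
    obtain ⟨c, e⟩ := ha.2 u hu
    have := inv_act a u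
    rw [e, mulVec_add, mulVec_smul, h1] at this
    exact ⟨-c, by rw [neg_smul, ← sub_eq_add_neg, eq_sub_iff_add_eq, this]⟩

theorem mext {A B : Matrix (Fin m ⊕ Fin m) (Fin m ⊕ Fin m) F} (h : ∀ x, A *ᵥ x = B *ᵥ x) : A = B := ext_of_mulVec_single fun _ => h _

theorem rad_cube {v : Fin m ⊕ Fin m → F} {g : Sp} (h : g ∈ Rad v) : (g.1 - 1) ^ 3 = 0 := by
  refine mext fun x => ?_
  have h1 : β (g.1 *ᵥ x + (-1 : F) • x) v = 0 := by
    have := b_inv g x v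
    rw [h.1] at this
    rw [b_add_l, b_smul_l, this]; ring
  obtain ⟨c, e⟩ := h.2 _ h1
  have e1 : ∀ y, (g.1 - 1) *ᵥ y = g.1 *ᵥ y + (-1 : F) • y := fun y => by simp [sub_mulVec, sub_eq_add_neg, add_mulVec, neg_mulVec]
  rw [pow_succ, pow_two, ← mulVec_mulVec, ← mulVec_mulVec, e1 x, e1 (_ + _), e, e1]
  simp only [mulVec_add, mulVec_smul, h.1, zero_mulVec]
  module

variable (p : ℕ) [Fact p.Prime] [CharP F p]

theorem rad_p (hm : 1 ≤ m) (hp : p ≠ 2) (v : Fin m ⊕ Fin m → F) : IsPGroup p (Rad v) := fun g => ⟨1, by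
  haveI : Nonempty (Fin m ⊕ Fin m) := ⟨.inl ⟨0, hm⟩⟩
  have h3 : 3 ≤ p := by have := (Fact.out : p.Prime).two_le; omega
  have := sub_pow_char_of_commute p (Commute.one_right g.1.1)
  rw [pow_eq_zero_of_le h3 (rad_cube g.2), one_pow, eq_comm, sub_eq_zero] at this
  exact Subtype.ext (Subtype.ext (by simpa using this))⟩

variable [Fintype F]

theorem exists_fix (hm : 1 ≤ m) {P : Subgroup Sp} (hP : IsPGroup p P) : ∃ v ≠ 0, ∀ g ∈ P, g.1 *ᵥ v = v := by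
  letI : MulAction P (Fin m ⊕ Fin m → F) :=
    { smul g v := g.1.1 *ᵥ v
      one_smul := one_mulVec
      mul_smul a b v := mul_act _ _ _ }
  obtain ⟨n, -, hn⟩ := FiniteField.card F p
  obtain ⟨v, h1, h2⟩ := hP.exists_fixed_point_of_prime_dvd_card_of_fixed_point (Fin m ⊕ Fin m → F) (a := 0) (by
    rw [Nat.card_eq_fintype_card, Fintype.card_fun, hn, ← pow_mul]
    exact dvd_pow_self _ (by simp; omega)) (fun g => mulVec_zero _)
  exact ⟨v, h2.symm, fun g hg => h1 ⟨g, hg⟩⟩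

theorem transv (hm : 1 ≤ m) (hp : p ≠ 2) (P : Sylow p Sp) {z : Sp} (hz : z ∈ P) (h : ∀ u ∈ P, Commute z u) :
    ∃ v a, z.1 = Cfsg.sympTransvection m v a := by
  obtain ⟨v, h0, h1⟩ := exists_fix p hm P.isPGroup'
  have h2 : (2 : F) ≠ 0 := fun e => hp ((Nat.prime_dvd_prime_iff_eq Fact.out Nat.prime_two).1 ((CharP.cast_eq_zero_iff F p 2).1 (by simpa using e)))
  have hQ : Rad v ≤ P := by
    have := P.isPGroup'.to_sup_of_normal_right' (rad_p p hm hp v) fun x hx => Subgroup.mem_normalizer_fintype fun g hg =>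
      ⟨by rw [mul_act, mul_act, h1 _ (inv_mem hx), hg.1, h1 _ hx], fun u hu => by
        obtain ⟨c, e⟩ := hg.2 ((x⁻¹).1 *ᵥ u) (by rw [← hu, ← b_inv x⁻¹ u v, h1 _ (inv_mem hx)])
        exact ⟨c, by rw [mul_act, mul_act, e, mulVec_add, act_inv, mulVec_smul, h1 _ hx]⟩⟩
    exact le_sup_right.trans (P.is_maximal' this le_sup_left).le
  obtain ⟨w, hw⟩ : ∃ w, β w v = 1 := by
    obtain ⟨u, hu⟩ := not_forall.1 fun e => h0 (b_nd e)
    exact ⟨(β u v)⁻¹ • u, by rw [b_smul_l, inv_mul_cancel₀ hu]⟩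
  have h3 : ∀ x, β (z.1 *ᵥ x) v = β x v := fun x => by conv_lhs => rw [← h1 z hz, b_inv]
  have h4 : ∀ u, β u v = 0 → z.1 *ᵥ u = u := fun u hu => by
    have hu' : β v u = 0 := by rw [b_anti, hu, neg_zero]
    have e0 : ∀ x, (1 + vecMulVec v (J (Fin m) F *ᵥ u) + vecMulVec u (J (Fin m) F *ᵥ v)) *ᵥ x = x + β x u • v + β x v • u := fun x => by
      simp [add_mulVec, vecMulVec_mulVec, Cfsg.sympForm, dotProduct_comm]
    let E : Sp := ⟨_, (mem_symplecticGroup_iff_form m).2 fun x y => by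
      rw [e0, e0]
      simp only [b_add_l, b_add_r, b_smul_l, b_smul_r, b_self, hu, hu', b_anti v y, b_anti u y]
      ring⟩
    have e1 := congrArg (fun g : Sp => g.1 *ᵥ w) (h E (hQ ⟨by simp only [E, e0, hu', b_self]; simp, fun x hx => ⟨β x u, by simp only [E, e0, hx]; simp⟩⟩)).eq
    simp only [mul_act, E, e0, hw, h3, one_smul, mulVec_add, mulVec_smul, h1 z hz] at e1
    have e2 : z.1 *ᵥ u = u + (β (z.1 *ᵥ w) u - β w u) • v := by linear_combination (norm := module) e1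
    have e3 := b_inv z w u
    rw [e2, b_add_r, b_smul_r, h3, hw] at e3
    have e4 : β (z.1 *ᵥ w) u - β w u = 0 := (mul_eq_zero.1 (show 2 * (β (z.1 *ᵥ w) u - β w u) = 0 by linear_combination e3)).resolve_left h2
    rw [e2, e4, zero_smul, add_zero]
  have h5 : ∀ x, β (x + (-β x v) • w) v = 0 := fun x => by rw [b_add_l, b_smul_l, hw]; ring
  have h6 : z.1 *ᵥ w + (-1 : F) • w + (-β w (z.1 *ᵥ w)) • v = 0 := b_nd fun x => by
    have e1 := b_inv z (x + (-β x v) • w) w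
    rw [h4 _ (h5 x)] at e1
    simp only [b_add_l, b_add_r, b_smul_l, b_smul_r, b_self] at e1 ⊢
    linear_combination e1
  refine ⟨v, β w (z.1 *ᵥ w), mext fun x => ?_⟩
  have e1 := h4 _ (h5 x)
  rw [mulVec_add, mulVec_smul] at e1
  rw [sympTransvection_mulVec]
  linear_combination (norm := module) e1 + β x v • h6

theorem comm_transv (hm : 1 ≤ m) {y z : Sp} {v w : Fin m ⊕ Fin m → F} {a b : F} (hy : y.1 = Cfsg.sympTransvection m v a)
    (hz : z.1 = Cfsg.sympTransvection m w b) {k : ℕ} (h : (y * z) ^ p ^ k = 1) : Commute y z := by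
  haveI : Nonempty (Fin m ⊕ Fin m) := ⟨.inl ⟨0, hm⟩⟩
  have h1 := sub_pow_char_pow_of_commute p k (Commute.one_right (y * z).1)
  rw [← SubmonoidClass.coe_pow, h, one_pow, OneMemClass.coe_one, sub_self] at h1
  have h2 := (isNilpotent_trace_of_isNilpotent ⟨_, h1⟩).eq_zero
  have e : ∀ x x' : Fin m ⊕ Fin m → F, (J (Fin m) F *ᵥ x) ⬝ᵥ x' = β x' x := fun x x' => dotProduct_comm _ _
  have e' : ∀ x x' : Fin m ⊕ Fin m → F, x' ⬝ᵥ (J (Fin m) F *ᵥ x) = β x' x := fun x x' => rfl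
  simp only [Submonoid.coe_mul, hy, hz, Cfsg.sympTransvection, add_mul, mul_add, one_mul, mul_one, smul_mul_assoc, mul_smul_comm,
    vecMulVec_mul_vecMulVec, trace_sub, trace_add, trace_smul, trace_vecMulVec, e, e', b_self, dotProduct_smul, smul_eq_mul, b_anti w v] at h2
  have h3 : a * b * β v w = 0 := by
    by_contra h4
    exact pow_ne_zero 2 h4 (by linear_combination (-(a * b)) * h2)
  refine Subtype.ext (mext fun x => ?_)
  simp only [mul_act, hy, hz, sympTransvection_mulVec, b_add_l, b_smul_l, b_anti w v]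
  linear_combination (norm := module) (-β x w * h3) • v - (β x v * h3) • w

theorem eq_of_lift (hm : 1 ≤ m) (hp : p ≠ 2) {G : Type*} [Group G] {π : Sp →* G} (hk : π.ker ≤ Subgroup.center Sp) {y z : Sp} (e : π y = π z)
    {P Q : Sylow p Sp} (hy : y ∈ P) (hz : z ∈ Q) : y = z := by
  obtain ⟨k, h1⟩ := P.isPGroup' ⟨y, hy⟩
  obtain ⟨l, h2⟩ := Q.isPGroup' ⟨z, hz⟩
  have h3 : y * z⁻¹ ∈ Subgroup.center Sp := hk (by simp [e])
  have h4 : (y * z⁻¹) ^ 2 = 1 := by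
    have := pow_card_eq_one' (x := (⟨_, h3⟩ : Subgroup.center Sp))
    rw [S0246.result rfl m hm] at this
    obtain ⟨c, hc⟩ := Nat.gcd_dvd_left 2 (Fintype.card F - 1)
    rw [hc, pow_mul, show (y * z⁻¹) ^ _ = 1 from congrArg Subtype.val this, one_pow]
  have h5 : Commute y z⁻¹ := by
    have := Subgroup.mem_center_iff.1 h3 z
    rw [inv_mul_cancel_right, ← mul_assoc, mul_inv_eq_iff_eq_mul] at this
    exact (show Commute z y from this).symm.inv_right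
  have h6 : (y * z⁻¹) ^ p ^ (k + l) = 1 := by
    rw [h5.mul_pow, inv_pow, pow_add, pow_mul, show y ^ p ^ k = 1 from congrArg Subtype.val h1, mul_comm (p ^ k), pow_mul,
      show z ^ p ^ l = 1 from congrArg Subtype.val h2]
    simp
  have := pow_gcd_eq_one.2 ⟨h4, h6⟩
  rwa [Nat.Coprime.pow_right _ ((Nat.coprime_primes Nat.prime_two Fact.out).2 hp.symm), pow_one, mul_inv_eq_one] at this

theorem commute_of (hm : 1 ≤ m) (hp : p ≠ 2) {G : Type*} [Group G] {π : Sp →* G} (hs : Function.Surjective π) (hk : π.ker ≤ Subgroup.center Sp)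
    (Q Q₁ Q₂ : Sylow p G) {a b : G} (ha : a ∈ Q ∧ a ∈ Q₁ ∧ ∀ u ∈ Q₁, Commute a u) (hb : b ∈ Q ∧ b ∈ Q₂ ∧ ∀ u ∈ Q₂, Commute b u) : Commute a b := by
  obtain ⟨P, rfl⟩ := Sylow.mapSurjective_surjective hs p Q
  have key : ∀ (Q₁ : Sylow p G) (a : G), a ∈ P.mapSurjective hs ∧ a ∈ Q₁ ∧ (∀ u ∈ Q₁, Commute a u) →
      ∃ y ∈ P, π y = a ∧ ∃ v c, y.1 = Cfsg.sympTransvection m v c := fun Q₁ a ha => by
    obtain ⟨P₁, rfl⟩ := Sylow.mapSurjective_surjective hs p Q₁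
    obtain ⟨⟨y, hy, rfl⟩, ⟨z, hz, e⟩, h⟩ := ha
    obtain rfl := eq_of_lift p hm hp hk e hz hy
    exact ⟨z, hy, rfl, transv p hm hp P₁ hz fun u hu => eq_of_lift p hm hp hk (by
      simpa using (h (π u) ⟨u, hu, rfl⟩).eq) (P := P₁) (Q := P₁) (mul_mem hz hu) (mul_mem hu hz)⟩
  obtain ⟨y, h1, rfl, v, c, h2⟩ := key Q₁ a ha
  obtain ⟨z, h3, rfl, w, d, h4⟩ := key Q₂ b hb
  obtain ⟨k, h5⟩ := P.isPGroup' ⟨y * z, mul_mem h1 h3⟩
  exact (comm_transv p hm h2 h4 (congrArg Subtype.val h5)).map π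

end Cfsg.Agent.Chev.BC

namespace Cfsg.Agent.Chev
open Cl

theorem St.exists_sylow {I R : Type} [Fintype I] [DecidableEq I] [Fintype R] [DecidableEq R] {Φ : CD I R} {F : Type*} [Field F] [Finite F]
    {G : Type*} [Group G] {S : St Φ F G} (p : ℕ) [Fact p.Prime] [CharP F p] (hG : S.Gx = ⊤) (hm : S.HMul) : ∃ Q : Sylow p G, (Q : Subgroup G) = S.U :=
  haveI := St.finite_of_Gx hG
  ⟨(St.isPGroup_Ux p RS.unip_pos).toSylow (by have := St.not_dvd_relIndex p hm Set.univ; rwa [St.PJ_univ, hG, Subgroup.relIndex_top_right] at this), rfl⟩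

theorem not_BC {n : ℕ} {hn : 1 ≤ n} (h2 : 2 ≤ n) {A : Type*} [Ring A] {e : RC 0 n → A} (q : (rs 0 hn).QZ e) (hc) {F : Type*} [Field F] [Finite F]
    {G : Type*} [Group G] {S : St (q.cd hc) F G} (p : ℕ) [Fact p.Prime] [CharP F p] (hG : S.Gx = ⊤) (hm : S.HMul)
    (h : ∀ (Q Q₁ Q₂ : Sylow p G) (a b : G), (a ∈ Q ∧ a ∈ Q₁ ∧ ∀ u ∈ Q₁, Commute a u) → (b ∈ Q ∧ b ∈ Q₂ ∧ ∀ u ∈ Q₂, Commute b u) → Commute a b) : False := by
  obtain ⟨Q, hQ⟩ := St.exists_sylow p hG hm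
  have o : okC 0 n 1 2 := by grind [okC]
  have h1 : ∀ k i, (rs 0 hn).rv k i ≤ (rs 0 hn).rv (mkC 1 2 o) i := fun k => k.ind fun a b h3 => by
    rintro (_ | j) <;> simp only [rv_mk, coC, psC] <;> grind [okC]
  have h0 : (rs 0 hn).Pos (mkC 1 2 o) := by
    rintro (_ | j) <;> simp only [rv_mk, coC, psC] <;> grind [okC]
  have h3 : ∀ u ∈ S.U, ∀ t, Commute u (S.x (mkC 1 2 o) t) := fun u hu t => St.commute_U (fun r hr t u => (St.commute_x
    (fun e => RS.Pos.not_neg hr (by exact e ▸ h0)) (fun k hk => (rs 0 hn).rv_ne_zero r (funext fun i => by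
      have := hk.rv_le (hr i) (h0 i)
      have := h1 k i
      have : 0 ≤ (rs 0 hn).rv r i := hr i
      simp only [Pi.zero_apply]
      change (rs 0 hn).rv r i + (rs 0 hn).rv _ i ≤ (rs 0 hn).rv k i at *
      omega)) t u).symm) hu t
  have h4 : ∀ r, (rs 0 hn).Pos r → (rs 0 hn).ln r = 2 → S.x r 1 ∈ Q ∧ ∃ Q₁ : Sylow p G, S.x r 1 ∈ Q₁ ∧ ∀ u ∈ Q₁, Commute (S.x r 1) u := fun r hr hl => by
    obtain ⟨w, rfl⟩ := (good (τ := 0) (hn := hn) (by omega)).trans (mkC 1 2 o) r (by rw [hl, ln_mk]; simp)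
    obtain ⟨g, -, χ, -, h5⟩ := St.exists_of_W (S := S) w
    have h6 := h5 (mkC 1 2 o) (χ (mkC 1 2 o))⁻¹
    rw [mul_inv_cancel₀ (Units.ne_zero _)] at h6
    refine ⟨show _ ∈ (Q : Subgroup G) from hQ ▸ St.x_mem hr _, g • Q, ?_, fun u hu => ?_⟩
    · exact ⟨_, show _ ∈ (Q : Subgroup G) from hQ ▸ St.x_mem h0 _, h6⟩
    · obtain ⟨v, hv, rfl⟩ := hu
      exact h6 ▸ ((h3 v (hQ ▸ hv) _).symm.map (MulAut.conj g))
  have o1 : okC 0 n 1 (-2) := by grind [okC]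
  have o2 : okC 0 n (-(-2)) 3 := by grind [okC]
  have o3 : okC 0 n 1 3 := by grind [okC]
  obtain ⟨a1, Q₁, a2⟩ := h4 (mkC _ _ o1) (by rintro (_ | j) <;> simp only [rv_mk, coC, psC] <;> grind [okC]) (by rw [ln_mk]; simp)
  obtain ⟨b1, Q₂, b2⟩ := h4 (mkC _ _ o2) (by rintro (_ | j) <;> simp only [rv_mk, coC, psC] <;> grind [okC]) (by rw [ln_mk]; simp)
  obtain ⟨c, c1, c2⟩ := St.comm_one (S := S) (one_mk q hc o3 o1 o2 (by simp))
  have := c2 1 1
  rw [(h Q Q₁ Q₂ _ _ ⟨a1, a2⟩ ⟨b1, b2⟩).commutator_eq, eq_comm, St.x_eq_one_iff, mul_one, mul_one] at this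
  simp [this] at c1

end Cfsg.Agent.Chev
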