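import Cfsg.Agent.Lib.Chev.BC1

set_option autoImplicit false
set_option linter.unusedSectionVars false
set_option linter.style.haveILetI false

/-! Intersections of Sylow subgroups in extensions of Chevalley groups over the field of two elements. -/

namespace Cfsg.Agent.Chev
open scoped Pointwise

variable {I R : Type} [Fintype I] [DecidableEq I] [Fintype R] [DecidableEq R] {Φ : CD I R} {F : Type*} [Field F]

theorem St.exists_opp (hF : ∀ c : Fˣ, c = 1) {G : Type*} [Group G] {S : St Φ F G} (hG : S.Gx = ⊤) :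
    ∃ m : G, ∀ k : G, (∀ y ∈ S.U, k * y * k⁻¹ ∈ S.U → y = 1) → ∃ u ∈ S.U, ∃ u' ∈ S.U, k = u * m * u' := by
  obtain ⟨m, h1, h2⟩ := St.exists_of_W (S := S) (Φ.w0 Set.univ)
  refine ⟨m, fun k hk => ?_⟩
  obtain ⟨u, hu, m', hm, w, hw, u', hu', rfl⟩ := St.bruhat' (S := S) (g := k) (hG ▸ Subgroup.mem_top k)
  have h3 := St.Uw_le_U _ hu'
  obtain rfl : w = Φ.w0 Set.univ := RS.eq_w0 (by rw [RS.WJ_univ]; trivial) fun j _ e => by
    obtain ⟨χ, -, h4⟩ := hw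
    have := hk (u'⁻¹ * S.x (Φ.sim j) 1 * u') (mul_mem (mul_mem (inv_mem h3) (St.x_mem (Φ.pos_sim j) _)) h3) (by
      rw [show u * m' * u' * (u'⁻¹ * S.x (Φ.sim j) 1 * u') * (u * m' * u')⁻¹ = u * (m' * S.x (Φ.sim j) 1 * m'⁻¹) * u⁻¹ by group, h4]
      exact mul_mem (mul_mem hu (St.x_mem e _)) (inv_mem hu))
    rw [mul_eq_one_iff_eq_inv, inv_mul_eq_iff_eq_mul, mul_inv_cancel, St.x_eq_one_iff] at this
    exact one_ne_zero this
  have h4 : S.H ≤ ⊥ := (Subgroup.closure_le _).2 (by rintro _ ⟨i, c, rfl⟩; simp [hF c, St.h_one])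
  have h5 := h4 (St.mem_H_of_acts (mul_mem (inv_mem h1) hm) (by simpa using h2.inv.mul hw))
  rw [Subgroup.mem_bot, inv_mul_eq_one] at h5
  exact ⟨u, hu, u', h3, by rw [h5]⟩

theorem St.syl_inf [Finite F] [CharP F 2] (hF : ∀ c : Fˣ, c = 1) {G : Type*} [Group G] [Finite G] {K : Subgroup G} [hn : K.Normal] (hK : K.index = 2)
    {S : St Φ F K} (hG : S.Gx = ⊤) (H : Sylow 2 G) (x : G) : (H : Subgroup G) ⊓ MulAut.conj x • (H : Subgroup G) ≠ ⊥ := by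
  obtain ⟨U, hU⟩ := St.exists_sylow 2 hG fun i c d => by simp [hF c, hF d, St.h_one]
  obtain ⟨Q, hQ⟩ := U.exists_comap_subtype_eq
  have h1 : ∀ y : K, y ∈ S.U ↔ (y : G) ∈ (Q : Subgroup G) := fun y => by rw [← hU, ← hQ]; rfl
  obtain ⟨t, t1, t2⟩ := SetLike.not_le_iff_exists.1 fun e : (Q : Subgroup G) ≤ K => Q.not_dvd_index (hK.symm.dvd.trans (Subgroup.index_dvd_of_le e))
  obtain ⟨m, hm⟩ := St.exists_opp hF hG
  have h2 : ∀ k ∈ K, ∃ y ≠ 1, y ∈ (Q : Subgroup G) ∧ k * y * k⁻¹ ∈ (Q : Subgroup G) := fun k hk => by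
    by_contra! h
    have h0 : ∀ y ∈ (Q : Subgroup G), k * y * k⁻¹ ∈ (Q : Subgroup G) → y = 1 := fun y a b => by_contra fun c => h y c a b
    obtain ⟨u, a1, u', a2, a3⟩ := hm ⟨k, hk⟩ fun y a b => Subtype.ext (h0 y ((h1 _).1 a) ((h1 _).1 b))
    obtain ⟨v, b1, v', b2, b3⟩ := hm ⟨t * k * t⁻¹, hn.conj_mem k hk t⟩ fun y a b => by
      have := h0 (t⁻¹ * y * t) (mul_mem (mul_mem (inv_mem t1) ((h1 _).1 a)) t1) (by
        simpa [mul_assoc] using mul_mem (mul_mem (inv_mem t1) ((h1 _).1 b)) t1)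
      rw [mul_eq_one_iff_eq_inv, inv_mul_eq_iff_eq_mul, mul_inv_cancel] at this
      exact Subtype.ext this
    have a4 : k = u * m * u' := congrArg Subtype.val a3
    have b4 : t * k * t⁻¹ = v * m * v' := congrArg Subtype.val b3
    have := h0 ((u' : G)⁻¹ * v' * t) (mul_mem (mul_mem (inv_mem ((h1 _).1 a2)) ((h1 _).1 b2)) t1) (by
      rw [show k * ((u' : G)⁻¹ * v' * t) * k⁻¹ = u * (v : G)⁻¹ * t by
        calc _ = u * (v : G)⁻¹ * (v * m * v') * t * k⁻¹ := by rw [a4]; group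
          _ = _ := by rw [← b4]; group]
      exact mul_mem (mul_mem ((h1 _).1 a1) (inv_mem ((h1 _).1 b1))) t1)
    exact t2 (eq_inv_of_mul_eq_one_right this ▸ inv_mem (mul_mem (inv_mem u'.2) v'.2))
  have h3 : ∀ g : G, ∃ y ≠ 1, y ∈ (Q : Subgroup G) ∧ g * y * g⁻¹ ∈ (Q : Subgroup G) := fun g => by
    by_cases e : g ∈ K
    · exact h2 g e
    obtain ⟨y, a, b, c⟩ := h2 (g * t) ((Subgroup.mul_mem_iff_of_index_two hK).2 (iff_of_false e t2))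
    exact ⟨t * y * t⁻¹, by simpa [conj_eq_one_iff] using a, mul_mem (mul_mem t1 b) (inv_mem t1), by simpa [mul_assoc] using c⟩
  obtain ⟨g, rfl⟩ := MulAction.exists_smul_eq G Q H
  obtain ⟨y, a, b, c⟩ := h3 (g⁻¹ * x⁻¹ * g)
  refine fun e => a (conj_eq_one_iff.1 (Subgroup.mem_bot.1 (e.le (⟨⟨y, b, rfl⟩, ⟨g * (g⁻¹ * x⁻¹ * g * y * (g⁻¹ * x⁻¹ * g)⁻¹) * g⁻¹, ⟨_, c, rfl⟩, ?_⟩⟩ :
    g * y * g⁻¹ ∈ ((g • Q : Sylow 2 G) : Subgroup G) ⊓ MulAut.conj x • ((g • Q : Sylow 2 G) : Subgroup G)))))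
  simp [mul_assoc]

end Cfsg.Agent.Chev
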