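import Mathlib

set_option autoImplicit false

/-! Groups generated by involutions: length, the exchange condition, Matsumoto's theorem and the
Coxeter presentation. -/

namespace Cfsg.Agent.Chev

section Words
variable {ι : Type*} {W : Type*}

/-- product of a word -/
def wp [Monoid W] (s : ι → W) (ω : List ι) : W := (ω.map s).prod

@[simp] theorem wp_nil [Monoid W] (s : ι → W) : wp s [] = 1 := by simp [wp]
@[simp] theorem wp_cons [Monoid W] (s : ι → W) (i : ι) (ω : List ι) :
    wp s (i :: ω) = s i * wp s ω := by simp [wp]
@[simp] theorem wp_append [Monoid W] (s : ι → W) (ω ω' : List ι) :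
    wp s (ω ++ ω') = wp s ω * wp s ω' := by simp [wp]
theorem wp_singleton [Monoid W] (s : ι → W) (i : ι) : wp s [i] = s i := by simp
theorem map_wp [Monoid W] {W' : Type*} [Monoid W'] (f : W →* W') (s : ι → W) (ω : List ι) :
    f (wp s ω) = wp (fun i => f (s i)) ω := by
  induction ω with
  | nil => simp
  | cons i ω ih => simp [ih]

/-- alternating word starting with `i` -/
def alt (i j : ι) : ℕ → List ι
  | 0 => []
  | n + 1 => i :: alt j i n

@[simp] theorem length_alt (i j : ι) (n : ℕ) : (alt i j n).length = n := by
  induction n generalizing i j with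
  | zero => rfl
  | succ n ih => simp [alt, ih]

theorem alt_add (i j : ι) (m n : ℕ) :
    alt i j (2 * m + n) = alt i j (2 * m) ++ alt i j n := by
  induction m with
  | zero => simp [alt]
  | succ m ih =>
    have : 2 * (m + 1) + n = (2 * m + n) + 1 + 1 := by ring
    rw [this]
    have h2 : 2 * (m + 1) = 2 * m + 1 + 1 := by ring
    rw [h2]
    simp [alt, ih]

theorem dropLast_alt (i j : ι) (n : ℕ) : (alt i j (n + 1)).dropLast = alt i j n := by
  induction n generalizing i j with
  | zero => simp [alt]
  | succ n ih =>
    have := ih j i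
    rw [alt, List.dropLast_cons_of_ne_nil (by simp [alt]), this, alt]

theorem wp_alt_two_mul [Monoid W] (s : ι → W) (i j : ι) (m : ℕ) :
    wp s (alt i j (2 * m)) = (s i * s j) ^ m := by
  induction m with
  | zero => simp [alt]
  | succ m ih =>
    have h2 : 2 * (m + 1) = 2 * m + 1 + 1 := by ring
    rw [h2]
    simp [alt, ih, pow_succ', mul_assoc]

theorem wp_alt_mul_inv [Group W] (s : ι → W) (hs : ∀ i, s i * s i = 1) (i j : ι) (n : ℕ) :
    wp s (alt i j n) * (wp s (alt j i n))⁻¹ = (s i * s j) ^ n := by
  induction n generalizing i j with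
  | zero => simp [alt]
  | succ n ih =>
    have hj : (s j)⁻¹ = s j := inv_eq_of_mul_eq_one_right (hs j)
    simp only [alt, wp_cons, mul_inv_rev, hj]
    have := ih j i
    calc s i * wp s (alt j i n) * ((wp s (alt i j n))⁻¹ * s j)
        = s i * (wp s (alt j i n) * (wp s (alt i j n))⁻¹) * s j := by group
      _ = s i * (s j * s i) ^ n * s j := by rw [this]
      _ = (s i * s j) ^ (n + 1) := by
        clear this ih
        induction n with
        | zero => simp
        | succ n ih => rw [pow_succ' _ (n+1), ← ih, pow_succ']; simp [mul_assoc]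

end Words

/-- a family of involutions generating `W` -/
structure InvGen {ι W : Type*} [Group W] (s : ι → W) : Prop where
  sq : ∀ i, s i * s i = 1
  gen : ∀ w, ∃ ω : List ι, wp s ω = w

section Len
variable {ι W : Type*} [Group W] (s : ι → W)

/-- length with respect to the family `s` -/
noncomputable def len (w : W) : ℕ := sInf {n | ∃ ω : List ι, ω.length = n ∧ wp s ω = w}

/-- reduced words -/
def Red (ω : List ι) : Prop := len s (wp s ω) = ω.length

theorem len_wp_le (ω : List ι) : len s (wp s ω) ≤ ω.length :=
  Nat.sInf_le ⟨ω, rfl, rfl⟩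

@[simp] theorem len_one : len s (1 : W) = 0 := by
  simpa using len_wp_le s []

theorem red_nil : Red s [] := by simp [Red]

variable {s}

theorem exists_red_of_wp (ω : List ι) : ∃ ω' : List ι, Red s ω' ∧ wp s ω' = wp s ω := by
  have : len s (wp s ω) ∈ {n | ∃ ω' : List ι, ω'.length = n ∧ wp s ω' = wp s ω} :=
    Nat.sInf_mem ⟨_, ω, rfl, rfl⟩
  obtain ⟨ω', h1, h2⟩ := this
  exact ⟨ω', by rw [Red, h2, h1], h2⟩

theorem InvGen.exists_red (h : InvGen s) (w : W) : ∃ ω : List ι, Red s ω ∧ wp s ω = w := by
  obtain ⟨ω, rfl⟩ := h.gen w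
  exact exists_red_of_wp ω

theorem InvGen.inv (h : InvGen s) (i : ι) : (s i)⁻¹ = s i := inv_eq_of_mul_eq_one_right (h.sq i)

theorem InvGen.cancel_left (h : InvGen s) (i : ι) (w : W) : s i * (s i * w) = w := by
  rw [← mul_assoc, h.sq, one_mul]

theorem InvGen.cancel_right (h : InvGen s) (i : ι) (w : W) : w * s i * s i = w := by
  rw [mul_assoc, h.sq, mul_one]

theorem InvGen.wp_reverse (h : InvGen s) (ω : List ι) : wp s ω.reverse = (wp s ω)⁻¹ := by
  induction ω with
  | nil => simp
  | cons i ω ih => simp [ih, h.inv]

theorem InvGen.len_mul_le (h : InvGen s) (w w' : W) : len s (w * w') ≤ len s w + len s w' := by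
  obtain ⟨ω, h1, rfl⟩ := h.exists_red w
  obtain ⟨ω', h1', rfl⟩ := h.exists_red w'
  have := len_wp_le s (ω ++ ω')
  rw [wp_append, List.length_append] at this
  rw [h1, h1']; exact this

theorem InvGen.len_inv (h : InvGen s) (w : W) : len s w⁻¹ = len s w := by
  have key : ∀ w : W, len s w⁻¹ ≤ len s w := by
    intro w
    obtain ⟨ω, h1, rfl⟩ := h.exists_red w
    have := len_wp_le s ω.reverse
    rw [h.wp_reverse, List.length_reverse] at this
    rw [h1]; exact this
  exact le_antisymm (key w) (by simpa using key w⁻¹)

theorem InvGen.len_eq_zero (h : InvGen s) {w : W} : len s w = 0 ↔ w = 1 := by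
  constructor
  · intro hw
    obtain ⟨ω, h1, rfl⟩ := h.exists_red w
    rw [Red, hw] at h1
    have : ω = [] := List.eq_nil_of_length_eq_zero h1.symm
    simp [this]
  · rintro rfl; simp

theorem len_simple_le (i : ι) : len s (s i) ≤ 1 := by simpa using len_wp_le s [i]

theorem InvGen.len_simple_mul_le (h : InvGen s) (i : ι) (w : W) : len s (s i * w) ≤ len s w + 1 := by
  have := h.len_mul_le (s i) w
  have := len_simple_le (s := s) i
  omega

theorem InvGen.len_mul_simple_le (h : InvGen s) (i : ι) (w : W) : len s (w * s i) ≤ len s w + 1 := by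
  have := h.len_mul_le w (s i)
  have := len_simple_le (s := s) i
  omega

theorem InvGen.len_le_simple_mul (h : InvGen s) (i : ι) (w : W) : len s w ≤ len s (s i * w) + 1 := by
  have := h.len_simple_mul_le i (s i * w)
  rwa [h.cancel_left] at this

theorem InvGen.len_le_mul_simple (h : InvGen s) (i : ι) (w : W) : len s w ≤ len s (w * s i) + 1 := by
  have := h.len_mul_simple_le i (w * s i)
  rwa [h.cancel_right] at this

theorem InvGen.red_of_append (h : InvGen s) {ω ω' : List ι} (hr : Red s (ω ++ ω')) :
    Red s ω ∧ Red s ω' := by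
  have h1 := len_wp_le s ω
  have h2 := len_wp_le s ω'
  have h3 := h.len_mul_le (wp s ω) (wp s ω')
  rw [Red, wp_append, List.length_append] at hr
  constructor <;> unfold Red <;> omega

theorem InvGen.red_tail (h : InvGen s) {i : ι} {ω : List ι} (hr : Red s (i :: ω)) : Red s ω :=
  (h.red_of_append (ω := [i]) hr).2

theorem InvGen.red_reverse (h : InvGen s) {ω : List ι} (hr : Red s ω) : Red s ω.reverse := by
  rw [Red, h.wp_reverse, h.len_inv, List.length_reverse]; exact hr

/-- induction on length, multiplying on the left -/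
theorem InvGen.induction_left (h : InvGen s) {p : W → Prop} (h1 : p 1)
    (hs : ∀ i w, len s (s i * w) = len s w + 1 → p w → p (s i * w)) (w : W) : p w := by
  obtain ⟨ω, hr, rfl⟩ := h.exists_red w
  induction ω with
  | nil => simpa using h1
  | cons i ω ih =>
    have hr' := h.red_tail hr
    rw [wp_cons]
    refine hs i _ ?_ (ih hr')
    rw [hr']; exact hr

theorem InvGen.induction_right (h : InvGen s) {p : W → Prop} (h1 : p 1)
    (hs : ∀ i w, len s (w * s i) = len s w + 1 → p w → p (w * s i)) (w : W) : p w := by
  have : p (w⁻¹)⁻¹ := by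
    refine h.induction_left (p := fun w => p w⁻¹) (by simpa using h1) ?_ w⁻¹
    intro i w hl hp
    rw [mul_inv_rev, h.inv]
    refine hs i _ ?_ hp
    rw [← h.len_inv, mul_inv_rev, inv_inv, h.inv, h.len_inv, hl]
  simpa using this

/-- the exchange condition -/
def Exchange (s : ι → W) : Prop :=
  ∀ (i : ι) (ω : List ι), Red s ω → len s (s i * wp s ω) ≤ ω.length →
    ∃ j, j < ω.length ∧ s i * wp s ω = wp s (ω.eraseIdx j)

/-- Bourbaki's criterion -/
theorem InvGen.exchange_of_pos (h : InvGen s) (P : ι → W → Prop) (hA : ∀ i, P i 1)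
    (hB : ∀ i w, P i w → ¬ P i (s i * w))
    (hC : ∀ i j w, P i w → ¬ P i (w * s j) → s i * w = w * s j) :
    Exchange s ∧ ∀ i w, P i w ↔ len s w < len s (s i * w) := by
  have key : ∀ i (ω : List ι), ¬ P i (wp s ω) →
      ∃ j, j < ω.length ∧ s i * wp s ω = wp s (ω.eraseIdx j) := by
    intro i ω
    induction ω using List.reverseRecOn with
    | nil => intro hn; exact absurd (by simpa using hA i) hn
    | append_singleton ω j ih =>
      intro hn
      by_cases hp : P i (wp s ω)
      · have := hC i j _ hp (by simpa using hn)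
        refine ⟨ω.length, by simp, ?_⟩
        rw [List.eraseIdx_append_of_length_le (le_refl _)]
        simp [← mul_assoc, this, h.cancel_right]
      · obtain ⟨k, hk, e⟩ := ih hp
        refine ⟨k, by simp; omega, ?_⟩
        rw [List.eraseIdx_append_of_lt_length hk]
        simp [← mul_assoc, e]
  have lt1 : ∀ i w, ¬ P i w → len s (s i * w) < len s w := by
    intro i w hn
    obtain ⟨ω, hr, rfl⟩ := h.exists_red w
    obtain ⟨j, hj, e⟩ := key i ω hn
    have := len_wp_le s (ω.eraseIdx j)
    rw [List.length_eraseIdx_of_lt hj] at this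
    rw [e, hr]; omega
  have iff : ∀ i w, P i w ↔ len s w < len s (s i * w) := by
    intro i w
    constructor
    · intro hp
      have := lt1 i _ (hB i w hp)
      rwa [h.cancel_left] at this
    · intro hl
      by_contra hn
      have := lt1 i w hn
      omega
  refine ⟨?_, iff⟩
  intro i ω hr hl
  apply key
  rw [iff, hr]; omega

variable (h : InvGen s) (hx : Exchange s)
include h hx

theorem InvGen.len_simple_mul (i : ι) (w : W) :
    len s (s i * w) = len s w + 1 ∨ len s (s i * w) + 1 = len s w := by
  have h1 := h.len_simple_mul_le i w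
  have h2 := h.len_le_simple_mul i w
  by_cases hl : len s (s i * w) ≤ len s w
  · obtain ⟨ω, hr, rfl⟩ := h.exists_red w
    obtain ⟨j, hj, e⟩ := hx i ω hr (by rw [← hr]; exact hl)
    have := len_wp_le s (ω.eraseIdx j)
    rw [List.length_eraseIdx_of_lt hj, ← e] at this
    rw [Red] at hr
    omega
  · omega

theorem InvGen.len_mul_simple (i : ι) (w : W) :
    len s (w * s i) = len s w + 1 ∨ len s (w * s i) + 1 = len s w := by
  have := h.len_simple_mul hx i w⁻¹
  rw [← h.len_inv (s i * w⁻¹), mul_inv_rev, inv_inv, h.inv, h.len_inv] at this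
  exact this

theorem InvGen.len_simple (i : ι) : len s (s i) = 1 := by
  have := h.len_simple_mul hx i 1
  simp at this
  exact this

theorem InvGen.simple_ne_one (i : ι) : s i ≠ 1 := by
  intro e
  have := h.len_simple hx i
  rw [e] at this; simp at this

/-- every word has a reduced subword with the same product -/
theorem InvGen.exists_red_sublist (ω : List ι) :
    ∃ ω' : List ι, ω'.Sublist ω ∧ Red s ω' ∧ wp s ω' = wp s ω := by
  induction ω with
  | nil => exact ⟨[], List.Sublist.refl _, red_nil s, rfl⟩
  | cons i ω ih =>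
    obtain ⟨ω', hs, hr, e⟩ := ih
    rcases h.len_simple_mul hx i (wp s ω') with hl | hl
    · refine ⟨i :: ω', hs.cons_cons i, ?_, by simp [e]⟩
      rw [Red, wp_cons, hl, hr]; rfl
    · obtain ⟨j, hj, e'⟩ := hx i ω' hr (by rw [Red] at hr; omega)
      refine ⟨ω'.eraseIdx j, ((List.eraseIdx_sublist _ _).trans hs).cons i, ?_, by simp [← e', e]⟩
      rw [Red, ← e', List.length_eraseIdx_of_lt hj]
      rw [Red] at hr; omega

/-- if `s i w` is shorter than `w`, then `w` has a reduced word starting with `i` -/
theorem InvGen.exists_red_cons (i : ι) (w : W) (hl : len s (s i * w) ≤ len s w) :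
    ∃ ω, Red s (i :: ω) ∧ wp s (i :: ω) = w := by
  obtain ⟨ω, hr, e⟩ := h.exists_red (s i * w)
  have e2 : wp s (i :: ω) = w := by rw [wp_cons, e, h.cancel_left]
  refine ⟨ω, ?_, e2⟩
  rw [Red, e2, List.length_cons, ← hr, e]
  rcases h.len_simple_mul hx i w with h1 | h1 <;> omega

/-- Matsumoto's theorem -/
theorem InvGen.matsumoto {G : Type*} [Monoid G] (f : ι → G)
    (hf : ∀ i j, orderOf (s i * s j) ≠ 0 →
      wp f (alt i j (orderOf (s i * s j))) = wp f (alt j i (orderOf (s i * s j))))
    (ω ω' : List ι) (hr : Red s ω) (hr' : Red s ω') (e : wp s ω = wp s ω') :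
    wp f ω = wp f ω' := by
  induction hq : ω.length using Nat.strong_induction_on generalizing ω ω' with
  | _ q ih =>
  have hlen : ω'.length = q := by rw [← hr', ← e, hr, hq]
  -- same first letter
  have first : ∀ (i : ι) (α β : List ι), Red s (i :: α) → Red s (i :: β) → (i :: α).length = q →
      wp s (i :: α) = wp s (i :: β) → wp f (i :: α) = wp f (i :: β) := by
    intro i α β h1 h2 h3 h4
    simp only [wp_cons] at h4 ⊢
    rw [ih α.length (by simp at h3; omega) α β (h.red_tail h1) (h.red_tail h2)
      (mul_left_cancel h4) rfl]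
  have last : ∀ (i : ι) (α β : List ι), Red s (α ++ [i]) → Red s (β ++ [i]) →
      (α ++ [i]).length = q →
      wp s (α ++ [i]) = wp s (β ++ [i]) → wp f (α ++ [i]) = wp f (β ++ [i]) := by
    intro i α β h1 h2 h3 h4
    simp only [wp_append] at h4 ⊢
    rw [ih α.length (by simp at h3; omega) α β (h.red_of_append h1).1 (h.red_of_append h2).1
      (mul_right_cancel h4) rfl]
  have main : ∀ (n : ℕ) (i j : ι) (k : ℕ) (tl β : List ι), tl.length = n →
      Red s (alt i j (k + 1) ++ tl) → Red s (j :: β) → (alt i j (k + 1) ++ tl).length = q →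
      wp s (alt i j (k + 1) ++ tl) = wp s (j :: β) →
      wp f (alt i j (k + 1) ++ tl) = wp f (j :: β) := by
    intro n
    induction n with
    | zero =>
      intro i j k tl β htl h1 h2 h3 h4
      have : tl = [] := List.eq_nil_of_length_eq_zero htl
      subst this
      simp only [List.append_nil] at *
      have hβ : β.length = k := by
        have := h2; rw [Red, ← h4, h1] at this; simpa using this.symm
      obtain ⟨m, hm, em⟩ := hx j _ h1 (by
        rw [h4, wp_cons, h.cancel_left]
        have := len_wp_le s β
        simp; omega)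
      have e3 : wp s (j :: (alt i j (k + 1)).eraseIdx m) = wp s (alt i j (k + 1)) := by
        rw [wp_cons, ← em, h.cancel_left]
      have r3 : Red s (j :: (alt i j (k + 1)).eraseIdx m) := by
        rw [Red, e3, h1, List.length_cons, List.length_eraseIdx_of_lt hm]; simp
      have l3 : (j :: (alt i j (k + 1)).eraseIdx m).length = q := by
        rw [List.length_cons, List.length_eraseIdx_of_lt hm, ← h3]; simp
      have s1 := first j _ β r3 h2 l3 (by rw [e3, h4])
      rw [← s1]
      by_cases hmk : m < k
      · obtain ⟨α, x, hα⟩ : ∃ α x, alt i j (k + 1) = α ++ [x] :=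
          ⟨_, _, (List.dropLast_append_getLast (l := alt i j (k+1)) (by simp [alt])).symm⟩
        have hαl : α.length = k := by have := congrArg List.length hα; simpa using this.symm
        rw [hα] at h1 r3 h3 e3 ⊢
        rw [List.eraseIdx_append_of_lt_length (by omega)] at r3 e3 ⊢
        exact last x α (j :: α.eraseIdx m) h1 r3 h3 e3.symm
      · have hmk' : m = k := by simp at hm; omega
        subst hmk'
        have : (alt i j (m + 1)).eraseIdx m = alt i j m := by
          rw [← dropLast_alt i j m, List.dropLast_eq_eraseIdx (i := m) (by simp)]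
        rw [this] at e3 ⊢
        change wp s (alt j i (m + 1)) = _ at e3
        change _ = wp f (alt j i (m + 1))
        have hp : (s i * s j) ^ (m + 1) = 1 := by
          rw [← wp_alt_mul_inv s h.sq, e3]; simp
        have hdvd := orderOf_dvd_of_pow_eq_one hp
        have hne : orderOf (s i * s j) ≠ 0 := by
          intro h0; rw [h0] at hdvd; simp at hdvd
        obtain ⟨c, hc⟩ := hdvd
        have hc1 : c = 1 := by
          by_contra hc1
          have hc2 : 2 ≤ c := by
            rcases c with _ | _ | c
            · simp at hc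
            · exact absurd rfl hc1
            · omega
          obtain ⟨d, hd⟩ : ∃ d, m + 1 = 2 * orderOf (s i * s j) + d :=
            ⟨m + 1 - 2 * orderOf (s i * s j), by
              have : 2 * orderOf (s i * s j) ≤ m + 1 := by rw [hc]; nlinarith
              omega⟩
          rw [hd, alt_add] at h1
          have := (h.red_of_append h1).1
          rw [Red, wp_alt_two_mul, pow_orderOf_eq_one] at this
          rw [len_one, length_alt] at this
          exact hne (by omega)
        rw [hc, hc1, mul_one]
        exact hf i j hne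
    | succ n ihn =>
      intro i j k tl β htl h1 h2 h3 h4
      have hβ : β.length + 1 = q := by
        have := h2; rw [Red, ← h4, h1, h3] at this; simpa using this.symm
      obtain ⟨m, hm, em⟩ := hx j _ h1 (by
        rw [h4, wp_cons, h.cancel_left]
        have := len_wp_le s β
        omega)
      have e3 : wp s (j :: (alt i j (k + 1) ++ tl).eraseIdx m) = wp s (alt i j (k + 1) ++ tl) := by
        rw [wp_cons, ← em, h.cancel_left]
      have l3 : (j :: (alt i j (k + 1) ++ tl).eraseIdx m).length = q := by
        rw [List.length_cons, List.length_eraseIdx_of_lt hm, ← h3]; omega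
      have r3 : Red s (j :: (alt i j (k + 1) ++ tl).eraseIdx m) := by
        rw [Red, e3, h1, l3, h3]
      have s1 := first j _ β r3 h2 l3 (by rw [e3, h4])
      rw [← s1]
      obtain ⟨tl', x, htl'⟩ : ∃ α x, tl = α ++ [x] :=
        ⟨_, _, (List.dropLast_append_getLast (l := tl) (by rintro rfl; simp at htl)).symm⟩
      subst htl'
      rw [← List.append_assoc] at h1 h3 hm e3 l3 r3 ⊢
      by_cases hmk : m < (alt i j (k + 1) ++ tl').length
      · rw [List.eraseIdx_append_of_lt_length hmk] at e3 r3 ⊢
        exact last x _ (j :: (alt i j (k + 1) ++ tl').eraseIdx m) h1 r3 h3 e3.symm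
      · have hmk' : m = (alt i j (k + 1) ++ tl').length := by
          rw [List.length_append] at hm; simp only [List.length_singleton] at hm; omega
        have : (alt i j (k + 1) ++ tl' ++ [x]).eraseIdx m = alt i j (k + 1) ++ tl' := by
          rw [List.eraseIdx_append_of_length_le (by omega)]; simp [hmk']
        rw [this] at e3 r3 l3 ⊢
        have := ihn j i (k + 1) tl' (alt j i k ++ tl' ++ [x]) (by simpa using htl) r3 h1 l3 e3
        exact this.symm
  rcases ω with _ | ⟨i, α⟩
  · have : ω' = [] := List.eq_nil_of_length_eq_zero (by rw [hlen, ← hq]; rfl)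
    rw [this]
  · rcases ω' with _ | ⟨j, β⟩
    · simp at hlen hq; omega
    · exact main α.length i j 0 α β rfl hr hr' hq e

/-- existence of homomorphisms out of a group with the exchange property -/
theorem InvGen.exists_hom {G : Type*} [Group G] (f : ι → G) (hf1 : ∀ i, f i * f i = 1)
    (hf : ∀ i j, (f i * f j) ^ orderOf (s i * s j) = 1) :
    ∃ φ : W →* G, ∀ i, φ (s i) = f i := by
  have hb : ∀ i j, orderOf (s i * s j) ≠ 0 →
      wp f (alt i j (orderOf (s i * s j))) = wp f (alt j i (orderOf (s i * s j))) := by
    intro i j _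
    have := wp_alt_mul_inv f hf1 i j (orderOf (s i * s j))
    rw [hf] at this
    exact mul_inv_eq_one.mp this
  choose r hr er using h.exists_red
  let g : W → G := fun w => wp f (r w)
  have hg : ∀ ω, Red s ω → g (wp s ω) = wp f ω := fun ω hω =>
    h.matsumoto hx f hb _ _ (hr _) hω (er _)
  have hs : ∀ i w, g (s i * w) = f i * g w := by
    have up : ∀ i w, len s (s i * w) = len s w + 1 → g (s i * w) = f i * g w := by
      intro i w hl
      have : Red s (i :: r w) := by
        rw [Red, wp_cons, er, hl, List.length_cons, ← hr w, er]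
      have h2 := hg _ this
      rw [wp_cons, er] at h2
      rw [h2, wp_cons]
    intro i w
    rcases h.len_simple_mul hx i w with hl | hl
    · exact up i w hl
    · have := up i (s i * w) (by rw [h.cancel_left]; omega)
      rw [h.cancel_left] at this
      rw [this, ← mul_assoc, hf1, one_mul]
  have hm : ∀ (ω : List ι) w, g (wp s ω * w) = wp f ω * g w := by
    intro ω w
    induction ω with
    | nil => simp
    | cons i ω ih => simp [mul_assoc, hs, ih]
  have h1 : g 1 = 1 := by simpa using hg [] (red_nil s)
  refine ⟨MonoidHom.mk' g ?_, ?_⟩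
  · intro a b
    obtain ⟨ω, rfl⟩ := h.gen a
    have := hm ω 1
    rw [mul_one, h1, mul_one] at this
    rw [hm, this]
  · intro i
    have := hs i 1
    simpa [h1] using this

/-- a group with the exchange property is the Coxeter group of the matrix of orders -/
theorem InvGen.exists_coxeterSystem (M : CoxeterMatrix ι)
    (hM : ∀ i j, M i j = orderOf (s i * s j)) :
    ∃ cs : CoxeterSystem M W, ∀ i, cs.simple i = s i := by
  have hl : M.IsLiftable s := fun i j => by rw [hM, pow_orderOf_eq_one]
  let π : M.Group →* W := M.toCoxeterSystem.lift ⟨s, hl⟩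
  have hπ : ∀ i, π (M.simple i) = s i := fun i => M.toCoxeterSystem.lift_apply_simple hl i
  obtain ⟨φ, hφ⟩ := h.exists_hom hx M.simple (fun i => M.toCoxeterSystem.simple_mul_simple_self i)
    (fun i j => by rw [← hM]; exact M.toCoxeterSystem.simple_mul_simple_pow i j)
  have e1 : φ.comp π = MonoidHom.id _ := M.toCoxeterSystem.ext_simple (fun i => by
    simp [hπ, hφ])
  have e2 : π.comp φ = MonoidHom.id _ := by
    ext w
    obtain ⟨ω, rfl⟩ := h.gen w
    simp [map_wp, hφ, hπ]
  refine ⟨⟨MonoidHom.toMulEquiv φ π e2 e1⟩, fun i => ?_⟩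
  exact hπ i

end Len

/-- the Coxeter matrix of orders -/
noncomputable def orderMatrix {ι W : Type*} [Group W] (s : ι → W) (hs : ∀ i, s i * s i = 1)
    (hinj : Function.Injective s) : CoxeterMatrix ι where
  M := Matrix.of fun i j => orderOf (s i * s j)
  isSymm := by
    ext i j
    simp only [Matrix.transpose_apply, Matrix.of_apply]
    rw [← orderOf_inv, mul_inv_rev, inv_eq_of_mul_eq_one_right (hs i),
      inv_eq_of_mul_eq_one_right (hs j)]
  diagonal := by intro i; simp [hs]
  off_diagonal := by
    intro i j hij
    simp only [Matrix.of_apply, ne_eq, orderOf_eq_one_iff]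
    intro e
    apply hij; apply hinj
    rw [← inv_eq_of_mul_eq_one_right e, inv_eq_of_mul_eq_one_right (hs i)]

end Cfsg.Agent.Chev
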