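import Mathlib
import Cfsg.Prelude.Def_LieExceptional
import Cfsg.Agent.Lib.Chev.Cox

set_option autoImplicit false

/-! Abstract (B,N)-pairs: Weyl group, Bruhat cells, exchange condition, parabolic subgroups. -/

namespace Cfsg.Agent.Chev.BN

open Cfsg Cfsg.Agent.Chev
open scoped Pointwise

variable {G : Type*} [Group G] (P : BNPair G)

instance instNormalT : ((P.B ⊓ P.N).subgroupOf P.N).Normal := by
  constructor
  intro t ht n
  rw [Subgroup.mem_subgroupOf] at ht ⊢
  exact ⟨P.conj_mem n n.2 t ht, (n * t * n⁻¹).2⟩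

/-- The Weyl group -/
abbrev W : Type _ := P.N ⧸ (P.B ⊓ P.N).subgroupOf P.N

/-- projection to the Weyl group -/
def pr : P.N →* W P := QuotientGroup.mk' _

theorem pr_surj : Function.Surjective (pr P) := QuotientGroup.mk'_surjective _

theorem pr_eq_iff (n n' : P.N) : pr P n = pr P n' ↔ (n : G)⁻¹ * n' ∈ P.B := by
  change (QuotientGroup.mk n : W P) = QuotientGroup.mk n' ↔ _
  rw [QuotientGroup.eq, Subgroup.mem_subgroupOf]
  exact ⟨fun h => h.1, fun h => ⟨h, (n⁻¹ * n').2⟩⟩

theorem pr_eq_one_iff (n : P.N) : pr P n = 1 ↔ (n : G) ∈ P.B := by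
  rw [eq_comm, ← map_one (pr P), pr_eq_iff]; simp

/-- representatives in `N` of the simple reflections -/
def sN (i : P.S) : P.N := ⟨i, P.subset i.2⟩

/-- simple reflections -/
def s (i : P.S) : W P := pr P (sN P i)

theorem s_inj : Function.Injective (s P) := by
  intro i j h
  exact Subtype.ext (P.inj _ i.2 _ j.2 ((pr_eq_iff P _ _).1 h))

theorem s_sq (i : P.S) : s P i * s P i = 1 := by
  rw [s, ← map_mul, pr_eq_one_iff]; exact P.sq_mem _ i.2

theorem not_mem_B (i : P.S) : (i : G) ∉ P.B := by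
  intro h
  apply P.conj_ne _ i.2
  ext x
  constructor
  · rintro ⟨b, hb, rfl⟩
    exact P.B.mul_mem (P.B.mul_mem h hb) h
  · intro hx
    exact ⟨(i : G)⁻¹ * x * (i : G)⁻¹, P.B.mul_mem (P.B.mul_mem (P.B.inv_mem h) hx) (P.B.inv_mem h),
      by group⟩

theorem s_ne_one (i : P.S) : s P i ≠ 1 := by
  rw [s, ne_eq, pr_eq_one_iff]; exact not_mem_B P i

theorem exists_word_of_mem_closure {J : Set G} (hJ : J ⊆ P.S) {n : G}
    (hn : n ∈ Subgroup.closure J) :
    ∃ (h : n ∈ P.N) (ω : List P.S), (∀ i ∈ ω, (i : G) ∈ J) ∧ wp (s P) ω = pr P ⟨n, h⟩ := by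
  induction hn using Subgroup.closure_induction with
  | mem x hx => exact ⟨P.subset (hJ hx), [⟨x, hJ hx⟩], by simpa using hx, by simp [s, sN]⟩
  | one => exact ⟨P.N.one_mem, [], by simp, by simp; exact (map_one (pr P)).symm⟩
  | mul x y _ _ hx hy =>
    obtain ⟨h1, ω1, a1, e1⟩ := hx
    obtain ⟨h2, ω2, a2, e2⟩ := hy
    refine ⟨P.N.mul_mem h1 h2, ω1 ++ ω2, ?_, ?_⟩
    · intro i hi
      rcases List.mem_append.1 hi with h | h
      · exact a1 i h
      · exact a2 i h
    · rw [wp_append, e1, e2, ← map_mul]; rfl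
  | inv x _ hx =>
    obtain ⟨h1, ω1, a1, e1⟩ := hx
    refine ⟨P.N.inv_mem h1, ω1.reverse, by simpa using a1, ?_⟩
    have : wp (s P) ω1.reverse = (wp (s P) ω1)⁻¹ := by
      clear a1 e1
      induction ω1 with
      | nil => simp
      | cons i ω ih => simp [ih, inv_eq_of_mul_eq_one_right (s_sq P i)]
    rw [this, e1, ← map_inv]; rfl

theorem invGen : InvGen (s P) where
  sq := s_sq P
  gen := by
    intro w
    obtain ⟨⟨n, hn⟩, rfl⟩ := pr_surj P w
    have hn' : n ∈ Subgroup.closure P.S ⊔ (P.B ⊓ P.N) := by rw [P.closure_sup]; exact hn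
    let H : Subgroup G :=
      { carrier := {n | ∃ (h : n ∈ P.N) (ω : List P.S), wp (s P) ω = pr P ⟨n, h⟩}
        mul_mem' := by
          rintro x y ⟨h1, ω1, e1⟩ ⟨h2, ω2, e2⟩
          exact ⟨P.N.mul_mem h1 h2, ω1 ++ ω2, by rw [wp_append, e1, e2, ← map_mul]; rfl⟩
        one_mem' := ⟨P.N.one_mem, [], by simp; exact (map_one (pr P)).symm⟩
        inv_mem' := by
          rintro x ⟨h1, ω1, e1⟩
          refine ⟨P.N.inv_mem h1, ω1.reverse, ?_⟩
          have : wp (s P) ω1.reverse = (wp (s P) ω1)⁻¹ := by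
            clear e1
            induction ω1 with
            | nil => simp
            | cons i ω ih => simp [ih, inv_eq_of_mul_eq_one_right (s_sq P i)]
          rw [this, e1, ← map_inv]; rfl }
    have : Subgroup.closure P.S ⊔ (P.B ⊓ P.N) ≤ H := by
      refine sup_le ?_ ?_
      · intro x hx
        obtain ⟨h, ω, _, e⟩ := exists_word_of_mem_closure P (le_refl _) hx
        exact ⟨h, ω, e⟩
      · intro x hx
        exact ⟨hx.2, [], by rw [wp_nil, eq_comm, pr_eq_one_iff]; exact hx.1⟩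
    obtain ⟨_, ω, e⟩ := this hn'
    exact ⟨ω, e⟩

/-- The Bruhat cell of `w` -/
def C (w : W P) : Set G := {g | ∃ n : P.N, pr P n = w ∧ ∃ b ∈ P.B, ∃ b' ∈ P.B, g = b * n * b'}

variable {P}

theorem mem_C_self (n : P.N) : (n : G) ∈ C P (pr P n) :=
  ⟨n, rfl, 1, P.B.one_mem, 1, P.B.one_mem, by simp⟩

theorem mem_C_iff {w : W P} {g : G} (n : P.N) (hn : pr P n = w) :
    g ∈ C P w ↔ ∃ b ∈ P.B, ∃ b' ∈ P.B, g = b * n * b' := by
  constructor
  · rintro ⟨n', hn', b, hb, b', hb', rfl⟩
    have := (pr_eq_iff P n n').1 (by rw [hn, hn'])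
    exact ⟨b, hb, _, P.B.mul_mem this hb', by group⟩
  · rintro h; exact ⟨n, hn, h⟩

theorem mem_C_iff_dc {g : G} (n : P.N) :
    g ∈ C P (pr P n) ↔ g ∈ DoubleCoset.doubleCoset (n : G) (P.B : Set G) P.B := by
  rw [mem_C_iff n rfl, DoubleCoset.mem_doubleCoset]; rfl

theorem mul_mem_C {w : W P} {b g : G} (hb : b ∈ P.B) (hg : g ∈ C P w) : b * g ∈ C P w := by
  obtain ⟨n, hn, b1, h1, b2, h2, rfl⟩ := hg
  exact ⟨n, hn, b * b1, P.B.mul_mem hb h1, b2, h2, by group⟩

theorem mem_C_mul {w : W P} {b g : G} (hg : g ∈ C P w) (hb : b ∈ P.B) : g * b ∈ C P w := by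
  obtain ⟨n, hn, b1, h1, b2, h2, rfl⟩ := hg
  exact ⟨n, hn, b1, h1, b2 * b, P.B.mul_mem h2 hb, by group⟩

theorem inv_mem_C {w : W P} {g : G} (hg : g ∈ C P w) : g⁻¹ ∈ C P w⁻¹ := by
  obtain ⟨n, hn, b1, h1, b2, h2, rfl⟩ := hg
  exact ⟨n⁻¹, by rw [map_inv, hn], b2⁻¹, P.B.inv_mem h2, b1⁻¹, P.B.inv_mem h1, by
    simp [mul_assoc]⟩

theorem mem_C_one {g : G} : g ∈ C P 1 ↔ g ∈ P.B := by
  rw [mem_C_iff 1 (map_one _)]
  constructor
  · rintro ⟨b, hb, b', hb', rfl⟩; simpa using P.B.mul_mem hb hb'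
  · intro h; exact ⟨g, h, 1, P.B.one_mem, by simp⟩

theorem simple_mem_C (i : P.S) : (i : G) ∈ C P (s P i) := mem_C_self (sN P i)

theorem mul_mem_C_union {i : P.S} {w : W P} {g h : G} (hg : g ∈ C P (s P i)) (hh : h ∈ C P w) :
    g * h ∈ C P (s P i * w) ∨ g * h ∈ C P w := by
  obtain ⟨b1, h1, b2, h2, rfl⟩ := (mem_C_iff (sN P i) rfl).1 hg
  obtain ⟨n, rfl, b3, h3, b4, h4, rfl⟩ := hh
  have e : b1 * (sN P i : G) * b2 * (b3 * n * b4) = b1 * ((i : G) * (b2 * b3) * n) * b4 := by
    simp [sN, mul_assoc]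
  rw [e]
  rcases P.mul_mem_union _ i.2 n n.2 _ (P.B.mul_mem h2 h3) with h | h
  · left
    refine mem_C_mul (mul_mem_C h1 ?_) h4
    rw [s, ← map_mul, mem_C_iff_dc]; exact h
  · right
    refine mem_C_mul (mul_mem_C h1 ?_) h4
    rw [mem_C_iff_dc]; exact h

theorem mul_mem_C_union' {i : P.S} {w : W P} {g h : G} (hh : h ∈ C P w) (hg : g ∈ C P (s P i)) :
    h * g ∈ C P (w * s P i) ∨ h * g ∈ C P w := by
  have hg' := inv_mem_C hg
  rw [(invGen P).inv] at hg'
  rcases mul_mem_C_union hg' (inv_mem_C hh) with h | h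
  · left
    have := inv_mem_C h
    simpa [(invGen P).inv] using this
  · right
    have := inv_mem_C h
    simpa using this

/-- product of cells along a word lands in a cell of a subword -/
theorem exists_cell_mul (ω : List P.S) {g h : G} {w : W P} (hg : g ∈ C P (wp (s P) ω))
    (hh : h ∈ C P w) : ∃ ω' : List P.S, ω'.Sublist ω ∧ g * h ∈ C P (wp (s P) ω' * w) := by
  induction ω generalizing g with
  | nil =>
    rw [wp_nil, mem_C_one] at hg
    exact ⟨[], List.Sublist.refl _, by simpa using mul_mem_C hg hh⟩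
  | cons i ω ih =>
    obtain ⟨n, hn⟩ := pr_surj P (wp (s P) ω)
    obtain ⟨b1, h1, b2, h2, rfl⟩ := (mem_C_iff (sN P i * n)
      (by rw [map_mul, hn, wp_cons]; rfl)).1 hg
    obtain ⟨ω', hs, hc⟩ := ih (g := n * b2) (mem_C_mul (hn ▸ mem_C_self n) h2)
    have e : b1 * ((sN P i * n : P.N) : G) * b2 * h = (b1 * i) * (n * b2 * h) := by
      simp [sN, mul_assoc]
    rw [e]
    rcases mul_mem_C_union (mul_mem_C h1 (simple_mem_C i)) hc with h | h
    · exact ⟨i :: ω', hs.cons_cons i, by simpa [mul_assoc] using h⟩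
    · exact ⟨ω', hs.cons i, h⟩

variable (P) in
theorem exists_mem_C (g : G) : ∃ w, g ∈ C P w := by
  let H : Subgroup G :=
    { carrier := {g | ∃ w, g ∈ C P w}
      mul_mem' := by
        rintro x y ⟨w1, h1⟩ ⟨w2, h2⟩
        obtain ⟨ω, rfl⟩ := (invGen P).gen w1
        obtain ⟨ω', _, h⟩ := exists_cell_mul ω h1 h2
        exact ⟨_, h⟩
      one_mem' := ⟨1, mem_C_one.2 P.B.one_mem⟩
      inv_mem' := by rintro x ⟨w, h⟩; exact ⟨_, inv_mem_C h⟩ }
  have : P.B ⊔ P.N ≤ H := sup_le (fun b hb => ⟨1, mem_C_one.2 hb⟩)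
    (fun n hn => ⟨_, mem_C_self ⟨n, hn⟩⟩)
  rw [P.sup_eq_top] at this
  exact this (Subgroup.mem_top g)

theorem C_subset_of_mem {w w' : W P} {g : G} (h : g ∈ C P w) (h' : g ∈ C P w') :
    C P w ⊆ C P w' := by
  obtain ⟨n, rfl, b1, h1, b2, h2, rfl⟩ := h
  intro x hx
  obtain ⟨b3, h3, b4, h4, rfl⟩ := (mem_C_iff n rfl).1 hx
  have : b3 * n * b4 = (b3 * b1⁻¹) * (b1 * n * b2) * (b2⁻¹ * b4) := by group
  rw [this]
  exact mem_C_mul (mul_mem_C (P.B.mul_mem h3 (P.B.inv_mem h1)) h')
    (P.B.mul_mem (P.B.inv_mem h2) h4)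

/-- Bruhat cells are disjoint -/
theorem eq_of_mem_C {w w' : W P} {g : G} (h : g ∈ C P w) (h' : g ∈ C P w') : w = w' := by
  have key : ∀ (q : ℕ) (w w' : W P) (g : G), len (s P) w' = q → q ≤ len (s P) w → g ∈ C P w →
      g ∈ C P w' → w = w' := by
    intro q
    induction q with
    | zero =>
      intro w w' g hq _ h h'
      rw [(invGen P).len_eq_zero] at hq
      subst hq
      obtain ⟨n, rfl⟩ := pr_surj P w
      have := C_subset_of_mem h h' (mem_C_self n)
      rw [mem_C_one] at this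
      exact (pr_eq_one_iff P n).2 this
    | succ q ih =>
      intro w w' g hq hle h h'
      obtain ⟨ω, hr, rfl⟩ := (invGen P).exists_red w'
      rcases ω with _ | ⟨i, ω⟩
      · simp at hq
      · have hr' := (invGen P).red_tail hr
        have hl : len (s P) (wp (s P) ω) = q := by
          rw [hr']; rw [hr] at hq; simpa using hq
        obtain ⟨n, hn⟩ := pr_surj P (wp (s P) (i :: ω))
        have h1 : (n : G) ∈ C P w := C_subset_of_mem h' h (hn ▸ mem_C_self n)
        have h2 : (i : G) * n ∈ C P (wp (s P) ω) := by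
          have := mem_C_self (sN P i * n)
          rw [map_mul, hn, wp_cons] at this
          change _ ∈ C P (s P i * _) at this
          rwa [(invGen P).cancel_left] at this
        rcases mul_mem_C_union (simple_mem_C i) h1 with h3 | h3
        · have := ih (s P i * w) _ _ hl (by
            have := (invGen P).len_le_simple_mul i w; omega) h3 h2
          rw [wp_cons, ← this, (invGen P).cancel_left]
        · have := ih w _ _ hl (by omega) h3 h2
          rw [this] at hle; omega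
  rcases le_total (len (s P) w) (len (s P) w') with hl | hl
  · exact (key _ w' w g rfl hl h' h).symm
  · exact key _ w w' g rfl hl h h'

theorem exists_sq_mem_C (i : P.S) : ∃ b ∈ P.B, (i : G) * b * i ∈ C P (s P i) := by
  by_contra hn
  push Not at hn
  have hB : ∀ b ∈ P.B, (i : G) * b * i ∈ P.B := by
    intro b hb
    rcases mul_mem_C_union (mem_C_mul (simple_mem_C i) hb) (simple_mem_C i) with h | h
    · rwa [s_sq, mem_C_one] at h
    · exact absurd h (hn b hb)
  apply P.conj_ne _ i.2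
  ext x
  constructor
  · rintro ⟨b, hb, rfl⟩; exact hB b hb
  · intro hx
    have hsq := P.sq_mem _ i.2
    refine ⟨(i : G)⁻¹ * x * (i : G)⁻¹, ?_, by group⟩
    have : (i : G)⁻¹ * x * (i : G)⁻¹ = ((i : G) * i)⁻¹ * ((i : G) * x * i) * ((i : G) * i)⁻¹ := by
      group
    rw [this]
    exact P.B.mul_mem (P.B.mul_mem (P.B.inv_mem hsq) (hB x hx)) (P.B.inv_mem hsq)

/-- `C(s) C(w) ⊆ C(s w)` -/
def Pos (i : P.S) (w : W P) : Prop :=
  ∀ g ∈ C P (s P i), ∀ h ∈ C P w, g * h ∈ C P (s P i * w)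

variable (P) in
theorem exchange_and_pos :
    Exchange (s P) ∧ ∀ i w, Pos i w ↔ len (s P) w < len (s P) (s P i * w) := by
  refine (invGen P).exchange_of_pos Pos ?_ ?_ ?_
  · intro i g hg h hh
    rw [mem_C_one] at hh
    simpa using mem_C_mul hg hh
  · intro i w h1 h2
    obtain ⟨b, hb, hc⟩ := exists_sq_mem_C i
    obtain ⟨n, rfl⟩ := pr_surj P w
    have a1 := h1 _ hc _ (mem_C_self n)
    have a2 := h2 _ (simple_mem_C i) _ (h1 _ (mul_mem_C hb (simple_mem_C i)) _ (mem_C_self n))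
    rw [(invGen P).cancel_left] at a2
    have e : (i : G) * (b * i * n) = i * b * i * n := by group
    rw [e] at a2
    have := eq_of_mem_C a1 a2
    exact s_ne_one P i (by simpa using this)
  · intro i j w h1 h2
    unfold Pos at h2
    push Not at h2
    obtain ⟨g, hg, h, hh, hn⟩ := h2
    have h3 : g * h ∈ C P (w * s P j) := (mul_mem_C_union hg hh).resolve_left hn
    obtain ⟨n, hn', b1, hb1, b2, hb2, rfl⟩ := hh
    have h4 : g * (b1 * n) ∈ C P (w * s P j) := by
      have := mem_C_mul h3 (P.B.inv_mem hb2)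
      simpa [mul_assoc] using this
    have h5 : (n : G) * j ∈ C P w := by
      have := mem_C_self (n * sN P j)
      rw [map_mul, hn'] at this
      change _ ∈ C P (_ * s P j) at this
      rwa [(invGen P).cancel_right] at this
    have h6 := h1 _ (mem_C_mul hg hb1) _ h5
    have e : g * b1 * (n * j) = g * (b1 * n) * j := by group
    rw [e] at h6
    rcases mul_mem_C_union' h4 (simple_mem_C j) with h7 | h7
    · rw [(invGen P).cancel_right] at h7
      have := eq_of_mem_C h6 h7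
      exact absurd (by simpa using this) (s_ne_one P i)
    · exact eq_of_mem_C h6 h7

variable (P) in
theorem exchange : Exchange (s P) := (exchange_and_pos P).1

theorem mul_mem_C_of_lt {i : P.S} {w : W P} (hl : len (s P) w < len (s P) (s P i * w)) {g h : G}
    (hg : g ∈ C P (s P i)) (hh : h ∈ C P w) : g * h ∈ C P (s P i * w) :=
  ((exchange_and_pos P).2 i w).2 hl g hg h hh

theorem exists_mul_mem_C_of_le {i : P.S} {w : W P} (hl : len (s P) (s P i * w) ≤ len (s P) w) :
    ∃ g ∈ C P (s P i), ∃ h ∈ C P w, g * h ∈ C P w := by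
  have : ¬ Pos i w := by rw [(exchange_and_pos P).2]; omega
  unfold Pos at this
  push Not at this
  obtain ⟨g, hg, h, hh, hn⟩ := this
  exact ⟨g, hg, h, hh, (mul_mem_C_union hg hh).resolve_left hn⟩

/-- cells multiply when lengths add -/
theorem mul_mem_C_of_len_add {w w' : W P}
    (hl : len (s P) (w * w') = len (s P) w + len (s P) w') {g h : G}
    (hg : g ∈ C P w) (hh : h ∈ C P w') : g * h ∈ C P (w * w') := by
  induction w using (invGen P).induction_left generalizing g with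
  | h1 => rw [mem_C_one] at hg; simpa using mul_mem_C hg hh
  | hs i w hi ih =>
    have a1 := (invGen P).len_mul_le w w'
    have a2 := (invGen P).len_simple_mul_le i (w * w')
    rw [mul_assoc] at hl ⊢
    obtain ⟨n, hn⟩ := pr_surj P w
    obtain ⟨b1, h1, b2, h2, rfl⟩ := (mem_C_iff (sN P i * n) (by rw [map_mul, hn]; rfl)).1 hg
    have e : b1 * ((sN P i * n : P.N) : G) * b2 * h = (b1 * i) * (n * b2 * h) := by
      simp [sN, mul_assoc]
    rw [e]
    exact mul_mem_C_of_lt (by omega) (mul_mem_C h1 (simple_mem_C i))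
      (ih (by omega) (mem_C_mul (hn ▸ mem_C_self n) h2))

/-- the letters of a reduced word of `n` lie in any subgroup containing `B` and `n B n⁻¹` -/
theorem letters_mem (M : Subgroup G) (hB : P.B ≤ M) (ω : List P.S) (hr : Red (s P) ω) (n : P.N)
    (hn : pr P n = wp (s P) ω) (hM : ∀ b ∈ P.B, (n : G) * b * (n : G)⁻¹ ∈ M) :
    ∀ i ∈ ω, (i : G) ∈ M := by
  induction ω generalizing n with
  | nil => simp
  | cons i ω ih =>
    have hr' := (invGen P).red_tail hr
    have hi : (i : G) ∈ M := by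
      obtain ⟨g, hg, h, hh, hgh⟩ := exists_mul_mem_C_of_le (i := i) (w := wp (s P) (i :: ω)) (by
        rw [wp_cons, (invGen P).cancel_left, hr']
        have := hr; rw [Red, wp_cons] at this; rw [this]; simp)
      obtain ⟨b1, h1, b2, h2, rfl⟩ := (mem_C_iff (sN P i) rfl).1 hg
      obtain ⟨b3, h3, b4, h4, rfl⟩ := (mem_C_iff n hn).1 hh
      obtain ⟨b5, h5, b6, h6, e⟩ := (mem_C_iff n hn).1 hgh
      have : (i : G) = b1⁻¹ * b5 * (n * (b6 * b4⁻¹) * (n : G)⁻¹) * (b2 * b3)⁻¹ := by
        have e' : b1⁻¹ * b5 * (n * (b6 * b4⁻¹) * (n : G)⁻¹) * (b2 * b3)⁻¹ =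
          b1⁻¹ * (b5 * n * b6) * (b2 * b3 * n * b4)⁻¹ := by group
        rw [e', ← e]; simp [sN]; group
      rw [this]
      exact M.mul_mem (M.mul_mem (hB (P.B.mul_mem (P.B.inv_mem h1) h5))
        (hM _ (P.B.mul_mem h6 (P.B.inv_mem h4)))) (hB (P.B.inv_mem (P.B.mul_mem h2 h3)))
    intro j hj
    rcases List.mem_cons.1 hj with rfl | hj
    · exact hi
    · refine ih hr' (sN P i * n) ?_ ?_ j hj
      · rw [map_mul, hn, wp_cons]; exact (invGen P).cancel_left _ _
      · intro b hb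
        have : ((sN P i * n : P.N) : G) * b * ((sN P i * n : P.N) : G)⁻¹ =
          i * (n * b * (n : G)⁻¹) * (i : G)⁻¹ := by simp [sN, mul_assoc]
        rw [this]
        exact M.mul_mem (M.mul_mem hi (hM b hb)) (M.inv_mem hi)

theorem mem_of_letters_mem (M : Subgroup G) (hB : P.B ≤ M) (ω : List P.S)
    (hω : ∀ i ∈ ω, (i : G) ∈ M) {g : G} (hg : g ∈ C P (wp (s P) ω)) : g ∈ M := by
  have key : ∀ ω : List P.S, (∀ i ∈ ω, (i : G) ∈ M) →
      ((wp (sN P) ω : P.N) : G) ∈ M := by
    intro ω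
    induction ω with
    | nil => intro _; simp
    | cons i ω ih =>
      intro h
      rw [wp_cons]
      exact M.mul_mem (h i (by simp)) (ih fun j hj => h j (by simp [hj]))
  obtain ⟨b1, h1, b2, h2, rfl⟩ := (mem_C_iff (wp (sN P) ω) (map_wp _ _ _)).1 hg
  exact M.mul_mem (M.mul_mem (hB h1) (key ω hω)) (hB h2)

theorem mem_of_conj_le (M : Subgroup G) (hB : P.B ≤ M) {n : G} (hn : n ∈ P.N)
    (hM : ∀ b ∈ P.B, n * b * n⁻¹ ∈ M) : n ∈ M := by
  obtain ⟨ω, hr, e⟩ := (invGen P).exists_red (pr P ⟨n, hn⟩)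
  exact mem_of_letters_mem M hB ω (letters_mem M hB ω hr ⟨n, hn⟩ e.symm hM)
    (e ▸ mem_C_self (⟨n, hn⟩ : P.N))

theorem letters_mem' (M : Subgroup G) (hB : P.B ≤ M) (ω : List P.S) (hr : Red (s P) ω) {g : G}
    (hg : g ∈ C P (wp (s P) ω)) (hM : g ∈ M) : ∀ i ∈ ω, (i : G) ∈ M := by
  obtain ⟨n, hn, b1, h1, b2, h2, rfl⟩ := hg
  have hnM : (n : G) ∈ M := by
    have : (n : G) = b1⁻¹ * (b1 * n * b2) * b2⁻¹ := by group
    rw [this]
    exact M.mul_mem (M.mul_mem (hB (P.B.inv_mem h1)) hM) (hB (P.B.inv_mem h2))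
  exact letters_mem M hB ω hr n hn fun b hb => M.mul_mem (M.mul_mem hnM (hB hb)) (M.inv_mem hnM)

theorem B_le_parabolic (J : Set G) : P.B ≤ P.parabolic J := le_sup_left

theorem mem_parabolic_of_mem {J : Set G} {g : G} (hg : g ∈ J) : g ∈ P.parabolic J :=
  (le_sup_right : Subgroup.closure J ≤ _) (Subgroup.subset_closure hg)

theorem mem_parabolic_iff {J : Set G} (hJ : J ⊆ P.S) (g : G) :
    g ∈ P.parabolic J ↔ ∃ ω : List P.S, (∀ i ∈ ω, (i : G) ∈ J) ∧ g ∈ C P (wp (s P) ω) := by
  constructor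
  · intro hg
    let H : Subgroup G :=
      { carrier := {g | ∃ ω : List P.S, (∀ i ∈ ω, (i : G) ∈ J) ∧ g ∈ C P (wp (s P) ω)}
        mul_mem' := by
          rintro x y ⟨ω1, a1, h1⟩ ⟨ω2, a2, h2⟩
          obtain ⟨ω', hs, h⟩ := exists_cell_mul ω1 h1 h2
          refine ⟨ω' ++ ω2, ?_, by simpa using h⟩
          intro i hi
          rcases List.mem_append.1 hi with h | h
          · exact a1 i (hs.subset h)
          · exact a2 i h
        one_mem' := ⟨[], by simp, mem_C_one.2 P.B.one_mem⟩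
        inv_mem' := by
          rintro x ⟨ω, a, h⟩
          exact ⟨ω.reverse, by simpa using a, by rw [(invGen P).wp_reverse]; exact inv_mem_C h⟩ }
    have : P.parabolic J ≤ H := by
      refine sup_le (fun b hb => ⟨[], by simp, mem_C_one.2 hb⟩) ?_
      rw [Subgroup.closure_le]
      intro x hx
      exact ⟨[⟨x, hJ hx⟩], by simpa using hx, by simpa using simple_mem_C (P := P) ⟨x, hJ hx⟩⟩
    exact this hg
  · rintro ⟨ω, a, h⟩
    exact mem_of_letters_mem _ (B_le_parabolic J) ω (fun i hi => mem_parabolic_of_mem (a i hi)) h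

theorem mem_of_mem_parabolic {J : Set G} (hJ : J ⊆ P.S) {g : G} (hg : g ∈ P.S)
    (h : g ∈ P.parabolic J) : g ∈ J := by
  obtain ⟨ω, a, hc⟩ := (mem_parabolic_iff hJ g).1 h
  obtain ⟨ω', hs, hr, e⟩ := (invGen P).exists_red_sublist (exchange P) ω
  have e2 := eq_of_mem_C hc (simple_mem_C ⟨g, hg⟩)
  rw [← e] at e2
  have hl := (invGen P).len_simple (exchange P) ⟨g, hg⟩
  rw [← e2, hr] at hl
  obtain ⟨j, rfl⟩ := List.length_eq_one_iff.1 hl
  have : j = ⟨g, hg⟩ := s_inj P (by simpa using e2)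
  have h2 := a j (hs.subset (by simp))
  rwa [this] at h2

theorem eq_parabolic (M : Subgroup G) (hM : P.B ≤ M) : M = P.parabolic (P.S ∩ M) := by
  apply le_antisymm
  · intro g hg
    obtain ⟨w, hw⟩ := exists_mem_C P g
    obtain ⟨ω, hr, rfl⟩ := (invGen P).exists_red w
    rw [mem_parabolic_iff Set.inter_subset_left]
    exact ⟨ω, fun i hi => ⟨i.2, letters_mem' M hM ω hr hw hg i hi⟩, hw⟩
  · exact sup_le hM (by rw [Subgroup.closure_le]; exact Set.inter_subset_right)

theorem mem_of_conj_B_le (M : Subgroup G) (hB : P.B ≤ M) {g : G}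
    (hM : ∀ b ∈ P.B, g * b * g⁻¹ ∈ M) : g ∈ M := by
  obtain ⟨w, n, -, b1, h1, b2, h2, rfl⟩ := exists_mem_C P g
  have : (n : G) ∈ M := by
    refine mem_of_conj_le M hB n.2 fun b hb => ?_
    have := hM (b2⁻¹ * b * b2) (P.B.mul_mem (P.B.mul_mem (P.B.inv_mem h2) hb) h2)
    have e : (n : G) * b * (n : G)⁻¹ =
      b1⁻¹ * (b1 * ↑n * b2 * (b2⁻¹ * b * b2) * (b1 * ↑n * b2)⁻¹) * b1 := by group
    rw [e]
    exact M.mul_mem (M.mul_mem (hB (P.B.inv_mem h1)) this) (hB h1)
  exact M.mul_mem (M.mul_mem (hB h1) this) (hB h2)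

theorem normalizer_eq (M : Subgroup G) (hB : P.B ≤ M) :
    Subgroup.normalizer (M : Set G) = M := by
  refine le_antisymm ?_ Subgroup.le_normalizer
  intro g hg
  exact mem_of_conj_B_le M hB fun b hb => (Subgroup.mem_normalizer_iff.1 hg b).1 (hB hb)

theorem parabolic_inf {J K : Set G} (hJ : J ⊆ P.S) (hK : K ⊆ P.S) :
    P.parabolic J ⊓ P.parabolic K = P.parabolic (J ∩ K) := by
  rw [eq_parabolic (P := P) (P.parabolic J ⊓ P.parabolic K)
    (le_inf (B_le_parabolic J) (B_le_parabolic K))]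
  congr 1
  ext x
  constructor
  · rintro ⟨h1, h2, h3⟩
    exact ⟨mem_of_mem_parabolic hJ h1 h2, mem_of_mem_parabolic hK h1 h3⟩
  · rintro ⟨h1, h2⟩
    exact ⟨hJ h1, mem_parabolic_of_mem h1, mem_parabolic_of_mem h2⟩

theorem parabolic_mono {J K : Set G} (h : J ⊆ K) : P.parabolic J ≤ P.parabolic K :=
  sup_le_sup_left (Subgroup.closure_mono h) _

theorem parabolic_le_iff {J K : Set G} (hJ : J ⊆ P.S) (hK : K ⊆ P.S) :
    P.parabolic J ≤ P.parabolic K ↔ J ⊆ K :=
  ⟨fun h _ hx => mem_of_mem_parabolic hK (hJ hx) (h (mem_parabolic_of_mem hx)), parabolic_mono⟩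

theorem parabolic_S : P.parabolic P.S = ⊤ := by
  have := eq_parabolic (P := P) ⊤ le_top
  simpa using this.symm

/-- For a normal subgroup `K`, the generators in `K B` commute (mod `B`) with the others. -/
theorem normal_commute (K : Subgroup G) [hK : K.Normal] {r t : G} (hr : r ∈ P.S) (ht : t ∈ P.S)
    (hrK : r ∈ K ⊔ P.B) (htK : t ∉ K ⊔ P.B) : r * t * r⁻¹ * t⁻¹ ∈ P.B := by
  have hI := invGen P
  have hx := exchange P
  set ri : P.S := ⟨r, hr⟩
  set ti : P.S := ⟨t, ht⟩
  have hne : s P ri ≠ s P ti := by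
    intro e
    have : ri = ti := s_inj P e
    have : r = t := congrArg Subtype.val this
    exact htK (this ▸ hrK)
  have hrK' : r ∈ (K : Set G) * (P.B : Set G) := by
    rw [← Subgroup.normal_mul]; exact hrK
  obtain ⟨k, hk, b, hb, e⟩ := hrK'
  have hkC : k ∈ C P (s P ri) := by
    have : k = r * b⁻¹ := by rw [← e]; simp
    rw [this]; exact mem_C_mul (simple_mem_C ri) (P.B.inv_mem hb)
  have len2 : ∀ i j : P.S, s P i ≠ s P j → len (s P) (s P i * s P j) = 2 := by
    intro i j hij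
    rcases hI.len_simple_mul hx i (s P j) with h | h
    · rw [h, hI.len_simple hx]
    · rw [hI.len_simple hx] at h
      have : len (s P) (s P i * s P j) = 0 := by omega
      rw [hI.len_eq_zero] at this
      exact absurd (by rw [← hI.inv i]; exact inv_eq_of_mul_eq_one_right this) hij
  have h1 : t * k ∈ C P (s P ti * s P ri) :=
    mul_mem_C_of_lt (by rw [len2 _ _ hne.symm, hI.len_simple hx]; omega) (simple_mem_C ti) hkC
  have hti : t⁻¹ ∈ C P (s P ti) := by
    have := inv_mem_C (simple_mem_C ti)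
    rwa [hI.inv] at this
  have hmem : t * k * t⁻¹ ∈ K ⊔ P.B := (le_sup_left : K ≤ _) (hK.conj_mem k hk t)
  have r2 : Red (s P) [ti, ri] := by simp [Red, len2 _ _ hne.symm]
  have r2' : Red (s P) [ri, ti] := by simp [Red, len2 _ _ hne]
  rcases mul_mem_C_union' h1 hti with h2 | h2
  · by_cases h3 : len (s P) (s P ti * (s P ri * s P ti)) ≤ 2
    · obtain ⟨j, hj, e⟩ := hx ti [ri, ti] r2' (by simpa using h3)
      have : j = 0 ∨ j = 1 := by simp at hj; omega
      rcases this with rfl | rfl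
      · simp only [wp_cons, wp_nil, mul_one, List.eraseIdx_zero, List.tail_cons] at e
        have : s P ri * s P ti = 1 := by simpa using e
        exact absurd (by rw [← hI.inv ri]; exact inv_eq_of_mul_eq_one_right this) hne
      · simp only [wp_cons, wp_nil, mul_one, List.eraseIdx_cons_succ, List.eraseIdx_zero,
          List.tail_cons] at e
        have e2 : pr P (sN P ri * sN P ti * (sN P ri)⁻¹ * (sN P ti)⁻¹) = 1 := by
          simp only [map_mul, map_inv]
          change s P ri * s P ti * (s P ri)⁻¹ * (s P ti)⁻¹ = 1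
          rw [hI.inv, hI.inv, mul_assoc, mul_assoc, e, hI.sq]
        exact (pr_eq_one_iff P _).1 e2
    · have r3 : Red (s P) [ti, ri, ti] := by
        have := hI.len_simple_mul_le ti (s P ri * s P ti)
        rw [len2 _ _ hne] at this
        simp only [Red, wp_cons, wp_nil, mul_one, List.length_cons, List.length_nil]
        omega
      exact absurd (letters_mem' _ le_sup_right _ r3 (by simpa [mul_assoc] using h2) hmem ti
        (by simp)) htK
  · exact absurd (letters_mem' _ le_sup_right _ r2 (by simpa using h2) hmem ti (by simp)) htK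

/-- a normal subgroup of a group with an irreducible BN-pair lies in `B` or is transitive -/
theorem normal_le_or_sup (hirr : P.Irreducible) (K : Subgroup G) [K.Normal] :
    K ≤ P.B ∨ K ⊔ P.B = ⊤ := by
  have e := eq_parabolic (P := P) (K ⊔ P.B) le_sup_right
  by_cases h1 : (P.S ∩ (K ⊔ P.B : Subgroup G)).Nonempty
  · by_cases h2 : (P.S \ (P.S ∩ (K ⊔ P.B : Subgroup G))).Nonempty
    · obtain ⟨r, hr, t, ht, hn⟩ := hirr _ Set.inter_subset_left h1 h2
      exact absurd (normal_commute K hr.1 ht.1 hr.2 fun h => ht.2 ⟨ht.1, h⟩) hn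
    · right
      rw [Set.not_nonempty_iff_eq_empty, Set.sdiff_eq_empty] at h2
      rw [e, eq_top_iff, ← parabolic_S (P := P)]
      exact parabolic_mono h2
  · left
    rw [Set.not_nonempty_iff_eq_empty] at h1
    rw [h1] at e
    have : P.parabolic ∅ = P.B := by simp [BNPair.parabolic]
    rw [this] at e
    rw [← e]; exact le_sup_left

theorem simple_of_solvable [Nontrivial G] (hirr : P.Irreducible) (hsolv : Group.IsSolvable P.B)
    (hperf : commutator G = ⊤) (hcore : P.B.normalCore = ⊥) : IsSimpleGroup G := by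
  refine ⟨fun K hK => ?_⟩
  rcases normal_le_or_sup hirr K with h | h
  · left
    rw [eq_bot_iff, ← hcore]
    exact Subgroup.normal_le_normalCore.2 h
  · right
    have hs : Function.Surjective ((QuotientGroup.mk' K).comp P.B.subtype) := by
      intro q
      obtain ⟨g, rfl⟩ := QuotientGroup.mk'_surjective K q
      have hg : g ∈ (P.B : Set G) * (K : Set G) := by
        rw [← Subgroup.mul_normal, sup_comm, h]; trivial
      obtain ⟨b, hb, k, hk, rfl⟩ := hg
      refine ⟨⟨b, hb⟩, ?_⟩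
      simp [(QuotientGroup.eq_one_iff k).2 hk]
    have hq : Group.IsSolvable (G ⧸ K) := Group.isSolvable_of_surjective hs
    have hp : commutator (G ⧸ K) = ⊤ := by
      have := Subgroup.map_commutator (⊤ : Subgroup G) ⊤ (QuotientGroup.mk' K)
      rw [← commutator_def, hperf, Subgroup.map_top_of_surjective _
        (QuotientGroup.mk'_surjective K), ← commutator_def] at this
      exact this.symm
    by_contra hne
    have : Nontrivial (G ⧸ K) := QuotientGroup.nontrivial_iff.2 hne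
    exact (Group.IsSolvable.commutator_lt_top_of_nontrivial (G ⧸ K)).ne hp

end Cfsg.Agent.Chev.BN
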