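import Cfsg.Agent.Lib.Chev.More
import Cfsg.Agent.Lib.Chev.Cent

/-! The theorem of Borel and Tits, by an optimality argument. -/

set_option autoImplicit false
set_option linter.unusedSectionVars false

namespace Cfsg.Agent.Chev
open Cfsg.Lie Finset
variable {I R : Type} [Fintype I] [DecidableEq I] [Fintype R] [DecidableEq R]

namespace RS
variable {Φ : RS I R}

variable (Φ) in
/-- linear real functions on the roots -/
def Lin (x : R → ℝ) : Prop := ∀ r, x r = ∑ i, Φ.rv r i * x (Φ.sim i)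

theorem Lin.eq {x : R → ℝ} (h : Φ.Lin x) {α : Type*} {s : Finset α} {c : α → ℤ} {f : α → R} {k : R} (e : Φ.rv k = ∑ a ∈ s, c a • Φ.rv (f a)) :
    x k = ∑ a ∈ s, c a * x (f a) := by
  rw [h k, sum_congr (s₁ := s) rfl fun a _ => by rw [h (f a), mul_sum], sum_comm]
  simp [e, sum_mul, mul_assoc]

theorem Lin.smul {x : R → ℝ} (h : Φ.Lin x) (w : Φ.W) : Φ.Lin fun r => x (w • r) := fun r => h.eq (rv_smul w r)

theorem Lin.comb {x : R → ℝ} (h : Φ.Lin x) {k r s : R} {i j : ℤ} (e : Φ.rv k = i • Φ.rv r + j • Φ.rv s) : x k = i * x r + j * x s := by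
  simpa using h.eq (s := univ) (c := ![i, j]) (f := ![r, s]) (by simpa using e)

theorem Lin.nonneg {x : R → ℝ} (h : Φ.Lin x) (hd : ∀ i, 0 ≤ x (Φ.sim i)) {r : R} (hr : Φ.Pos r) : 0 ≤ x r :=
  h r ▸ sum_nonneg fun i _ => mul_nonneg (by exact_mod_cast hr i) (hd i)

theorem Lin.pos {x : R → ℝ} (h : Φ.Lin x) (hd : ∀ i, 0 ≤ x (Φ.sim i)) {r : R} (hr : 0 < x r) : Φ.Pos r := by_contra fun a =>
  hr.not_ge (h r ▸ sum_nonpos fun i _ => mul_nonpos_of_nonpos_of_nonneg (by exact_mod_cast not_pos_iff.1 a i) (hd i))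

theorem Lin.closed {x : R → ℝ} (h : Φ.Lin x) : Φ.Closed {r | 1 ≤ x r} := fun r (a : 1 ≤ x r) s (b : 1 ≤ x s) k ⟨i, j, c, d, e⟩ => by
  have : (1 : ℝ) ≤ i := by exact_mod_cast c
  have : (1 : ℝ) ≤ j := by exact_mod_cast d
  rw [Set.mem_ofPred_eq, h.comb e]
  push_cast
  nlinarith

theorem Lin.exists_dom {x : R → ℝ} (h : Φ.Lin x) : ∃ w : Φ.W, ∀ i, 0 ≤ x (w • Φ.sim i) := by
  obtain ⟨w, hw⟩ := Finite.exists_max fun w : Φ.W => ∑ r, x (w • r) * Φ.ht r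
  refine ⟨w, fun i => ?_⟩
  have h1 := hw (w * Φ.s i)
  have h2 := Equiv.sum_comp (Φ.sP i) fun r => x (w • r) * Φ.A i r
  have h3 : ∀ r, x (w • Φ.sP i r) = x (w • r) - Φ.A i r * x (w • Φ.sim i) := fun r => by
    rw [(h.smul w).comb (k := Φ.sP i r) (r := r) (s := Φ.sim i) (i := 1) (j := -Φ.A i r) (by
      ext j; simp [sP, Φ.rv_rf, Φ.rv_sim, Pi.single_apply, sub_eq_add_neg])]
    simp [sub_eq_add_neg]
  have h4 : (0 : ℝ) < ∑ r, (Φ.A i r : ℝ) ^ 2 := sum_pos' (fun _ _ => by positivity) ⟨Φ.sim i, mem_univ _, by simp [Φ.A_self]⟩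
  rw [← Equiv.sum_comp (Φ.sP i)] at h1
  simp only [h3, show ∀ r, Φ.A i (Φ.sP i r) = -Φ.A i r from Φ.A_rf_self i] at h2
  simp only [mul_smul, s_smul, show ∀ r, Φ.rf i (Φ.sP i r) = r from Φ.rf_rf i, show ∀ r, Φ.ht (Φ.sP i r) = Φ.ht r - Φ.A i r from ht_rf i,
    Int.cast_sub, mul_sub, sum_sub_distrib] at h1
  have h5 : (∑ r, (Φ.A i r : ℝ) ^ 2) * x (w • Φ.sim i) = 2 * ∑ r, x (w • r) * Φ.A i r := by
    rw [two_mul, ← sub_eq_iff_eq_add, ← h2, sum_mul, h2, ← sum_sub_distrib, ← h2]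
    exact sum_congr rfl fun r _ => by push_cast; ring
  exact nonneg_of_mul_nonneg_right (by linarith) h4

end RS

namespace St
variable {Φ : CD I R} {F : Type*} [Field F] {G : Type*} [Group G] {S : St Φ F G}

theorem conj_B_lin {x : R → ℝ} (h : Φ.Lin x) (hd : ∀ i, 0 ≤ x (Φ.sim i)) {b : G} (hb : b ∈ S.B) {u : G} (hu : u ∈ S.Ux {r | 1 ≤ x r}) :
    b * u * b⁻¹ ∈ S.Ux {r | 1 ≤ x r} := by
  obtain ⟨v, hv, k, hk, rfl⟩ := mem_B_iff.1 hb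
  have := conj_Ux_mem (A := {r | 1 ≤ x r}) (fun r (a : Φ.Pos r) s (b : 1 ≤ x s) => ⟨fun e => a.not_neg (e ▸ h.pos hd (by linarith)),
    fun k ⟨i, j, c, d, e⟩ => ?_⟩) hv (conj_H_Ux hk hu)
  · simpa [mul_assoc] using this
  have : (1 : ℝ) ≤ j := by exact_mod_cast d
  have := mul_nonneg i.cast_nonneg (h.nonneg hd a)
  rw [Set.mem_ofPred_eq, h.comb e]
  push_cast
  nlinarith

theorem borel_tits {X : Subgroup G} (hX : X ≤ S.U) (hne : X ≠ ⊥) : ∃ g ∈ S.Gx, ∃ J : Set I, J ≠ Set.univ ∧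
    (∀ y ∈ X, g⁻¹ * y * g ∈ S.UJ J) ∧ ∀ n ∈ S.Gx, (∀ y ∈ X, n⁻¹ * y * n ∈ X) → g⁻¹ * n * g ∈ S.PJ J := by
  let K : Set (R → ℝ) := {x | Φ.Lin x ∧ ∃ g ∈ S.Gx, ∀ y ∈ X, g⁻¹ * y * g ∈ S.Ux {r | 1 ≤ x r}}
  have h0 : (fun r => (Φ.ht r : ℝ)) ∈ K := ⟨fun r => by simp only [RS.ht_sim]; simp [RS.ht], 1, one_mem _, fun y hy => by
    simpa using Ux_mono (fun r (a : Φ.Pos r) => by simpa using (show (1 : ℝ) ≤ Φ.ht r by exact_mod_cast a.ht_pos)) (hX hy)⟩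
  have h1 : IsClosed K := by
    have : K = {x | Φ.Lin x} ∩ ⋃ A ∈ {A : Set R | ∃ g ∈ S.Gx, ∀ y ∈ X, g⁻¹ * y * g ∈ S.Ux A}, ⋂ r ∈ A, {x | 1 ≤ x r} := by
      ext x
      simp only [K, Set.mem_ofPred_eq, Set.mem_inter_iff, Set.mem_iUnion, Set.mem_iInter]
      exact and_congr_right fun _ => ⟨fun h => ⟨_, h, fun _ a => a⟩, fun ⟨A, ⟨g, a, b⟩, c⟩ => ⟨g, a, fun y hy => Ux_mono c (b y hy)⟩⟩
    rw [this]
    refine .inter ?_ ((Set.toFinite _).isClosed_biUnion fun A _ => isClosed_biInter fun r _ => isClosed_le (by fun_prop) (by fun_prop))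
    simp only [RS.Lin, Set.ofPred_forall]
    exact isClosed_iInter fun r => isClosed_eq (by fun_prop) (by fun_prop)
  obtain ⟨x, ⟨⟨a1, g, a2, a3⟩, a4⟩, a5⟩ := (Metric.isCompact_of_isClosed_isBounded
    (s := K ∩ {x | ∑ r, x r ^ 2 ≤ ∑ r, (Φ.ht r : ℝ) ^ 2}) (h1.inter (isClosed_le (by fun_prop) (by fun_prop)))
    ((Metric.isBounded_closedBall (x := 0) (r := ∑ r, (Φ.ht r : ℝ) ^ 2 + 1)).subset fun x hx => by
      rw [mem_closedBall_zero_iff, pi_norm_le_iff_of_nonneg (by positivity)]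
      intro r
      have := (single_le_sum (f := fun r => x r ^ 2) (fun _ _ => by positivity) (mem_univ r)).trans hx.2
      rw [Real.norm_eq_abs, abs_le]
      constructor <;> nlinarith)).exists_isMinOn ⟨_, h0, le_refl (∑ r, (Φ.ht r : ℝ) ^ 2)⟩ (f := fun x => ∑ r, x r ^ 2) (by fun_prop)
  replace a5 : ∀ y ∈ K, ∑ r, x r ^ 2 ≤ ∑ r, y r ^ 2 := fun y hy => by_contra fun h => h (a5 ⟨hy, (not_le.1 h).le.trans a4⟩)
  obtain ⟨w, hw⟩ := a1.exists_dom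
  obtain ⟨m, b1, b2⟩ := exists_of_W (S := S) w
  have e : ∀ (w : Φ.W) (x : R → ℝ), ∑ r, x (w • r) ^ 2 = ∑ r, x r ^ 2 := fun w x => Equiv.sum_comp (w : Equiv.Perm R) fun r => x r ^ 2
  replace a3 : ∀ y ∈ X, (g * m)⁻¹ * y * (g * m) ∈ S.Ux {r | 1 ≤ x (w • r)} := fun y hy => by
    simpa [mul_assoc] using b2.conj_mem' (fun r hr => by simpa using hr) (a3 y hy)
  replace a2 := mul_mem a2 (N_le_Gx b1)
  replace a1 := a1.smul w
  rw [← e w] at a5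
  generalize g * m = g at a2 a3
  change ∀ i, 0 ≤ (fun r => x (w • r)) (Φ.sim i) at hw
  change ∀ y ∈ X, g⁻¹ * y * g ∈ S.Ux {r | 1 ≤ (fun r => x (w • r)) r} at a3
  change ∀ y ∈ K, ∑ r, (fun r => x (w • r)) r ^ 2 ≤ _ at a5
  generalize (fun r => x (w • r)) = x at a1 a3 a5 hw
  have h2 : ∀ r, Φ.InJ {i | x (Φ.sim i) = 0} r → x r = 0 := fun r hr => a1 r ▸ sum_eq_zero fun i _ => by
    by_cases a : x (Φ.sim i) = 0
    · simp [a]
    · simp [hr i a]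
  refine ⟨g, a2, {i | x (Φ.sim i) = 0}, fun a => hne (eq_bot_iff.2 fun y hy => ?_), fun y hy => Ux_mono (fun r (hr : 1 ≤ x r) => by
    exact ⟨a1.pos hw (by linarith), fun a => by linarith [h2 r a]⟩) (a3 y hy), fun n hn h => ?_⟩
  · have := a3 y hy
    rw [show {r | 1 ≤ x r} = ∅ from Set.eq_empty_of_forall_notMem fun r (b : 1 ≤ x r) => by
      linarith [h2 r (a ▸ fun i c => absurd trivial c)], Ux_empty] at this
    simpa [mul_eq_one_iff_eq_inv] using this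
  obtain ⟨b, c1, m, c2, w, c3, u, c4, c5⟩ := bruhat (mul_mem (mul_mem (inv_mem a2) hn) a2)
  replace c4 := U_le_B (Uw_le_U w c4)
  suffices w⁻¹ ∈ Φ.WJ {i | x (Φ.sim i) = 0} from mem_PJ_iff.2 ⟨b, c1, m, ⟨c2, w, by simpa using this, c3⟩, u, c4, c5⟩
  have h3 := a5 (fun r => (x r + x (w⁻¹ • r)) / 2) ⟨fun r => by
    beta_reduce
    rw [a1 r, show x (w⁻¹ • r) = _ from a1.smul w⁻¹ r, ← sum_add_distrib, sum_div]; exact sum_congr rfl fun i _ => by ring, g * b, mul_mem a2 (B_le_Gx c1), fun y hy => by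
      have d1 := conj_B_lin a1 hw (inv_mem c1) (a3 y hy)
      have d2 := c3.conj_mem (B := {r | 1 ≤ x (w⁻¹ • r)}) (fun r hr => by simpa using hr) (conj_B_lin a1 hw c4 (a3 _ (h y hy)))
      have d3 := Ux_mono (fun r (hr : 1 ≤ x r) => (a1.pos hw (by linarith) : r ∈ {r | Φ.Pos r})) d1
      rw [show m * (u * (g⁻¹ * (n⁻¹ * y * n) * g) * u⁻¹) * m⁻¹ = b⁻¹ * (b * m * u) * (g⁻¹ * (n⁻¹ * y * n) * g) * (b * m * u)⁻¹ * b by group,
        ← c5, show b⁻¹ * (g⁻¹ * n * g) * (g⁻¹ * (n⁻¹ * y * n) * g) * (g⁻¹ * n * g)⁻¹ * b = b⁻¹ * (g⁻¹ * y * g) * b⁻¹⁻¹ by group] at d2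
      obtain ⟨f, hf⟩ := Φ.exists_fn_smul 1 w⁻¹
      have d4 := (Ux_inf (f := 1) a1.closed ((a1.smul w⁻¹).closed.inter RS.unip_pos.closed) (by
        rintro r (hr | hr)
        exacts [RS.unip_pos.pos r (a1.pos hw (one_pos.trans_le hr)), RS.unip_pos.pos r hr.2])).le ⟨d1, mem_Ux_pos (f := f)
          ⟨(a1.smul w⁻¹).closed, fun r hr => hf r ▸ RS.unip_pos.pos _ (a1.pos hw (one_pos.trans_le hr))⟩ d3 d2⟩
      simpa [mul_assoc] using Ux_mono (B := {r | 1 ≤ (x r + x (w⁻¹ • r)) / 2}) (fun r a => by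
        rw [Set.mem_ofPred_eq]; linarith [show 1 ≤ x r from a.1, show 1 ≤ x (w⁻¹ • r) from a.2.1]) d4⟩
  have h4 : ∑ r, (x r - x (w⁻¹ • r)) ^ 2 = 2 * ∑ r, x r ^ 2 + 2 * ∑ r, x (w⁻¹ • r) ^ 2 - 4 * ∑ r, ((x r + x (w⁻¹ • r)) / 2) ^ 2 := by
    simp only [mul_sum, ← sum_add_distrib, ← sum_sub_distrib]
    exact sum_congr rfl fun r _ => by ring
  have h5 := (sum_eq_zero_iff_of_nonneg fun r _ => sq_nonneg (x r - x (w⁻¹ • r))).1
    (le_antisymm (by rw [h4, e]; linarith) (sum_nonneg fun r _ => sq_nonneg _))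
  refine RS.mem_WJ_of_pos fun r a c => a1.pos hw ?_
  rw [← sub_eq_zero.1 (pow_eq_zero_iff two_ne_zero |>.1 (h5 r (mem_univ r))), a1 r]
  obtain ⟨i, d1, d2⟩ : ∃ i, x (Φ.sim i) ≠ 0 ∧ Φ.rv r i ≠ 0 := by simpa [RS.InJ] using c
  exact sum_pos' (fun i _ => mul_nonneg (by exact_mod_cast a i) (hw i))
    ⟨i, mem_univ i, mul_pos (by exact_mod_cast (a i).lt_of_ne' d2) ((hw i).lt_of_ne' d1)⟩

theorem borel_tits' [Finite F] (p : ℕ) [Fact p.Prime] [CharP F p] {X : Subgroup G} (hX : X ≤ S.Gx) (hp : IsPGroup p X) (hne : X ≠ ⊥) :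
    ∃ g ∈ S.Gx, ∃ J : Set I, J ≠ Set.univ ∧ Subgroup.normalizer X ⊓ S.Gx ≤ (S.PJ J).map (MulAut.conj g).toMonoidHom ∧
      X ≤ (S.UJ J).map (MulAut.conj g).toMonoidHom := by
  obtain ⟨k, h1, h2⟩ := exists_conj_le_U p S.hMul_of_finite hp (PJ_univ (S := S) ▸ hX)
  rw [PJ_univ] at h1
  obtain ⟨g, a, J, b, c, d⟩ := borel_tits (S := S) (X := X.map (MulAut.conj k).toMonoidHom) (by rintro _ ⟨y, hy, rfl⟩; exact h2 y hy)
    (by rwa [Ne, Subgroup.map_eq_bot_iff_of_injective _ (MulAut.conj k).injective])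
  refine ⟨k⁻¹ * g, mul_mem (inv_mem h1) a, J, b, fun n hn => ⟨_, d (k * n * k⁻¹) (mul_mem (mul_mem h1 hn.2) (inv_mem h1)) ?_, by simp [mul_assoc]⟩,
    fun y hy => ⟨_, c _ ⟨y, hy, rfl⟩, by simp [mul_assoc]⟩⟩
  rintro _ ⟨y, hy, rfl⟩
  exact ⟨_, (Subgroup.mem_normalizer_iff''.1 hn.1 y).1 hy, by simp [mul_assoc]⟩

end St

end Cfsg.Agent.Chev
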