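import Cfsg.Agent.Lib.Chev.Mono
import Cfsg.Agent.Lib.Chev.BN

set_option autoImplicit false
set_option linter.unusedSectionVars false

/-! The Borel subgroup, the Bruhat decomposition and parabolic subgroups. -/

namespace Cfsg.Agent.Chev

open scoped commutatorElement

variable {I R : Type} [Fintype I] [DecidableEq I] [Fintype R] [DecidableEq R]

theorem mem_sup_iff_of_conj {G : Type*} [Group G] {A K : Subgroup G}
    (h : ∀ k ∈ K, ∀ a ∈ A, k * a * k⁻¹ ∈ A) {g : G} : g ∈ A ⊔ K ↔ ∃ a ∈ A, ∃ k ∈ K, g = a * k := by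
  constructor
  · intro hg
    let M : Subgroup G :=
      { carrier := {g | ∃ a ∈ A, ∃ k ∈ K, g = a * k}
        one_mem' := ⟨1, one_mem _, 1, one_mem _, by simp⟩
        mul_mem' := by
          rintro _ _ ⟨a, ha, k, hk, rfl⟩ ⟨a', ha', k', hk', rfl⟩
          exact ⟨a * (k * a' * k⁻¹), mul_mem ha (h k hk a' ha'), k * k', mul_mem hk hk', by group⟩
        inv_mem' := by
          rintro _ ⟨a, ha, k, hk, rfl⟩
          exact ⟨k⁻¹ * a⁻¹ * k⁻¹⁻¹, h _ (inv_mem hk) _ (inv_mem ha), k⁻¹, inv_mem hk, by group⟩ }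
    have : A ⊔ K ≤ M := sup_le (fun a ha => ⟨a, ha, 1, one_mem _, by simp⟩)
      fun k hk => ⟨1, one_mem _, k, hk, by simp⟩
    exact this hg
  · rintro ⟨a, ha, k, hk, rfl⟩
    exact Subgroup.mul_mem_sup ha hk

namespace St
variable {Φ : CD I R} {F : Type*} [Field F] {G : Type*} [Group G] (S : St Φ F G)

/-- positive unipotent subgroup -/
def U : Subgroup G := S.Ux {r | Φ.Pos r}
/-- negative unipotent subgroup -/
def V : Subgroup G := S.Ux {r | ¬ Φ.Pos r}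
/-- Borel subgroup -/
def B : Subgroup G := S.U ⊔ S.H
/-- the group generated by all root elements -/
def Gx : Subgroup G := S.Ux Set.univ
/-- the subgroup `U_w⁻` -/
def Uw (w : Φ.W) : Subgroup G := S.Ux {r | Φ.Pos r ∧ ¬ Φ.Pos (w • r)}

variable {S}

theorem x_mem_U {r : R} (h : Φ.Pos r) (t : F) : S.x r t ∈ S.U := x_mem (A := {r | Φ.Pos r}) h t
theorem x_mem_V {r : R} (h : ¬ Φ.Pos r) (t : F) : S.x r t ∈ S.V := x_mem (A := {r | ¬ Φ.Pos r}) h t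
theorem x_mem_Gx (r : R) (t : F) : S.x r t ∈ S.Gx := x_mem (Set.mem_univ r) t
theorem U_le_B : S.U ≤ S.B := le_sup_left
theorem H_le_B : S.H ≤ S.B := le_sup_right
theorem Ux_le_Gx (A : Set R) : S.Ux A ≤ S.Gx := Ux_mono (Set.subset_univ _)
theorem Uw_le_U (w : Φ.W) : S.Uw w ≤ S.U := Ux_mono fun _ h => h.1
theorem n_mem_Gx (r : R) (c : Fˣ) : S.n r c ∈ S.Gx :=
  mul_mem (mul_mem (x_mem_Gx _ _) (x_mem_Gx _ _)) (x_mem_Gx _ _)
theorem N_le_Gx : S.N ≤ S.Gx := by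
  rw [N, Subgroup.closure_le]; rintro _ ⟨i, c, rfl⟩; exact n_mem_Gx _ _
theorem H_le_Gx : S.H ≤ S.Gx := H_le_N.trans N_le_Gx
theorem B_le_Gx : S.B ≤ S.Gx := sup_le (Ux_le_Gx _) H_le_Gx
theorem U_sup_V : S.U ⊔ S.V = S.Gx := by
  rw [U, V, ← Ux_union, Gx]; congr 1; ext r; simp [em]

theorem mem_Ux_sup_H {A : Set R} {g : G} : g ∈ S.Ux A ⊔ S.H ↔ ∃ u ∈ S.Ux A, ∃ h ∈ S.H, g = u * h :=
  mem_sup_iff_of_conj fun _ hk _ ha => conj_H_Ux hk ha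

theorem mem_B_iff {g : G} : g ∈ S.B ↔ ∃ u ∈ S.U, ∃ h ∈ S.H, g = u * h := mem_Ux_sup_H

theorem mem_B_iff' {g : G} : g ∈ S.B ↔ ∃ h ∈ S.H, ∃ u ∈ S.U, g = h * u := by
  rw [mem_B_iff]
  constructor
  · rintro ⟨u, hu, h, hh, rfl⟩
    exact ⟨h, hh, h⁻¹ * u * h⁻¹⁻¹, conj_H_Ux (inv_mem hh) hu, by group⟩
  · rintro ⟨h, hh, u, hu, rfl⟩
    exact ⟨h * u * h⁻¹, conj_H_Ux hh hu, h, hh, by group⟩

theorem raise_H (d : I ⊕ R → ℤ) {g : G} (hg : g ∈ S.H) : Raise d 0 (S.mat g) := by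
  obtain ⟨a, ha⟩ := exists_isTor hg
  rw [mat, ha.1]; exact raise_diagonal _

theorem raise_sup_H {f : I → ℤ} {A : Set R} (h : ∀ r ∈ A, 0 ≤ Φ.fn f r) {g : G}
    (hg : g ∈ S.Ux A ⊔ S.H) : Raise (Φ.dg f) 0 (S.mat g) := by
  obtain ⟨u, hu, k, hk, rfl⟩ := mem_Ux_sup_H.1 hg
  rw [mat_mul]
  simpa using ((raise_Ux le_rfl h hu).of_sub_one le_rfl).mul (raise_H _ hk)

theorem raise_B {g : G} (hg : g ∈ S.B) : Raise (Φ.dg 1) 0 (S.mat g) :=
  raise_sup_H (fun r hr => (RS.unip_pos.pos r hr).le) hg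

theorem eq_one_of_mem_B_V {g : G} (hB : g ∈ S.B) (hV : g ∈ S.V) : g = 1 :=
  eq_one_of_raise RS.unip_neg hV (fun r hr => by
    have := RS.unip_neg.pos r hr
    rw [RS.fn_neg_left] at this; omega) (raise_B hB)

theorem B_inf_V : S.B ⊓ S.V = ⊥ := by
  rw [eq_bot_iff]; exact fun g hg => eq_one_of_mem_B_V hg.1 hg.2

theorem eq_one_of_mem_H {f : I → ℤ} {A : Set R} (hA : Φ.Unip f A) {g : G} (hg : g ∈ S.Ux A)
    (hH : g ∈ S.H) : g = 1 :=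
  eq_one_of_raise (f' := -f) hA hg (fun r hr => by
    have := hA.pos r hr
    rw [RS.fn_neg_left]; omega) (raise_H _ hH)

theorem U_inf_H : S.U ⊓ S.H = ⊥ := by
  rw [eq_bot_iff]; exact fun g hg => eq_one_of_mem_H RS.unip_pos hg.1 hg.2

theorem B_inf_V_sup_H : S.B ⊓ (S.V ⊔ S.H) = S.H := by
  refine le_antisymm ?_ (le_inf H_le_B le_sup_right)
  rintro g ⟨hB, hV⟩
  obtain ⟨v, hv, h, hh, rfl⟩ := mem_Ux_sup_H.1 hV
  have : v = 1 := eq_one_of_mem_B_V (by simpa using S.B.mul_mem hB (inv_mem (H_le_B hh))) hv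
  simpa [this] using hh

theorem mat_diag_ne_zero {f : I → ℤ} {A : Set R} (h : ∀ r ∈ A, 0 < Φ.fn f r) {g : G}
    (hg : g ∈ S.Ux A) (a : I ⊕ R) : S.mat g a a = 1 := by
  have := raise_Ux (m := 1) zero_le_one h hg a a (by omega)
  simpa [sub_eq_zero] using this

/-- the big cell meets `N` in `H` -/
theorem acts_one_of_eq {m b v : G} (hm : m ∈ S.N) (hb : b ∈ S.B) (hv : v ∈ S.V) (e : m = b * v)
    {w : Φ.W} (hw : S.Acts m w) : w = 1 := by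
  refine RS.eq_one_of_pos fun i => ?_
  by_contra hn
  rw [← RS.pos_neg_iff, ← RS.smul_neg'] at hn
  set r := Φ.neg (Φ.sim i)
  have h1 := mat_diag_ne_zero RS.unip_neg.pos hv (.inr r)
  have h2 : v = b⁻¹ * m := by rw [e]; group
  rw [h2, mat_mul, Matrix.mul_apply, Finset.sum_eq_single (.inr (w • r))
    (fun a _ ha => by rw [mat_mono hm hw r a ha, mul_zero]) (by simp),
    raise_B (inv_mem hb) _ _ (by
      have := hn.ht_pos
      simp only [RS.dg_inr, RS.fn_one, r, RS.ht_neg, RS.ht_sim] at this ⊢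
      omega)] at h1
  simp at h1

theorem B_inf_N : S.B ⊓ S.N = S.H := by
  refine le_antisymm ?_ (le_inf H_le_B H_le_N)
  rintro g ⟨hB, hN⟩
  obtain ⟨w, hw⟩ := exists_acts hN
  rw [acts_one_of_eq hN hB (one_mem _) (by simp) hw] at hw
  exact mem_H_of_acts hN hw

theorem U_inf_N : S.U ⊓ S.N = ⊥ := by
  rw [eq_bot_iff]
  rintro g ⟨hU, hN⟩
  have : g ∈ S.B ⊓ S.N := ⟨U_le_B hU, hN⟩
  rw [B_inf_N] at this
  exact eq_one_of_mem_H RS.unip_pos hU this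

theorem exists_Uw (w : Φ.W) {u : G} (hu : u ∈ S.U) :
    ∃ u₁ ∈ S.Ux {r | Φ.Pos r ∧ Φ.Pos (w • r)}, ∃ u₂ ∈ S.Uw w, u = u₁ * u₂ :=
  exists_mul RS.unip_pos (fun r => by simp only [Set.mem_ofPred_eq]; tauto) hu

theorem Acts.conj_Uw {m : G} {w : Φ.W} (hw : S.Acts m w) {u : G} (hu : u ∈ S.Uw w) :
    m * u * m⁻¹ ∈ S.V := hw.conj_mem (fun _ hr => hr.2) hu

/-- normal form in a double coset -/
theorem exists_normal_form {m : G} (hm : m ∈ S.N) {w : Φ.W} (hw : S.Acts m w) {b b' : G}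
    (hb : b ∈ S.B) (hb' : b' ∈ S.B) : ∃ b'' ∈ S.B, ∃ u ∈ S.Uw w, b * m * b' = b'' * m * u := by
  obtain ⟨h, hh, u, hu, rfl⟩ := mem_B_iff'.1 hb'
  obtain ⟨u₁, h1, u₂, h2, rfl⟩ := exists_Uw w hu
  refine ⟨b * (m * h * m⁻¹) * (m * u₁ * m⁻¹), mul_mem (mul_mem hb (H_le_B (conj_mem_H hm hh)))
    (U_le_B (hw.conj_mem (fun _ hr => hr.2) h1)), u₂, h2, by group⟩

theorem bruhat_unique {m m' : G} (hm : m ∈ S.N) (hm' : m' ∈ S.N) {w w' : Φ.W} (hw : S.Acts m w)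
    (hw' : S.Acts m' w') {b b' : G} (hb : b ∈ S.B) (hb' : b' ∈ S.B) (e : b * m * b' = m') : w = w' := by
  obtain ⟨b'', h1, u, h2, e2⟩ := exists_normal_form hm hw hb hb'
  have := acts_one_of_eq (mul_mem hm' (inv_mem hm)) h1 (hw.conj_Uw h2) (by rw [← e, e2]; group)
    (hw'.mul hw.inv)
  exact (mul_inv_eq_one.1 this).symm

theorem bruhat_unique' {m m' : G} (hm : m ∈ S.N) (hm' : m' ∈ S.N) {w w' : Φ.W} (hw : S.Acts m w)
    (hw' : S.Acts m' w') {b₁ b₂ b₃ b₄ : G} (h₁ : b₁ ∈ S.B) (h₂ : b₂ ∈ S.B) (h₃ : b₃ ∈ S.B)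
    (h₄ : b₄ ∈ S.B) (e : b₁ * m * b₂ = b₃ * m' * b₄) : w = w' :=
  bruhat_unique hm hm' hw hw' (mul_mem (inv_mem h₃) h₁) (mul_mem h₂ (inv_mem h₄))
    (by calc _ = b₃⁻¹ * (b₁ * m * b₂) * b₄⁻¹ := by group
          _ = m' := by rw [e]; group)

theorem normal_form_unique {m : G} {w : Φ.W} (hw : S.Acts m w) {b b' u u' : G}
    (hb : b ∈ S.B) (hb' : b' ∈ S.B) (hu : u ∈ S.Uw w) (hu' : u' ∈ S.Uw w)
    (e : b * m * u = b' * m * u') : b = b' ∧ u = u' := by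
  have h1 : m * (u * u'⁻¹) * m⁻¹ = b⁻¹ * b' := by
    calc _ = b⁻¹ * (b * m * u) * u'⁻¹ * m⁻¹ := by group
      _ = _ := by rw [e]; group
  have h2 := eq_one_of_mem_B_V (h1 ▸ mul_mem (inv_mem hb) hb') (hw.conj_Uw (mul_mem hu (inv_mem hu')))
  rw [h2] at h1
  refine ⟨inv_mul_eq_one.1 h1.symm, ?_⟩
  rw [mul_inv_eq_one, mul_eq_left] at h2
  exact mul_inv_eq_one.1 h2

theorem exists_U_split (i : I) {u : G} (hu : u ∈ S.U) :
    ∃ u' ∈ S.Ux {r | Φ.Pos r ∧ r ≠ Φ.sim i}, ∃ t, u = u' * S.x (Φ.sim i) t := by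
  obtain ⟨u', h1, v, h2, rfl⟩ := exists_mul (B := {r | Φ.Pos r ∧ r ≠ Φ.sim i}) (C := {Φ.sim i})
    RS.unip_pos (fun r => by
      simp only [Set.mem_ofPred_eq, Set.mem_singleton_iff]
      by_cases h : r = Φ.sim i <;> simp [h, Φ.pos_sim]) hu
  obtain ⟨t, rfl⟩ := mem_Ux_singleton.1 h2
  exact ⟨u', h1, t, rfl⟩

/-- the double coset axiom, with the condition deciding between the two cases -/
theorem n_mul_B_mul (i : I) (c : Fˣ) {m : G} {w : Φ.W} (hw : S.Acts m w) {b : G}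
    (hb : b ∈ S.B) :
    (∃ b₁ ∈ S.B, ∃ b₂ ∈ S.B, S.n (Φ.sim i) c * b * m = b₁ * (S.n (Φ.sim i) c * m) * b₂) ∨
      (¬ Φ.Pos (w⁻¹ • Φ.sim i) ∧ ∃ b₁ ∈ S.B, ∃ b₂ ∈ S.B, S.n (Φ.sim i) c * b * m = b₁ * m * b₂) := by
  obtain ⟨h, hh, u, hu, rfl⟩ := mem_B_iff'.1 hb
  obtain ⟨u', h1, t, rfl⟩ := exists_U_split i hu
  set n := S.n (Φ.sim i) c with hn
  have hnN : n ∈ S.N := n_sim_mem i c
  have a1 : n * h * n⁻¹ ∈ S.B := H_le_B (conj_mem_H hnN hh)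
  have a2 : n * u' * n⁻¹ ∈ S.B := U_le_B ((acts_n i c).conj_mem (fun r hr => hr.1.rf hr.2) h1)
  by_cases hp : Φ.Pos (w⁻¹ • Φ.sim i)
  · left
    refine ⟨_, mul_mem a1 a2, m⁻¹ * S.x (Φ.sim i) t * m, U_le_B (hw.conj_mem' (A := {Φ.sim i}) ?_
      (x_mem (Set.mem_singleton _) t)), by group⟩
    rintro _ rfl; exact hp
  by_cases ht : t = 0
  · left
    exact ⟨_, mul_mem a1 a2, 1, one_mem _, by rw [ht, x_zero]; group⟩
  right
  refine ⟨hp, ?_⟩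
  obtain ⟨χ, -, e⟩ := acts_n (S := S) i c
  have e1 := e (Φ.sim i) t
  rw [RS.s_smul, Φ.rf_sim, ← Units.val_mk0 ht, ← Units.val_mul, x_neg_eq] at e1
  set d := χ (Φ.sim i) * Units.mk0 t ht
  have a3 : S.x (Φ.sim i) (d : F)⁻¹ ∈ S.B := U_le_B (x_mem_U (Φ.pos_sim i) _)
  have a4 : S.n (Φ.sim i) (-d⁻¹) * n ∈ S.B := H_le_B (n_mul_n_mem _ _ _)
  have a5 : (n * m)⁻¹ * S.x (Φ.sim i) (d : F)⁻¹ * (n * m) ∈ S.B := by
    refine U_le_B (((acts_n i c).mul hw).conj_mem' (A := {Φ.sim i}) ?_ (x_mem (Set.mem_singleton _) _))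
    rintro _ rfl
    rw [mul_inv_rev, mul_smul, RS.s_inv, RS.s_smul, Φ.rf_sim, RS.smul_neg']
    exact RS.pos_neg_iff.2 hp
  refine ⟨_, mul_mem (mul_mem (mul_mem a1 a2) a3) a4, _, a5, ?_⟩
  calc _ = n * h * n⁻¹ * (n * u' * n⁻¹) * (n * S.x (Φ.sim i) (Units.mk0 t ht) * n⁻¹) * n * m := by
        rw [Units.val_mk0]; group
    _ = _ := by rw [hn, e1]; group

variable (S) in
/-- elements of `N` lying over a parabolic subgroup of the Weyl group -/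
def NJ (J : Set I) : Subgroup G where
  carrier := {m | m ∈ S.N ∧ ∃ w ∈ Φ.WJ J, S.Acts m w}
  one_mem' := ⟨one_mem _, 1, one_mem _, acts_one⟩
  mul_mem' := by
    rintro _ _ ⟨h1, w, hw, h2⟩ ⟨h1', w', hw', h2'⟩
    exact ⟨mul_mem h1 h1', _, mul_mem hw hw', h2.mul h2'⟩
  inv_mem' := by
    rintro _ ⟨h1, w, hw, h2⟩
    exact ⟨inv_mem h1, _, inv_mem hw, h2.inv⟩

theorem H_le_NJ (J : Set I) : S.H ≤ S.NJ J := fun _ hg => ⟨H_le_N hg, 1, one_mem _, acts_of_mem_H hg⟩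

theorem n_mem_NJ {J : Set I} {j : I} (hj : j ∈ J) (c : Fˣ) : S.n (Φ.sim j) c ∈ S.NJ J :=
  ⟨n_sim_mem j c, _, RS.s_mem_WJ hj, acts_n j c⟩

theorem NJ_induction {J : Set I} {p : G → Prop} (h1 : ∀ h ∈ S.H, p h)
    (h2 : ∀ j ∈ J, ∀ m ∈ S.NJ J, p m → p (S.n (Φ.sim j) 1 * m)) {m : G} (hm : m ∈ S.NJ J) : p m := by
  obtain ⟨hm, w, hw, ha⟩ := hm
  revert m
  refine RS.WJ_induction_left (p := fun w => ∀ {m}, m ∈ S.N → S.Acts m w → p m)
    (fun hm ha => h1 _ (mem_H_of_acts hm ha)) ?_ hw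
  intro j hj w hw _ ih m hm ha
  have a1 : (S.n (Φ.sim j) 1)⁻¹ * m ∈ S.N := mul_mem (inv_mem (n_sim_mem j 1)) hm
  have a2 : S.Acts ((S.n (Φ.sim j) 1)⁻¹ * m) w := by simpa using (acts_n j 1).inv.mul ha
  simpa using h2 j hj _ ⟨a1, w, hw, a2⟩ (ih a1 a2)

theorem NJ_univ : S.NJ Set.univ = S.N :=
  le_antisymm (fun _ h => h.1) fun _ h => ⟨h, (exists_acts h).choose, by rw [RS.WJ_univ]; trivial,
    (exists_acts h).choose_spec⟩

variable (S) in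
/-- standard parabolic subgroups -/
def PJ (J : Set I) : Subgroup G := S.B ⊔ S.NJ J

theorem mul_cell {J : Set I} {m : G} (hm : m ∈ S.NJ J) {m' : G} (hm' : m' ∈ S.N) {b : G}
    (hb : b ∈ S.B) : ∃ m'' ∈ S.NJ J, ∃ b₁ ∈ S.B, ∃ b₂ ∈ S.B, m * b * m' = b₁ * (m'' * m') * b₂ := by
  refine NJ_induction (p := fun m => ∃ m'' ∈ S.NJ J, ∃ b₁ ∈ S.B, ∃ b₂ ∈ S.B,
    m * b * m' = b₁ * (m'' * m') * b₂) ?_ ?_ hm
  · intro h hh
    exact ⟨1, one_mem _, h * b, mul_mem (H_le_B hh) hb, 1, one_mem _, by group⟩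
  · rintro j hj m - ⟨m'', h1, b₁, h2, b₂, h3, e⟩
    obtain ⟨w, hw⟩ := exists_acts (mul_mem h1.1 hm')
    rcases n_mul_B_mul j 1 hw h2 with ⟨b₃, h4, b₄, h5, e2⟩ | ⟨-, b₃, h4, b₄, h5, e2⟩
    · refine ⟨_, mul_mem (n_mem_NJ hj 1) h1, b₃, h4, b₄ * b₂, mul_mem h5 h3, ?_⟩
      calc _ = S.n (Φ.sim j) 1 * (m * b * m') := by group
        _ = S.n (Φ.sim j) 1 * b₁ * (m'' * m') * b₂ := by rw [e]; group
        _ = _ := by rw [e2]; group
    · refine ⟨_, h1, b₃, h4, b₄ * b₂, mul_mem h5 h3, ?_⟩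
      calc _ = S.n (Φ.sim j) 1 * (m * b * m') := by group
        _ = S.n (Φ.sim j) 1 * b₁ * (m'' * m') * b₂ := by rw [e]; group
        _ = _ := by rw [e2]; group

theorem mem_PJ_iff {J : Set I} {g : G} :
    g ∈ S.PJ J ↔ ∃ b ∈ S.B, ∃ m ∈ S.NJ J, ∃ b' ∈ S.B, g = b * m * b' := by
  constructor
  · intro hg
    let M : Subgroup G :=
      { carrier := {g | ∃ b ∈ S.B, ∃ m ∈ S.NJ J, ∃ b' ∈ S.B, g = b * m * b'}
        one_mem' := ⟨1, one_mem _, 1, one_mem _, 1, one_mem _, by simp⟩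
        mul_mem' := by
          rintro _ _ ⟨b₁, h1, m, hm, b₂, h2, rfl⟩ ⟨b₃, h3, m', hm', b₄, h4, rfl⟩
          obtain ⟨m'', h5, b₅, h6, b₆, h7, e⟩ := mul_cell hm hm'.1 (mul_mem h2 h3)
          refine ⟨b₁ * b₅, mul_mem h1 h6, _, mul_mem h5 hm', b₆ * b₄, mul_mem h7 h4, ?_⟩
          calc _ = b₁ * (m * (b₂ * b₃) * m') * b₄ := by group
            _ = _ := by rw [e]; group
        inv_mem' := by
          rintro _ ⟨b, hb, m, hm, b', hb', rfl⟩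
          exact ⟨_, inv_mem hb', _, inv_mem hm, _, inv_mem hb, by group⟩ }
    have : S.PJ J ≤ M := sup_le (fun b hb => ⟨b, hb, 1, one_mem _, 1, one_mem _, by simp⟩)
      fun m hm => ⟨1, one_mem _, m, hm, 1, one_mem _, by simp⟩
    exact this hg
  · rintro ⟨b, hb, m, hm, b', hb', rfl⟩
    exact mul_mem (Subgroup.mul_mem_sup hb hm) (Subgroup.mem_sup_left hb')

theorem x_mem_PJ {J : Set I} {r : R} (h : Φ.Pos r ∨ Φ.InJ J r) (t : F) : S.x r t ∈ S.PJ J := by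
  rcases h with h | h
  · exact Subgroup.mem_sup_left (U_le_B (x_mem_U h t))
  · obtain ⟨w, hw, j, -, rfl⟩ := RS.exists_smul_sim_of_inJ h
    obtain ⟨m, hm, ha⟩ := exists_of_W (S := S) w
    have hm' : m ∈ S.PJ J := Subgroup.mem_sup_right ⟨hm, w, hw, ha⟩
    obtain ⟨χ, -, e⟩ := ha
    have := e (Φ.sim j) ((χ (Φ.sim j))⁻¹ * t)
    rw [← mul_assoc (χ _ : F), Units.mul_inv, one_mul] at this
    rw [← this]
    exact mul_mem (mul_mem hm' (Subgroup.mem_sup_left (U_le_B (x_mem_U (Φ.pos_sim j) _)))) (inv_mem hm')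

theorem NJ_le (J : Set I) : S.NJ J ≤ S.Ux {r | Φ.InJ J r} ⊔ S.H := by
  intro m hm
  refine NJ_induction (p := fun m => m ∈ S.Ux {r | Φ.InJ J r} ⊔ S.H)
    (fun h hh => Subgroup.mem_sup_right hh) (fun j hj m _ ih => mul_mem (Subgroup.mem_sup_left ?_) ih) hm
  have h1 : Φ.sim j ∈ {r | Φ.InJ J r} := RS.inJ_sim.2 hj
  have h2 : Φ.neg (Φ.sim j) ∈ {r | Φ.InJ J r} := RS.InJ.neg h1
  exact mul_mem (mul_mem (x_mem h1 _) (x_mem h2 _)) (x_mem h1 _)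

theorem PJ_eq (J : Set I) : S.PJ J = S.Ux {r | Φ.Pos r ∨ Φ.InJ J r} ⊔ S.H := by
  refine le_antisymm (sup_le (sup_le_sup_right (Ux_mono fun _ h => Or.inl h) _)
    ((NJ_le J).trans (sup_le_sup_right (Ux_mono fun _ h => Or.inr h) _)))
    (sup_le (Ux_le.2 fun r hr t => x_mem_PJ hr t) (H_le_B.trans le_sup_left))

theorem PJ_univ : S.PJ Set.univ = S.Gx :=
  le_antisymm (sup_le B_le_Gx (by rw [NJ_univ]; exact N_le_Gx))
    (Ux_le.2 fun r _ t => x_mem_PJ (Or.inr fun i hi => absurd trivial hi) t)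

theorem B_sup_N : S.B ⊔ S.N = S.Gx := by rw [← PJ_univ, PJ, NJ_univ]

theorem PJ_le_Gx (J : Set I) : S.PJ J ≤ S.Gx := sup_le B_le_Gx fun _ h => N_le_Gx h.1

theorem PJ_eq_sup_closure (J : Set I) :
    S.PJ J = S.B ⊔ Subgroup.closure {g | ∃ j ∈ J, g = S.n (Φ.sim j) 1} := by
  refine le_antisymm (sup_le le_sup_left fun m hm => ?_) (sup_le_sup_left ?_ _)
  · exact NJ_induction (p := fun m => m ∈ S.B ⊔ Subgroup.closure {g | ∃ j ∈ J, g = S.n (Φ.sim j) 1})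
      (fun h hh => Subgroup.mem_sup_left (H_le_B hh)) (fun j hj m _ ih =>
        mul_mem (Subgroup.mem_sup_right (Subgroup.subset_closure ⟨j, hj, rfl⟩)) ih) hm
  · rw [Subgroup.closure_le]; rintro _ ⟨j, hj, rfl⟩; exact n_mem_NJ hj 1

/-- Bruhat decomposition -/
theorem bruhat {g : G} (hg : g ∈ S.Gx) :
    ∃ b ∈ S.B, ∃ m ∈ S.N, ∃ w, S.Acts m w ∧ ∃ u ∈ S.Uw w, g = b * m * u := by
  rw [← PJ_univ, mem_PJ_iff] at hg
  obtain ⟨b, hb, m, ⟨hm, w, -, hw⟩, b', hb', rfl⟩ := hg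
  obtain ⟨b'', h1, u, h2, e⟩ := exists_normal_form hm hw hb hb'
  exact ⟨b'', h1, m, hm, w, hw, u, h2, e⟩

/-! ### Levi decomposition -/

variable (S) in
/-- unipotent radical -/
def UJ (J : Set I) : Subgroup G := S.Ux {r | Φ.Pos r ∧ ¬ Φ.InJ J r}

variable (S) in
/-- Levi subgroup -/
def LJ (J : Set I) : Subgroup G := S.Ux {r | Φ.InJ J r} ⊔ S.H

open Classical in
/-- the functional vanishing exactly on the span of `J` -/
noncomputable def fJ (J : Set I) : I → ℤ := fun i => if i ∈ J then 0 else 1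

theorem fJ_eq_zero {J : Set I} {r : R} (h : Φ.InJ J r) : Φ.fn (fJ J) r = 0 :=
  Finset.sum_eq_zero fun i _ => by
    by_cases hi : i ∈ J
    · simp [fJ, hi]
    · simp [h i hi]

theorem fJ_pos_iff {J : Set I} {r : R} : 0 < Φ.fn (fJ J) r ↔ Φ.Pos r ∧ ¬ Φ.InJ J r := by
  have key : ∀ r, Φ.Pos r → ¬ Φ.InJ J r → 0 < Φ.fn (fJ J) r := by
    intro r hp h
    simp only [RS.InJ, not_forall] at h
    obtain ⟨i, hi, h⟩ := h
    refine Finset.sum_pos' (fun j _ => mul_nonneg (by unfold fJ; split_ifs <;> simp) (hp j))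
      ⟨i, by simp, ?_⟩
    have := hp i
    simp [fJ, hi]; omega
  refine ⟨fun h => ?_, fun h => key r h.1 h.2⟩
  have h1 : ¬ Φ.InJ J r := fun h1 => by rw [fJ_eq_zero h1] at h; omega
  refine ⟨?_, h1⟩
  by_contra hp
  have := key _ (RS.pos_neg_iff.2 hp) (by rwa [RS.inJ_neg_iff])
  rw [RS.fn_neg] at this; omega

theorem UJ_eq (J : Set I) : S.UJ J = S.Ux {r | 0 < Φ.fn (fJ J) r} := by
  simp only [fJ_pos_iff]; rfl

theorem conj_Ux_fn {f : I → ℤ} {g : G} (hg : g ∈ S.Ux {r | 0 ≤ Φ.fn f r} ⊔ S.H) {m : ℤ} (hm : 0 < m)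
    {u : G} (hu : u ∈ S.Ux {r | m ≤ Φ.fn f r}) : g * u * g⁻¹ ∈ S.Ux {r | m ≤ Φ.fn f r} := by
  obtain ⟨v, hv, h, hh, rfl⟩ := mem_Ux_sup_H.1 hg
  have := conj_Ux_mem (fun r hr s hs => ⟨?_, fun k hk => ?_⟩) hv (conj_H_Ux hh hu)
  · simpa [mul_assoc] using this
  · rintro rfl
    simp only [Set.mem_ofPred_eq, RS.fn_neg] at hr hs
    omega
  · simp only [Set.mem_ofPred_eq] at hr hs ⊢
    have := hk.fn_le (f := f) hr (by omega)
    omega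

theorem conj_UJ {J : Set I} {g : G} (hg : g ∈ S.PJ J) {u : G} (hu : u ∈ S.UJ J) :
    g * u * g⁻¹ ∈ S.UJ J := by
  rw [UJ_eq] at *
  refine conj_Ux_fn (m := 1) ?_ one_pos hu
  rw [PJ_eq] at hg
  refine sup_le_sup_right (Ux_mono fun r hr => ?_) _ hg
  by_cases h : Φ.InJ J r
  · exact (fJ_eq_zero h).ge
  · exact (fJ_pos_iff.2 ⟨hr.resolve_right h, h⟩).le

theorem UJ_sup_LJ (J : Set I) : S.UJ J ⊔ S.LJ J = S.PJ J := by
  rw [PJ_eq, UJ, LJ, ← sup_assoc, ← Ux_union]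
  congr 2
  ext r; simp only [Set.mem_union, Set.mem_ofPred_eq]; tauto

theorem UJ_inf_LJ (J : Set I) : S.UJ J ⊓ S.LJ J = ⊥ := by
  rw [eq_bot_iff, UJ_eq]
  rintro g ⟨h1, h2⟩
  exact eq_one_of_raise (f' := -fJ J) (RS.unip_fn _) h1 (fun r hr => by
    rw [RS.fn_neg_left]; simpa using hr) (raise_sup_H (fun r hr => by
      rw [RS.fn_neg_left, fJ_eq_zero hr]; simp) h2)

theorem mem_PJ_of_conj {J : Set I} {g : G} (hg : g ∈ S.Gx)
    (h : ∀ u ∈ S.UJ J, g * u * g⁻¹ ∈ S.B) : g ∈ S.PJ J := by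
  obtain ⟨b, hb, m, hm, w, hw, u, hu, rfl⟩ := bruhat hg
  have hu' : u ∈ S.PJ J := Subgroup.mem_sup_left (U_le_B (Uw_le_U w hu))
  refine mul_mem (Subgroup.mul_mem_sup hb ⟨hm, w, RS.mem_WJ_of_pos fun r hr hJ => ?_, hw⟩) hu'
  by_contra hn
  obtain ⟨χ, -, e⟩ := hw
  have h1 := h _ (conj_UJ (inv_mem hu') (x_mem (A := {r | Φ.Pos r ∧ ¬ Φ.InJ J r}) ⟨hr, hJ⟩ 1))
  have h2 : m * S.x r 1 * m⁻¹ ∈ S.B := by
    have := mul_mem (mul_mem (inv_mem hb) h1) hb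
    simpa [mul_assoc] using this
  rw [e] at h2
  simpa [x_eq_one_iff] using eq_one_of_mem_B_V h2 (x_mem_V hn _)

theorem UJ_empty : S.UJ ∅ = S.U := by
  unfold UJ U
  congr 1
  ext r
  simp only [Set.mem_ofPred_eq, and_iff_left_iff_imp]
  intro _ h
  exact Φ.rv_ne_zero r (funext fun i => h i (by simp))

theorem PJ_empty : S.PJ ∅ = S.B := by
  refine le_antisymm (sup_le le_rfl fun m hm => ?_) le_sup_left
  exact NJ_induction (p := fun m => m ∈ S.B) (fun h hh => H_le_B hh) (by simp) hm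

theorem conj_U {b : G} (hb : b ∈ S.B) {u : G} (hu : u ∈ S.U) : b * u * b⁻¹ ∈ S.U := by
  rw [← UJ_empty] at *; exact conj_UJ (by rwa [PJ_empty]) hu

theorem mem_B_of_conj {g : G} (hg : g ∈ S.Gx) (h : ∀ u ∈ S.U, g * u * g⁻¹ ∈ S.B) : g ∈ S.B := by
  rw [← PJ_empty]; exact mem_PJ_of_conj hg (by rwa [UJ_empty])

theorem exists_n0 : ∃ m ∈ S.N, S.Acts m (Φ.w0 Set.univ) ∧ (∀ u ∈ S.U, m * u * m⁻¹ ∈ S.V) ∧
    ∀ u ∈ S.V, m * u * m⁻¹ ∈ S.U := by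
  obtain ⟨m, hm, h⟩ := exists_of_W (S := S) (Φ.w0 Set.univ)
  have hJ : ∀ r, Φ.InJ Set.univ r := fun r i hi => absurd trivial hi
  exact ⟨m, hm, h, fun u hu => h.conj_mem (fun r hr => RS.w0_neg hr (hJ r)) hu,
    fun u hu => h.conj_mem (fun r hr => (RS.pos_w0_iff (hJ r)).2 hr) hu⟩

/-- a subgroup of `B` normalised by the whole group centralises the root elements -/
theorem core_le {K : Subgroup G} (hK : K ≤ S.B) (hn : ∀ g ∈ S.Gx, ∀ k ∈ K, g * k * g⁻¹ ∈ K) {k : G}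
    (hk : k ∈ K) : k ∈ S.H ∧ S.IsTor k 1 := by
  obtain ⟨m, hm, -, h1, -⟩ := exists_n0 (S := S)
  have key : ∀ k ∈ K, k ∈ S.H := by
    intro k hk
    rw [← B_inf_V_sup_H]
    refine ⟨hK hk, ?_⟩
    obtain ⟨u, hu, h, hh, e⟩ := mem_B_iff.1 (hK (hn _ (inv_mem (N_le_Gx hm)) k hk))
    have : k = (m * u * m⁻¹) * (m * h * m⁻¹) := by
      calc k = m * (m⁻¹ * k * m⁻¹⁻¹) * m⁻¹ := by group
        _ = _ := by rw [e]; group
    rw [this]
    exact Subgroup.mul_mem_sup (h1 u hu) (conj_mem_H hm hh)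
  refine ⟨key k hk, ?_⟩
  obtain ⟨a, ha⟩ := exists_isTor (key k hk)
  suffices a = 1 from this ▸ ha
  ext i
  have h2 := key _ (mul_mem hk (hn _ (x_mem_Gx (Φ.sim i) 1) _ (inv_mem hk)))
  rw [show k * (S.x (Φ.sim i) 1 * k⁻¹ * (S.x (Φ.sim i) 1)⁻¹) =
    k * S.x (Φ.sim i) 1 * k⁻¹ * (S.x (Φ.sim i) 1)⁻¹ by group, ha.2, x_inv, S.add] at h2
  have := x_eq_one_iff.1 (eq_one_of_mem_H RS.unip_pos (x_mem_U (Φ.pos_sim i) _) h2)
  rw [Φ.rv_sim, RS.chi_single] at this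
  simpa [add_neg_eq_zero] using this

theorem IsTor.commute {k : G} (hk : S.IsTor k 1) {g : G} (hg : g ∈ S.Gx) : Commute k g := by
  refine Ux_induction (p := fun g => Commute k g) (Commute.one_right k) (fun r _ t g _ ih => ih.mul_right ?_) hg
  have := hk.2 r t
  rw [RS.chi_one, Units.val_one, one_mul, mul_inv_eq_iff_eq_mul] at this
  exact this

theorem mem_H_of_θ {g : G} (hg : g ∈ S.Gx) (h : ∃ a, S.θ g = Φ.tG F a) : g ∈ S.H := by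
  obtain ⟨a, ha⟩ := h
  obtain ⟨b, hb, m, hm, w, hw, u, hu, rfl⟩ := bruhat hg
  have hd : ∀ d, Raise d 0 (S.mat (b * m * u)) := fun d => by rw [mat, ha]; exact raise_diagonal _
  have h1 : Raise (Φ.dg 1) 0 (S.mat m) := by
    have := ((raise_B (inv_mem hb)).mul (hd _)).mul (raise_B (inv_mem (U_le_B (Uw_le_U w hu))))
    rw [← mat_mul, ← mat_mul] at this
    simpa [mul_assoc] using this
  have h2 : w = 1 := by
    refine RS.eq_one_of_pos fun i => ?_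
    by_contra hn
    have : ∀ a, S.mat m a (.inr (Φ.sim i)) = 0 := by
      intro a
      by_cases e : a = .inr (w • Φ.sim i)
      · refine h1 _ _ ?_
        have := RS.ht_pos_iff.not.2 hn
        simp only [e, RS.dg_inr, RS.fn_one, RS.ht_sim]; omega
      · exact mat_mono hm hw _ a e
    have h3 := congrFun (congrFun (S.mat_mul m⁻¹ m) (.inr (Φ.sim i))) (.inr (Φ.sim i))
    simp [mat_one, Matrix.mul_apply, this] at h3
  subst h2
  have h3 := mem_H_of_acts hm hw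
  have h4 : b * m * u ∈ S.B := mul_mem (mul_mem hb (H_le_B h3)) (U_le_B (Uw_le_U _ hu))
  obtain ⟨v, hv, h, hh, e⟩ := mem_B_iff.1 h4
  have h5 : v = 1 := by
    refine eq_one_of_raise (f' := -1) RS.unip_pos hv (fun r hr => by
      have := RS.unip_pos.pos r hr
      rw [RS.fn_neg_left]; omega) ?_
    have := (hd (Φ.dg (-1))).mul (raise_H _ (inv_mem hh))
    rw [← mat_mul, e] at this
    simpa using this
  rw [e, h5, one_mul]; exact hh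

theorem θ_eq_one_iff {g : G} (hg : g ∈ S.Gx) : S.θ g = 1 ↔ ∀ g' ∈ S.Gx, Commute g g' := by
  constructor
  · intro h g' hg'
    have h1 := mem_H_of_θ hg ⟨1, by simpa using h⟩
    exact (isTor_of_acts (acts_of_mem_H h1) (by simpa using h)).commute hg'
  · intro h
    have h1 : g ∈ S.B := mem_B_of_conj hg fun u hu => by
      rw [(h u (B_le_Gx (U_le_B hu))).eq]; simpa using U_le_B hu
    have := core_le (K := Subgroup.zpowers g) (by simpa using h1) (by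
      rintro g' hg' _ ⟨k, rfl⟩
      rw [← ((h g' hg').zpow_left k).eq]
      simp) (Subgroup.mem_zpowers g)
    simpa using this.2.1

end St

end Cfsg.Agent.Chev
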