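import Cfsg.Agent.Lib.Chev.Simple
import Cfsg.Agent.Lib.Chev.All

set_option autoImplicit false

/-! Translation between the tabulated data and the abstract theory. -/

namespace Cfsg.Agent.Chev.Checked

open Cfsg.Lie

variable {D : ChevalleyDatum} {c : Cert} (h : Checked D c) (F : Type*) [Field F]

/-- the adjoint group of a checked datum -/
noncomputable def st : St h.toCD F (GL D.Idx F) := (h.toAdj F).st

variable {F}

theorem st_x (r : Fin D.nroots) (t : F) : ((h.st F).x r t : Matrix D.Idx D.Idx F) = D.x F r t := rfl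

theorem st_θ (g : GL D.Idx F) : (h.st F).θ g = g := rfl

theorem st_inj : Function.Injective (h.st F).θ := fun _ _ e => e

theorem res_inj : Function.Injective (h.st F).res.θ := Subtype.val_injective

theorem eq_x_iff {g : GL D.Idx F} {r : ℕ} (hr : r < D.nroots) {t : F} :
    (g : Matrix D.Idx D.Idx F) = D.x F r t ↔ g = (h.st F).x ⟨r, hr⟩ t :=
  ⟨fun e => Units.ext e, fun e => e ▸ rfl⟩

theorem st_n (r : Fin D.nroots) (t : Fˣ) :
    ((h.st F).n r t : Matrix D.Idx D.Idx F) = D.nMat F r t := by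
  simp [St.n, st_x, ChevalleyDatum.nMat, ChevalleyDatum.nWord, ChevalleyDatum.wordMat, mul_assoc,
    toCD, toRS]

theorem st_h (r : Fin D.nroots) (t : Fˣ) :
    ((h.st F).h r t : Matrix D.Idx D.Idx F) = D.hMat F r t := by
  rw [St.h, Units.val_mul, st_n, st_n]
  simp [ChevalleyDatum.nMat, ChevalleyDatum.hMat, ChevalleyDatum.hWord, ChevalleyDatum.wordMat]

theorem eq_n_iff {g : GL D.Idx F} {r : ℕ} (hr : r < D.nroots) {t : F} (ht : t ≠ 0) :
    (g : Matrix D.Idx D.Idx F) = D.nMat F r t ↔ g = (h.st F).n ⟨r, hr⟩ (Units.mk0 t ht) :=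
  ⟨fun e => Units.ext (by rw [e, st_n]; rfl), fun e => by rw [e, st_n]; rfl⟩

theorem eq_n_one_iff {g : GL D.Idx F} {r : ℕ} (hr : r < D.nroots) :
    (g : Matrix D.Idx D.Idx F) = D.nMat F r 1 ↔ g = (h.st F).n ⟨r, hr⟩ 1 :=
  ⟨fun e => Units.ext (by rw [e, st_n]; rfl), fun e => by rw [e, st_n]; rfl⟩

theorem eq_h_iff {g : GL D.Idx F} {r : ℕ} (hr : r < D.nroots) {t : F} (ht : t ≠ 0) :
    (g : Matrix D.Idx D.Idx F) = D.hMat F r t ↔ g = (h.st F).h ⟨r, hr⟩ (Units.mk0 t ht) :=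
  ⟨fun e => Units.ext (by rw [e, st_h]; rfl), fun e => by rw [e, st_h]; rfl⟩

theorem closure_eq (p : ℕ → Prop) (hp : ∀ r, p r → r < D.nroots) :
    Subgroup.closure {g : GL D.Idx F | ∃ (r : ℕ) (t : F), p r ∧ (g : Matrix D.Idx D.Idx F) = D.x F r t} =
      (h.st F).Ux {r | p r.val} := by
  unfold St.Ux
  congr 1
  ext g
  constructor
  · rintro ⟨r, t, h1, h2⟩
    exact ⟨⟨r, hp r h1⟩, h1, t, Units.ext h2⟩
  · rintro ⟨r, h1, t, rfl⟩
    exact ⟨r, t, h1, rfl⟩

theorem group_eq : D.group F = (h.st F).Gx := by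
  unfold ChevalleyDatum.group St.Gx St.Ux
  congr 1
  ext g
  have : ∀ (r : Fin D.nroots) (t : F), D.xMat F r t = D.x F r t := fun r t => by
    simp [ChevalleyDatum.x]
  simp only [this, Set.mem_ofPred_eq, Set.mem_univ, true_and]
  exact exists_congr fun r => exists_congr fun t => h.eq_x_iff r.2

theorem U_eq : D.posUnipotent F = (h.st F).U := by
  rw [ChevalleyDatum.posUnipotent, h.closure_eq _ fun _ h => h.1]
  simp only [h.isPos_iff]; rfl

theorem V_eq : D.negUnipotent F = (h.st F).V := by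
  rw [ChevalleyDatum.negUnipotent, h.closure_eq _ fun _ h => h.1]
  simp only [h.isNeg_iff]; rfl

theorem root_eq {r : ℕ} (hr : r < D.nroots) : D.rootSubgroup F r = (h.st F).Ux {⟨r, hr⟩} := by
  unfold ChevalleyDatum.rootSubgroup St.Ux
  congr 1
  ext g
  simp [h.eq_x_iff hr]

theorem H_eq : D.diagonalSubgroup F = (h.st F).H := by
  apply le_antisymm
  · rw [ChevalleyDatum.diagonalSubgroup, Subgroup.closure_le]
    rintro g ⟨r, t, hr, ht, e⟩
    rw [(h.eq_h_iff hr ht).1 e]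
    exact St.h_mem _ _
  · rw [St.H, Subgroup.closure_le]
    rintro _ ⟨i, t, rfl⟩
    exact Subgroup.subset_closure ⟨_, t, (h.toRS.sim i).2, t.ne_zero, h.st_h _ _⟩

theorem N_eq : D.monomialSubgroup F = (h.st F).N := by
  rw [ChevalleyDatum.monomialSubgroup, h.H_eq]
  apply le_antisymm
  · refine sup_le St.H_le_N ?_
    rw [Subgroup.closure_le]
    rintro g ⟨r, hr, e⟩
    rw [(h.eq_n_one_iff hr).1 e]
    exact St.n_mem _ _
  · rw [← St.N_eq_sup, sup_comm]
    refine sup_le_sup_left (Subgroup.closure_mono ?_) _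
    rintro _ ⟨i, rfl⟩
    exact ⟨_, (h.toRS.sim i).2, h.st_n _ _⟩

theorem B_eq : D.borelSubgroup F = (h.st F).B := by
  rw [ChevalleyDatum.borelSubgroup, h.U_eq, h.H_eq]; rfl

theorem PJ_eq (J : Set ℕ) : D.parabolicSubgroup F J = (h.st F).PJ {i | i.val ∈ J} := by
  rw [ChevalleyDatum.parabolicSubgroup, h.B_eq, St.PJ_eq_sup_closure]
  congr 2
  ext g
  constructor
  · rintro ⟨j, h1, h2, e⟩
    exact ⟨⟨j, h2⟩, h1, (h.eq_n_one_iff (h.sim_lt h2)).1 e⟩
  · rintro ⟨j, h1, rfl⟩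
    exact ⟨j, h1, j.2, h.st_n _ _⟩

theorem UJ_eq (J : Set ℕ) : D.unipotentRadical F J = (h.st F).UJ {i | i.val ∈ J} := by
  have := h.closure_eq (F := F) (fun r => D.IsPosRoot r ∧ ¬ D.InRootSub J r) fun _ h => h.1.1
  simp only [and_assoc, h.isPos_iff, h.inRootSub_iff] at this
  exact this

theorem LJ_eq (J : Set ℕ) : D.leviSubgroup F J = (h.st F).LJ {i | i.val ∈ J} := by
  rw [ChevalleyDatum.leviSubgroup, h.H_eq, h.closure_eq _ fun _ h => h.1, sup_comm]
  simp only [h.inRootSub_iff]; rfl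

theorem st_P (L : List (Fin D.nroots)) (t : Fin D.nroots → F) :
    ((h.st F).P L t : Matrix D.Idx D.Idx F) = D.wordMat F (L.map fun r => (r.val, t r)) := by
  induction L with
  | nil => simp [ChevalleyDatum.wordMat]
  | cons r L ih =>
    rw [St.P_cons, Units.val_mul, ih, st_x]
    simp [ChevalleyDatum.wordMat]

theorem card_pos : Nat.card {r | h.toRS.Pos r} = D.nroots / 2 := by
  have e : {r | h.toRS.Pos r} ≃ {r | ¬ h.toRS.Pos r} :=
    ⟨fun r => ⟨h.toRS.neg r, r.2.not_neg⟩, fun r => ⟨h.toRS.neg r, RS.pos_neg_iff.2 r.2⟩,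
      fun r => Subtype.ext (h.toRS.neg_neg r), fun r => Subtype.ext (h.toRS.neg_neg r)⟩
  have h1 := Nat.card_congr e
  have h2 := Nat.card_congr (Equiv.Set.sumCompl {r | h.toRS.Pos r})
  rw [Nat.card_sum, Nat.card_fin] at h2
  have h3 : Nat.card ↥{r | h.toRS.Pos r}ᶜ = Nat.card {r | ¬ h.toRS.Pos r} := rfl
  omega

end Cfsg.Agent.Chev.Checked
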