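import Cfsg.Agent.Lib.Chev.StUniq

/-! Weight vectors in the defining characteristic (Curtis–Richen), I: the Hecke operators. -/

set_option autoImplicit false
set_option linter.unusedSectionVars false

namespace Cfsg.Agent.Chev
open Finset

variable {I R : Type} [Fintype I] [DecidableEq I] [Fintype R] [DecidableEq R]
namespace St
variable {Φ : CD I R} {F : Type*} [Field F] [Fintype F] {G : Type*} [Group G] [Fintype G] {S : St Φ F G}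
  (p : ℕ) [Fact p.Prime] [CharP F p] {k V : Type*} [Field k] [CharP k p] [AddCommGroup V] [Module k V] (ρ : Representation k G V)
open Classical

variable (S) in
/-- the Hecke operator of a simple root -/
noncomputable def crT (i : I) : V →ₗ[k] V := ∑ t, ρ (S.x (Φ.sim i) t * S.n (Φ.sim i) 1)

theorem crT_apply (i : I) (v : V) : S.crT ρ i v = ∑ t, ρ (S.x (Φ.sim i) t * S.n (Φ.sim i) 1) v := by
  rw [crT, LinearMap.sum_apply]

variable (S) in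
/-- eigenvectors of the torus -/
def CrEig (v : V) : Prop := ∀ h ∈ S.H, ∃ c : k, ρ h v = c • v

theorem cr_mem_UJ {i : I} : S.Ux {r | Φ.Pos r ∧ r ≠ Φ.sim i} ≤ S.UJ {i} :=
  Ux_mono fun _ h => ⟨h.1, fun b => h.2 (RS.eq_sim_of_support h.1 b)⟩

theorem U_le_crT (i : I) {v : V} (hv : S.U ≤ fixS ρ v) : S.U ≤ fixS ρ (S.crT ρ i v) := fun u hu => by
  obtain ⟨u', h1, t, rfl⟩ := exists_U_split i hu
  refine mul_mem ?_ ?_ <;> change ρ _ _ = _ <;> rw [crT_apply, map_sum]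
  · refine sum_congr rfl fun s _ => ?_
    have h2 : S.x (Φ.sim i) s * S.n (Φ.sim i) 1 ∈ S.PJ {i} :=
      mul_mem (x_mem_PJ (.inl (Φ.pos_sim i)) s) (le_sup_right (a := S.B) (n_mem_NJ (Set.mem_singleton i) 1))
    have h3 := hv (Ux_mono (fun _ h => h.1) (conj_UJ (inv_mem h2) (cr_mem_UJ h1)))
    generalize S.x (Φ.sim i) s * S.n (Φ.sim i) 1 = g at *
    rw [rep_mul, show u' * g = g * (g⁻¹ * u' * g⁻¹⁻¹) by group, ← rep_mul, h3]
  · exact Fintype.sum_bijective _ (AddGroup.addLeft_bijective t) _ _ fun s => by rw [rep_mul, ← mul_assoc, S.add]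

theorem crT_sm (i : I) {w : Φ.W} (hw : Φ.Pos (w⁻¹ • Φ.sim i)) (y : V) :
    S.crT ρ i (sm ρ (S.Uw w⁻¹) y) = sm ρ (S.Uw (Φ.s i * w)⁻¹) (ρ (S.n (Φ.sim i) 1) y) := by
  have e1 : ∀ r, (Φ.s i * w)⁻¹ • r = w⁻¹ • Φ.rf i r := fun r => by rw [mul_inv_rev, RS.s_inv, mul_smul, RS.s_smul]
  have a0 : ∀ u ∈ S.Uw w⁻¹, S.n (Φ.sim i) 1 * u * (S.n (Φ.sim i) 1)⁻¹ ∈
      S.Ux {r | (Φ.Pos r ∧ ¬ Φ.Pos ((Φ.s i * w)⁻¹ • r)) ∧ r ≠ Φ.sim i} := fun u hu => (acts_n i 1).conj_mem (fun r hr => by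
    have : r ≠ Φ.sim i := fun e => hr.2 (e ▸ hw)
    refine ⟨⟨hr.1.rf this, by rw [e1, RS.s_smul, Φ.rf_rf]; exact hr.2⟩, fun e => ?_⟩
    have h2 := hr.1
    rw [← Φ.rf_rf i r, show Φ.rf i r = Φ.sim i from e, RS.rf_sim] at h2
    exact RS.not_pos_neg_sim _ _ h2) hu
  have a1 : Φ.Pos (Φ.sim i) ∧ ¬ Φ.Pos ((Φ.s i * w)⁻¹ • Φ.sim i) :=
    ⟨Φ.pos_sim i, by rw [e1, RS.rf_sim, RS.smul_neg', RS.pos_neg_iff]; exact not_not.2 hw⟩
  have a2 : ∀ y : F × S.Uw w⁻¹, S.x (Φ.sim i) y.1 * (S.n (Φ.sim i) 1 * y.2 * (S.n (Φ.sim i) 1)⁻¹) ∈ S.Uw (Φ.s i * w)⁻¹ := fun y =>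
    mul_mem (x_mem (A := {r | Φ.Pos r ∧ ¬ Φ.Pos ((Φ.s i * w)⁻¹ • r)}) a1 _) (Ux_mono (fun _ h => h.1) (a0 _ y.2.2))
  have a3 : Function.Injective fun y : F × S.Uw w⁻¹ => (⟨_, a2 y⟩ : S.Uw (Φ.s i * w)⁻¹) := by
    rintro ⟨t, u⟩ ⟨t', u'⟩ e
    have e := congrArg Subtype.val e
    dsimp only at e
    have b1 : S.x (Φ.sim i) (-t' + t) = S.n (Φ.sim i) 1 * ((u' : G) * (u : G)⁻¹) * (S.n (Φ.sim i) 1)⁻¹ := by
      rw [← S.add, ← S.x_inv, inv_mul_eq_iff_eq_mul, ← mul_left_inj (S.n (Φ.sim i) 1 * u * (S.n (Φ.sim i) 1)⁻¹), e]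
      group
    have b3 := cr_mem_UJ (Ux_mono (B := {r | Φ.Pos r ∧ r ≠ Φ.sim i}) (fun _ h => ⟨h.1.1, h.2⟩) (a0 _ (mul_mem u'.2 (inv_mem u.2))))
    rw [← b1] at b3
    have b2 : S.x (Φ.sim i) (-t' + t) = 1 := (UJ_inf_LJ (S := S) {i}).le
      ⟨b3, le_sup_left (b := S.H) (x_mem (RS.inJ_sim.2 (Set.mem_singleton i)) _)⟩
    exact Prod.ext (neg_add_eq_zero.1 (x_eq_one_iff.1 b2)).symm
      (Subtype.ext (mul_inv_eq_one.1 (conj_eq_one_iff.1 (b1.symm.trans b2))).symm)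
  have a4 : Function.Surjective fun y : F × S.Uw w⁻¹ => (⟨_, a2 y⟩ : S.Uw (Φ.s i * w)⁻¹) := by
    rintro ⟨u, hu⟩
    obtain ⟨a, h1, c, h2, rfl⟩ := exists_mul (B := {Φ.sim i}) (C := {r | (Φ.Pos r ∧ ¬ Φ.Pos ((Φ.s i * w)⁻¹ • r)) ∧ r ≠ Φ.sim i})
      (unip_invSet _) (fun r => ⟨fun h => (_root_.em _).imp id fun h' => ⟨h, h'⟩, fun h => h.elim (fun e => by rw [e]; exact a1) And.left⟩) hu
    obtain ⟨t, rfl⟩ := mem_Ux_singleton.1 h1
    have h3 := (acts_n i 1).conj_mem' (B := {r | Φ.Pos r ∧ ¬ Φ.Pos (w⁻¹ • r)}) (fun r hr => by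
      rw [RS.s_inv, RS.s_smul]; exact ⟨hr.1.1.rf hr.2, by rw [← e1]; exact hr.1.2⟩) h2
    exact ⟨(t, ⟨_, h3⟩), Subtype.ext (by dsimp only; group)⟩
  simp only [crT_apply, sm, map_sum, rep_mul]
  rw [sum_comm, ← Fintype.sum_prod_type']
  exact Fintype.sum_bijective _ ⟨a3, a4⟩ _ _ fun _ => by simp only [mul_assoc, inv_mul_cancel, mul_one]

theorem sm_Uw_one (y : V) : sm ρ (S.Uw 1⁻¹) y = y := by
  have : S.Uw 1⁻¹ = ⊥ := by rw [← Ux_empty (S := S), Uw]; simp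
  rw [sm, Fintype.sum_eq_single 1 fun x hx => (hx (Subtype.ext (this.le x.2))).elim]
  simp

theorem U_le_sm {v : V} (hv : S.U ≤ fixS ρ v) {w : Φ.W} : ∀ m ∈ S.N, S.Acts m w → S.U ≤ fixS ρ (sm ρ (S.Uw w⁻¹) (ρ m v)) := by
  refine RS.WJ_induction_left (J := Set.univ) (p := fun w => ∀ m ∈ S.N, S.Acts m w → S.U ≤ fixS ρ (sm ρ (S.Uw w⁻¹) (ρ m v)))
    (fun m hm h u hu => ?_) (fun j _ w _ hw ih m hm h => ?_) (by simp [RS.WJ_univ])
  · change ρ _ _ = _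
    rw [sm_Uw_one, rep_mul, show u * m = m * (m⁻¹ * u * m⁻¹⁻¹) by group, ← rep_mul, hv (conj_H_Ux (inv_mem (mem_H_of_acts hm h)) hu)]
  · rw [← mul_inv_cancel_left (S.n (Φ.sim j) 1) m, ← rep_mul, ← crT_sm ρ j hw]
    exact U_le_crT ρ j (ih _ (mul_mem (inv_mem (n_sim_mem j 1)) hm) (by simpa using (acts_n j 1).inv.mul h))

theorem rep_sm_H {h m : G} (hh : h ∈ S.H) (A : Set R) (v : V) :
    ρ h (sm ρ (S.Ux A) (ρ m v)) = sm ρ (S.Ux A) (ρ m (ρ (m⁻¹ * h * m⁻¹⁻¹) v)) := by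
  rw [rep_sm ρ fun x hx => conj_H_Ux hh hx, rep_mul, rep_mul]
  congr 2; group

theorem sm_smul (X : Subgroup G) (c : k) (v : V) : sm ρ X (c • v) = c • sm ρ X v := by simp [sm, smul_sum]

theorem CrEig.sm {v : V} (hv : S.CrEig ρ v) {m : G} (hm : m ∈ S.N) (A : Set R) : S.CrEig ρ (sm ρ (S.Ux A) (ρ m v)) := fun h hh => by
  obtain ⟨c, e⟩ := hv _ (conj_mem_H (inv_mem hm) hh)
  exact ⟨c, by rw [rep_sm_H ρ hh, e, map_smul, sm_smul]⟩

include p in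
theorem cast_card_F : (Fintype.card F : k) = 0 :=
  (CharP.cast_eq_zero_iff k p _).2 ((CharP.cast_eq_zero_iff F p _).1 (FiniteField.cast_card_eq_zero F))

include p in
theorem crT_crT (i : I) {v : V} (hv : S.U ≤ fixS ρ v) :
    S.crT ρ i (S.crT ρ i v) = ∑ c : Fˣ, ρ (S.h (Φ.sim i) c) (S.crT ρ i v) := by
  simp only [crT_apply]
  set n := S.n (Φ.sim i) 1
  have h1 : ∀ t, ρ (S.x (Φ.sim i) t * (n * n)) v = ρ (n * n) v := fun t => by
    rw [show S.x (Φ.sim i) t * (n * n) = n * n * ((n * n)⁻¹ * S.x (Φ.sim i) t * (n * n)⁻¹⁻¹) by simp [mul_assoc], ← rep_mul,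
      hv (conj_H_Ux (inv_mem (n_mul_n_mem i 1 1)) (x_mem_U (Φ.pos_sim i) t))]
  have h2 : (∑ t, ρ (S.x (Φ.sim i) t * n) (∑ t, ρ (S.x (Φ.sim i) t * n) v)) =
      ∑ c : Fˣ, ∑ t, ρ (S.x (Φ.sim i) t * (S.n (Φ.sim i) c * (n * n))) v := by
    simp only [map_sum, rep_mul]
    rw [sum_comm, ← add_sum_erase _ _ (mem_univ 0)]
    simp only [x_zero, one_mul, mul_assoc, h1, sum_const, card_univ, ← Nat.cast_smul_eq_nsmul k]
    rw [cast_card_F p, zero_smul, zero_add]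
    symm
    refine sum_bij (fun c _ => (c : F)⁻¹) (by simp) (by simp [Units.ext_iff]) (fun t ht => ⟨(Units.mk0 t (ne_of_mem_erase ht))⁻¹, by simp⟩) fun c _ => ?_
    refine Fintype.sum_bijective _ (AddGroup.addRight_bijective (c : F)) _ _ fun t => ?_
    have := x_neg_eq (S := S) (Φ.sim i) (-c⁻¹)
    simp only [← mul_assoc n, n, n_mul_x]
    simp only [Units.val_neg, Units.val_inv_eq_inv_val, inv_neg, inv_inv, neg_neg] at this
    have h2 := h1 (-c)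
    simp only [map_mul, Module.End.mul_apply, n] at h2
    simp [this, n, mul_assoc, ← mul_assoc (S.x _ _) (S.x _ _), S.add, h2]
  rw [h2]
  refine Fintype.sum_bijective _ (Group.mulRight_bijective (-1 : Fˣ)) _ _ fun c => ?_
  rw [map_sum]
  refine (Fintype.sum_bijective _ (mulLeft_bijective₀ (((c * -1) ^ Φ.pair (Φ.sim i) (Φ.sim i) : Fˣ) : F) (Units.ne_zero _)) _ _ fun t => ?_).symm
  have h3 : n * n = S.h (Φ.sim i) (-1) := by
    rw [n_mul_n, h_one, one_mul, inv_eq_iff_mul_eq_one, S.hMul_of_finite]; simp [h_one]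
  rw [rep_mul, ← h_conj_x, S.n_eq_h_mul _ c, ← S.hMul_of_finite, ← h3]
  congr 2
  simp only [n]
  group

/-- the character of a weight -/
noncomputable def crChi (o : Option (Fˣ →* kˣ)) (c : Fˣ) : k := o.getD 1 c

/-- the Hecke eigenvalue of a weight -/
noncomputable def crMu (o : Option (Fˣ →* kˣ)) : k := if o = none then -1 else 0

variable (S) in
/-- weight vectors -/
structure CrWt (l : I → Option (Fˣ →* kˣ)) (v : V) : Prop where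
  ne : v ≠ 0
  fix : S.U ≤ fixS ρ v
  tor : ∀ i c, ρ (S.h (Φ.sim i) c) v = crChi (l i) c • v
  hec : ∀ i, S.crT ρ i v = crMu (l i) • v

include p in
theorem sum_crChi {o : Option (Fˣ →* kˣ)} (h : o ≠ some 1) : ∑ c, crChi o c = crMu o := by
  cases o with
  | none => simp [crChi, crMu, Fintype.card_units, Nat.cast_sub Fintype.card_pos, cast_card_F p]
  | some χ =>
    rw [crMu, if_neg (by simp)]
    exact sum_hom_units_eq_zero ((Units.coeHom k).comp χ) fun e => h (congrArg some (MonoidHom.ext fun c => Units.ext (DFunLike.congr_fun e c)))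

include p in
theorem crT_of_eq {i : I} {v y : V} (hy : S.U ≤ fixS ρ y) (e : v = S.crT ρ i y) {o : Option (Fˣ →* kˣ)}
    (h : ∀ c, ρ (S.h (Φ.sim i) c) v = crChi o c • v) : S.crT ρ i v = (∑ c, crChi o c) • v := by
  rw [sum_smul, ← sum_congr rfl fun c _ => h c, e, crT_crT p ρ i hy]

theorem CrEig.exists_chi {v : V} (hv : S.CrEig ρ v) (h0 : v ≠ 0) (i : I) :
    ∃ χ : Fˣ →* kˣ, ∀ c, ρ (S.h (Φ.sim i) c) v = (χ c : k) • v := by
  choose f hf using fun c => hv _ (h_sim_mem i c)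
  exact ⟨MonoidHom.toHomUnits ⟨⟨f, smul_left_injective k h0 (by simp [← hf, h_one])⟩, fun c d => smul_left_injective k h0 (by
    simp only [mul_comm (f c), mul_smul]
    rw [← hf, ← S.hMul_of_finite, ← rep_mul, hf, map_smul, hf])⟩, hf⟩

theorem exists_crEig [FiniteDimensional k V] [IsAlgClosed k] {v : V} (h0 : v ≠ 0) (hv : S.U ≤ fixS ρ v) :
    ∃ w ≠ 0, S.U ≤ fixS ρ w ∧ S.CrEig ρ w := by
  let N₀ : Submodule k V :=
    { carrier := {x | ∀ u ∈ S.U, ρ u x = x}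
      add_mem' := fun ha hb u hu => by rw [map_add, ha u hu, hb u hu]
      zero_mem' := fun _ _ => map_zero _
      smul_mem' := fun c x hx u hu => by rw [map_smul, hx u hu] }
  obtain ⟨N, ⟨h1, h2, h3⟩, hmin⟩ := (wellFounded_lt (α := Submodule k V)).has_min
    {N | N ≠ ⊥ ∧ N ≤ N₀ ∧ ∀ h ∈ S.H, ∀ x ∈ N, ρ h x ∈ N} ⟨N₀, (Submodule.ne_bot_iff _).2 ⟨v, hv, h0⟩, le_rfl, fun h hh x hx u hu => by
      rw [rep_mul, show u * h = h * (h⁻¹ * u * h⁻¹⁻¹) by group, ← rep_mul, hx _ (conj_H_Ux (inv_mem hh) hu)]⟩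
  obtain ⟨w, hw, w0⟩ := N.exists_mem_ne_zero_of_ne_bot h1
  refine ⟨w, w0, h2 hw, fun h hh => ?_⟩
  have := Submodule.nontrivial_iff_ne_bot.2 h1
  obtain ⟨c, hc⟩ := Module.End.exists_eigenvalue ((ρ h).restrict (h3 h hh))
  obtain ⟨x, hx⟩ := hc.exists_hasEigenvector
  have h4 : N ≤ Module.End.eigenspace (ρ h) c := inf_eq_left.1 (by_contra fun h4 => hmin _ ⟨(Submodule.ne_bot_iff _).2
    ⟨x, Submodule.mem_inf.2 ⟨x.2, Module.End.mem_eigenspace_iff.2 (congrArg Subtype.val hx.apply_eq_smul)⟩, fun e => hx.2 (Subtype.ext e)⟩,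
    inf_le_left.trans h2, fun h' hh' y hy => Submodule.mem_inf.2 ⟨h3 h' hh' y hy.1, Module.End.mem_eigenspace_iff.2 (by
      rw [rep_mul, S.hMul_of_finite.commute_H hh hh', ← rep_mul, Module.End.mem_eigenspace_iff.1 hy.2, map_smul])⟩⟩
    (lt_of_le_of_ne inf_le_left h4))
  exact ⟨c, Module.End.mem_eigenspace_iff.1 (h4 hw)⟩

include p in
theorem exists_crWt [FiniteDimensional k V] [IsAlgClosed k] [Nontrivial V] : ∃ l v, S.CrWt ρ l v := by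
  obtain ⟨v, h0⟩ := exists_ne (0 : V)
  obtain ⟨v, -, h0, hv⟩ := exists_fixed ρ p (isPGroup_Ux (S := S) p RS.unip_pos) ⊤ (fun _ _ _ => trivial) trivial h0
  obtain ⟨v, h0, hv, he⟩ := exists_crEig ρ h0 hv
  obtain ⟨w, ⟨m, hm, hw, h1⟩, hmax⟩ := Set.exists_max_image {w : Φ.W | ∃ m ∈ S.N, S.Acts m w ∧ sm ρ (S.Uw w⁻¹) (ρ m v) ≠ 0}
    (len Φ.s) (Set.toFinite _) ⟨1, 1, one_mem _, acts_one, by rw [sm_Uw_one]; simpa⟩
  choose χ hχ using (he.sm ρ hm _).exists_chi ρ h1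
  have h2 : ∀ i c, ρ (S.h (Φ.sim i) c) (sm ρ (S.Uw w⁻¹) (ρ m v)) =
      crChi (if ¬ Φ.Pos (w⁻¹ • Φ.sim i) ∧ χ i = 1 then none else some (χ i)) c • sm ρ (S.Uw w⁻¹) (ρ m v) := fun i c => by
    refine (hχ i c).trans ?_
    split_ifs with h
    · simp [crChi, h.2]; rfl
    · rfl
  refine ⟨_, _, h1, U_le_sm ρ hv m hm hw, h2, fun i => ?_⟩
  by_cases h : Φ.Pos (w⁻¹ • Φ.sim i)
  · rw [crT_sm ρ i h, rep_mul, if_neg (by simp [h]), crMu, if_neg (by simp), zero_smul]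
    exact by_contra fun h3 => (hmax _ ⟨_, mul_mem (n_sim_mem i 1) hm, (acts_n i 1).mul hw, h3⟩).not_gt ((RS.pos_inv_iff i w).1 h)
  · have h3 : Φ.Pos ((Φ.s i * w)⁻¹ • Φ.sim i) := by
      rwa [mul_inv_rev, RS.s_inv, mul_smul, RS.s_smul, RS.rf_sim, RS.smul_neg', RS.pos_neg_iff]
    have h4 := crT_sm (S := S) ρ i h3 (ρ ((S.n (Φ.sim i) 1)⁻¹ * m) v)
    rw [rep_mul, mul_inv_cancel_left, ← mul_assoc, RS.s_sq, one_mul] at h4
    rw [crT_of_eq p ρ (U_le_sm ρ hv _ (mul_mem (inv_mem (n_sim_mem i 1)) hm) (by simpa [RS.s_inv] using (acts_n i 1).inv.mul hw)) h4.symm (h2 i),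
      sum_crChi p]
    split_ifs with h5 <;> simp_all

end St
end Cfsg.Agent.Chev
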