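import Cfsg.Agent.Lib.Chev.CR1

/-! Weight vectors in the defining characteristic (Curtis–Richen), II: uniqueness. -/

set_option autoImplicit false
set_option linter.unusedSectionVars false

namespace Cfsg.Agent.Chev
open Finset

section Smp
variable {G k V : Type*} [Group G] [Field k] [AddCommGroup V] [Module k V] (ρ : Representation k G V)

/-- every nonzero vector generates the representation -/
def CrSmp : Prop := ∀ v ≠ 0, ∀ w, ∃ a : MonoidAlgebra k G, ρ.asAlgebraHom a v = w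

theorem asAlg_mem {N : Submodule k V} {v : V} (h : ∀ g, ρ g v ∈ N) (a : MonoidAlgebra k G) : ρ.asAlgebraHom a v ∈ N := by
  induction a using MonoidAlgebra.induction_linear with
  | zero => simp
  | add x y hx hy => simpa using N.add_mem hx hy
  | single g r => simpa using N.smul_mem r (h g)

theorem CrSmp.eq_top (hs : CrSmp ρ) {N : Submodule k V} {v : V} (h0 : v ≠ 0) (h : ∀ g, ρ g v ∈ N) (w : V) : w ∈ N := by
  obtain ⟨a, rfl⟩ := hs v h0 w
  exact asAlg_mem ρ h a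

theorem asAlg_prod {V' : Type*} [AddCommGroup V'] [Module k V'] (ρ' : Representation k G V') (a : MonoidAlgebra k G) (v : V) (v' : V') :
    (ρ.prod ρ').asAlgebraHom a (v, v') = (ρ.asAlgebraHom a v, ρ'.asAlgebraHom a v') := by
  induction a using MonoidAlgebra.induction_linear with
  | zero => simp only [map_zero, LinearMap.zero_apply]; rfl
  | add x y hx hy => simp [hx, hy]
  | single g r => simp [Representation.prod]

theorem rep_ne_zero (g : G) {v : V} (h : v ≠ 0) : ρ g v ≠ 0 := fun e => h (by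
  rw [← ρ.inv_self_apply g v, e, map_zero])

end Smp

variable {I R : Type} [Fintype I] [DecidableEq I] [Fintype R] [DecidableEq R]
namespace St
variable {Φ : CD I R} {F : Type*} [Field F] [Fintype F] {G : Type*} [Group G] [Fintype G] {S : St Φ F G} (hG : S.Gx = ⊤)
  (p : ℕ) [Fact p.Prime] [CharP F p] {k V : Type*} [Field k] [CharP k p] [AddCommGroup V] [Module k V] {ρ : Representation k G V}
  {V' : Type*} [AddCommGroup V'] [Module k V'] {ρ' : Representation k G V'} {l l' : I → Option (Fˣ →* kˣ)} {v : V} {v' : V'}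
open Classical

theorem CrWt.eig (h : S.CrWt ρ l v) : S.CrEig ρ v := fun g hg => by
  obtain ⟨c, rfl⟩ := S.hMul_of_finite.exists_hT hg
  clear hg
  induction c using pi_units_induction with
  | h1 i c => exact ⟨_, by rw [HMul.hT_single, h.tor]⟩
  | h0 => exact ⟨1, by simp⟩
  | h2 a b ha hb =>
    obtain ⟨c, ha⟩ := ha
    obtain ⟨d, hb⟩ := hb
    exact ⟨d * c, by rw [map_mul, ← rep_mul, hb, map_smul, ha, mul_smul]⟩

include hG in
theorem CrWt.mem (h : S.CrWt ρ l v) {N : Submodule k V} (hN : ∀ u ∈ S.V, ρ u v ∈ N) (g : G) : ρ g v ∈ N := by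
  let M : Submodule k V := Submodule.span k (Set.range fun u : S.V => ρ u v)
  have hM : ∀ u ∈ S.V, ρ u v ∈ M := fun u hu => Submodule.subset_span ⟨⟨u, hu⟩, rfl⟩
  have h0 : v ∈ M := by simpa using hM 1 (one_mem _)
  let P : Submonoid G :=
    { carrier := {g | ∀ x ∈ M, ρ g x ∈ M}
      one_mem' := fun x hx => by simpa using hx
      mul_mem' := fun ha hb x hx => by rw [← rep_mul]; exact ha _ (hb x hx) }
  have hP : ∀ g, (∀ u ∈ S.V, ρ (g * u) v ∈ M) → g ∈ P := fun g hg => by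
    have : M ≤ M.comap (ρ g) := Submodule.span_le.2 (by rintro _ ⟨u, rfl⟩; simpa using hg u u.2)
    exact this
  have h1 : ∀ u ∈ S.V, u ∈ P := fun u hu => hP u fun u' hu' => hM _ (mul_mem hu hu')
  have h2 : ∀ t ∈ S.H, t ∈ P := fun t ht => hP t fun u hu => by
    obtain ⟨c, e⟩ := h.eig t ht
    rw [show t * u = t * u * t⁻¹ * t by simp, ← rep_mul, e, map_smul]
    exact M.smul_mem _ (hM _ (conj_H_Ux ht hu))
  have h3 : ∀ i s, s ≠ 0 → ρ (S.x (Φ.sim i) s * S.n (Φ.sim i) 1) v ∈ M := fun i s hs => by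
    obtain ⟨s, rfl⟩ : ∃ c : Fˣ, (c : F) = s := ⟨Units.mk0 s hs, rfl⟩
    obtain ⟨c, e⟩ := h.eig _ (n_mul_n_mem i s 1)
    have a1 := hM _ (x_mem_V (S := S) (r := Φ.neg (Φ.sim i)) (Φ.pos_sim i).not_neg ((s⁻¹ : Fˣ) : F))
    rw [x_neg_eq, ← rep_mul, h.fix (x_mem_U (Φ.pos_sim i) _), inv_inv, ← n_inv, Units.val_inv_eq_inv_val, inv_inv] at a1
    rw [← inv_mul_cancel_left (S.n (Φ.sim i) s) (S.n (Φ.sim i) 1), ← mul_assoc, ← rep_mul, e, map_smul]
    exact M.smul_mem _ a1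
  have h4 : ∀ i s, ρ (S.x (Φ.sim i) s * S.n (Φ.sim i) 1) v ∈ M := fun i s => by
    by_cases hs : s = 0
    · have := M.smul_mem (crMu (l i)) h0
      rw [← h.hec, crT_apply, ← add_sum_erase _ _ (mem_univ 0)] at this
      rw [hs]
      exact (M.add_mem_iff_left (M.sum_mem fun t ht => h3 i t (ne_of_mem_erase ht))).1 this
    · exact h3 i s hs
  have h5 : ∀ i, S.n (Φ.sim i) 1 ∈ P := fun i => hP _ fun u hu => by
    obtain ⟨a, a1, b, a2, rfl⟩ := exists_mul (B := {r | ¬ Φ.Pos r ∧ r ≠ Φ.neg (Φ.sim i)}) (C := {Φ.neg (Φ.sim i)}) RS.unip_neg (fun r =>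
      ⟨fun h => (_root_.em (r = _)).symm.imp (fun h' => ⟨h, h'⟩) id, fun h => h.elim And.left fun e => by
        rw [e]; exact (Φ.pos_sim i).not_neg⟩) hu
    obtain ⟨t, rfl⟩ := mem_Ux_singleton.1 a2
    obtain ⟨χ, -, e⟩ := acts_n (S := S) i 1
    have a3 := e (Φ.neg (Φ.sim i)) t
    rw [RS.s_smul, RS.rf_neg, RS.rf_sim, RS.neg_neg, mul_inv_eq_iff_eq_mul] at a3
    rw [show S.n (Φ.sim i) 1 * (a * S.x (Φ.neg (Φ.sim i)) t) =
      S.n (Φ.sim i) 1 * a * (S.n (Φ.sim i) 1)⁻¹ * (S.n (Φ.sim i) 1 * S.x (Φ.neg (Φ.sim i)) t) by group, a3, ← rep_mul]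
    refine h1 _ ((acts_n i 1).conj_mem (B := {r | ¬ Φ.Pos r}) (fun r hr hr' => hr.2 ?_) a1) _ (h4 i _)
    rw [← RS.eq_sim_of_rf (r := Φ.neg r) (RS.pos_neg_iff.2 hr.1) (by simpa [RS.rf_neg, RS.pos_neg_iff] using hr'), RS.neg_neg]
  have h6 : ∀ m ∈ S.N, m ∈ P := fun m hm => N_induction (p := (· ∈ P)) (one_mem _) (fun i c g _ hg =>
    mul_mem (by rw [S.n_eq_h_mul]; exact mul_mem (h2 _ (h_sim_mem i c)) (h5 i)) hg) hm
  have h7 : ∀ u ∈ S.U, u ∈ P := fun u hu => by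
    obtain ⟨m, hm, -, a1, -⟩ := exists_n0 (S := S)
    rw [show u = m⁻¹ * (m * u * m⁻¹) * m by group]
    exact mul_mem (mul_mem (h6 _ (inv_mem hm)) (h1 _ (a1 u hu))) (h6 _ hm)
  obtain ⟨b, a1, n, a2, w, -, u, a4, rfl⟩ := bruhat (hG.ge (Subgroup.mem_top g))
  obtain ⟨u', a6, t, a7, rfl⟩ := mem_B_iff.1 a1
  exact Submodule.span_le.2 (by rintro _ ⟨u, rfl⟩; exact hN u u.2)
    (mul_mem (mul_mem (mul_mem (h7 _ a6) (h2 _ a7)) (h6 _ a2)) (h7 _ (Uw_le_U w a4)) v h0)

include hG p in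
theorem CrWt.exists_dual (h : S.CrWt ρ l v) (hs : CrSmp ρ) : ∃ f : Module.Dual k V, (∀ u ∈ S.V, ∀ x, f (ρ u x) = f x) ∧ f v ≠ 0 := by
  obtain ⟨f, h0⟩ : ∃ f : Module.Dual k V, f v ≠ 0 := not_forall.1 (mt (Module.forall_dual_apply_eq_zero_iff k v).1 h.ne)
  obtain ⟨f, -, h0, hf⟩ := exists_fixed ρ.dual p (isPGroup_Ux (S := S) p RS.unip_neg) ⊤ (fun _ _ _ => trivial) (v := f) trivial
    (by rintro rfl; exact h0 rfl)
  have h1 : ∀ u ∈ S.V, ∀ x, f (ρ u x) = f x := fun u hu x => by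
    simpa [Representation.dual_apply, Module.Dual.transpose_apply] using DFunLike.congr_fun (hf (inv_mem hu)) x
  exact ⟨f, h1, fun e => h0 (LinearMap.ext (hs.eq_top ρ (N := LinearMap.ker f) h.ne (h.mem hG fun u hu => (h1 u hu v).trans e)))⟩

theorem CrWt.prod (h : S.CrWt ρ l v) (h' : S.CrWt ρ' l v') : S.CrWt (ρ.prod ρ') l (v, v') where
  ne e := h.ne (congrArg Prod.fst e)
  fix _ hu := Prod.ext (h.fix hu) (h'.fix hu)
  tor i c := Prod.ext (h.tor i c) (h'.tor i c)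
  hec i := by
    rw [crT_apply, Prod.smul_mk, ← h.hec, ← h'.hec, crT_apply, crT_apply]
    exact Prod.ext (by simp [Prod.fst_sum, Representation.prod]) (by simp [Prod.snd_sum, Representation.prod])

include hG p in
theorem CrWt.ann (h : S.CrWt ρ l v) (h' : S.CrWt ρ' l v') (hs : CrSmp ρ) (hs' : CrSmp ρ') {a : MonoidAlgebra k G}
    (ha : ρ.asAlgebraHom a v = 0) : ρ'.asAlgebraHom a v' = 0 := by
  by_contra h0
  obtain ⟨b, hb⟩ := hs' _ h0 v'
  obtain ⟨f, a1, a2⟩ := h.exists_dual hG p hs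
  obtain ⟨f', b1, b2⟩ := h'.exists_dual hG p hs'
  have := asAlg_mem (ρ.prod ρ') (N := LinearMap.ker (f' v' • f ∘ₗ LinearMap.fst k V V' - f v • f' ∘ₗ LinearMap.snd k V V'))
    ((h.prod h').mem hG fun u hu => by simp [Representation.prod, a1 u hu, b1 u hu, mul_comm]) (b * a)
  simp [asAlg_prod, ha, hb, a2, b2] at this

include hG p in
theorem CrWt.unique [FiniteDimensional k V] [IsAlgClosed k] {w : V} (h : S.CrWt ρ l v) (h' : S.CrWt ρ l' w) (hs : CrSmp ρ) : l = l' := by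
  have := nontrivial_of_ne _ _ h.ne
  have : Nontrivial (Module.Dual k V) := (Module.nontrivial_dual_iff k).2 this
  obtain ⟨l₀, f, hf⟩ := exists_crWt (S := S) p ρ.dual
  obtain ⟨m, -, -, -, hm⟩ := exists_n0 (S := S)
  have h1 : ∀ x, S.U ≤ fixS ρ x → f (ρ m⁻¹ x) = 0 → x = 0 := fun x hx e => by_contra fun h0 => hf.ne (LinearMap.ext
    (hs.eq_top ρ (N := LinearMap.ker f) (rep_ne_zero ρ m⁻¹ h0) fun g => by
      have := hf.mem hG (N := LinearMap.ker (Module.Dual.eval k V (ρ m⁻¹ x))) (fun u hu => by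
        have : ρ u⁻¹ (ρ m⁻¹ x) = ρ m⁻¹ x := by
          rw [rep_mul, show u⁻¹ * m⁻¹ = m⁻¹ * (m * u⁻¹ * m⁻¹) by group, ← rep_mul, hx (hm _ (inv_mem hu))]
        simpa [Representation.dual_apply, Module.Dual.transpose_apply, this] using e) g⁻¹
      simpa [Representation.dual_apply, Module.Dual.transpose_apply] using this))
  have h2 := h1 (f (ρ m⁻¹ w) • v - f (ρ m⁻¹ v) • w) (fun u hu => by
    change ρ _ _ = _
    rw [map_sub, map_smul, map_smul, h.fix hu, h'.fix hu]) (by simp [mul_comm])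
  have h3 : f (ρ m⁻¹ v) ≠ 0 := fun e => h.ne (h1 v h.fix e)
  obtain ⟨c, rfl⟩ : ∃ c : k, w = c • v := ⟨(f (ρ m⁻¹ v))⁻¹ * f (ρ m⁻¹ w), by
    rw [mul_smul, sub_eq_zero.1 h2, inv_smul_smul₀ h3]⟩
  funext i
  have h4 : ∀ d, crChi (l i) d = crChi (l' i) d := fun d => smul_left_injective k h'.ne (by
    simp only [← h'.tor, map_smul, h.tor]; exact smul_comm ..)
  have h5 : crMu (l i) = crMu (l' i) := smul_left_injective k h'.ne (by
    simp only [← h'.hec, map_smul, h.hec]; exact smul_comm ..)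
  generalize l i = o, l' i = o' at h4 h5
  cases o <;> cases o' <;> simp [crMu] at h5 ⊢
  exact MonoidHom.ext fun d => Units.ext (h4 d)

theorem CrWt.transfer (h : S.CrWt ρ l v) (h0 : v' ≠ 0) (ha : ∀ a, ρ.asAlgebraHom a v = 0 → ρ'.asAlgebraHom a v' = 0) :
    S.CrWt ρ' l v' where
  ne := h0
  fix u hu := by simpa [sub_eq_zero, fixS] using ha (.single u 1 - 1) (by simpa [sub_eq_zero, fixS] using h.fix hu)
  tor i c := by simpa [sub_eq_zero] using ha (.single (S.h (Φ.sim i) c) 1 - crChi (l i) c • 1) (by simpa [sub_eq_zero] using h.tor i c)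
  hec i := by
    have := ha (∑ t, .single (S.x (Φ.sim i) t * S.n (Φ.sim i) 1) 1 - crMu (l i) • 1)
    simp only [map_sub, map_sum, map_smul, map_one, Representation.asAlgebraHom_single_one, LinearMap.sub_apply, LinearMap.smul_apply,
      Module.End.one_apply, sub_eq_zero] at this
    exact this (h.hec i)

end St
end Cfsg.Agent.Chev
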