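import Cfsg.Agent.Lib.Chev.CR2

/-! Weight vectors in the defining characteristic (Curtis–Richen), III: existence. -/

set_option autoImplicit false
set_option linter.unusedSectionVars false

namespace Cfsg.Agent.Chev
open Finset

variable {I R : Type} [Fintype I] [DecidableEq I] [Fintype R] [DecidableEq R]
namespace St
variable {Φ : CD I R} {F : Type*} [Field F] [Fintype F] {G : Type*} [Group G] [Fintype G] {S : St Φ F G} (hG : S.Gx = ⊤)
  (p : ℕ) [Fact p.Prime] [CharP F p] {k V : Type*} [Field k] [CharP k p] [AddCommGroup V] [Module k V] {ρ : Representation k G V}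
  {l : I → Option (Fˣ →* kˣ)} {J : Set I} {K : Subgroup G}
open Classical

theorem cr_split {ω : List (I × Fˣ)} {r : R} (hr : Φ.Pos r) (h : ¬ Φ.Pos ((wp (fun x => Φ.s x.1) ω)⁻¹ • r)) :
    ∃ a j b, ω = a ++ j :: b ∧ (wp (fun x : I × Fˣ => Φ.s x.1) a)⁻¹ • r = Φ.sim j.1 := by
  induction ω generalizing r with
  | nil => exact (h (by simpa using hr)).elim
  | cons j ω ih =>
    by_cases e : r = Φ.sim j.1
    · exact ⟨[], j, ω, rfl, by simp [e]⟩
    · rw [wp_cons, mul_inv_rev, RS.s_inv, mul_smul] at h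
      obtain ⟨a, i, b, rfl, h2⟩ := ih (hr.rf e) h
      exact ⟨j :: a, i, b, rfl, by rw [wp_cons, mul_inv_rev, RS.s_inv, mul_smul]; exact h2⟩

variable (S) in
/-- the monomial element of a word -/
def crN (ω : List (I × Fˣ)) : G := wp (fun x => S.n (Φ.sim x.1) x.2) ω

theorem crN_mem (ω : List (I × Fˣ)) : S.crN ω ∈ S.N ∧ S.Acts (S.crN ω) (wp (fun x => Φ.s x.1) ω) := by
  induction ω with
  | nil => exact ⟨one_mem _, acts_one⟩
  | cons j ω ih => exact ⟨mul_mem (n_sim_mem _ _) ih.1, (acts_n _ _).mul ih.2⟩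

theorem cr_nn (hK : ∀ j ∈ J, ∀ c, S.h (Φ.sim j) c ∈ K) {j : I} (hj : j ∈ J) (c d : Fˣ) : S.n (Φ.sim j) c * S.n (Φ.sim j) d ∈ K := by
  rw [n_mul_n]; exact mul_mem (hK j hj _) (inv_mem (hK j hj _))

theorem cr_conj (hK : ∀ j ∈ J, ∀ c, S.h (Φ.sim j) c ∈ K) {ω : List (I × Fˣ)} (hω : ∀ x ∈ ω, x.1 ∈ J) {h : G} (hh : h ∈ S.H) :
    h⁻¹ * ((S.crN ω)⁻¹ * h * (S.crN ω)⁻¹⁻¹) ∈ K := by
  induction ω generalizing h with
  | nil => simp [crN]
  | cons j ω ih =>
    obtain ⟨χ, e⟩ := (acts_of_mem_H (inv_mem hh)).conj_n (Φ.sim j.1)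
    have h1 := mul_mem (cr_nn hK (hω j (by simp)) (χ * -j.2) j.2)
      (ih (fun x hx => hω x (by simp [hx])) (conj_mem_H (inv_mem (n_sim_mem j.1 j.2)) hh))
    rw [← one_smul Φ.W (Φ.sim j.1), ← e, one_smul, ← n_inv] at h1
    convert h1 using 1
    simp only [crN, wp_cons]; group

theorem cr_hol (hK : ∀ j ∈ J, ∀ c, S.h (Φ.sim j) c ∈ K) (n : ℕ) : ∀ ω : List (I × Fˣ), ω.length = n → (∀ x ∈ ω, x.1 ∈ J) →
    S.Acts (S.crN ω) 1 → S.crN ω ∈ K := by
  induction n using Nat.strong_induction_on with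
  | _ n ih =>
  rintro (_ | ⟨i, ω⟩) rfl hω h
  · exact one_mem _
  have h1 : wp (fun x => Φ.s x.1) ω = Φ.s i.1 := by
    rw [← RS.s_inv, eq_inv_iff_mul_eq_one, mul_eq_one_comm]; simpa using (crN_mem _).2.unique h
  obtain ⟨a, j, b, rfl, e⟩ := cr_split (ω := ω) (Φ.pos_sim i.1) (by
    rw [h1, RS.s_inv, RS.s_smul, RS.rf_sim]; exact (Φ.pos_sim _).not_neg)
  obtain ⟨χ, e'⟩ := (crN_mem (S := S) a).2.inv.conj_n (Φ.sim i.1)
  have h2 := n_mul_n_mem (S := S) j.1 (χ * i.2) j.2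
  have h3 := cr_nn hK (hω j (by simp)) (χ * i.2) j.2
  have h4 := mul_mem h3 (cr_conj hK (ω := b) (fun x hx => hω x (by simp [hx])) h2)
  have h5 := conj_mem_H (inv_mem (crN_mem b).1) h2
  rw [mul_inv_cancel_left] at h4
  have h6 : S.crN (i :: (a ++ j :: b)) = S.crN (a ++ b) *
      ((S.crN b)⁻¹ * (S.n (Φ.sim j.1) (χ * i.2) * S.n (Φ.sim j.1) j.2) * (S.crN b)⁻¹⁻¹) := by
    rw [← e, ← e', e]; simp only [crN, wp_cons, wp_append]; group
  rw [h6] at h ⊢
  refine mul_mem (ih _ (by simp) (a ++ b) rfl (fun x hx => hω x ?_) (by simpa only [mul_inv_cancel_right, inv_one, mul_one] using h.mul (acts_of_mem_H h5).inv)) h4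
  simp only [List.mem_append, List.mem_cons] at hx ⊢; tauto

theorem cr_inv (ω : List (I × Fˣ)) : (S.crN ω)⁻¹ = S.crN (ω.reverse.map fun x => (x.1, -x.2)) := by
  induction ω with
  | nil => simp [crN]
  | cons j ω ih => simp only [crN, wp_cons, mul_inv_rev, List.reverse_cons, List.map_append, wp_append, n_inv] at *; simp [ih]

theorem cr_hol' (hK : ∀ j ∈ J, ∀ c, S.h (Φ.sim j) c ∈ K) {ω ω' : List (I × Fˣ)} (hω : ∀ x ∈ ω, x.1 ∈ J) (hω' : ∀ x ∈ ω', x.1 ∈ J)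
    {w : Φ.W} (h : S.Acts (S.crN ω) w) (h' : S.Acts (S.crN ω') w) : (S.crN ω)⁻¹ * S.crN ω' ∈ K := by
  have h1 := h.inv.mul h'
  rw [cr_inv, crN, crN, ← wp_append] at *
  refine cr_hol hK _ _ rfl (fun x hx => ?_) (by simpa [crN] using h1)
  simp only [List.mem_append, List.mem_map, List.mem_reverse] at hx
  rcases hx with ⟨y, hy, rfl⟩ | hx
  exacts [hω y hy, hω' x hx]

include p in
theorem crT_down {y : V} (hy : S.U ≤ fixS ρ y) {m : G} (hm : m ∈ S.N) {w : Φ.W} (hw : S.Acts m w) {i : I} (h : ¬ Φ.Pos (w⁻¹ • Φ.sim i))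
    {o : Option (Fˣ →* kˣ)} (h2 : ∀ c, ρ (S.h (Φ.sim i) c) (sm ρ (S.Uw w⁻¹) (ρ m y)) = crChi o c • sm ρ (S.Uw w⁻¹) (ρ m y)) :
    S.crT ρ i (sm ρ (S.Uw w⁻¹) (ρ m y)) = (∑ c, crChi o c) • sm ρ (S.Uw w⁻¹) (ρ m y) := by
  have h3 : Φ.Pos ((Φ.s i * w)⁻¹ • Φ.sim i) := by
    rwa [mul_inv_rev, RS.s_inv, mul_smul, RS.s_smul, RS.rf_sim, RS.smul_neg', RS.pos_neg_iff]
  have h4 := crT_sm (S := S) ρ i h3 (ρ ((S.n (Φ.sim i) 1)⁻¹ * m) y)
  rw [rep_mul, mul_inv_cancel_left, ← mul_assoc, RS.s_sq, one_mul] at h4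
  exact crT_of_eq p ρ (U_le_sm ρ hy _ (mul_mem (inv_mem (n_sim_mem i 1)) hm) (by simpa [RS.s_inv] using (acts_n i 1).inv.mul hw)) h4.symm h2

include p in
theorem exists_crWt_of {y : V} (hy : S.U ≤ fixS ρ y) {n : G} (hn : n ∈ S.N) (hw : S.Acts n (Φ.w0 Set.univ))
    (h1 : ∀ i c, ρ (S.h (Φ.sim i) c) (ρ n y) = crChi (l i) c • ρ n y) (φ : V →ₗ[k] k) (h2 : φ (ρ n y) ≠ 0)
    (h3 : ∀ g, φ (ρ g (ρ n y)) ≠ 0 → n⁻¹ * g * n ∈ S.B) : ∃ v, S.CrWt ρ l v := by
  let J : Set I := {i | l i = some 1}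
  have hK : ∀ j ∈ J, ∀ c, S.h (Φ.sim j) c ∈ fixS ρ (ρ n y) := fun j hj c => (h1 j c).trans (by rw [show l j = _ from hj]; simp [crChi])
  have : ∀ w : Φ.W, ∃ ω : List (I × Fˣ), w ∈ Φ.WJ J → (∀ x ∈ ω, x.1 ∈ J) ∧ S.Acts (S.crN ω) w := fun w => by
    by_cases hw : w ∈ Φ.WJ J
    · obtain ⟨ω, a1, -, rfl⟩ := RS.exists_red_of_mem_WJ hw
      exact ⟨ω.map (·, 1), fun _ => ⟨by simpa using a1, by simpa [wp, Function.comp_def] using (crN_mem (S := S) (ω.map (·, 1))).2⟩⟩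
    · exact ⟨[], fun h => (hw h).elim⟩
  choose m hm using this
  let b : Φ.W → V := fun w => sm ρ (S.Uw (w * Φ.w0 Set.univ)⁻¹) (ρ (S.crN (m w) * n) y)
  have a0 : ∀ w ∈ Φ.WJ J, ∀ ω, (∀ x ∈ ω, x.1 ∈ J) → S.Acts (S.crN ω) w → ρ (S.crN (m w) * n) y = ρ (S.crN ω * n) y := fun w hw ω a1 a2 => by
    rw [← mul_inv_cancel_left (S.crN ω) (S.crN (m w)), mul_assoc, ← rep_mul, ← rep_mul, cr_hol' hK a1 (hm w hw).1 a2 (hm w hw).2, rep_mul]
  have a1 : ∀ w ∈ Φ.WJ J, ∀ i c, ρ (S.h (Φ.sim i) c) (b w) = crChi (l i) c • b w := fun w hw i c => by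
    simp only [b, ← rep_mul ρ _ n]
    rw [Uw, rep_sm_H ρ (h_sim_mem i c), ← mul_inv_cancel_left (S.h (Φ.sim i) c) (_ * _ * _), ← rep_mul,
      cr_conj hK (hm w hw).1 (h_sim_mem i c), h1, map_smul, sm_smul]
  have a2 : ∀ (w : Φ.W) i, Φ.Pos ((w * Φ.w0 Set.univ)⁻¹ • Φ.sim i) ↔ ¬ Φ.Pos (w⁻¹ • Φ.sim i) := fun w i => by
    rw [mul_inv_rev, RS.w0_inv, mul_smul, RS.pos_w0_iff (J := Set.univ) fun _ h => (h trivial).elim]
  have a3 : ∀ w ∈ Φ.WJ J, ∀ i, Φ.Pos (w⁻¹ • Φ.sim i) → S.crT ρ i (b w) = (∑ c, crChi (l i) c) • b w := fun w h i hi =>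
    crT_down p hy (mul_mem (crN_mem _).1 hn) ((hm w h).2.mul hw) (by simpa only [a2, not_not]) (a1 w h i)
  have a4 : ∀ w ∈ Φ.WJ J, ∀ j ∈ J, ¬ Φ.Pos (w⁻¹ • Φ.sim j) → S.crT ρ j (b w) + S.crT ρ j (b (Φ.s j * w)) = 0 := fun w h j hj hi => by
    have h' := mul_mem (RS.s_mem_WJ hj) h
    rw [a3 _ h' j (by rwa [mul_inv_rev, RS.s_inv, mul_smul, RS.s_smul, RS.rf_sim, RS.smul_neg', RS.pos_neg_iff]),
      show ∑ c, crChi (l j) c = -1 by rw [show l j = _ from hj]; exact sum_crChi (o := none) p (by simp), crT_sm ρ j ((a2 w j).2 hi),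
      neg_one_smul, add_neg_eq_zero, rep_mul, ← mul_assoc, ← mul_assoc]
    exact congrArg _ (a0 _ h' ((j, 1) :: m w) (by simpa using ⟨hj, fun a b hab => (hm w h).1 _ hab⟩) ((acts_n j 1).mul (hm w h).2)).symm
  refine ⟨∑ w with w ∈ Φ.WJ J, b w, fun h0 => h2 ?_, fun u hu => ?_, fun i c => ?_, fun i => ?_⟩
  · rw [← map_zero φ, ← h0, map_sum, sum_eq_single_of_mem 1 (by simp) fun w h h' => ?_]
    · simp only [b]
      rw [a0 1 (one_mem _) [] (by simp) acts_one, sm, map_sum, Fintype.sum_eq_single 1 fun u hu => by_contra fun h4 => hu ?_]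
      · simp [crN]
      · simp only [crN, wp_nil, one_mul] at h4
        exact Subtype.ext (conj_eq_one_iff.1 (eq_one_of_mem_B_V (by simpa using h3 _ h4) (hw.inv.conj_mem (B := {r | ¬ Φ.Pos r})
          (fun r hr => by rw [RS.w0_inv]; exact RS.w0_neg hr fun _ h => (h trivial).elim) (Uw_le_U _ u.2))))
    · simp only [b, sm, map_sum]
      refine sum_eq_zero fun u _ => by_contra fun h4 => h' (mul_eq_right.1 (bruhat_unique (mul_mem (crN_mem _).1 hn) hn
        ((hm w (by simpa using h)).2.mul hw) hw (U_le_B (Uw_le_U _ u.2)) (inv_mem (h3 (u * S.crN (m w)) (by simpa using h4))) (by group)))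
  · change ρ _ _ = _
    rw [map_sum]
    exact sum_congr rfl fun w h => U_le_sm ρ hy _ (mul_mem (crN_mem _).1 hn) ((hm w (by simpa using h)).2.mul hw) hu
  · rw [map_sum, smul_sum]
    exact sum_congr rfl fun w h => a1 w (by simpa using h) i c
  · rw [map_sum]
    by_cases hi : i ∈ J
    · rw [show l i = _ from hi, crMu, if_neg (by simp), zero_smul]
      refine sum_involution (fun w _ => Φ.s i * w) (fun w h => ?_) (fun w _ _ e => ?_)
        (fun w h => by simpa using mul_mem (RS.s_mem_WJ hi) (by simpa using h)) fun w _ => by rw [← mul_assoc, RS.s_sq, one_mul]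
      · have h : w ∈ Φ.WJ J := by simpa using h
        by_cases h4 : Φ.Pos (w⁻¹ • Φ.sim i)
        · have := a4 _ (mul_mem (RS.s_mem_WJ hi) h) i hi (by
            rwa [mul_inv_rev, RS.s_inv, mul_smul, RS.s_smul, RS.rf_sim, RS.smul_neg', RS.pos_neg_iff, not_not])
          rwa [← mul_assoc, RS.s_sq, one_mul, add_comm] at this
        · exact a4 w h i hi h4
      · have := Φ.pos_sim i
        rw [← one_smul Φ.W (Φ.sim i), ← mul_eq_right.1 e, RS.s_smul, RS.rf_sim] at this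
        exact (Φ.pos_sim i).not_neg this
    · rw [smul_sum, ← sum_crChi p hi]
      exact sum_congr rfl fun w h => a3 w (by simpa using h) i
        ((RS.pos_smul_iff_of_not_inJ (inv_mem (by simpa using h)) (mt RS.inJ_sim.1 hi)).2 (Φ.pos_sim i))

variable (k G) in
/-- the regular representation on functions -/
def crReg : Representation k G (G → k) where
  toFun g := LinearMap.funLeft k k fun x => g⁻¹ * x
  map_one' := by ext; simp
  map_mul' a b := by ext; simp [mul_assoc]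

include p in
theorem exists_crWt_reg (hc : Function.Injective (zmap Fˣ Φ.cm)) (l : I → Option (Fˣ →* kˣ)) : ∃ v, S.CrWt (crReg G k) l v := by
  have hm := S.hMul_of_finite
  obtain ⟨n, hn, hw⟩ := exists_of_W (S := S) (Φ.w0 Set.univ)
  let ψ : (I → Fˣ) →* kˣ := ∏ i, ((l i).getD 1).comp (Pi.evalMonoidHom _ i)
  let δ : G → k := fun x => if x = 1 then 1 else 0
  let z := ∑ c, ((ψ c)⁻¹ : kˣ) • crReg G k (hm.hT c * n) (sm (crReg G k) S.U δ)
  have h1 : ∀ g, crReg G k g z n = ∑ c, ∑ u : S.U, ((ψ c)⁻¹ : kˣ) • if g * (hm.hT c * n) * u = n then (1 : k) else 0 := fun g => by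
    simp only [z, sm, map_sum, Units.smul_def, map_smul, rep_mul, smul_sum, Finset.sum_apply, Pi.smul_apply, mul_assoc]
    simp only [crReg, δ, MonoidHom.coe_mk, OneHom.coe_mk, LinearMap.funLeft_apply, inv_mul_eq_one]
  refine exists_crWt_of p (y := crReg G k n⁻¹ z) (fun u hu => ?_) hn hw (fun i c => ?_) (LinearMap.proj n) ?_ fun g hg => ?_
  · change crReg G k _ _ = _
    simp only [z, map_sum, Units.smul_def, map_smul, rep_mul]
    refine sum_congr rfl fun c _ => ?_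
    have := conj_mem_H (inv_mem hn) (hm.hT_mem c)
    rw [inv_inv, mul_assoc] at this
    generalize n⁻¹ * (hm.hT c * n) = t at *
    rw [show u * t = t * (t⁻¹ * u * t⁻¹⁻¹) by group, ← rep_mul, le_fixS_sm _ S.U _ (conj_H_Ux (inv_mem this) hu)]
  · simp only [Representation.self_inv_apply, z, map_sum, Units.smul_def, map_smul, rep_mul, smul_sum, smul_smul]
    refine Fintype.sum_bijective _ (Group.mulLeft_bijective (Pi.mulSingle i c)) _ _ fun d => ?_
    have : (ψ (Pi.mulSingle i c) : k) = crChi (l i) c := by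
      simp only [ψ, MonoidHom.finsetProd_apply, MonoidHom.comp_apply, Pi.evalMonoidHom_apply]
      rw [Fintype.prod_eq_single i fun j hj => by simp [hj]]
      simp [crChi]
    rw [map_mul hm.hT, hm.hT_single, mul_assoc, ← this, map_mul ψ, mul_inv, Units.val_mul, Units.mul_inv_cancel_left]
    simp only [mul_assoc, inv_mul_cancel_left, mul_inv_cancel_left]
  · have := h1 1
    rw [Fintype.sum_eq_single 1 fun c hc' => ?_, Fintype.sum_eq_single 1 fun u hu => ?_] at this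
    · simp_all
    · rw [if_neg (by simpa using hu), smul_zero]
    · refine sum_eq_zero fun u _ => by
        rw [if_neg fun e => hc' (hc ((hm.isTor_hT c).unique ?_)), smul_zero]
        have a1 : (u : G) = n⁻¹ * (hm.hT c)⁻¹ * n⁻¹⁻¹ := by rw [← mul_right_inj (1 * (hm.hT c * n)), e]; group
        have a2 := eq_one_of_mem_H RS.unip_pos u.2 (a1 ▸ conj_mem_H (inv_mem hn) (inv_mem (hm.hT_mem c)))
        rw [inv_eq_one.1 (conj_eq_one_iff.1 (a1.symm.trans a2)), map_one]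
        exact isTor_one
  · rw [Representation.self_inv_apply, LinearMap.proj_apply, h1] at hg
    obtain ⟨c, -, hg⟩ := exists_ne_zero_of_sum_ne_zero hg
    obtain ⟨u, -, hg⟩ := exists_ne_zero_of_sum_ne_zero hg
    have e : g * (hm.hT c * n) * u = n := by_contra fun e => hg (by rw [if_neg e, smul_zero])
    rw [show n⁻¹ * g * n = (u : G)⁻¹ * (n⁻¹ * (hm.hT c)⁻¹ * n⁻¹⁻¹) by
      rw [← mul_left_inj (n⁻¹ * hm.hT c * n * u)]; simp only [mul_assoc] at e ⊢; simp [e]]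
    exact mul_mem (U_le_B (inv_mem u.2)) (H_le_B (conj_mem_H (inv_mem hn) (inv_mem (hm.hT_mem c))))

end St
end Cfsg.Agent.Chev
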