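import Cfsg.Agent.Lib.Chev.CR3
import Cfsg.Agent.Lib.Block.IBr

/-! The number of semisimple classes of a simply connected Chevalley group. -/

set_option autoImplicit false
set_option linter.unusedSectionVars false

namespace Cfsg.Agent.Chev
open Finset Blk Cfsg.Lie

theorem blockRank_univ_eq {G : Type*} [Group G] [Finite G] (p : ℕ) [hp : Fact p.Prime] : blockRank p (Set.univ : Set (IrrCharacter G)) =
    Nat.card {c : ConjClasses G // ∃ g, ConjClasses.mk g = c ∧ (orderOf g).Coprime p} := by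
  classical
  have h1 : ∀ x : G, (∃ g, ConjClasses.mk g = ConjClasses.mk x ∧ (orderOf g).Coprime p) ↔ ¬ p ∣ orderOf x := fun x => by
    rw [← hp.out.coprime_iff_not_dvd, Nat.coprime_comm]
    refine ⟨fun ⟨g, a, b⟩ => ?_, fun h => ⟨x, rfl, h⟩⟩
    obtain ⟨c, rfl⟩ := isConj_iff.1 (ConjClasses.mk_eq_mk_iff_isConj.1 a)
    rwa [← MulAut.conj_apply, MulEquiv.orderOf_eq]
  let L : ({c : ConjClasses G // ∃ g, ConjClasses.mk g = c ∧ (orderOf g).Coprime p} → ℂ) →ₗ[ℂ] G → ℂ :=
    { toFun f x := if h : p ∣ orderOf x then 0 else f ⟨_, (h1 x).2 h⟩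
      map_add' f g := funext fun x => by by_cases h : p ∣ orderOf x <;> simp [h]
      map_smul' c f := funext fun x => by by_cases h : p ∣ orderOf x <;> simp [h] }
  have h2 : Function.Injective L := fun f g e => funext (by
    rintro ⟨_, x, rfl, h⟩
    simpa [L, (h1 x).1 ⟨x, rfl, h⟩] using congrFun e x)
  have h3 : regSpan p Set.univ = L.range := le_antisymm (Submodule.span_le.2 (by
    rintro _ ⟨χ, -, rfl⟩
    refine ⟨fun c => χ.1 c.2.choose, funext fun x => ?_⟩
    by_cases h : p ∣ orderOf x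
    · simp [L, reg, h]
    · obtain ⟨c, e⟩ := isConj_iff.1 (ConjClasses.mk_eq_mk_iff_isConj.1 ((h1 x).2 h).choose_spec.1)
      simp only [L, reg, h, LinearMap.coe_mk, AddHom.coe_mk, dite_false, if_false]
      conv_rhs => rw [← e, χ.2.isClassFunction])) (by
    rintro _ ⟨f, rfl⟩
    have := reg_blockPart_mem (p := p) Set.univ (L f)
    rwa [blockPart_univ fun x y => by
      have e : ConjClasses.mk (y * x * y⁻¹) = ConjClasses.mk x := (ConjClasses.mk_eq_mk_iff_isConj.2 (isConj_iff.2 ⟨y, rfl⟩)).symm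
      have e' : orderOf (y * x * y⁻¹) = orderOf x := by rw [← MulAut.conj_apply, MulEquiv.orderOf_eq]
      simp [L, e, e'], show reg p (L f) = L f from funext fun x => by by_cases h : p ∣ orderOf x <;> simp [L, reg, h]] at this)
  have := Fintype.ofFinite {c : ConjClasses G // ∃ g, ConjClasses.mk g = c ∧ (orderOf g).Coprime p}
  rw [blockRank_eq, h3, LinearMap.finrank_range_of_inj h2, Module.finrank_fintype_fun_eq_card, Nat.card_eq_fintype_card]

section Alg
variable {G k V V' : Type*} [Group G] [Finite G] [Field k] [IsAlgClosed k] [AddCommGroup V] [Module k V] {ρ : Representation k G V}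
  [AddCommGroup V'] [Module k V'] {ρ' : Representation k G V'} {e f : MonoidAlgebra k G}

theorem cr_rho (he : Prim (k := k) ⊤ e) {s : V} (h0 : s ≠ 0) (h1 : ρ.asAlgebraHom e s = s) {a : MonoidAlgebra k G} (h2 : ρ.asAlgebraHom a s = s) :
    rho k e a ≠ 0 := fun h => by
  obtain ⟨n, hn⟩ := (he.rho_eq_zero_iff trivial).1 h
  have : ∀ n : ℕ, ρ.asAlgebraHom ((e * a * e) ^ n) s = s := fun n => by induction n <;> simp [pow_succ, -map_pow, *]
  exact h0 (by rw [← this n, hn]; simp)

theorem cr_idem (he : Prim (k := k) ⊤ e) (x : V) : ρ.asAlgebraHom e (ρ.asAlgebraHom e x) = ρ.asAlgebraHom e x := by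
  rw [← Module.End.mul_apply, ← map_mul, he.idem]

theorem CrSmp.eqv (hs : CrSmp ρ) (he : Prim (k := k) ⊤ e) (hf : Prim (k := k) ⊤ f) {x y : V} (hx : ρ.asAlgebraHom e x ≠ 0) (hy : ρ.asAlgebraHom f y ≠ 0) :
    Eqv (k := k) ⊤ e f := by
  obtain ⟨a, ha⟩ := hs _ hy (ρ.asAlgebraHom e x)
  obtain ⟨b, hb⟩ := hs _ hx (ρ.asAlgebraHom f y)
  exact (he.eqv_of_rho (a := a) (b := b) hf trivial trivial (cr_rho he hx (cr_idem he x) (by simp [ha, hb, cr_idem hf]))).1

theorem CrSmp.ne_zero (hs : CrSmp ρ) (he : Prim (k := k) ⊤ e) {x : V} {y : V'} (hy : ρ'.asAlgebraHom e y ≠ 0) {c : MonoidAlgebra k G}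
    (hc : ρ.asAlgebraHom c (ρ.asAlgebraHom e x) ≠ 0) : ρ'.asAlgebraHom c (ρ'.asAlgebraHom e y) ≠ 0 := fun h => by
  obtain ⟨b, hb⟩ := hs _ hc (ρ.asAlgebraHom e x)
  obtain ⟨d, -, -, hd, -⟩ := he.exists_of_rho_ne_zero (a := b * c) trivial (cr_rho he (fun h' => hc (by rw [h', map_zero])) (cr_idem he x) (by simpa))
  exact hy (by rw [← hd]; simp [h])

/-- the representation on a quotient of the group algebra -/
noncomputable def crQ (m : Submodule (MonoidAlgebra k G) (MonoidAlgebra k G)) : Representation k G (MonoidAlgebra k G ⧸ m) :=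
  (Algebra.lsmul k k (MonoidAlgebra k G ⧸ m) : MonoidAlgebra k G →ₐ[k] _).toMonoidHom.comp (MonoidAlgebra.of k G)

theorem crQ_apply (m : Submodule (MonoidAlgebra k G) (MonoidAlgebra k G)) (a : MonoidAlgebra k G) (x : MonoidAlgebra k G ⧸ m) :
    (crQ m).asAlgebraHom a x = a • x := by
  induction a using MonoidAlgebra.induction_on with
  | of g => rw [Representation.asAlgebraHom_of]; rfl
  | add x y hx hy => simp [hx, hy, add_smul]
  | smul r x hx => simp [hx]

theorem exists_crQ {m : Submodule (MonoidAlgebra k G) (MonoidAlgebra k G)} (h : 1 ∉ m) : ∃ m' : Submodule (MonoidAlgebra k G) (MonoidAlgebra k G),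
    CrSmp (crQ m') ∧ ∃ x ≠ 0, ∀ a ∈ m, (crQ m').asAlgebraHom a x = 0 := by
  obtain ⟨m', h1, h2⟩ := Ideal.exists_le_maximal m ((Ideal.ne_top_iff_one m).2 h)
  have := isSimpleModule_iff_isCoatom.2 h1.out
  refine ⟨m', fun v h0 w => ?_, Submodule.Quotient.mk 1, fun e => (Ideal.ne_top_iff_one m').1 h1.ne_top ((Submodule.Quotient.mk_eq_zero _).1 e),
    fun a ha => ?_⟩
  · obtain ⟨a, ha⟩ := IsSimpleModule.toSpanSingleton_surjective (MonoidAlgebra k G) h0 w
    exact ⟨a, (crQ_apply ..).trans ha⟩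
  · rw [crQ_apply, ← Submodule.Quotient.mk_smul, smul_eq_mul, mul_one, Submodule.Quotient.mk_eq_zero]
    exact h2 ha

end Alg

variable {I R : Type} [Fintype I] [DecidableEq I] [Fintype R] [DecidableEq R]
namespace St
variable {Φ : CD I R} {F : Type*} [Field F] [Fintype F] {G : Type*} [Group G] [Fintype G] {S : St Φ F G} (hG : S.Gx = ⊤)
  (p : ℕ) [Fact p.Prime] [CharP F p] (hc : Function.Injective (zmap Fˣ Φ.cm))
open Classical

include hG p hc in
theorem card_points {k : Type*} [Field k] [CharP k p] [IsAlgClosed k] {D : Finset (MonoidAlgebra k G)} (h1 : ∀ i ∈ D, Prim (k := k) ⊤ i)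
    (h2 : ∀ i ∈ D, ∀ j ∈ D, Eqv (k := k) ⊤ i j → i = j) (h3 : ∀ j, Prim (k := k) ⊤ j → ∃ i ∈ D, Eqv (k := k) ⊤ j i) : D.card = Fintype.card F ^ Fintype.card I := by
  have a1 : ∀ l : I → Option (Fˣ →* kˣ), ∃ m : Submodule (MonoidAlgebra k G) (MonoidAlgebra k G), CrSmp (crQ m) ∧ ∃ v, S.CrWt (crQ m) l v := fun l => by
    obtain ⟨v, hv⟩ := exists_crWt_reg (S := S) p hc l
    obtain ⟨m, b1, x, b2, b3⟩ := exists_crQ (m := LinearMap.ker (LinearMap.toSpanSingleton (MonoidAlgebra k G) (crReg G k).asModule v))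
      fun h => hv.ne ((one_smul (MonoidAlgebra k G) (show (crReg G k).asModule from v)).symm.trans h)
    exact ⟨m, b1, x, hv.transfer b2 b3⟩
  choose m hm v hv using a1
  have a2 : ∀ e : D, ∃ l x, (crQ (m l)).asAlgebraHom e x ≠ 0 := fun ⟨e, he⟩ => by
    obtain ⟨m', b1, x, b2, b3⟩ := exists_crQ (m := Submodule.span _ {1 - e}) fun h => by
      obtain ⟨a, h⟩ := Submodule.mem_span_singleton.1 h
      exact (h1 e he).ne (by rw [← one_mul e, ← h, smul_eq_mul, mul_assoc, sub_mul, one_mul, (h1 e he).idem, sub_self, mul_zero])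
    have := nontrivial_of_ne _ _ b2
    obtain ⟨l, w, hw⟩ := exists_crWt (S := S) p (crQ m')
    obtain ⟨a, rfl⟩ := b1 w hw.ne x
    have b4 := b3 _ (Submodule.mem_span_singleton_self _)
    exact ⟨l, (crQ (m l)).asAlgebraHom a (v l), fun h => b2 (by
      simpa [sub_eq_zero, show (crQ m').asAlgebraHom e _ = 0 by simpa using (hv l).ann hG p hw (hm l) b1 (a := e * a) (by simpa)] using b4)⟩
  choose f x hf using a2
  have a3 : Function.Bijective f := ⟨fun i j e => Subtype.ext (h2 _ i.2 _ j.2 ((hm _).eqv (h1 _ i.2) (h1 _ j.2) (hf i) (y := e ▸ x j) (by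
    have := hf j
    generalize f i = l at e
    subst e
    exact this))), fun l => by
    obtain ⟨E, hE⟩ := exists_dec (k := k) (S := ⊤) (e := (1 : MonoidAlgebra k G)) trivial IsIdempotentElem.one
    obtain ⟨j, b1, b2⟩ := exists_ne_zero_of_sum_ne_zero (s := E) (f := fun j => (crQ (m l)).asAlgebraHom j (v l)) (by
      rw [← LinearMap.sum_apply, ← map_sum, hE.sum]; simpa using (hv l).ne)
    obtain ⟨i, b3, a, -, b, -, b4, b5⟩ := h3 j (hE.prim j b1)
    have b6 : (crQ (m l)).asAlgebraHom i ((crQ (m l)).asAlgebraHom b (v l)) ≠ 0 := fun h => b2 (by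
      rw [← (hE.prim j b1).idem, show j * j = a * i * b by rw [← b4, ← b5]; simp only [mul_assoc]]; simp [h])
    obtain ⟨c, b7⟩ := hm l _ b6 (v l)
    exact ⟨⟨i, b3⟩, (((hv l).transfer ((hm l).ne_zero (h1 i b3) (hf ⟨i, b3⟩) (c := c) (by rw [b7]; exact (hv l).ne)) fun a h => by_contra fun h' =>
      (hm _).ne_zero (h1 i b3) b6 (c := a * c) (by simpa using h') (by simpa [b7] using h)).unique hG p (hv _) (hm _)).symm⟩⟩
  have : NeZero ((Monoid.exponent Fˣ : ℕ) : k) := ⟨fun h => by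
    obtain ⟨d, hd⟩ := Group.exponent_dvd_card (G := Fˣ)
    have := congrArg (Nat.cast : ℕ → k) hd
    simp [h, Fintype.card_units, Nat.cast_sub Fintype.card_pos, cast_card_F p] at this⟩
  rw [← Nat.card_eq_finsetCard, Nat.card_eq_of_bijective f a3, Nat.card_fun, Finite.card_option,
    CommGroup.card_monoidHom_of_hasEnoughRootsOfUnity, Nat.card_units, Nat.sub_add_cancel Nat.card_pos, Nat.card_eq_fintype_card,
    Nat.card_eq_fintype_card]

include hG hc in
theorem card_preg : Nat.card {c : ConjClasses G // ∃ g, ConjClasses.mk g = c ∧ (orderOf g).Coprime p} = Fintype.card F ^ Fintype.card I := by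
  obtain ⟨M, hM⟩ := exists_pmod p
  obtain ⟨D, hD⟩ := (isUB_univ (M := M) (G := G)).exists_pts
  rw [← blockRank_univ_eq, ← hD.card_eq]
  exact card_points hG p hc hD.prim hD.uniq fun j hj => hD.ex j hj (by rw [bar_univ, one_mul])

end St

theorem Checked.card_preg {D : ChevalleyDatum} {c : Cert} (h : Checked D c) {F : Type*} [Field F] [Fintype F] (p : ℕ) [Fact p.Prime] [CharP F p]
    (hk : Nat.card (zmap Fˣ h.toRS.cm).ker = 1) :
    Nat.card {c : ConjClasses (D.group F) // ∃ g, ConjClasses.mk g = c ∧ (orderOf g).Coprime p} = Fintype.card F ^ D.rank := by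
  have := Fintype.ofFinite (D.group F)
  rw [St.card_preg (h.adj_Gx (K := F)) p ((MonoidHom.ker_eq_bot_iff _).1 (Subgroup.card_eq_one.1 hk)), Fintype.card_fin]

end Cfsg.Agent.Chev
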