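import Cfsg.Agent.Lib.Chev.Univ
import Cfsg.Agent.Lib.Chev.BT

set_option autoImplicit false
set_option linter.unusedSectionVars false
set_option linter.style.haveILetI false

/-! The Curtis–Tits theorem. -/

namespace Cfsg.Agent.Chev

open scoped commutatorElement
open Finset

variable {I R : Type} [Fintype I] [DecidableEq I] [Fintype R] [DecidableEq R]

theorem RS.exists_rank_two {Φ : RS I R} (r s : R) :
    ∃ (w : Φ.W) (i j : I), Φ.InJ {i, j} (w • r) ∧ Φ.InJ {i, j} (w • s) := by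
  classical
  let v : R → I → ℝ := fun k i => Φ.rv k i
  let P := Submodule.span ℝ {v r, v s}
  obtain ⟨f, hf⟩ := Module.exists_dual_forall_apply_ne_zero (K := ℝ) (fun k : {k // v k ∉ P} => P.mkQ (v k))
    fun k => by simpa using k.2
  have hv : ∀ (w : Φ.W) k, v (w • k) = ∑ i, (Φ.rv k i : ℝ) • v (w • Φ.sim i) := fun w k => by
    ext j; simp [v, RS.rv_smul w k]
  have h1 : Φ.Lin fun k => f (P.mkQ (v k)) := fun k => by
    have := hv 1 k
    simp only [one_smul] at this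
    beta_reduce
    rw [this]; simp
  obtain ⟨w, hw⟩ := h1.exists_dom
  let J : Finset I := univ.filter fun i => f (P.mkQ (v (w • Φ.sim i))) = 0
  have h2 : ∀ k, v k ∈ P → Φ.InJ J (w⁻¹ • k) := fun k hk i hi => by
    have h3 := h1.smul w (w⁻¹ • k)
    simp only [smul_inv_smul, Submodule.mkQ_apply, (Submodule.Quotient.mk_eq_zero P).2 hk, map_zero] at h3
    have h4 : f (P.mkQ (v (w • Φ.sim i))) ≠ 0 := fun a => hi (mem_coe.2 (mem_filter.2 ⟨mem_univ _, a⟩))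
    rcases Φ.pos_or_neg (w⁻¹ • k) with h | h
    · have := (sum_eq_zero_iff_of_nonneg fun i _ => mul_nonneg (by exact_mod_cast h i) (hw i)).1 h3.symm i (mem_univ _)
      exact_mod_cast (mul_eq_zero.1 this).resolve_right h4
    · have := (sum_eq_zero_iff_of_nonpos fun i _ => mul_nonpos_of_nonpos_of_nonneg (by exact_mod_cast h i) (hw i)).1
        h3.symm i (mem_univ _)
      exact_mod_cast (mul_eq_zero.1 this).resolve_right h4
  let L : (I → ℝ) →ₗ[ℝ] I → ℝ := ∑ i, (LinearMap.proj i).smulRight (v (w⁻¹ • Φ.sim i))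
  have hL : ∀ k, L (v k) = v (w⁻¹ • k) := fun k => by rw [hv]; simp [L, v]
  have h3 : J.card ≤ 2 := by
    have a1 : ∀ j : J, (Pi.single j.1 1 : I → ℝ) ∈ P.map L := fun j => ⟨v (w • Φ.sim j), by_contra fun h =>
      hf ⟨_, h⟩ (mem_filter.1 j.2).2, by rw [hL, inv_smul_smul]; ext i; simp [v, Φ.rv_sim, Pi.single_apply]⟩
    have a2 : LinearIndependent ℝ fun j : J => (⟨_, a1 j⟩ : P.map L) :=
      LinearIndependent.of_comp (P.map L).subtype (by
        simpa [Function.comp_def] using (Pi.basisFun ℝ I).linearIndependent.comp _ (Subtype.val_injective (p := (· ∈ J))))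
    have a3 := a2.fintype_card_le_finrank.trans ((P.finrank_map_le L).trans (finrank_span_le_card _))
    simp only [Fintype.card_coe, Set.toFinset_insert, Set.toFinset_singleton] at a3
    exact a3.trans card_le_two
  obtain ⟨i, hi⟩ := Function.ne_iff.1 (Φ.rv_ne_zero (w⁻¹ • r))
  have a1 := h2 r (Submodule.subset_span (by simp))
  have a2 := h2 s (Submodule.subset_span (by simp))
  have hi' : i ∈ J := by_contra fun h => hi (a1 i h)
  obtain ⟨j, hj⟩ : ∃ j, J.erase i ⊆ {j} := by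
    rcases (J.erase i).eq_empty_or_nonempty with h | ⟨j, h⟩
    · exact ⟨i, by simp [h]⟩
    · exact ⟨j, fun k hk => mem_singleton.2 (card_le_one.1 (by rw [card_erase_of_mem hi']; omega) _ hk _ h)⟩
  have : (J : Set I) ⊆ {i, j} := fun k hk => (eq_or_ne k i).imp_right fun e => mem_singleton.1 (hj (mem_erase.2 ⟨e, hk⟩))
  exact ⟨w⁻¹, i, j, a1.mono this, a2.mono this⟩

theorem RS.eq_sim_of_smul {Φ : RS I R} {J : Set I} {w : Φ.W} (h : ∀ j ∈ J, Φ.Pos (w • Φ.sim j)) {r : R} (hr : Φ.InJ J r)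
    {i : I} (e : w • r = Φ.sim i) : ∃ j ∈ J, r = Φ.sim j := by
  have h1 : Φ.Pos r := by_contra fun a => (Φ.pos_sim i).not_neg (by
    simpa [RS.smul_neg', e] using RS.pos_smul_of_inJ h (RS.pos_neg_iff.2 a) hr.neg)
  have h2 : ∑ j, Φ.rv r j ≤ 1 := by
    rw [← Φ.ht_sim i, ← e, RS.ht, RS.rv_smul]
    simp only [Finset.sum_apply, Pi.smul_apply, smul_eq_mul]
    rw [sum_comm]
    refine sum_le_sum fun j _ => ?_
    by_cases a : j ∈ J
    · rw [← mul_sum]; exact le_mul_of_one_le_right (h1 j) (h j a).ht_pos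
    · simp [hr j a]
  obtain ⟨l, a1, -⟩ := h1.exists_A_pos
  refine ⟨l, by_contra fun a => a1.ne' (hr l a), RS.eq_sim_of_support h1 fun j hj => (h1 j).antisymm' ?_⟩
  have := add_le_sum (f := Φ.rv r) (fun j _ => h1 j) (mem_univ j) (mem_univ l) hj
  omega

theorem RS.exists_split_word {Φ : RS I R} {k : I} (ω : List I) (h : ¬ Φ.Pos (wp Φ.s ω • Φ.sim k)) :
    ∃ ω₁ l ω₂, ω = ω₁ ++ l :: ω₂ ∧ wp Φ.s ω₂ • Φ.sim k = Φ.sim l := by
  induction ω with
  | nil => exact absurd (by simpa using Φ.pos_sim k) h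
  | cons l ω ih =>
    by_cases a : Φ.Pos (wp Φ.s ω • Φ.sim k)
    · exact ⟨[], l, ω, rfl, RS.eq_sim_of_rf a (by simpa [mul_smul] using h)⟩
    · obtain ⟨ω₁, l', ω₂, rfl, e⟩ := ih a
      exact ⟨l :: ω₁, l', ω₂, rfl, e⟩

/-- Steinberg's relations on a set of roots -/
structure CD.RelOn (Φ : CD I R) {F : Type*} [Field F] {G : Type*} [Group G] (A : Set R) (y : R → F → G) : Prop where
  add : ∀ r ∈ A, ∀ t u, y r t * y r u = y r (t + u)
  comm : ∀ r ∈ A, ∀ s ∈ A, ∀ t u, s ≠ r → s ≠ Φ.neg r → y s u * y r t = y r t * y s u *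
    ((Φ.ct r s).map fun c => y c.1 ((c.2.1 : F) * (-t) ^ c.2.2.1 * u ^ c.2.2.2)).prod

/-- witnesses inside a set of roots -/
def CD.WitIn (Φ : CD I R) (A : Set R) (p : R) : Prop :=
  ∃ (a b : R) (f : I → ℤ) (L₁ L₂ : List (R × ℤ × ℕ × ℕ)) (e : ℤ) (i : ℕ), a ∈ A ∧ b ∈ A ∧ b ≠ a ∧ 0 < Φ.fn f a ∧
    0 < Φ.fn f b ∧ Φ.ct a b = L₁ ++ (p, e, i, 1) :: L₂ ∧ e * e = 1 ∧ (∀ c ∈ L₁, c.1 ≠ p) ∧ ∀ c ∈ L₂, c.1 ≠ p

/-- the subgroup generated by part of a family -/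
def Wy {F Γ : Type*} [Group Γ] (y : R → F → Γ) (B : Set R) : Subgroup Γ := Subgroup.closure {g | ∃ k ∈ B, ∃ v, g = y k v}

section
variable {F Γ : Type*} [Group Γ] {y : R → F → Γ}
theorem mem_Wy {B : Set R} {r : R} (hr : r ∈ B) (t : F) : y r t ∈ Wy y B := Subgroup.subset_closure ⟨_, hr, t, rfl⟩
theorem Wy_le {B : Set R} {K : Subgroup Γ} (h : ∀ r ∈ B, ∀ t, y r t ∈ K) : Wy y B ≤ K :=
  (Subgroup.closure_le _).2 (by rintro _ ⟨r, hr, t, rfl⟩; exact h r hr t)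
theorem Wy_mono {B C : Set R} (h : B ⊆ C) : Wy y B ≤ Wy y C := Wy_le fun _ hr t => mem_Wy (h hr) t
theorem conj_Wy {B : Set R} {K : Subgroup Γ} {e : Γ} (h : ∀ r ∈ B, ∀ t, e * y r t * e⁻¹ ∈ K) {w : Γ} (hw : w ∈ Wy y B) :
    e * w * e⁻¹ ∈ K := Wy_le (K := K.comap (MulAut.conj e).toMonoidHom) h hw
end

variable {Φ : CD I R} {F : Type*} [Field F] {G : Type*} [Group G] {S : St Φ F G} {Γ : Type*} [Group Γ] {π : Γ →* G}

namespace CD.RelOn
variable {A : Set R} {y : R → F → Γ} (h : Φ.RelOn A y)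
include h

theorem zero {r : R} (hr : r ∈ A) : y r 0 = 1 := by simpa using h.add r hr 0 0

theorem inv {r : R} (hr : r ∈ A) (t : F) : (y r t)⁻¹ = y r (-t) :=
  inv_eq_of_mul_eq_one_right (by rw [h.add r hr, add_neg_cancel, h.zero hr])

theorem comm_mem {r s : R} (hr : r ∈ A) (hs : s ∈ A) (e : s ≠ Φ.neg r) {B : Set R} (hB : ∀ k, Φ.Comb k r s → k ∈ B)
    (t u : F) : ⁅y s u, y r t⁆ ∈ Wy y B := by
  by_cases e' : s = r
  · subst e'
    rw [commutatorElement_def, h.inv hr, h.inv hr, h.add _ hr, h.add _ hr, h.add _ hr]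
    simp [h.zero hr]
  have := h.comm r hr s hs (-t) (-u) e' e
  rw [← h.inv hr, ← h.inv hs] at this
  rw [commutatorElement_def, mul_assoc, this, ← mul_assoc, show y s u * y r t * ((y r t)⁻¹ * (y s u)⁻¹) = 1 by group,
    one_mul]
  refine Subgroup.list_prod_mem _ fun g hg => ?_
  obtain ⟨c, hc, rfl⟩ := List.mem_map.1 hg
  exact mem_Wy (hB _ ⟨_, _, Φ.ct_rv r s c hc⟩) _

theorem exists_eq {r : R} (hr : r ∈ A) {a : Γ} (ha : a ∈ Wy y {r}) : ∃ t, a = y r t := by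
  induction ha using Subgroup.closure_induction with
  | mem a ha => obtain ⟨_, rfl, t, rfl⟩ := ha; exact ⟨t, rfl⟩
  | one => exact ⟨0, (h.zero hr).symm⟩
  | mul a b _ _ ha hb => obtain ⟨t, rfl⟩ := ha; obtain ⟨u, rfl⟩ := hb; exact ⟨_, h.add _ hr _ _⟩
  | inv a _ ha => obtain ⟨t, rfl⟩ := ha; exact ⟨_, h.inv hr t⟩

variable (hm : ∀ r ∈ A, ∀ t, π (y r t) = S.x r t)
include hm

theorem eq_one {f : I → ℤ} {C : Set R} (hC : Φ.Unip f C) (hCA : C ⊆ A) {w : Γ} (hw : w ∈ Wy y C) (h1 : π w = 1) :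
    w = 1 := by
  classical
  suffices ∀ B : Finset R, (∀ r ∈ B, r ∈ C ∧ ∀ k ∈ C, Φ.fn f r < Φ.fn f k → k ∈ B) →
      (∀ w ∈ Wy y B, π w = 1 → w = 1) ∧ ∀ n ∈ Wy y C, ∀ w ∈ Wy y B, n * w * n⁻¹ ∈ Wy y B from
    (this C.toFinset (by simp +contextual)).1 w (by simpa using hw) h1
  intro B
  induction B using Finset.induction_on_min_value (Φ.fn f) with
  | empty => simp [Wy]
  | insert r B hrB hr ih =>
  intro hB
  have hrA := (hB r (by simp)).1
  obtain ⟨b1, b2⟩ := ih fun s hs => ⟨(hB s (mem_insert_of_mem hs)).1, fun k hk e =>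
    (mem_insert.1 ((hB s (mem_insert_of_mem hs)).2 k hk e)).resolve_left (by rintro rfl; have := hr s hs; omega)⟩
  have hrr : Wy y {r} ≤ Wy y C := Wy_mono (by simpa using hrA)
  have b3 : ∀ s ∈ C, ∀ t u, ⁅y r t, y s u⁆ ∈ Wy y B := fun s hs t u =>
    h.comm_mem (hCA hs) (hCA hrA) (hC.ne_neg hs hrA) (fun k hk => by
      have := hk.fn_le (hC.pos _ hs).le (hC.pos _ hrA).le
      have h2 := hC.pos _ hs
      exact (mem_insert.1 ((hB r (by simp)).2 k (hC.closed _ hs _ hrA _ hk) (by omega))).resolve_left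
        (by rintro rfl; omega)) _ _
  have hle : Wy y B ≤ Wy y (insert r B : Finset R) := Wy_mono (by simp)
  refine ⟨fun w hw e => ?_, fun n hn' w hw => conj_Wy (fun k hk t => ?_) hw⟩
  · obtain ⟨a, ha, w, hw', rfl⟩ := (mem_sup_iff_of_conj (A := Wy y B) (K := Wy y {r}) fun k hk => b2 k (hrr hk)).1
      (Wy_le (K := Wy y B ⊔ Wy y {r}) (fun k hk t => (mem_insert.1 (mem_coe.1 hk)).elim
        (fun e => Subgroup.mem_sup_right (mem_Wy (B := {r}) e t)) fun e => Subgroup.mem_sup_left (mem_Wy (mem_coe.2 e) t)) hw)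
    obtain ⟨t, rfl⟩ := h.exists_eq (hCA hrA) hw'
    have h2 : S.x r t ∈ S.Ux B := by
      rw [map_mul, hm r (hCA hrA), mul_eq_one_iff_inv_eq] at e
      exact e ▸ inv_mem (Wy_le (K := (S.Ux B).comap π) (fun k hk v => by
        rw [Subgroup.mem_comap, hm k (hCA (hB k (mem_insert_of_mem (mem_coe.1 hk))).1)]; exact St.x_mem hk v) ha)
    have h3 : ∀ g ∈ S.Ux B, S.cf r g = 0 := fun g hg => St.Ux_induction (p := fun g => S.cf r g = 0) (St.cf_one r)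
      (fun k hk v g hg ih => by
        rw [St.cf_mul (A := insert r B) (hC.pos _ hrA) (by simpa using hr) (St.Ux_mono (by simp) hg)
          (St.x_mem (by simp [show k ∈ B from hk]) v), ih, St.cf_x,
          if_neg (by rintro rfl; exact hrB (mem_coe.1 hk)), add_zero]) hg
    obtain rfl : t = 0 := by simpa [St.cf_x] using h3 _ h2
    rw [h.zero (hCA hrA), mul_one] at e ⊢
    exact b1 a ha e
  · refine (mem_insert.1 (mem_coe.1 hk)).elim (fun e => ?_) fun e => hle (b2 n hn' _ (mem_Wy (mem_coe.2 e) t))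
    subst e
    have : ∀ n ∈ Wy y C, ⁅y k t, n⁆ ∈ Wy y B := fun n hn => by
      induction hn using Subgroup.closure_induction with
      | mem a ha => obtain ⟨s, hs, u, rfl⟩ := ha; exact b3 s hs t u
      | one => simp
      | mul a b ha _ h1 h2 => rw [commutatorElement_mul_right_eq_mul_conj]; simpa only [mul_assoc] using mul_mem h1 (b2 a ha _ h2)
      | inv a ha h1 =>
        have := inv_mem (b2 _ (inv_mem ha) _ h1)
        simp only [commutatorElement_def] at this ⊢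
        convert this using 1; group
    have := mul_mem (inv_mem (hle (this n hn'))) (mem_Wy (mem_coe.2 (mem_insert_self k B)) t)
    simp only [commutatorElement_def] at this
    convert this using 1; group

theorem eq_of {f : I → ℤ} {C : Set R} (hC : Φ.Unip f C) (hCA : C ⊆ A) {w w' : Γ} (hw : w ∈ Wy y C) (hw' : w' ∈ Wy y C)
    (h1 : π w = π w') : w = w' :=
  mul_inv_eq_one.1 (h.eq_one hm hC hCA (mul_mem hw (inv_mem hw')) (by simp [h1]))

end CD.RelOn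

theorem RS.unip_inJ {Φ : RS I R} (f : I → ℤ) (J : Set I) : Φ.Unip f {r | Φ.InJ J r ∧ 0 < Φ.fn f r} :=
  (RS.unip_fn f).subset ((RS.closed_inJ J).inter (RS.unip_fn f).closed) fun _ h => h.2

/-- the monomial elements of a family -/
def ny (Φ : CD I R) (y : R → F → Γ) (i : I) (c : Fˣ) : Γ :=
  y (Φ.sim i) c * y (Φ.neg (Φ.sim i)) (-(c : F)⁻¹) * y (Φ.sim i) c

namespace CD.RelOn
variable {J : Set I} {y : R → F → Γ} (h : Φ.RelOn {r | Φ.InJ J r} y) (hm : ∀ r ∈ {r | Φ.InJ J r}, ∀ t, π (y r t) = S.x r t)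
  {i : I} (hi : i ∈ J)
include h hm hi

omit h in
theorem map_ny (c : Fˣ) : π (ny Φ y i c) = S.n (Φ.sim i) c := by
  simp [ny, St.n, hm _ (RS.inJ_sim.2 hi), hm _ (RS.inJ_sim.2 hi).neg]

theorem n_conj_aux (c : Fˣ) {s : R} (hs : Φ.InJ J s) (h1 : s ≠ Φ.sim i) (h2 : s ≠ Φ.neg (Φ.sim i)) (u : F) :
    ny Φ y i c * y s u * (ny Φ y i c)⁻¹ = y (Φ.rf i s) ((Φ.η i s : F) * ((c ^ (-Φ.A i s) : Fˣ) : F) * u) := by
  obtain ⟨j, hj, hs'⟩ : ∃ j, j ≠ i ∧ Φ.rv s j ≠ 0 := by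
    by_contra hn
    push Not at hn
    by_cases hp : Φ.Pos s
    · exact h1 (RS.eq_sim_of_support hp hn)
    · refine h2 (Φ.neg_eq_iff.1 (RS.eq_sim_of_support (RS.pos_neg_iff.2 hp) fun j hj => ?_))
      simp [Φ.rv_neg, hn j hj]
  let f : I → ℤ := Pi.single j (Φ.rv s j)
  have hf : ∀ r, Φ.fn f r = Φ.rv s j * Φ.rv r j := fun r => by simp [RS.fn, f, Pi.single_apply]
  have f0 : Φ.fn f (Φ.sim i) = 0 := by simp [hf, Φ.rv_sim, hj]
  have key : ∀ r, Φ.InJ J r → Φ.fn f r = 0 → ∀ t, ∀ g ∈ Wy y {r | Φ.InJ J r ∧ 0 < Φ.fn f r},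
      y r t * g * (y r t)⁻¹ ∈ Wy y {r | Φ.InJ J r ∧ 0 < Φ.fn f r} := by
    intro r hrJ hr t g hg
    refine conj_Wy (fun k hk v => ?_) hg
    have := mul_mem (h.comm_mem (B := {r | Φ.InJ J r ∧ 0 < Φ.fn f r}) hk.1 hrJ
      (by rintro rfl; have := hk.2; rw [RS.fn_neg] at hr; omega)
      (fun k' hk' => ⟨hk'.inJ hk.1 hrJ, by have := hk'.fn_le (f := f) hk.2.le hr.ge; have := hk.2; omega⟩) v t) (mem_Wy hk v)
    simpa [commutatorElement_def] using this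
  have hs'' : 0 < Φ.fn f s := by rw [hf]; exact mul_self_pos.2 hs'
  have a1 : Φ.InJ J (Φ.sim i) := RS.inJ_sim.2 hi
  have a2 : Φ.InJ J (Φ.rf i s) := hs.smul (RS.s_mem_WJ hi)
  refine h.eq_of hm (RS.unip_inJ f J) (fun _ h => h.1) ?_ (mem_Wy (by exact ⟨a2, by simpa [hf, Φ.rv_rf, hj] using hs'⟩) _) ?_
  · have := key _ a1 f0 c _ (key _ a1.neg (by rw [RS.fn_neg, f0, neg_zero]) (-(c : F)⁻¹) _
      (key _ a1 f0 c _ (mem_Wy (by exact ⟨hs, hs''⟩) u)))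
    simpa [ny, mul_assoc] using this
  · rw [map_mul, map_mul, map_inv, map_ny hm hi, hm _ hs, hm _ a2, St.n_conj]

omit hm hi in
theorem mem_of_wit {p : R} (hp : Φ.WitIn {r | Φ.InJ J r} p) :
    ∃ f, 0 < Φ.fn f p ∧ ∀ u, y p u ∈ Wy y {k | Φ.InJ J k ∧ 0 < Φ.fn f k ∧ k ≠ p} := by
  obtain ⟨a, b, f, L₁, L₂, e, i, aJ, bJ, hab, fa, fb, hct, he, h1, h2⟩ := hp
  have hc : ∀ c ∈ Φ.ct a b, Φ.InJ J c.1 ∧ Φ.fn f a + Φ.fn f b ≤ Φ.fn f c.1 := fun c hc =>
    ⟨RS.Comb.inJ ⟨_, _, Φ.ct_rv a b c hc⟩ aJ bJ, RS.Comb.fn_le ⟨_, _, Φ.ct_rv a b c hc⟩ fa.le fb.le⟩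
  have hp := (hc (p, e, i, 1) (by simp [hct])).2
  simp only at hp
  refine ⟨f, by omega, fun u => ?_⟩
  have := h.comm a aJ b bJ (-1) (e * u) hab ((RS.unip_fn f).ne_neg fa fb)
  rw [hct, List.map_append, List.prod_append, List.map_cons, List.prod_cons] at this
  have e1 : (e : F) * (- -1) ^ i * ((e : F) * u) ^ 1 = u := by
    have : (e : F) * e = 1 := by rw [← Int.cast_mul, he, Int.cast_one]
    simp [← mul_assoc, this]
  simp only [e1] at this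
  have ha : y a (-1) ∈ Wy y {k | Φ.InJ J k ∧ 0 < Φ.fn f k ∧ k ≠ p} := mem_Wy (by exact ⟨aJ, fa, by rintro rfl; omega⟩) _
  have hb : y b (e * u) ∈ Wy y {k | Φ.InJ J k ∧ 0 < Φ.fn f k ∧ k ≠ p} := mem_Wy (by exact ⟨bJ, fb, by rintro rfl; omega⟩) _
  have g : ∀ L : List (R × ℤ × ℕ × ℕ), (∀ c ∈ L, c ∈ Φ.ct a b ∧ c.1 ≠ p) → (L.map fun c => y c.1 ((c.2.1 : F) *
      (- -1) ^ c.2.2.1 * (e * u) ^ c.2.2.2)).prod ∈ Wy y {k | Φ.InJ J k ∧ 0 < Φ.fn f k ∧ k ≠ p} := fun L hL => by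
    refine Subgroup.list_prod_mem _ fun g hg => ?_
    obtain ⟨c, hc', rfl⟩ := List.mem_map.1 hg
    have := hc c (hL c hc').1
    exact mem_Wy (by exact ⟨this.1, by omega, (hL c hc').2⟩) _
  have := this ▸ mul_mem hb ha
  rwa [mul_mem_cancel_left (mul_mem ha hb), mul_mem_cancel_left (g _ fun c hc => ⟨by simp [hct, hc], h1 c hc⟩),
    mul_mem_cancel_right (g _ fun c hc => ⟨by simp [hct, hc], h2 c hc⟩)] at this

theorem n_conj_wit (c : Fˣ) {s : R} (hs : s = Φ.sim i ∨ s = Φ.neg (Φ.sim i)) (hw : Φ.WitIn {r | Φ.InJ J r} s) (u : F) :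
    ny Φ y i c * y s u * (ny Φ y i c)⁻¹ = y (Φ.rf i s) ((Φ.η i s : F) * ((c ^ (-Φ.A i s) : Fˣ) : F) * u) := by
  obtain ⟨f, hf, hx⟩ := h.mem_of_wit hw
  obtain ⟨g, hg⟩ := Φ.exists_fn_smul f (Φ.s i)
  simp only [RS.s_smul] at hg
  have a1 : Φ.InJ J s := by rcases hs with rfl | rfl; exacts [RS.inJ_sim.2 hi, (RS.inJ_sim.2 hi).neg]
  have a2 : Φ.InJ J (Φ.rf i s) := a1.smul (RS.s_mem_WJ hi)
  refine h.eq_of hm (RS.unip_inJ g J) (fun _ h => h.1) (conj_Wy ?_ (hx u)) (mem_Wy (by exact ⟨a2, by simpa [hg, Φ.rf_rf]⟩) _) ?_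
  · rintro k ⟨hk0, hk1, hk2⟩ t
    have hk3 : k ≠ Φ.neg s := (RS.unip_fn f).ne_neg hf hk1
    rw [h.n_conj_aux hm hi c hk0]
    · exact mem_Wy (by exact ⟨hk0.smul (RS.s_mem_WJ hi), by simpa [hg, Φ.rf_rf] using hk1⟩) _
    · rintro rfl
      rcases hs with rfl | rfl
      exacts [hk2 rfl, hk3 (Φ.neg_neg _).symm]
    · rintro rfl
      rcases hs with rfl | rfl
      exacts [hk3 rfl, hk2 rfl]
  · rw [map_mul, map_mul, map_inv, map_ny hm hi, hm _ a1, hm _ a2, St.n_conj]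

end CD.RelOn

end Cfsg.Agent.Chev
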