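import Cfsg.Agent.Lib.Chev.CT

set_option autoImplicit false
set_option linter.unusedSectionVars false
set_option linter.style.haveILetI false

/-! The Curtis–Tits theorem, second part. -/

namespace Cfsg.Agent.Chev

open scoped commutatorElement

variable {I R : Type} [Fintype I] [DecidableEq I] [Fintype R] [DecidableEq R]

/-- witnesses in rank two subsystems -/
def CD.Wit2 (Φ : CD I R) : Prop := ∀ i b, ∃ j, Φ.WitIn {r | Φ.InJ {i, j} r} (Φ.pm b i)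

variable {Φ : CD I R} {F : Type*} [Field F] {G : Type*} [Group G] {Γ : Type*} [Group Γ]

theorem CD.inJ_pm {J : Set I} {i : I} (h : i ∈ J) (b : Bool) : Φ.InJ J (Φ.pm b i) := by
  cases b
  exacts [(RS.inJ_sim.2 h).neg, RS.inJ_sim.2 h]

theorem CD.rf_pm (i : I) (b : Bool) : Φ.rf i (Φ.pm b i) = Φ.pm (!b) i := by
  cases b
  exacts [Φ.rf_neg_sim i, Φ.rf_sim i]

/-- Curtis–Tits data over a group with root elements -/
structure CTD (S : St Φ F G) (π : Γ →* G) where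
  y : I → I → R → F → Γ
  map : ∀ i j, ∀ r ∈ {r | Φ.InJ {i, j} r}, ∀ t, π (y i j r t) = S.x r t
  rel : ∀ i j, Φ.RelOn {r | Φ.InJ {i, j} r} (y i j)
  sim : ∀ i j, ∀ k ∈ ({i, j} : Set I), ∀ b, y i j (Φ.pm b k) = y k k (Φ.pm b k)
  wit : Φ.Wit2

namespace CTD
variable {S : St Φ F G} {π : Γ →* G} (D : CTD S π)

/-- monomial elements -/
def nn (i : I) (c : Fˣ) : Γ := ny Φ (D.y i i) i c
/-- fundamental root elements -/
def z (b : Bool) (i : I) : F → Γ := D.y i i (Φ.pm b i)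
/-- the monomial subgroup -/
def Nh : Subgroup Γ := Subgroup.closure {g | ∃ i c, g = D.nn i c}
/-- the diagonal subgroup -/
def Hh : Subgroup Γ := Subgroup.closure {g | ∃ i c d, g = D.nn i c * D.nn i d}

theorem nn_eq {i j k : I} (hk : k ∈ ({i, j} : Set I)) (c : Fˣ) : ny Φ (D.y i j) k c = D.nn k c := by
  have h1 := D.sim i j k hk true
  have h2 := D.sim i j k hk false
  simp only [CD.pm, cond] at h1 h2
  simp [nn, ny, h1, h2]

theorem map_nn (i : I) (c : Fˣ) : π (D.nn i c) = S.n (Φ.sim i) c := CD.RelOn.map_ny (D.map i i) (by simp) c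

theorem map_z (b : Bool) (i : I) (t : F) : π (D.z b i t) = S.x (Φ.pm b i) t := D.map i i _ (CD.inJ_pm (by simp) b) t

theorem nn_inv (i : I) (c : Fˣ) : (D.nn i c)⁻¹ = D.nn i (-c) := by
  have h1 := (D.rel i i).inv (CD.inJ_pm (i := i) (by simp) true)
  have h2 := (D.rel i i).inv (CD.inJ_pm (i := i) (by simp) false)
  simp only [CD.pm, cond] at h1 h2
  simp [nn, ny, h1, h2, mul_assoc, inv_neg]

theorem nc {i j k : I} (hk : k ∈ ({i, j} : Set I)) (c : Fˣ) {s : R} (hs : Φ.InJ {i, j} s) (u : F) :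
    ∃ u', D.nn k c * D.y i j s u * (D.nn k c)⁻¹ = D.y i j (Φ.rf k s) u' := by
  by_cases h : ∃ b, s = Φ.pm b k
  · obtain ⟨b, rfl⟩ := h
    obtain ⟨l, hl⟩ := D.wit k b
    have := (D.rel k l).n_conj_wit (D.map k l) (i := k) (by simp) c (by cases b <;> simp [CD.pm]) hl u
    rw [D.nn_eq (by simp), CD.rf_pm, D.sim k l k (by simp), D.sim k l k (by simp)] at this
    exact ⟨_, by rw [CD.rf_pm, D.sim i j k hk, D.sim i j k hk, this]⟩
  · push Not at h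
    exact ⟨_, D.nn_eq hk c ▸ (D.rel i j).n_conj_aux (D.map i j) hk c hs (h true) (h false) u⟩

theorem nn_mem (i : I) (c : Fˣ) : D.nn i c ∈ D.Nh := Subgroup.subset_closure ⟨i, c, rfl⟩
theorem nn_mul_mem (i : I) (c d : Fˣ) : D.nn i c * D.nn i d ∈ D.Hh := Subgroup.subset_closure ⟨i, c, d, rfl⟩
theorem Hh_le : D.Hh ≤ D.Nh :=
  (Subgroup.closure_le _).2 (by rintro _ ⟨i, c, d, rfl⟩; exact mul_mem (D.nn_mem i c) (D.nn_mem i d))

theorem map_Nh {m : Γ} (h : m ∈ D.Nh) : π m ∈ S.N :=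
  (Subgroup.closure_le (S.N.comap π)).2 (by rintro _ ⟨i, c, rfl⟩; simpa [D.map_nn] using St.n_sim_mem i c) h

theorem map_Hh {m : Γ} (h : m ∈ D.Hh) : π m ∈ S.H :=
  (Subgroup.closure_le (S.H.comap π)).2 (by rintro _ ⟨i, c, d, rfl⟩; simpa [D.map_nn] using St.n_mul_n_mem i c d) h

theorem conj_z {h : Γ} (hh : h ∈ D.Hh) (b : Bool) (k : I) (t : F) : ∃ t', h * D.z b k t * h⁻¹ = D.z b k t' := by
  have key : ∀ i c d t, ∃ t', D.nn i c * D.nn i d * D.z b k t * (D.nn i c * D.nn i d)⁻¹ = D.z b k t' := fun i c d t => by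
    have hk : Φ.InJ {i, k} (Φ.pm b k) := CD.inJ_pm (by simp) b
    obtain ⟨t₁, h1⟩ := D.nc (i := i) (j := k) (k := i) (by simp) d hk t
    obtain ⟨t₂, h2⟩ := D.nc (i := i) (j := k) (k := i) (by simp) c (hk.smul (RS.s_mem_WJ (j := i) (by simp))) t₁
    rw [RS.s_smul, Φ.rf_rf, ← h1, D.sim i k k (by simp)] at h2
    exact ⟨t₂, by rw [z, ← h2]; group⟩
  induction hh using Subgroup.closure_induction'' generalizing t with
  | one => exact ⟨t, by simp⟩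
  | mem g hg => obtain ⟨i, c, d, rfl⟩ := hg; exact key i c d t
  | inv_mem g hg => obtain ⟨i, c, d, rfl⟩ := hg; simpa only [mul_inv_rev, nn_inv] using key i (-d) (-c) t
  | mul g g' _ _ h1 h2 =>
    obtain ⟨t₁, h2⟩ := h2 t
    obtain ⟨t₂, h1⟩ := h1 t₁
    exact ⟨t₂, by rw [← h1, ← h2]; group⟩

theorem conj_nn {g : Γ} {w : Φ.W} (hw : S.Acts (π g) w) {k l : I} (e : w • Φ.sim k = Φ.sim l)
    (h : ∀ b t, ∃ t', g * D.z b k t * g⁻¹ = D.z b l t') (c : Fˣ) : ∃ c', g * D.nn k c * g⁻¹ = D.nn l c' := by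
  obtain ⟨χ, h1, h2⟩ := hw
  obtain ⟨a, ha⟩ := h true c
  obtain ⟨b, hb⟩ := h false (-(c : F)⁻¹)
  have a1 := congrArg π ha
  have a2 := congrArg π hb
  simp only [map_mul, map_inv, map_z, CD.pm, cond, h2, RS.smul_neg', e, h1] at a1 a2
  obtain rfl := St.x_inj a1
  obtain rfl := St.x_inj a2
  refine ⟨χ (Φ.sim k) * c, ?_⟩
  simp only [z, CD.pm, cond] at ha hb
  simp only [nn, ny, Units.val_mul, ← ha]
  rw [show -((χ (Φ.sim k) : F) * c)⁻¹ = ((χ (Φ.sim k))⁻¹ : Fˣ) * -(c : F)⁻¹ by simp [mul_comm], ← hb]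
  group

theorem conj_Hh {m : Γ} (hm : m ∈ D.Nh) {h : Γ} (hh : h ∈ D.Hh) : m * h * m⁻¹ ∈ D.Hh := by
  have key : ∀ i c, ∀ h ∈ D.Hh, D.nn i c * h * (D.nn i c)⁻¹ ∈ D.Hh := fun i c h hh => by
    obtain ⟨c', e⟩ := D.conj_nn (St.acts_of_mem_H (D.map_Hh hh)) (one_smul _ _) (fun b => D.conj_z hh b i) (-c)
    have := mul_mem (D.nn_mul_mem i c c') hh
    rwa [← e, ← nn_inv, show ∀ a, a * (h * a⁻¹ * h⁻¹) * h = a * h * a⁻¹ from fun a => by group] at this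
  induction hm using Subgroup.closure_induction'' generalizing h with
  | one => simpa
  | mem g hg => obtain ⟨i, c, rfl⟩ := hg; exact key i c h hh
  | inv_mem g hg => obtain ⟨i, c, rfl⟩ := hg; rw [nn_inv]; exact key i _ h hh
  | mul g g' _ _ h1 h2 => simpa [mul_assoc] using h1 (h2 hh)

instance : (D.Hh.subgroupOf D.Nh).Normal := ⟨fun _ hg m => D.conj_Hh m.2 hg⟩

theorem word_mem (ω : List I) : wp (D.nn · 1) ω ∈ D.Nh ∧ S.Acts (π (wp (D.nn · 1) ω)) (wp Φ.s ω) := by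
  induction ω with
  | nil => exact ⟨one_mem _, by simpa using St.acts_one⟩
  | cons i ω ih => exact ⟨mul_mem (D.nn_mem i 1) ih.1, by simpa [D.map_nn] using (St.acts_n i 1).mul ih.2⟩

theorem word_conj {i j : I} {ω : List I} (hω : ∀ k ∈ ω, k ∈ ({i, j} : Set I)) {s : R} (hs : Φ.InJ {i, j} s) (u : F) :
    ∃ u', wp (D.nn · 1) ω * D.y i j s u * (wp (D.nn · 1) ω)⁻¹ = D.y i j (wp Φ.s ω • s) u' := by
  induction ω with
  | nil => exact ⟨u, by simp⟩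
  | cons k ω ih =>
    have h1 : ∀ k ∈ ω, k ∈ ({i, j} : Set I) := fun l hl => hω l (by simp [hl])
    obtain ⟨u₁, h2⟩ := ih h1
    obtain ⟨u₂, h3⟩ := D.nc (hω k (by simp)) 1 (hs.smul (RS.wp_mem_WJ h1)) u₁
    exact ⟨u₂, by rw [wp_cons, wp_cons, mul_smul, RS.s_smul, ← h3, ← h2]; group⟩

/-- the generators of the quotient -/
def f (i : I) : D.Nh ⧸ D.Hh.subgroupOf D.Nh := (⟨D.nn i 1, D.nn_mem i 1⟩ : D.Nh)

theorem mk_nn (i : I) (c : Fˣ) : ((⟨D.nn i c, D.nn_mem i c⟩ : D.Nh) : D.Nh ⧸ D.Hh.subgroupOf D.Nh) = D.f i :=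
  QuotientGroup.eq.2 (by simpa [Subgroup.mem_subgroupOf, nn_inv] using D.nn_mul_mem i (-c) 1)

theorem f_sq (i : I) : D.f i * D.f i = 1 := (QuotientGroup.eq_one_iff _).2 (D.nn_mul_mem i 1 1)

theorem wp_f (ω : List I) : wp D.f ω = ((⟨_, (D.word_mem ω).1⟩ : D.Nh) : D.Nh ⧸ D.Hh.subgroupOf D.Nh) := by
  induction ω with
  | nil => rfl
  | cons i ω ih => rw [wp_cons, ih]; rfl

theorem wp_f_eq_one {i j : I} (ω : List I) (hω : ∀ k ∈ ω, k ∈ ({i, j} : Set I)) (e : wp Φ.s ω = 1) : wp D.f ω = 1 := by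
  induction hn : ω.length using Nat.strong_induction_on generalizing ω with
  | _ n ih =>
  rcases List.eq_nil_or_concat' ω with rfl | ⟨ω, k, rfl⟩
  · rfl
  rw [wp_append, wp_singleton, mul_eq_one_iff_eq_inv, RS.s_inv] at e
  obtain ⟨ω₁, l, ω₂, rfl, h⟩ := RS.exists_split_word (k := k) ω (by rw [e]; simpa [Φ.rf_sim] using Φ.not_pos_neg_sim k)
  have h1 : ∀ k ∈ ω₂, k ∈ ({i, j} : Set I) := fun l hl => hω l (by simp [hl])
  have hk := hω k (by simp)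
  have hl := hω l (by simp)
  obtain ⟨c, hc⟩ := D.conj_nn (D.word_mem ω₂).2 h (fun b t => by
    obtain ⟨u, hu⟩ := D.word_conj h1 (CD.inJ_pm hk b) t
    rw [show wp Φ.s ω₂ • Φ.pm b k = Φ.pm b l by cases b <;> simp [CD.pm, RS.smul_neg', h], D.sim i j k hk,
      D.sim i j l hl] at hu
    exact ⟨u, hu⟩) 1
  have h2 : wp D.f ω₂ * D.f k = D.f l * wp D.f ω₂ := by
    rw [wp_f, ← D.mk_nn l c, f, ← QuotientGroup.mk_mul, ← QuotientGroup.mk_mul]
    congr 1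
    exact Subtype.ext (mul_inv_eq_iff_eq_mul.1 hc)
  have h3 := ih _ (by subst hn; simp) (ω₁ ++ ω₂) (fun k hk => hω k (by simp at hk ⊢; tauto)) (by
    rw [wp_append, wp_cons, RS.conj_of_smul_sim h, ← mul_assoc, mul_eq_right] at e
    rwa [wp_append]) rfl
  simp only [wp_append, wp_cons, wp_nil, mul_one, mul_assoc, h2] at h3 ⊢
  rwa [← mul_assoc (D.f l), f_sq, one_mul]

theorem mem_Hh {m : Γ} (hm : m ∈ D.Nh) (h : S.Acts (π m) 1) : m ∈ D.Hh := by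
  obtain ⟨φ, hφ⟩ := Φ.invGen.exists_hom Φ.exchange D.f D.f_sq fun i j => by
    rw [← wp_alt_two_mul]
    refine D.wp_f_eq_one (i := i) (j := j) _ ?_ (by rw [wp_alt_two_mul, pow_orderOf_eq_one])
    have : ∀ n i' j', i' ∈ ({i, j} : Set I) → j' ∈ ({i, j} : Set I) → ∀ k ∈ alt i' j' n, k ∈ ({i, j} : Set I) := by
      intro n
      induction n with
      | zero => simp [alt]
      | succ n ih => intro i' j' a b k hk; exact (List.mem_cons.1 hk).elim (· ▸ a) (ih _ _ b a k)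
    exact this _ _ _ (by simp) (by simp)
  have key : ∀ m (hm : m ∈ D.Nh), ∃ w, S.Acts (π m) w ∧ φ w = (⟨m, hm⟩ : D.Nh) := fun m hm => by
    induction hm using Subgroup.closure_induction with
    | mem g hg => obtain ⟨i, c, rfl⟩ := hg; exact ⟨_, D.map_nn i c ▸ St.acts_n i c, (hφ i).trans (D.mk_nn i c).symm⟩
    | one => exact ⟨1, by simpa using St.acts_one, map_one _⟩
    | mul g g' _ _ h1 h2 =>
      obtain ⟨w, a, b⟩ := h1
      obtain ⟨w', a', b'⟩ := h2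
      exact ⟨_, map_mul π g g' ▸ a.mul a', by rw [map_mul, b, b']; rfl⟩
    | inv g _ h1 =>
      obtain ⟨w, a, b⟩ := h1
      exact ⟨_, map_inv π g ▸ a.inv, by rw [map_inv, b]; rfl⟩
  obtain ⟨w, a, b⟩ := key m hm
  rw [a.unique h, map_one] at b
  exact Subgroup.mem_subgroupOf.1 ((QuotientGroup.eq_one_iff (⟨m, hm⟩ : D.Nh)).1 b.symm)

theorem exists_m (i j : I) {w : Φ.W} (hw : w ∈ Φ.WJ {i, j}) : ∃ m ∈ D.Nh, S.Acts (π m) w ∧
    ∀ s, Φ.InJ {i, j} s → ∀ u, ∃ u', m * D.y i j s u * m⁻¹ = D.y i j (w • s) u' := by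
  obtain ⟨ω, h, -, rfl⟩ := RS.exists_red_of_mem_WJ hw
  exact ⟨_, (D.word_mem ω).1, (D.word_mem ω).2, fun s hs u => D.word_conj h hs u⟩

theorem exists_m' (w : Φ.W) : ∃ m ∈ D.Nh, S.Acts (π m) w := by
  obtain ⟨ω, rfl⟩ := Φ.invGen.gen w
  exact ⟨_, D.word_mem ω⟩

theorem key {w : Φ.W} {m : Γ} (hm : m ∈ D.Nh) (hw : S.Acts (π m) w) {i j : I} (e : w • Φ.sim i = Φ.sim j) (t : F) :
    ∃ t', m * D.z true i t * m⁻¹ = D.z true j t' := by
  induction hn : len Φ.s w using Nat.strong_induction_on generalizing w m i t with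
  | _ n ih =>
  by_cases h : ∀ k, Φ.Pos (w • Φ.sim k)
  · obtain rfl := RS.eq_one_of_pos h
    obtain rfl := Φ.sim_inj ((one_smul _ _).symm.trans e)
    exact D.conj_z (D.mem_Hh hm hw) _ _ _
  push Not at h
  obtain ⟨k, hk⟩ := h
  obtain ⟨u, hu, h1⟩ := Set.Finite.exists_minimalFor (fun u => len Φ.s (w * u)) (Φ.WJ {i, k} : Set Φ.W)
    (Set.toFinite _) ⟨1, one_mem _⟩
  have h2 : ∀ u' ∈ Φ.WJ {i, k}, len Φ.s (w * u) ≤ len Φ.s (w * u') := fun u' h => by_contra fun a => a (h1 h (not_le.1 a).le)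
  obtain ⟨l, hl, h3⟩ := RS.eq_sim_of_smul (J := {i, k}) (w := w * u) (r := u⁻¹ • Φ.sim i) (i := j) (fun l hl => by_contra fun a => by
    have := h2 _ (mul_mem hu (RS.s_mem_WJ hl))
    have := RS.len_mul_of_neg a
    simp only [mul_assoc] at *
    omega) ((RS.inJ_sim.2 (by simp)).smul (inv_mem hu)) (by simp [mul_smul, e])
  obtain ⟨m', a1, a2, a3⟩ := D.exists_m i k (inv_mem hu)
  obtain ⟨t₁, a4⟩ := a3 _ (CD.inJ_pm (i := i) (by simp) true) t
  rw [D.sim i k i (by simp), show u⁻¹ • Φ.pm true i = Φ.pm true l from h3, D.sim i k l hl] at a4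
  obtain ⟨t₂, a5⟩ := ih _ (by
    have := h2 _ (RS.s_mem_WJ (j := k) (by simp))
    have := RS.len_mul_of_neg hk
    omega) (mul_mem hm (inv_mem a1)) (w := w * u) (by simpa using hw.mul a2.inv) (i := l) (by simp [← h3, mul_smul, e]) t₁ rfl
  exact ⟨t₂, by rw [← a5, z, z, ← a4]; group⟩

theorem exists_rel_aux : ∃ y : R → F → Γ, (∀ r t, π (y r t) = S.x r t) ∧ (∀ r t u, y r t * y r u = y r (t + u)) ∧
    (∀ m ∈ D.Nh, ∀ w, S.Acts (π m) w → ∀ r t, ∃ t', m * y r t * m⁻¹ = y (w • r) t') ∧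
    ∀ i j r, Φ.InJ {i, j} r → y r = D.y i j r := by
  have h1 : ∀ r, ∃ m ∈ D.Nh, ∃ i w, S.Acts (π m) w ∧ w • Φ.sim i = r ∧ ∃ c : Fˣ,
      ∀ t, π (m * D.z true i (c * t) * m⁻¹) = S.x r t := fun r => by
    obtain ⟨w, i, rfl⟩ := RS.exists_smul_sim (Φ := Φ.toRS) r
    obtain ⟨m, a, χ, b, c⟩ := D.exists_m' w
    exact ⟨m, a, i, w, ⟨χ, b, c⟩, rfl, (χ (Φ.sim i))⁻¹, fun t => by simp [map_z, CD.pm, c]⟩
  choose m h1 i w h2 h3 c h4 using h1
  have h5 : ∀ m' ∈ D.Nh, ∀ j w', S.Acts (π m') w' → ∀ t, ∃ t', m' * D.z true j t * m'⁻¹ =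
      m (w' • Φ.sim j) * D.z true (i (w' • Φ.sim j)) (c (w' • Φ.sim j) * t') * (m (w' • Φ.sim j))⁻¹ := fun m' a j w' b t => by
    obtain ⟨t', e⟩ := D.key (mul_mem (inv_mem (h1 (w' • Φ.sim j))) a) (w := (w (w' • Φ.sim j))⁻¹ * w')
      (by simpa using (h2 _).inv.mul b) (i := j) (by rw [mul_smul, inv_smul_eq_iff, h3]) t
    exact ⟨(c (w' • Φ.sim j))⁻¹ * t', by
      rw [← mul_assoc (c _ : F), ← Units.val_mul, mul_inv_cancel, Units.val_one, one_mul, ← e]; group⟩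
  refine ⟨_, h4, fun r t u => ?_, fun m' a w' b r t => ?_, fun j k r hr => funext fun t => ?_⟩
  · rw [mul_add, z, ← (D.rel _ _).add _ (CD.inJ_pm (by simp) true)]; group
  · obtain ⟨t', e⟩ := h5 _ (mul_mem a (h1 r)) (i r) (w' * w r) (by simpa using b.mul (h2 r)) (c r * t)
    rw [mul_smul, h3] at e
    exact ⟨t', by rw [← e]; group⟩
  · obtain ⟨v, a1, l, a2, rfl⟩ := RS.exists_smul_sim_of_inJ hr
    obtain ⟨m', b1, b2, b3⟩ := D.exists_m j k a1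
    obtain ⟨t₁, e⟩ := D.key (mul_mem (inv_mem b1) (h1 (v • Φ.sim l))) (w := v⁻¹ * w (v • Φ.sim l))
      (by simpa using b2.inv.mul (h2 _)) (j := l) (by rw [mul_smul, h3, inv_smul_smul]) (c (v • Φ.sim l) * t)
    obtain ⟨t₂, e'⟩ := b3 _ (CD.inJ_pm a2 true) t₁
    rw [D.sim j k l a2, ← z, ← e] at e'
    have e'' : m (v • Φ.sim l) * D.z true (i (v • Φ.sim l)) (c (v • Φ.sim l) * t) * (m (v • Φ.sim l))⁻¹ =
        D.y j k (v • Φ.sim l) t₂ :=
      Eq.trans (by group) e'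
    have := congrArg π e''
    rw [h4, D.map j k _ hr] at this
    rw [e'', St.x_inj this]

theorem exists_rel : ∃ y : R → F → Γ, Φ.Rel y ∧ ∀ i j r, Φ.InJ {i, j} r → y r = D.y i j r := by
  obtain ⟨y, h1, h2, h3, h4⟩ := D.exists_rel_aux
  refine ⟨y, ⟨h2, fun r s t u e1 e2 => ?_⟩, h4⟩
  obtain ⟨w, i, j, a1, a2⟩ := RS.exists_rank_two (Φ := Φ.toRS) r s
  obtain ⟨m, b1, b2⟩ := D.exists_m' w
  obtain ⟨f, c1, c2⟩ := RS.exists_fn_pos e2
  obtain ⟨g, hg⟩ := Φ.exists_fn_smul f w⁻¹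
  have key : ∀ k t, Φ.InJ {i, j} (w • k) → 0 < Φ.fn f k →
      y k t ∈ (Wy (D.y i j) {r | Φ.InJ {i, j} r ∧ 0 < Φ.fn g r}).comap (MulAut.conj m).toMonoidHom := fun k t a b => by
    obtain ⟨t', e⟩ := h3 m b1 w b2 k t
    rw [h4 i j _ a] at e
    rw [Subgroup.mem_comap, MulEquiv.coe_toMonoidHom, MulAut.conj_apply, e]
    exact mem_Wy (by exact ⟨a, by simpa [hg]⟩) t'
  refine (MulAut.conj m).injective ((D.rel i j).eq_of (D.map i j) (RS.unip_inJ g _) (fun _ h => h.1)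
    (Subgroup.mem_comap.1 (mul_mem (key _ _ a2 c2) (key _ _ a1 c1)))
    (Subgroup.mem_comap.1 (mul_mem (mul_mem (key _ _ a1 c1) (key _ _ a2 c2)) (list_prod_mem ?_))) ?_)
  · simp only [List.mem_map]
    rintro _ ⟨c, hc, rfl⟩
    have : Φ.Comb c.1 r s := ⟨_, _, Φ.ct_rv r s c hc⟩
    exact key _ _ ((this.smul w).inJ a1 a2) ((RS.unip_fn f).closed r c1 s c2 _ this)
  · simp only [MulEquiv.coe_toMonoidHom, MulAut.conj_apply]
    simp only [map_mul, h1, S.comm r s t u e1 e2, map_list_prod, List.map_map, Function.comp_def]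

end CTD

theorem CD.RelOn.prod {A : Set R} {y : R → F → Γ} {x : R → F → G} (h : Φ.RelOn A y) (h' : Φ.RelOn A x) :
    Φ.RelOn A fun r t => (y r t, x r t) :=
  ⟨fun r hr t u => Prod.ext (h.add r hr t u) (h'.add r hr t u), fun r hr s hs t u a b => Prod.ext
    ((h.comm r hr s hs t u a b).trans (congrArg _ 
      (.trans (by rw [List.map_map]; rfl) (map_list_prod (MonoidHom.fst Γ G) _).symm)))
    ((h'.comm r hr s hs t u a b).trans (congrArg _ 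
      (.trans (by rw [List.map_map]; rfl) (map_list_prod (MonoidHom.snd Γ G) _).symm)))⟩

theorem CD.Rel.relOn {y : R → F → Γ} (h : Φ.Rel y) (A : Set R) : Φ.RelOn A y :=
  ⟨fun r _ => h.add r, fun r _ s _ => h.comm r s⟩

/-- the Curtis–Tits theorem -/
theorem curtis_tits (ad : Adj Φ F) (hw : Φ.Wit2) (y : I → I → R → F → Γ) (h1 : ∀ i j, Φ.RelOn {r | Φ.InJ {i, j} r} (y i j))
    (h2 : ∀ i j, ∀ k ∈ ({i, j} : Set I), ∀ b, y i j (Φ.pm b k) = y k k (Φ.pm b k)) :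
    ∃ z : R → F → Γ, Φ.Rel z ∧ ∀ i j r, Φ.InJ {i, j} r → z r = y i j r := by
  obtain ⟨z, a, b⟩ := CTD.exists_rel (S := ad.st) (π := MonoidHom.snd Γ _) ⟨fun i j r t => (y i j r t, ad.st.x r t),
    fun _ _ _ _ _ => rfl, fun i j => (h1 i j).prod (ad.st.rel.relOn _), fun i j k hk b => by rw [h2 i j k hk], hw⟩
  exact ⟨_, a.map (MonoidHom.fst _ _), fun i j r hr => by rw [b i j r hr]; rfl⟩

end Cfsg.Agent.Chev
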