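import Cfsg.Agent.Lib.Chev.CT2
import Cfsg.Prelude.Def_CurtisTits

set_option autoImplicit false
set_option linter.unusedSectionVars false
set_option linter.style.haveILetI false

/-! The Curtis–Tits theorem for the tabulated data. -/

namespace Cfsg.Agent.Chev

open Cfsg.Lie

variable {I R : Type} [Fintype I] [DecidableEq I] [Fintype R] [DecidableEq R]

theorem CD.wit2_of_one {Φ : CD I R} (h : ∀ i b, ∃ j, Φ.One (Φ.rf j (Φ.pm b i)) (Φ.pm (!b) j) (Φ.pm b i)) : Φ.Wit2 :=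
  fun i b => by
  obtain ⟨j, h1, h2, h3⟩ := h i b
  obtain ⟨f, a1, a2⟩ := RS.exists_fn_pos h2
  have b1 : Φ.InJ {i, j} (Φ.rf j (Φ.pm b i)) := (CD.inJ_pm (by simp) b).smul (RS.s_mem_WJ (j := j) (by simp))
  rcases h3 with h3 | h3
  exacts [⟨j, _, _, f, [], [], 1, 1, b1, CD.inJ_pm (by simp) _, h1, a1, a2, h3, by simp, by simp, by simp⟩,
    ⟨j, _, _, f, [], [], -1, 1, b1, CD.inJ_pm (by simp) _, h1, a1, a2, h3, by simp, by simp, by simp⟩]

section
variable {Φ : CD I R} {F : Type*} [Field F] {G G' : Type*} [Group G] [Group G'] {A : Set R} {y y' : R → F → G}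

theorem CD.RelOn.map (h : Φ.RelOn A y) (φ : G →* G') : Φ.RelOn A fun r t => φ (y r t) :=
  ⟨fun r hr t u => by rw [← map_mul, h.add r hr], fun r hr s hs t u h1 h2 => by
    rw [← map_mul, h.comm r hr s hs _ _ h1 h2]; simp [map_list_prod, Function.comp_def]⟩

theorem CD.RelOn.of_inj (φ : G →* G') (hφ : Function.Injective φ) (h : Φ.RelOn A fun r t => φ (y r t)) : Φ.RelOn A y :=
  ⟨fun r hr t u => hφ (by rw [map_mul, h.add r hr]), fun r hr s hs t u h1 h2 => hφ (by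
    rw [map_mul, h.comm r hr s hs _ _ h1 h2]; simp [map_list_prod, Function.comp_def])⟩

theorem CD.RelOn.congr (h : Φ.RelOn A y) (hA : Φ.Closed A) (e : ∀ r ∈ A, ∀ t, y' r t = y r t) : Φ.RelOn A y' :=
  ⟨fun r hr t u => by simp only [e r hr, h.add r hr], fun r hr s hs t u h1 h2 => by
    rw [List.map_congr_left fun q hq => e _ (hA r hr s hs _ ⟨_, _, Φ.ct_rv _ _ q hq⟩) _, e r hr, e s hs,
      h.comm r hr s hs t u h1 h2]⟩

open Classical in
theorem CD.RelOn.of_hom (h : Φ.RelOn A y) (hA : Φ.Closed A) {K : Subgroup G} (φ : K →* G') (hK : ∀ r ∈ A, ∀ t, y r t ∈ K) :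
    Φ.RelOn A fun r t => φ (if a : y r t ∈ K then ⟨_, a⟩ else 1) :=
  (CD.RelOn.of_inj K.subtype K.subtype_injective (h.congr hA fun r hr t => by simp [hK r hr t])).map φ

end

theorem wit2_of_mem {D : ChevalleyDatum} (hD : D ∈ [chevD4, chevF4, chevE6, chevE7, chevE8]) :
    ∃ c, ∃ h : Checked D c, h.toCD.Wit2 := by
  simp only [List.mem_cons, List.not_mem_nil, or_false] at hD
  rcases hD with rfl | rfl | rfl | rfl | rfl
  exacts [⟨_, checkedD4, CD.wit2_of_one (by decide +kernel)⟩, ⟨_, checkedF4, CD.wit2_of_one (by decide +kernel)⟩,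
    ⟨_, checkedE6, CD.wit2_of_one (by decide +kernel)⟩, ⟨_, checkedE7, CD.wit2_of_one (by decide +kernel)⟩,
    ⟨_, checkedE8, CD.wit2_of_one (by decide +kernel)⟩]

theorem Checked.inRankTwo_iff {D : ChevalleyDatum} {c : Cert} (h : Checked D c) {i j : Fin D.rank} {r : Fin D.nroots} :
    D.InRankTwoSub i j r ↔ h.toCD.InJ {i, j} r :=
  ⟨fun a k hk => RS.cv_eq_zero_iff.1 (a.2.2.2 k k.2 (fun e => hk (.inl (Fin.ext e))) fun e => hk (.inr (Fin.ext e))),
    fun a => ⟨r.2, i.2, j.2, fun k hk b c => (RS.cv_eq_zero_iff (Φ := h.toRS) (i := ⟨k, hk⟩)).2 (a _ (by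
      rintro (e | e)
      exacts [b (congrArg Fin.val e), c (congrArg Fin.val e)]))⟩⟩

end Cfsg.Agent.Chev
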