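import Cfsg.Agent.Lib.Chev.Tab

set_option autoImplicit false

/-! Certificates for the tabulated Chevalley data and the Boolean checks run by the kernel. -/

namespace Cfsg.Agent.Chev

open Cfsg.Lie Matrix

/-- evaluate `n` before passing it on -/
noncomputable def force {α : Type} (n : ℕ) (f : ℕ → α) : α :=
  Nat.rec (f 0) (fun m _ => f (Nat.succ m)) n

@[simp] theorem force_eq {α : Type} (n : ℕ) (f : ℕ → α) : force n f = f n := by
  cases n <;> rfl

noncomputable def allLt (n : ℕ) (p : ℕ → Bool) : Bool :=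
  Nat.rec true (fun m b => Bool.rec false b (p m)) n

@[simp] theorem allLt_iff (n : ℕ) (p : ℕ → Bool) : allLt n p = true ↔ ∀ i < n, p i = true := by
  induction n with
  | zero => simp [allLt]
  | succ n ih =>
    have : allLt (n + 1) p = Bool.rec false (allLt n p) (p n) := rfl
    rw [this, Nat.forall_lt_succ_right, ← ih]
    cases p n <;> simp

noncomputable def sumLt (n : ℕ) (f : ℕ → ℤ) : ℤ := Nat.rec (Int.ofNat 0) (fun m b => Int.add b (f m)) n

@[simp] theorem sumLt_eq (n : ℕ) (f : ℕ → ℤ) : sumLt n f = ∑ i ∈ Finset.range n, f i := by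
  induction n with
  | zero => rfl
  | succ n ih => rw [Finset.sum_range_succ, ← ih]; rfl

noncomputable def band (a b : Bool) : Bool := Bool.rec false b a
noncomputable def bimp (a b : Bool) : Bool := Bool.rec true b a
noncomputable def bor (a b : Bool) : Bool := Bool.rec b true a

@[simp] theorem band_iff (a b : Bool) : band a b = true ↔ a = true ∧ b = true := by
  cases a <;> simp [band]
@[simp] theorem bimp_iff (a b : Bool) : bimp a b = true ↔ (a = true → b = true) := by
  cases a <;> simp [bimp]
@[simp] theorem bor_iff (a b : Bool) : bor a b = true ↔ a = true ∨ b = true := by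
  cases a <;> simp [bor]

noncomputable def intBeq (a b : ℤ) : Bool :=
  Int.rec (fun m => Int.rec (fun n => Nat.beq m n) (fun _ => false) b)
    (fun m => Int.rec (fun _ => false) (fun n => Nat.beq m n) b) a

@[simp] theorem intBeq_iff (a b : ℤ) : intBeq a b = true ↔ a = b := by
  cases a <;> cases b <;> simp [intBeq]

noncomputable def nonneg (a : ℤ) : Bool := Int.rec (fun _ => true) (fun _ => false) a

@[simp] theorem nonneg_iff (a : ℤ) : nonneg a = true ↔ 0 ≤ a := by
  cases a <;> simp [nonneg]

/-- the `k`-th digit in base `2 ^ b` -/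
def look (T b k : ℕ) : ℕ := Nat.mod (Nat.shiftRight T (Nat.mul b k)) (Nat.pow 2 b)

noncomputable def sg (b : ℕ) : ℤ := Nat.rec (Int.ofNat 1) (fun _ _ => Int.negSucc 0) b

theorem sg_cases (b : ℕ) : sg b = 1 ∨ sg b = -1 := by
  cases b
  · left; rfl
  · right; rfl

noncomputable def decT (t : ℕ) : ℕ × ℤ :=
  (Nat.pred (Nat.mod t 256), Nat.rec (Int.ofNat (Nat.div t 512))
    (fun _ _ => Int.negSucc (Nat.pred (Nat.div t 512))) (Nat.mod (Nat.div t 256) 2))

/-- decoding of a chain entry -/
noncomputable def dec (c : ℕ) : List (ℕ × ℤ) :=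
  Nat.rec [] (fun _ _ => decT (Nat.mod c 2048) ::
    Nat.rec [] (fun _ _ => decT (Nat.mod (Nat.div c 2048) 2048) ::
      Nat.rec [] (fun _ _ => [decT (Nat.div c 4194304)]) (Nat.div c 4194304)) (Nat.div c 2048)) c

noncomputable def lbeq (L : List (ℕ × ℤ)) : List (ℕ × ℤ) → Bool :=
  List.rec (fun L' => List.rec true (fun _ _ _ => false) L')
    (fun p _ ih L' => List.rec false (fun p' L'' _ =>
      Bool.rec false (Bool.rec false (ih L'') (intBeq p.2 p'.2)) (Nat.beq p.1 p'.1)) L') L

theorem lbeq_cons (p p' : ℕ × ℤ) (L L' : List (ℕ × ℤ)) : lbeq (p :: L) (p' :: L') =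
    band (Nat.beq p.1 p'.1) (band (intBeq p.2 p'.2) (lbeq L L')) := rfl

@[simp] theorem lbeq_iff (L L' : List (ℕ × ℤ)) : lbeq L L' = true ↔ L = L' := by
  induction L generalizing L' with
  | nil => cases L' <;> simp [lbeq]
  | cons p L ih =>
    cases L' with
    | nil => simp [lbeq]
    | cons p' L' => rw [lbeq_cons]; simp [ih, Prod.ext_iff, and_assoc]

noncomputable def trLr (w : ℕ → ℕ) (η : ℕ → ℤ) (er : ℤ) (L : List (ℕ × ℤ)) : ℤ → List (ℕ × ℤ) :=
  List.rec (fun _ => []) (fun p _ ih acc =>
    (w p.1, Int.mul (Int.mul p.2 (η p.1)) (Int.mul acc er)) :: ih (Int.mul acc er)) L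

theorem trLr_eq (w : ℕ → ℕ) (η : ℕ → ℤ) (er : ℤ) (L : List (ℕ × ℤ)) (acc : ℤ) :
    trLr w η er L acc = trL w η er acc L := by
  induction L generalizing acc with
  | nil => rfl
  | cons p L ih => rw [trL, ← ih]; rfl

/-- the chain entry read off the packed table -/
noncomputable def ceP (B T r s : ℕ) : List (ℕ × ℤ) :=
  dec (look (look T (Nat.mul B 256) r) B (Nat.succ s))

noncomputable def etaP (ei u : ℕ) : ℤ := sg (look ei 1 u)

section SymCheck
noncomputable def sc4 (wi ei er s e1 e2 : ℕ) : Bool :=
  lbeq (dec e2) (trLr (look wi 8) (etaP ei) (sg er) (dec e1) (etaP ei s))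
noncomputable def sc3 (B wi ei er row2 s e1 : ℕ) : Bool :=
  force (look row2 B (Nat.succ (look wi 8 s))) (sc4 wi ei er s e1)
noncomputable def sc2' (B wi ei er row2 s e1 : ℕ) : Bool :=
  Nat.rec true (fun _ _ => sc3 B wi ei er row2 s e1) e1
noncomputable def sc2 (B wi ei er row1 row2 s : ℕ) : Bool :=
  force (look row1 B (Nat.succ s)) (sc2' B wi ei er row2 s)
noncomputable def sc1 (n B T T' wi ei r : ℕ) : Bool :=
  force (look T (Nat.mul B 256) r) fun row1 => force (look wi 8 r) fun wr =>
    force (look T' (Nat.mul B 256) wr) fun row2 => force (look ei 1 r) fun er =>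
      allLt n (sc2 B wi ei er row1 row2)

/-- the signed map `wi`, `ei` carries the non-empty entries of `T` to entries of `T'` -/
noncomputable def symCheck (n B T T' wi ei : ℕ) : Bool :=
  force B fun B => force T fun T => force T' fun T' => force wi fun wi => force ei fun ei =>
    allLt n (sc1 n B T T' wi ei)

theorem symCheck_spec {n B T T' wi ei : ℕ} (h : symCheck n B T T' wi ei = true) {r s : ℕ}
    (hr : r < n) (hs : s < n) (hne : ceP B T r s ≠ []) :
    ceP B T' (look wi 8 r) (look wi 8 s) =
      trL (look wi 8) (etaP ei) (etaP ei r) (etaP ei s) (ceP B T r s) := by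
  simp only [symCheck, force_eq, allLt_iff, sc1, sc2] at h
  have h1 := h r hr s hs
  unfold ceP at hne ⊢
  generalize look (look T (Nat.mul B 256) r) B (Nat.succ s) = e at *
  cases e with
  | zero => exact absurd rfl hne
  | succ e =>
    have h2 : sc3 B wi ei (look ei 1 r) (look T' (Nat.mul B 256) (look wi 8 r)) s (e + 1) = true := h1
    simp only [sc3, force_eq, sc4, lbeq_iff, trLr_eq] at h2
    exact h2
end SymCheck

section Walk

noncomputable def genStep (B row m : ℕ) (acc : List (ℕ × ℕ)) : List (ℕ × ℕ) :=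
  force (look row B (Nat.succ m)) fun e => Nat.rec acc (fun _ _ => (m, e) :: acc) e

noncomputable def genRow (B row n : ℕ) : List (ℕ × ℕ) → List (ℕ × ℕ) :=
  Nat.rec (fun acc => acc) (fun m ih acc => ih (genStep B row m acc)) n

noncomputable def rowBeq (L : List (ℕ × Array (ℕ × ℤ))) : List (ℕ × ℕ) → Bool :=
  List.rec (fun L' => List.rec true (fun _ _ _ => false) L')
    (fun p _ ih L' => List.rec false (fun p' L'' _ =>
      Bool.rec false (Bool.rec false (ih L'') (lbeq p.2.toList (dec p'.2))) (Nat.beq p.1 p'.1)) L') L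

noncomputable def walkRow (n B T r : ℕ) (a : Array (ℕ × Array (ℕ × ℤ))) : Bool :=
  force (look T (Nat.mul B 256) r) fun row => rowBeq a.toList (genRow B row n [])

/-- all entries of a list satisfy a predicate depending on the position -/
noncomputable def allIdx {α : Type} (p : ℕ → α → Bool) (L : List α) : ℕ → ℕ → Bool :=
  List.rec (fun k n => Nat.beq k n)
    (fun a _ ih k n => Bool.rec false (force (Nat.succ k) fun k' => ih k' n) (p k a)) L

theorem allIdx_spec {α : Type} {p : ℕ → α → Bool} {L : List α} {k n : ℕ}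
    (h : allIdx p L k n = true) : k + L.length = n ∧ ∀ i (hi : i < L.length), p (k + i) L[i] = true := by
  induction L generalizing k with
  | nil => simpa [allIdx] using h
  | cons a L ih =>
    have h1 : band (p k a) (force (Nat.succ k) fun k' => allIdx p L k' n) = true := h
    rw [band_iff, force_eq] at h1
    obtain ⟨h2, h3⟩ := ih h1.2
    refine ⟨by simp at h2 ⊢; omega, fun i hi => ?_⟩
    cases i with
    | zero => simpa using h1.1
    | succ i =>
      have := h3 i (by simpa using hi)
      rw [show k + (i + 1) = k.succ + i by omega]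
      simpa using this

theorem allIdx_getD {α : Type} {p : ℕ → α → Bool} {a : Array α} {n : ℕ}
    (h : allIdx p a.toList 0 n = true) (d : α) {r : ℕ} (hr : r < n) : p r (a.getD r d) = true := by
  obtain ⟨h1, h2⟩ := allIdx_spec h
  simp only [Array.length_toList, zero_add] at h1 h2
  have := h2 r (by omega)
  simpa [Array.getD, show r < a.size by omega] using this

theorem genRow_eq (B row n : ℕ) (acc : List (ℕ × ℕ)) : genRow B row n acc =
    ((List.range n).filter (fun s => look row B (Nat.succ s) ≠ 0)).map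
      (fun s => (s, look row B (Nat.succ s))) ++ acc := by
  induction n generalizing acc with
  | zero => rfl
  | succ n ih =>
    have : genRow B row (n + 1) acc = genRow B row n (genStep B row n acc) := rfl
    rw [this, ih, List.range_succ, List.filter_append, List.map_append, List.append_assoc]
    congr 1
    simp only [genStep, force_eq]
    by_cases h : look row B (Nat.succ n) = 0
    · rw [List.filter_cons_of_neg (by simpa using h), h]; rfl
    · rw [List.filter_cons_of_pos (by simpa using h)]
      obtain ⟨e, he⟩ := Nat.exists_eq_succ_of_ne_zero h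
      simp only [List.filter_nil, List.map_cons, List.map_nil]
      rw [he]; rfl

theorem rowBeq_spec {L : List (ℕ × Array (ℕ × ℤ))} {L' : List (ℕ × ℕ)} (h : rowBeq L L' = true) :
    L.map (fun e => (e.1, e.2.toList)) = L'.map fun e => (e.1, dec e.2) := by
  induction L generalizing L' with
  | nil => cases L' <;> simp_all [rowBeq]
  | cons p L ih =>
    cases L' with
    | nil => simp [rowBeq] at h
    | cons p' L' =>
      have h1 : band (Nat.beq p.1 p'.1) (band (lbeq p.2.toList (dec p'.2)) (rowBeq L L')) = true := h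
      simp only [band_iff, Nat.beq_eq, lbeq_iff] at h1
      simp [ih h1.2.2, h1.1, h1.2.1]

/-- the chain table of `D` is the unpacking of `T` -/
noncomputable def chainCheck (D : ChevalleyDatum) (B T : ℕ) : Bool :=
  force B fun B => force T fun T => force D.nroots fun n =>
    allIdx (walkRow n B T) D.chain.toList 0 n

theorem chainCheck_spec {D : ChevalleyDatum} {B T : ℕ} (h : chainCheck D B T = true) :
    KeysNodup D ∧ ∀ r < D.nroots, ∀ s < D.nroots, D.chainEntry r s = ceP B T r s := by
  simp only [chainCheck, force_eq] at h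
  have key : ∀ r < D.nroots, (D.chain.getD r #[]).toList.map (fun e => (e.1, e.2.toList)) =
      ((List.range D.nroots).filter
        (fun s => look (look T (Nat.mul B 256) r) B (Nat.succ s) ≠ 0)).map fun s => (s, ceP B T r s) := by
    intro r hr
    have := allIdx_getD h #[] hr
    simp only [walkRow, force_eq] at this
    rw [rowBeq_spec this, genRow_eq]
    simp [ceP]
  constructor
  · intro r hr
    have := congrArg (List.map Prod.fst) (key r hr)
    simp only [List.map_map, Function.comp_def] at this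
    rw [show (fun x : ℕ × Array (ℕ × ℤ) => x.1) = Prod.fst from rfl] at this
    rw [this]
    simpa using List.nodup_range.filter _
  · intro r hr s hs
    have h1 : D.chainEntry r s = ((((D.chain.getD r #[]).toList.map
        (fun e => (e.1, e.2.toList))).find? (fun e => e.1 = s)).map Prod.snd).getD [] := by
      unfold ChevalleyDatum.chainEntry
      rw [List.find?_map]
      have : ((fun e : ℕ × List (ℕ × ℤ) => decide (e.1 = s)) ∘
        fun e : ℕ × Array (ℕ × ℤ) => (e.1, e.2.toList)) = fun e => decide (e.1 = s) := rfl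
      rw [this]
      cases (D.chain.getD r #[]).toList.find? (fun e => e.1 = s) <;> simp
    rw [h1, key r hr, List.find?_map]
    by_cases h0 : look (look T (Nat.mul B 256) r) B (Nat.succ s) = 0
    · have : ceP B T r s = [] := by unfold ceP; rw [h0]; rfl
      rw [this, List.find?_eq_none.2]
      · simp
      · intro x hx
        simp only [List.mem_filter] at hx
        simp only [Function.comp, decide_eq_true_eq]
        rintro rfl
        exact of_decide_eq_true hx.2 h0
    · cases h2 : List.find? ((fun e : ℕ × List (ℕ × ℤ) => decide (e.1 = s)) ∘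
        fun s => (s, ceP B T r s)) ((List.range D.nroots).filter
        (fun s => look (look T (Nat.mul B 256) r) B (Nat.succ s) ≠ 0)) with
      | none =>
        rw [List.find?_eq_none] at h2
        have := h2 s (List.mem_filter.2 ⟨List.mem_range.2 hs, decide_eq_true h0⟩)
        simp at this
      | some x =>
        have := List.find?_some h2
        simp only [Function.comp, decide_eq_true_eq] at this
        simp [this]

end Walk

/-- packing of the rows -/
noncomputable def packRows (b : ℕ) (L : List ℕ) : ℕ :=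
  List.rec 0 (fun a _ ih => Nat.add (Nat.shiftLeft ih b) a) L

/-- certificate -/
structure Cert where
  W : ℕ
  E : ℕ
  RV : ℕ
  CV : ℕ
  CA : ℕ
  L : ℕ
  B : ℕ
  T : ℕ
  wit : List (ℕ × ℕ × List ℤ)

noncomputable def nib (T k : ℕ) : ℤ := Int.subNatNat (look T 4 k) 8

namespace Cert
variable (c : Cert)
noncomputable def w (i s : ℕ) : ℕ := look (look c.W 2048 i) 8 s
noncomputable def η (i s : ℕ) : ℤ := etaP (look c.E 256 i) s
noncomputable def rv (r i : ℕ) : ℤ := nib c.RV (Nat.add (Nat.mul r 8) i)
noncomputable def cv (r i : ℕ) : ℤ := nib c.CV (Nat.add (Nat.mul r 8) i)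
noncomputable def ca (i s : ℕ) : ℤ := nib c.CA (Nat.add (Nat.mul i 256) s)
noncomputable def ln (r : ℕ) : ℤ := Int.ofNat (look c.L 2 r)
noncomputable def ce (r s : ℕ) : List (ℕ × ℤ) := ceP c.B c.T r s
end Cert

def ngP (n r : ℕ) : ℕ := Nat.sub (Nat.pred n) r

/-- the small tables of `D` are the unpackings of the certificate -/
noncomputable def tabCheck (D : ChevalleyDatum) (c : Cert) : Bool :=
  force D.nroots fun n => force D.rank fun l =>
  band (allIdx (fun r a => Nat.beq a (ngP n r)) D.negIdx.toList 0 n) <|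
  band (allIdx (fun r a => allIdx (fun i x => intBeq x (c.cv r i)) a.toList 0 l) D.coroot.toList 0 n) <|
  allIdx (fun i a => allIdx (fun s x => intBeq x (c.ca i s)) a.toList 0 n) D.cartanSR.toList 0 l

theorem tabCheck_spec {D : ChevalleyDatum} {c : Cert} (h : tabCheck D c = true) :
    (∀ r < D.nroots, D.neg r = ngP D.nroots r) ∧
    (∀ r < D.nroots, (D.coroot.getD r #[]).size = D.rank) ∧
    (∀ r < D.nroots, ∀ i < D.rank, cvN D r i = c.cv r i) ∧
    (∀ i < D.rank, ∀ s < D.nroots, D.cartan i s = c.ca i s) := by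
  simp only [tabCheck, force_eq, band_iff] at h
  obtain ⟨h1, h2, h3⟩ := h
  refine ⟨fun r hr => ?_, fun r hr => ?_, fun r hr i hi => ?_, fun i hi s hs => ?_⟩
  · exact Nat.eq_of_beq_eq_true (allIdx_getD h1 0 hr)
  · simpa using (allIdx_spec (allIdx_getD h2 #[] hr)).1
  · exact (intBeq_iff _ _).1 (allIdx_getD (allIdx_getD h2 #[] hr) 0 hi)
  · exact (intBeq_iff _ _).1 (allIdx_getD (allIdx_getD h3 #[] hi) 0 hs)

noncomputable def dl (i j : ℕ) (a : ℤ) : ℤ := Bool.rec (Int.ofNat 0) a (Nat.beq j i)

@[simp] theorem dl_eq (i j : ℕ) (a : ℤ) : dl i j a = if j = i then a else 0 := by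
  unfold dl
  by_cases h : j = i
  · rw [if_pos h, (Nat.beq_eq ▸ h : Nat.beq j i = true)]
  · rw [if_neg h, show Nat.beq j i = false from by
      rw [← Bool.not_eq_true, Nat.beq_eq]; exact h]; rfl

noncomputable def keyP (c : Cert) (l r : ℕ) : ℤ :=
  Nat.rec (Int.ofNat 0) (fun i b => Int.add (Int.mul b (Int.ofNat 64)) (c.rv r i)) l

/-- the root-system checks -/
noncomputable def rsCheck (l n : ℕ) (sim : ℕ → ℕ) (c : Cert) : Bool :=
  band (allLt l fun i => Nat.blt (sim i) n) <|
  band (allLt (Nat.pred n) fun r => nonneg (Int.sub (Int.sub (keyP c l (Nat.succ r)) (keyP c l r)) 1)) <|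
  band (allLt n fun r => band (bimp (Nat.beq (ngP n r) r) false) <| allLt l fun i =>
    band (intBeq (c.rv (ngP n r) i) (Int.neg (c.rv r i))) (intBeq (c.cv (ngP n r) i) (Int.neg (c.cv r i)))) <|
  band (allLt l fun i => allLt l fun j =>
    band (intBeq (c.rv (sim i) j) (dl i j 1)) <| band (intBeq (c.cv (sim i) j) (dl i j 1)) <|
      intBeq (Int.mul (c.ln (sim i)) (c.ca i (sim j))) (Int.mul (c.ln (sim j)) (c.ca j (sim i)))) <|
  band (allLt l fun i => allLt n fun r =>
    intBeq (c.ca i r) (sumLt l fun j => Int.mul (c.rv r j) (c.ca i (sim j)))) <|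
  band (allLt l fun i => allLt n fun r => force (c.w i r) fun wr =>
    band (Nat.blt wr n) <| band (intBeq (c.ln wr) (c.ln r)) <|
      allLt l fun j => intBeq (c.rv wr j) (Int.sub (c.rv r j) (dl i j (c.ca i r)))) <|
  allLt n fun r =>
    band (bor (allLt l fun i => nonneg (c.rv r i)) (allLt l fun i => nonneg (Int.neg (c.rv r i)))) <|
    band (nonneg (Int.sub (c.ln r) 1)) <|
    band (allLt l fun i => intBeq (Int.mul (c.ln r) (c.cv r i)) (Int.mul (c.ln (sim i)) (c.rv r i))) <|
      intBeq (sumLt l fun i => Int.mul (c.cv r i) (c.ca i r)) 2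

/-- `reflectRoot` computed from the certificate -/
noncomputable def reflP (n p : ℕ) (c : Cert) (i s : ℕ) : ℕ :=
  if s = p then ngP n p
  else if s = ngP n p then p
  else if 0 < c.ca i s then (((c.ce (ngP n p) s)[(c.ca i s).toNat - 1]?).map Prod.fst).getD s
  else if c.ca i s < 0 then (((c.ce p s)[(-c.ca i s).toNat - 1]?).map Prod.fst).getD s
  else s

noncomputable def etaCheck (l n : ℕ) (sim : ℕ → ℕ) (c : Cert) : Bool :=
  allLt l fun i => force (sim i) fun p =>
    band (intBeq (c.η i p) (-1)) <| band (intBeq (c.η i (ngP n p)) (-1)) <|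
    allLt n fun s => band (Nat.beq (reflP n p c i s) (c.w i s)) <|
      band (intBeq (Int.mul (c.η i s) (c.η i (c.w i s))) (sg (Nat.mod (c.ca i s).natAbs 2))) <|
        intBeq (c.η i (ngP n s)) (c.η i s)

noncomputable def colP (l n : ℕ) (c : Cert) : ℕ → ℕ → List (ℕ × ℤ × ℕ) :=
  colG l n (ngP n) c.ca c.cv c.ce

/-- the column of the signed permutation matrix of the `i`-th reflection -/
noncomputable def symVec (l : ℕ) (p : ℕ) (c : Cert) (i k : ℕ) : PVec :=
  if k < l then [(k, 1, 0, 0), (i, - c.ca k p, 0, 0)] else [(l + c.w i (k - l), c.η i (k - l), 0, 0)]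

noncomputable def nCheck (l n : ℕ) (sim : ℕ → ℕ) (c : Cert) : Bool :=
  allLt l fun i => force (sim i) fun p => allLt (Nat.add l n) fun k =>
    vecEq (applyW (colP l n c) [(p, [(1, 0, 0)]), (ngP n p, [(-1, 0, 0)]), (p, [(1, 0, 0)])] [(k, 1, 0, 0)])
      (symVec l p c i k)

noncomputable def domB (l : ℕ) (c : Cert) (r : ℕ) : Bool := allLt l fun i => Nat.ble (c.w i r) r

noncomputable def dom2B (l : ℕ) (c : Cert) (r s : ℕ) : Bool :=
  allLt l fun i => bimp (Nat.beq (c.w i r) r) (Nat.ble (c.w i s) s)

def commPol (D : ChevalleyDatum) (r s : ℕ) : List (ℕ × Pol) :=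
  (D.commTerms r s).map fun c => (c.1, [(c.2.1 * (-1) ^ c.2.2.1, c.2.2.1, c.2.2.2)])

noncomputable def relCheck (D : ChevalleyDatum) (l n : ℕ) (c : Cert) : Bool :=
  allLt n fun r => bimp (domB l c r) <|
    band (allLt (Nat.add l n) fun k =>
      vecEq (applyW (colP l n c) [(r, [(1, 1, 0)]), (r, [(1, 0, 1)])] [(k, 1, 0, 0)])
        (applyW (colP l n c) [(r, [(1, 1, 0), (1, 0, 1)])] [(k, 1, 0, 0)])) <|
    band (allLt n fun s => (c.ce r s).zipIdx.all fun q => band (Nat.blt q.1.1 n) <|
      allLt l fun i => intBeq (c.rv q.1.1 i) (Int.add (Int.mul (Int.ofNat (Nat.succ q.2)) (c.rv r i)) (c.rv s i))) <|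
    allLt n fun s => bimp (dom2B l c r s) <|
      band (allLt n fun u => bimp (allLt l fun i => intBeq (c.rv u i) (Int.add (c.rv r i) (c.rv s i)))
        (((c.ce r s)[0]?).map Prod.fst == some u)) <|
      bor (Nat.beq s r) <| bor (Nat.beq s (ngP n r)) <|
      allLt (Nat.add l n) fun k =>
        vecEq (applyW (colP l n c) [(s, [(1, 0, 1)]), (r, [(1, 1, 0)])] [(k, 1, 0, 0)])
          (applyW (colP l n c) ((r, [(1, 1, 0)]) :: (s, [(1, 0, 1)]) :: commPol D r s) [(k, 1, 0, 0)])

/-- transform of the commutator terms under a signed permutation -/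
def trC (w : ℕ → ℕ) (η : ℕ → ℤ) (er es : ℤ) (L : List (ℕ × ℤ × ℕ × ℕ)) : List (ℕ × ℤ × ℕ × ℕ) :=
  L.map fun c => (w c.1, c.2.1 * η c.1 * er ^ c.2.2.1 * es ^ c.2.2.2, c.2.2.1, c.2.2.2)

noncomputable def ctCheck (D : ChevalleyDatum) (l n : ℕ) (c : Cert) : Bool :=
  bor (allLt n fun r => bimp (domB l c r) <| allLt n fun s => Nat.ble (c.ce r s).length 2)
    (allLt l fun i => allLt n fun r => allLt n fun s =>
      D.commTerms (c.w i r) (c.w i s) == trC (c.w i) (c.η i) (c.η i r) (c.η i s) (D.commTerms r s))

/-- the root `p` occurs exactly once, with coefficient `±1`, in a commutator -/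
noncomputable def witB (D : ChevalleyDatum) (l n : ℕ) (c : Cert) (p : ℕ) (x : ℕ × ℕ × List ℤ) : Bool :=
  band ((D.commTerms x.1 x.2.1).filter (fun q => q.1 = p) |>.map (fun q => (q.2.1.natAbs, q.2.2.2)) |>
    fun L => L == [(1, 1)]) <|
  band (Nat.blt x.1 n) <| band (Nat.blt x.2.1 n) <|
  band (nonneg (Int.sub (sumLt l fun i => Int.mul (x.2.2.getD i 0) (c.rv x.1 i)) 1)) <|
  band (nonneg (Int.sub (sumLt l fun i => Int.mul (x.2.2.getD i 0) (c.rv x.2.1 i)) 1)) <|
  bimp (Nat.beq x.1 x.2.1) false

noncomputable def witCheck (D : ChevalleyDatum) (l n : ℕ) (c : Cert) : Bool :=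
  allLt l fun i => band (witB D l n c (D.simple i) (c.wit.getD (2 * i) (0, 0, [])))
    (witB D l n c (ngP n (D.simple i)) (c.wit.getD (2 * i + 1) (0, 0, [])))

/-- all the checks -/
structure Checked (D : ChevalleyDatum) (c : Cert) : Prop where
  tab : tabCheck D c = true
  chain : chainCheck D c.B c.T = true
  rs : rsCheck D.rank D.nroots D.simple c = true
  eta : etaCheck D.rank D.nroots D.simple c = true
  sym : ∀ i < D.rank, symCheck D.nroots c.B c.T c.T (look c.W 2048 i) (look c.E 256 i) = true
  n : nCheck D.rank D.nroots D.simple c = true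
  rel : relCheck D D.rank D.nroots c = true
  ct : ctCheck D D.rank D.nroots c = true
  wit : witCheck D D.rank D.nroots c = true

end Cfsg.Agent.Chev
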