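import Cfsg.Agent.Lib.Chev.SchurA

set_option autoImplicit false
set_option linter.unusedSectionVars false
set_option linter.style.haveILetI false

/-! The root systems of types `B` (`τ = 0`), `C` (`τ = 1`) and `D` (`τ = 2`). -/

namespace Cfsg.Agent.Chev

theorem li_opt {K M : Type*} [Ring K] [AddCommGroup M] [Module K M] {n : ℕ} {u : Fin (n + 1) → M} (hu : LinearIndependent K u)
    {v : Option (Fin n) → M} (hv : ∀ i, v (some i) = u i.castSucc - u i.succ) (P : Submodule K M) (hP : ∀ i, v (some i) ∈ P)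
    (hx : ∀ c : K, c • v none ∈ P → c = 0) : LinearIndependent K v := by
  refine Fintype.linearIndependent_iff.2 fun g hg => ?_
  rw [Fintype.sum_option] at hg
  have h := hx (g none) (by rw [eq_neg_of_add_eq_zero_left hg]; exact neg_mem (sum_mem fun i _ => P.smul_mem _ (hP i)))
  rintro (_ | i)
  · exact h
  · exact Fintype.linearIndependent_iff.1 (li_diff hu) (fun i => g (some i)) (by simpa [h, hv] using hg) i

namespace Cl

/-- signed Kronecker symbol -/
def dl (a b : ℤ) : ℤ := (if a = b then 1 else 0) - if a = -b then 1 else 0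
/-- the vector `ε_a` -/
def ev (n : ℕ) (a : ℤ) : Fin (n + 1) → ℤ := fun i => dl a (i + 1)
/-- `ε_a + ε_b` is a root -/
def okC (τ n : ℕ) (a b : ℤ) : Prop := -(n + 1 : ℤ) ≤ a ∧ a ≤ n + 1 ∧ -(n + 1 : ℤ) ≤ b ∧ b ≤ n + 1 ∧ a + b ≠ 0 ∧
  (a = b → τ = 1) ∧ (a = 0 → τ = 0) ∧ (b = 0 → τ = 0)
/-- the roots -/
abbrev RC (τ n : ℕ) := {p : ℤ × ℤ // okC τ n p.1 p.2 ∧ p.1 ≤ p.2}
/-- the coroot of `ε_a + ε_b` at `ε_x` -/
def prw (a b x : ℤ) : ℤ := if a = 0 ∨ b = 0 then 2 * (dl a x + dl b x) else if a = b then dl a x else dl a x + dl b x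
/-- the reflection in `ε_a + ε_b` -/
def rfw (a b x : ℤ) : ℤ := if a = 0 ∨ b = 0 then if x = a + b ∨ x = -(a + b) then -x else x else
  if x = a then -b else if x = b then -a else if x = -a then b else if x = -b then a else x

variable {τ n : ℕ}

noncomputable instance instFintypeRC : Fintype (RC τ n) := (Set.Finite.subset
  ((Set.finite_Icc (-(n + 1 : ℤ)) (n + 1)).prod (Set.finite_Icc (-(n + 1 : ℤ)) (n + 1)))
  (t := {p : ℤ × ℤ | okC τ n p.1 p.2 ∧ p.1 ≤ p.2}) fun _ h => ⟨⟨h.1.1, h.1.2.1⟩, h.1.2.2.1, h.1.2.2.2.1⟩).fintype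

/-- the root `ε_a + ε_b` -/
def mkC (a b : ℤ) (h : okC τ n a b) : RC τ n := ⟨(min a b, max a b), by grind [okC]⟩

theorem mkC_inj {a b c d : ℤ} {h : okC τ n a b} {h' : okC τ n c d} : mkC a b h = mkC c d h' ↔ a = c ∧ b = d ∨ a = d ∧ b = c := by
  simp only [mkC, Subtype.mk.injEq, Prod.mk.injEq]; omega
theorem okC.symm {a b : ℤ} (h : okC τ n a b) : okC τ n b a := by grind [okC]
theorem okC.neg {a b : ℤ} (h : okC τ n a b) : okC τ n (-a) (-b) := by grind [okC]
theorem mkC_comm {a b : ℤ} (h : okC τ n a b) : mkC a b h = mkC b a h.symm := mkC_inj.2 (by simp)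
theorem mkC_eq (r : RC τ n) : mkC r.1.1 r.1.2 r.2.1 = r := Subtype.ext (by simp [mkC, r.2.2])
@[elab_as_elim] theorem RC.ind {p : RC τ n → Prop} (h : ∀ a b h, p (mkC a b h)) (r : RC τ n) : p r := mkC_eq r ▸ h _ _ _

theorem ev_neg (a : ℤ) : ev n (-a) = - ev n a := funext fun i => by simp only [ev, Pi.neg_apply]; grind [dl]
theorem ev_zero : ev n 0 = 0 := funext fun i => by simp only [ev, Pi.zero_apply]; grind [dl]
theorem ev_succ (i : Fin (n + 1)) : ev n (i + 1) = Pi.single i 1 := funext fun j => by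
  simp only [ev, Pi.single_apply, Fin.ext_iff]; grind [dl]
theorem ev_dot {a : ℤ} (h : -(n + 1 : ℤ) ≤ a) (h' : a ≤ n + 1) (b : ℤ) : ev n a ⬝ᵥ ev n b = dl a b := by
  have : ∀ a : ℤ, 0 < a → a ≤ n + 1 → ev n a ⬝ᵥ ev n b = dl a b := fun a h h' => by
    obtain ⟨i, rfl⟩ : ∃ i : Fin (n + 1), a = i + 1 := ⟨⟨(a - 1).toNat, by omega⟩, by simp; omega⟩
    rw [ev_succ, single_dotProduct, ev]; grind [dl]
  rcases lt_trichotomy a 0 with e | rfl | e
  · rw [← neg_neg a, ev_neg, neg_dotProduct, this _ (by omega) (by omega)]; grind [dl]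
  · rw [ev_zero, zero_dotProduct]; grind [dl]
  · exact this a e h'
theorem ev_rfw {a b : ℤ} (h : a + b ≠ 0) (x : ℤ) : ev n (rfw a b x) = ev n x - prw a b x • (ev n a + ev n b) := by
  have key : ∀ y k, (rfw a b x = y ∧ prw a b x = k) → ev n y = ev n x - k • (ev n a + ev n b) →
    ev n (rfw a b x) = ev n x - prw a b x • (ev n a + ev n b) := fun y k h h' => by rw [h.1, h.2, h']
  by_cases h1 : x ≠ a ∧ x ≠ b ∧ x ≠ -a ∧ x ≠ -b ∨ x = 0
  · exact key x 0 (by grind [rfw, prw, dl]) (by simp)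
  by_cases h2 : a = 0 ∨ b = 0
  · obtain e | e : x = a + b ∨ x = -(a + b) := by omega
    · exact key (-x) 2 (by grind [rfw, prw, dl]) (by rcases h2 with rfl | rfl <;> simp [e, ev_neg, ev_zero, two_smul])
    · exact key (-x) (-2) (by grind [rfw, prw, dl]) (by rcases h2 with rfl | rfl <;> simp [e, ev_neg, ev_zero, two_smul])
  obtain e | e | e | e : x = a ∨ x = b ∨ x = -a ∨ x = -b := by omega
  · exact key (-b) 1 (by grind [rfw, prw, dl]) (by simp [e, ev_neg])
  · exact key (-a) 1 (by grind [rfw, prw, dl]) (by simp [e, ev_neg])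
  · exact key b (-1) (by grind [rfw, prw, dl]) (by simp [e, ev_neg])
  · exact key a (-1) (by grind [rfw, prw, dl]) (by simp [e, ev_neg])
theorem okC.rfw {a b c d : ℤ} (h : okC τ n a b) (h' : okC τ n c d) : okC τ n (rfw a b c) (rfw a b d) := by
  simp only [okC, Cl.rfw] at *
  refine ⟨?_, ?_, ?_, ?_, ?_, ?_, ?_, ?_⟩ <;> grind

/-- the vector of a root -/
def vC (r : RC τ n) : Fin (n + 1) → ℤ := ev n r.1.1 + ev n r.1.2
theorem vC_mk {a b : ℤ} (h : okC τ n a b) : vC (mkC a b h) = ev n a + ev n b := by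
  rcases le_total a b with e | e <;> simp [vC, mkC, e, add_comm]
theorem vC_dot {a b : ℤ} (h : okC τ n a b) (x : ℤ) : vC (mkC a b h) ⬝ᵥ ev n x = dl a x + dl b x := by
  rw [vC_mk, add_dotProduct, ev_dot h.1 h.2.1, ev_dot h.2.2.1 h.2.2.2.1]
theorem vC_dot2 {a b c d : ℤ} (h : okC τ n a b) (h' : okC τ n c d) :
    vC (mkC a b h) ⬝ᵥ vC (mkC c d h') = dl a c + dl b c + (dl a d + dl b d) := by
  rw [vC_mk h', dotProduct_add, vC_dot, vC_dot]
theorem vC_self {a b : ℤ} (h : okC τ n a b) : vC (mkC a b h) ⬝ᵥ vC (mkC a b h) = if a = 0 ∨ b = 0 then 1 else if a = b then 4 else 2 := by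
  rw [vC_dot2]; grind [dl, okC]
theorem prw_mul {a b : ℤ} (h : okC τ n a b) (x : ℤ) : vC (mkC a b h) ⬝ᵥ vC (mkC a b h) * prw a b x = 2 * (dl a x + dl b x) := by
  rw [vC_self]; grind [prw]

/-- the second index of the last simple root -/
def lastC (τ n : ℕ) : ℤ := if τ = 0 then 0 else if τ = 1 then n + 1 else n
/-- the simple roots -/
def simC (τ : ℕ) (hn : 1 ≤ n) : Option (Fin n) → RC τ n
  | some j => mkC (j + 1) (-(j + 2)) (by grind [okC])
  | none => mkC (n + 1) (lastC τ n) (by grind [okC, lastC])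
/-- partial coordinate sums -/
def psC (a k : ℤ) : ℤ := if 0 < a ∧ a ≤ k then 1 else if a < 0 ∧ -a ≤ k then -1 else 0
/-- the coordinates of a root -/
def coC (τ n : ℕ) (a b : ℤ) : Option (Fin n) → ℤ
  | some j => psC a (j + 1) + psC b (j + 1) - if 2 ≤ τ ∧ j.val + 1 = n then (psC a (n + 1) + psC b (n + 1)) / 2 else 0
  | none => if τ = 0 then psC a (n + 1) + psC b (n + 1) else (psC a (n + 1) + psC b (n + 1)) / 2

theorem vC_some (hn : 1 ≤ n) (j : Fin n) : vC (simC τ hn (some j)) = ev n (j + 1) - ev n (j + 2) := by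
  rw [simC, vC_mk, ev_neg, sub_eq_add_neg]
theorem ev_sum {a : ℤ} (h : -(n + 1 : ℤ) ≤ a) (h' : a ≤ n + 1) :
    ev n a = ∑ j : Fin n, psC a (j + 1) • (ev n (j + 1) - ev n (j + 2)) + psC a (n + 1) • ev n (n + 1) := by
  have : ∀ a : ℤ, 0 < a → a ≤ n + 1 →
      ev n a = ∑ j : Fin n, psC a (j + 1) • (ev n (j + 1) - ev n (j + 2)) + psC a (n + 1) • ev n (n + 1) := fun a h h' => by
    obtain ⟨i, rfl⟩ : ∃ i : Fin (n + 1), a = i + 1 := ⟨⟨(a - 1).toNat, by omega⟩, by simp; omega⟩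
    have := sum_diff (fun x : Fin (n + 1) => ev n (x + 1)) i
    simp only [Fin.val_castSucc, Fin.val_succ, Fin.val_last, Nat.cast_add, Nat.cast_one, add_assoc, one_add_one_eq_two] at this
    rw [show psC (i + 1) (n + 1) = 1 by grind [psC], one_smul, ← sub_eq_iff_eq_add, ← this]
    exact Finset.sum_congr rfl fun j _ => by congr 1; grind [psC]
  rcases lt_trichotomy a 0 with e | rfl | e
  · have e' : ∀ k, psC a k = - psC (-a) k := fun k => by grind [psC]
    rw [← neg_inj, ← ev_neg, this _ (by omega) (by omega)]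
    simp only [e', neg_smul, Finset.sum_neg_distrib, neg_add, neg_neg]
  · simp [psC, ev_zero]
  · exact this a e h'

theorem coC_sum (hn : 1 ≤ n) {a b : ℤ} (h : okC τ n a b) : vC (mkC a b h) = ∑ i, coC τ n a b i • vC (simC τ hn i) := by
  rw [Fintype.sum_option, vC_mk, ev_sum h.1 h.2.1, ev_sum h.2.2.1 h.2.2.2.1, simC, vC_mk]
  simp only [vC_some, coC, sub_smul, add_smul, Finset.sum_sub_distrib, Finset.sum_add_distrib, ite_smul, zero_smul]
  by_cases h0 : τ = 0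
  · simp [h0, lastC, ev_zero, add_smul]; abel
  obtain ⟨s, hs⟩ : ∃ s, psC a (n + 1) = 2 * s - psC b (n + 1) := ⟨(psC a (n + 1) + psC b (n + 1)) / 2, by grind [psC, okC]⟩
  simp only [hs, sub_add_cancel, Int.mul_ediv_cancel_left _ two_ne_zero, if_neg h0, lastC]
  by_cases h1 : τ = 1
  · simp only [h1, if_true, show ¬ 2 ≤ 1 by omega, false_and, if_false, Finset.sum_const_zero]; module
  obtain ⟨n, rfl⟩ : ∃ k, n = k + 1 := ⟨n - 1, by omega⟩
  have : ∀ f : Fin (n + 1) → Fin (n + 1 + 1) → ℤ, (∑ x : Fin (n + 1), if 2 ≤ τ ∧ x.val + 1 = n + 1 then f x else 0) = f (.last n) := fun f => by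
    rw [Finset.sum_eq_single (.last n) (fun j _ e => if_neg fun e' => e (Fin.ext (by simpa using e'.2))) (by simp), if_pos ⟨by omega, rfl⟩]
  rw [this, if_neg h1]
  simp only [Fin.val_last, Nat.cast_add, Nat.cast_one, add_assoc, one_add_one_eq_two]
  module

theorem psC_cases (a k : ℤ) : 0 < a ∧ a ≤ k ∧ psC a k = 1 ∨ a < 0 ∧ -a ≤ k ∧ psC a k = -1 ∨ (a = 0 ∨ k < a ∨ k < -a) ∧ psC a k = 0 := by
  grind [psC]
theorem coC_sign {a b : ℤ} (h : okC τ n a b) : (∀ i, 0 ≤ coC τ n a b i) ∨ ∀ i, coC τ n a b i ≤ 0 := by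
  have h1 := psC_cases a (n + 1)
  have h2 := psC_cases b (n + 1)
  simp only [okC] at h
  by_cases e : |a| ≤ |b| ∧ 0 < a ∨ |b| ≤ |a| ∧ 0 < b ∨ a = 0 ∧ 0 < b ∨ b = 0 ∧ 0 < a <;> [left; right] <;> rintro (_ | j) <;>
    simp only [coC, abs_eq_max_neg] at e ⊢
  · split_ifs <;> omega
  · have := psC_cases a (j + 1); have := psC_cases b (j + 1); split_ifs <;> omega
  · split_ifs <;> omega
  · have := psC_cases a (j + 1); have := psC_cases b (j + 1); split_ifs <;> omega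
theorem coC_dvd (hn : 1 ≤ n) {a b : ℤ} (h : okC τ n a b) (i : Option (Fin n)) :
    vC (mkC a b h) ⬝ᵥ vC (mkC a b h) ∣ vC (simC τ hn i) ⬝ᵥ vC (simC τ hn i) * coC τ n a b i := by
  have h1 := psC_cases a (n + 1)
  have h2 := psC_cases b (n + 1)
  rcases i with _ | j <;> simp only [simC, vC_self, coC, lastC] <;> simp only [okC] at h
  · split_ifs <;> omega
  · have := psC_cases a (j + 1); have := psC_cases b (j + 1); split_ifs <;> omega
theorem ev_one {a : ℤ} (h : 0 < a) (h' : a ≤ n + 1) : ev n a ⬝ᵥ 1 = 1 := by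
  obtain ⟨i, rfl⟩ : ∃ i : Fin (n + 1), a = i + 1 := ⟨⟨(a - 1).toNat, by omega⟩, by simp; omega⟩
  simp [ev_succ]

theorem dl_inj {a b c d : ℤ} (h : a + b ≠ 0) (h' : c + d ≠ 0) (h1 : ∀ x, dl a x + dl b x = dl c x + dl d x) :
    a = c ∧ b = d ∨ a = d ∧ b = c := by
  have := h1 a
  have := h1 b
  have := h1 c
  have := h1 d
  clear h1
  grind (splits := 30) [dl]
theorem dl_not_add {a b c d e f : ℤ} (h : a + c ≠ 0 ∧ a + d ≠ 0 ∧ b + c ≠ 0 ∧ b + d ≠ 0) (h1 : a + b ≠ 0) (h2 : c + d ≠ 0)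
    (h3 : ∀ x, dl e x + dl f x = dl a x + dl b x + (dl c x + dl d x)) : False := by
  have := h3 a
  have := h3 b
  have := h3 c
  have := h3 d
  clear h3
  grind (splits := 40) [dl]

/-- the root system of type `B`, `C` or `D` -/
def euc (τ : ℕ) (hn : 1 ≤ n) : Euc (Option (Fin n)) (RC τ n) (Fin (n + 1)) where
  v := vC
  sim := simC τ hn
  inj r s := r.ind fun a b h => s.ind fun c d h' e => by
    have h1 := fun x => (vC_dot h x).symm.trans ((congrArg (· ⬝ᵥ ev n x) e).trans (vC_dot h' x))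
    exact mkC_inj.2 (dl_inj h.2.2.2.2.1 h'.2.2.2.2.1 h1)
  ne r := r.ind fun a b h e => by
    have := vC_self h
    rw [e] at this
    grind [zero_dotProduct]
  neg r := r.ind fun a b h => ⟨mkC _ _ h.neg, by simp [vC_mk, ev_neg, add_comm]⟩
  rf i r := (simC τ hn i).ind fun a b h => r.ind fun c d h' => ⟨mkC _ _ (h.rfw h'), prw a b c + prw a b d, by
    rw [vC_dot2, vC_dot2, ← vC_dot2 h h, mul_comm, mul_add, prw_mul, prw_mul, ← mul_add], by
    simp only [vC_mk, ev_rfw h.2.2.2.2.1, add_smul]; abel⟩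
  co r := r.ind fun a b h => ⟨coC τ n a b, coC_sum hn h, coC_sign h, coC_dvd hn h⟩
  ind := li_opt (u := fun x : Fin (n + 1) => ev n (x + 1))
    (by simpa only [ev_succ] using Fintype.linearIndependent_iff.2 fun g h x => by simpa [Pi.single_apply] using congrFun h x)
    (fun i => by simp [vC_some, add_assoc]) (LinearMap.ker ((dotProductBilin ℤ ℤ).flip 1)) (fun i => by
      simp (disch := omega) [vC_some, ev_one]) (fun c h => by
      by_cases h0 : τ = 0
      · simpa (disch := omega) [simC, vC_mk, lastC, h0, ev_zero, ev_one, -zsmul_eq_mul] using h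
      by_cases h1 : τ = 1 <;> simpa (disch := omega) [simC, vC_mk, lastC, h0, h1, ev_zero, ev_one, -zsmul_eq_mul] using h)

/-- the root system of type `B`, `C` or `D` -/
noncomputable abbrev rs (τ : ℕ) (hn : 1 ≤ n) : RS (Option (Fin n)) (RC τ n) := (euc τ hn).rs

variable {hn : 1 ≤ n} {a b c d e f : ℤ}
theorem ln_mk (h : okC τ n a b) : (rs τ hn).ln (mkC a b h) = if a = 0 ∨ b = 0 then 1 else if a = b then 4 else 2 :=
  ((euc τ hn).ln_eq _).trans (vC_self h)
theorem neg_mk (h : okC τ n a b) : (rs τ hn).neg (mkC a b h) = mkC (-a) (-b) h.neg :=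
  (euc τ hn).neg_eq (by simp [euc, vC_mk, ev_neg, add_comm])
theorem pair_mk (h : okC τ n a b) (h' : okC τ n c d) : (rs τ hn).pair (mkC a b h) (mkC c d h') = prw a b c + prw a b d :=
  (euc τ hn).pair_eq (by simp only [euc]; rw [vC_dot2 h h', mul_add, prw_mul, prw_mul, ← mul_add])
theorem sim_eq (i : Option (Fin n)) : (rs τ hn).sim i = simC τ hn i := (euc τ hn).sim_eq i
theorem rv_mk (h : okC τ n a b) : (rs τ hn).rv (mkC a b h) = coC τ n a b := (euc τ hn).rv_eq (coC_sum hn h)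
theorem rv_iff {ι : Type*} [Fintype ι] {k : ι → ℤ} {r : ι → RC τ n} : ∑ i, k i • (rs τ hn).rv (r i) = 0 ↔ ∑ i, k i • vC (r i) = 0 := by
  rw [← map_eq_zero_iff _ (euc τ hn).Λ_inj]; simp only [map_sum, map_smul, Euc.Λ_rv]; rfl
theorem add_mk (h1 : okC τ n a c) (h2 : okC τ n a b) (h3 : okC τ n (-b) c) :
    (rs τ hn).rv (mkC a c h1) = (rs τ hn).rv (mkC a b h2) + (rs τ hn).rv (mkC (-b) c h3) :=
  (euc τ hn).add_iff.2 (by simp [euc, vC_mk, ev_neg])
theorem of_add {h1 : okC τ n e f} {h2 : okC τ n a b} {h3 : okC τ n c d}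
    (h : (rs τ hn).rv (mkC e f h1) = (rs τ hn).rv (mkC a b h2) + (rs τ hn).rv (mkC c d h3)) (x : ℤ) :
    dl e x + dl f x = dl a x + dl b x + (dl c x + dl d x) := by
  rw [← vC_dot h1, ← vC_dot h2, ← vC_dot h3, ← add_dotProduct]; exact congrArg (· ⬝ᵥ _) ((euc τ hn).add_iff.1 h)
theorem not_add {h2 : okC τ n a b} {h3 : okC τ n c d} (h : a + c ≠ 0 ∧ a + d ≠ 0 ∧ b + c ≠ 0 ∧ b + d ≠ 0) (k : RC τ n) :
    (rs τ hn).rv k ≠ (rs τ hn).rv (mkC a b h2) + (rs τ hn).rv (mkC c d h3) := k.ind fun e f h1 e1 => by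
  exact dl_not_add h h2.2.2.2.2.1 h3.2.2.2.2.1 (of_add e1)

theorem good (h : 2 ≤ τ → 2 ≤ n) : (rs τ hn).Good := by
  refine RS.good_of_conn (RS.conn_of_full (θ := mkC 1 (if 2 ≤ τ then n else n + 1) (by grind [okC])) ?_) none (euc τ hn).str ?_
  · rintro (_ | j) <;> simp only [rv_mk, coC, psC] <;> grind
  suffices ∀ k (i : Fin n), i.val = k → ∃ w : (rs τ hn).W, w • (rs τ hn).sim (some ⟨0, hn⟩) = (rs τ hn).sim (some i) by
    have h1 : ∀ i, (rs τ hn).ln ((rs τ hn).sim i) = 2 → ∃ w : (rs τ hn).W, w • (rs τ hn).sim (some ⟨0, hn⟩) = (rs τ hn).sim i := by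
      rintro (_ | i) e
      · have h2 : 2 ≤ τ := by simp only [sim_eq, simC, ln_mk, lastC] at e; grind
        obtain ⟨w, a⟩ := this _ ⟨n - 2, by omega⟩ rfl
        obtain ⟨w', b⟩ := RS.conj_of_pair (Φ := rs τ hn) (r := (rs τ hn).sim (some ⟨n - 2, by omega⟩)) (s := (rs τ hn).sim none)
          (by rw [e]; simp only [sim_eq, simC, ln_mk]; grind) (by simp only [sim_eq, simC, pair_mk, lastC]; grind (splits := 30) [prw, dl])
        exact ⟨w' * w, by rw [mul_smul, a, b]⟩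
      · exact this _ i rfl
    intro i j e
    by_cases e' : (rs τ hn).ln ((rs τ hn).sim i) = 2
    · obtain ⟨w, a⟩ := h1 i e'
      obtain ⟨w', b⟩ := h1 j (e ▸ e')
      exact ⟨w' * w⁻¹, by rw [mul_smul, ← a, inv_smul_smul, b]⟩
    have h2 : ∀ i, (rs τ hn).ln ((rs τ hn).sim i) ≠ 2 → i = none := by
      rintro (_ | i) e
      · rfl
      · simp only [sim_eq, simC, ln_mk] at e; grind
    exact ⟨1, by rw [one_smul, h2 i e', h2 j (e ▸ e')]⟩
  intro k
  induction k with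
  | zero => exact fun i h => ⟨1, by rw [one_smul]; congr 2; exact Fin.ext h.symm⟩
  | succ k ih =>
    intro i h
    obtain ⟨w, a⟩ := ih ⟨k, by omega⟩ rfl
    obtain ⟨w', b⟩ := RS.conj_of_pair (Φ := rs τ hn) (r := (rs τ hn).sim (some ⟨k, by omega⟩)) (s := (rs τ hn).sim (some i))
      (by simp only [sim_eq, simC, ln_mk]; grind) (by simp only [sim_eq, simC, pair_mk]; grind [prw, dl])
    exact ⟨w' * w, by rw [mul_smul, a, b]⟩

theorem hcC (h : 2 ≤ τ → 2 ≤ n) (i : Option (Fin n)) : ∃ j, (rs τ hn).A j ((rs τ hn).sim i) < 0 := by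
  simp only [← RS.pair_sim]
  rcases i with _ | i
  · exact ⟨some ⟨if 2 ≤ τ then n - 2 else n - 1, by grind⟩, by simp only [sim_eq, simC, pair_mk, lastC]; grind (splits := 30) [prw, dl]⟩
  by_cases e : i.val + 1 < n
  · exact ⟨some ⟨_, e⟩, by simp only [sim_eq, simC, pair_mk]; grind [prw, dl]⟩
  by_cases e' : 2 ≤ τ
  · exact ⟨some ⟨n - 2, by grind⟩, by simp only [sim_eq, simC, pair_mk]; grind [prw, dl]⟩
  · exact ⟨none, by simp only [sim_eq, simC, pair_mk, lastC]; grind (splits := 30) [prw, dl]⟩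

end Cl

end Cfsg.Agent.Chev
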