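import Cfsg.Agent.Lib.Chev.Cl9

set_option autoImplicit false
set_option linter.unusedSectionVars false
set_option linter.style.haveILetI false

/-! Central extensions of the symplectic groups. -/

namespace Cfsg.Agent.Chev.Cl
open scoped commutatorElement

variable {n : ℕ} {hn : 1 ≤ n} {a b c d : ℤ} {A : Type*} [Ring A] {e : RC 1 n → A} (q : (rs 1 hn).QZ e) (hc') {F : Type*} [Field F] {G : Type*} [Group G]
  {S : St (q.cd hc') F G} {E : Type*} [Group E] {π : E →* G} (hc : π.ker ≤ Subgroup.center E) (hs : Function.Surjective π)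

theorem okL (h : -(n + 1 : ℤ) ≤ a ∧ a ≤ n + 1 ∧ a ≠ 0) : okC 1 n a a := by grind [okC]
theorem okC.ne (h : okC 1 n a b) : a ≠ 0 ∧ b ≠ 0 := by grind [okC]
theorem ctC (h1 : okC 1 n a b) (h2 : okC 1 n a (-b)) (h3 : a ≠ b) : ∃ N M : ℤ, N * N = 1 ∧ M * M = 1 ∧ mkC b b (by grind [okC]) ≠ mkC a (-b) h2 ∧
    mkC b b (by grind [okC]) ≠ (rs 1 hn).neg (mkC a (-b) h2) ∧
    (q.cd hc').ct (mkC a (-b) h2) (mkC b b (by grind [okC])) = [(mkC a b h1, N, 1, 1), (mkC a a (by grind [okC]), M, 2, 1)] := by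
  have e1 : (rs 1 hn).rv (mkC a b h1) = (rs 1 hn).rv (mkC a (-b) h2) + (rs 1 hn).rv (mkC b b (by grind [okC])) :=
    (euc 1 hn).add_iff.2 (by simp [euc, vC_mk, ev_neg])
  have e2 : (rs 1 hn).rv (mkC a a (by grind [okC])) = 2 • (rs 1 hn).rv (mkC a (-b) h2) + (rs 1 hn).rv (mkC b b (by grind [okC])) :=
    (euc 1 hn).two_iff.2 (by simp only [euc, vC_mk, ev_neg]; module)
  exact ⟨_, _, (q.N_sq e1).trans (if_neg (by simp only [ln_mk]; grind [okC])), by simpa using q.M_sq e2, by rw [Ne, mkC_inj]; grind [okC],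
    by rw [neg_mk, Ne, mkC_inj]; grind [okC], q.ct_two hc' (good (by omega)) e1 e2⟩
theorem ctC' (h1 : okC 1 n a b) (h2 : okC 1 n a (-b)) : ∃ N : ℤ, N * N = 4 ∧ mkC a (-b) h2 ≠ mkC a b h1 ∧ mkC a (-b) h2 ≠ (rs 1 hn).neg (mkC a b h1) ∧
    (q.cd hc').ct (mkC a b h1) (mkC a (-b) h2) = [(mkC a a (by grind [okC]), N, 1, 1)] := by
  have e1 : (rs 1 hn).rv (mkC a a (by grind [okC])) = (rs 1 hn).rv (mkC a b h1) + (rs 1 hn).rv (mkC a (-b) h2) :=
    (euc 1 hn).add_iff.2 (by simp only [euc, vC_mk, ev_neg]; abel)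
  exact ⟨_, (q.N_sq e1).trans (if_pos (by simp only [ln_mk]; grind [okC])), by rw [Ne, mkC_inj]; grind [okC],
    by rw [neg_mk, Ne, mkC_inj]; grind [okC], q.ct_one hc' e1 (by rw [pair_mk]; grind [prw, dl, okC]) (by rw [pair_mk]; grind [prw, dl, okC])⟩
theorem czC (h1 : okC 1 n a b) (h2 : okC 1 n a (-b)) : (q.cd hc').Cz 2 (mkC a b h1) (mkC a (-b) h2) := by
  obtain ⟨N, e1, -, e2, e3⟩ := ctC' q hc' h1 h2
  exact .inr ⟨e2, by rw [e3]; simpa using Int.prime_two.dvd_of_dvd_pow (show (2 : ℤ) ∣ N ^ 2 by rw [sq, e1]; decide)⟩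

include hc hs
theorem cm_long (h1 : okC 1 n a b) (h2 : okC 1 n a (-b)) {s : RC 1 n} (h4 : (q.cd hc').Cz 0 (mkC a (-b) h2) s)
    (h5 : (q.cd hc').Cz 0 (mkC b b (by grind [okC])) s) (h6 : S.Cm π (mkC a b h1) s) : S.Cm π (mkC a a (by grind [okC])) s := by
  obtain ⟨N, M, -, e1, e2, e3, e4⟩ := ctC q hc' h1 h2 (by grind [okC])
  exact St.Cm.of_ct hc hs (L₁ := [_]) (L₂ := []) Nat.cast_zero ⟨e2, e3, e4, e1, .inr rfl, h4, h5⟩ (by simpa)
theorem cm_short (h1 : okC 1 n a b) (h2 : okC 1 n a (-b)) {s : RC 1 n} {p : ℕ} (hp : (p : F) = 0) (h4 : (q.cd hc').Cz p (mkC a (-b) h2) s)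
    (h5 : (q.cd hc').Cz p (mkC b b (by grind [okC])) s) (h6 : S.Cm π (mkC a a (by grind [okC])) s) : S.Cm π (mkC a b h1) s := by
  obtain ⟨N, M, e1, -, e2, e3, e4⟩ := ctC q hc' h1 h2 (by grind [okC])
  exact St.Cm.of_ct hc hs (L₁ := []) (L₂ := [_]) hp ⟨e2, e3, e4, e1, .inr rfl, h4, h5⟩ (by simpa)

theorem cm_td (hF : ∃ a : F, a ≠ 0 ∧ a ≠ 1) (h1 : okC 1 n a b) (h2 : okC 1 n c d) (h : a ≠ b ∧ b ≠ c ∧ b ≠ d ∧ b ≠ -c ∧ b ≠ -d ∧ a ≠ -c ∧ a ≠ -d) :
    S.Cm π (mkC a b h1) (mkC c d h2) :=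
  (t1_mk q hc' (one_pow_ne hF) _ _ (okL (a := b) (by grind [okC])) (by grind [prw, dl, okC])).cm hc hs
    (St.commute_of_cz Nat.cast_zero (cz_mk q hc' _ _ (by omega) 0))

theorem cmC (hF : ∃ a : F, a ≠ 0 ∧ a ≠ 1) (r : RC 1 n) : S.Cm π r r := by
  induction r using RC.ind with | h a b h0 => ?_
  have := h0.bd
  have := h0.ne
  by_cases e : a = b
  · subst e
    obtain ⟨z, hz⟩ : ∃ z : ℤ, 0 < z ∧ z ≤ n + 1 ∧ z ≠ a ∧ z ≠ -a := by simpa using fresh [a] hn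
    exact cm_long q hc' hc hs (b := z) (ok2 (by omega)) (ok2 (by omega)) (cz_mk q hc' _ _ (by omega) 0) (cz_mk q hc' _ _ (by omega) 0)
      (cm_td q hc' hc hs hF _ _ (by omega))
  by_cases h2 : (2 : F) = 0
  · refine cm_short q hc' hc hs h0 (ok2 (by omega)) (p := 2) (by simpa) ?_ (cz_mk q hc' _ _ (by omega) 2) ((cm_td q hc' hc hs hF _ _ (by omega)).symm hc hs)
    simpa using czC q hc' (a := a) (b := -b) (ok2 (by omega)) (by simpa)
  by_cases h4 : ∃ c : Fˣ, c ^ 2 ≠ 1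
  · obtain ⟨v, h5⟩ := exists_v h2 h4
    exact St.Cm.of_big hc hs (k := mkC a a (okL (by omega))) (by rw [pair_mk]; grind [prw, dl]) h5.1 h5.2.1 h5.2.2
  · exact St.Cm.of_prime hc hs (three_of hF h4).1 one_ne_zero (self_mem_LC hc hs _)

theorem liftsC_big (hG : S.Gx = ⊤) (h : ∃ c : Fˣ, c ^ 2 ≠ 1) : S.Lifts π := by
  have hD := two_pow_ne h
  refine St.lifts_of hc hs hG (fun r => ⟨cmC q hc' hc hs (h.elim fun c h => ⟨(c : F), c.ne_zero, fun e => h (by rw [Units.val_eq_one.1 e, one_pow])⟩) r, ?_⟩)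
    (pair_cases (fun r s => by rw [or_left_comm]; exact Or.imp_right (Or.imp_right (St.Cm.symm hc hs)))
    (fun a b c d h1 h3 e e' => .inl (t1_mk q hc' hD _ _ (okL (a := b) (by grind [okC])) (by grind [prw, dl, okC])))
    fun a b h1 h3 e1 e2 e3 => .inl (t1_mk q hc' hD _ _ h1 (by grind [prw, dl, okC])))
  induction r using RC.ind with | h a b h0 => ?_
  obtain ⟨z, hz⟩ : ∃ z : ℤ, 0 < z ∧ z ≤ n + 1 ∧ z ≠ b ∧ z ≠ -b := by simpa using fresh [b] hn
  exact ⟨mkC z z (okL (by omega)), t1_mk q hc' hD _ _ (okL (a := b) (by grind [okC])) (by grind [prw, dl, okC])⟩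

omit hc hs in
theorem exists_sw (h1 : okC 1 n a b) (h2 : okC 1 n a c) (h3 : okC 1 n b (-c)) (h : a ≠ b ∧ a ≠ c) : ∃ w, S.Acts (S.n (mkC b (-c) h3) 1) w ∧
    w • mkC a b h1 = mkC a c h2 ∧ (∀ (h : okC 1 n _ _) h', w • mkC a (-b) h = mkC a (-c) h') ∧
    ∀ (h : okC 1 n _ _) h', w • mkC b b h = mkC c c h' := by
  obtain ⟨w, e1, e2⟩ := St.acts_refl (S := S) (mkC b (-c) h3) 1
  have key : ∀ {x y u v : ℤ} {h : okC 1 n x y} {h' : okC 1 n u v} (k : ℤ), prw b (-c) x + prw b (-c) y = k → ev n u + ev n v = ev n x + ev n y - k • (ev n b + ev n (-c)) →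
      w • mkC x y h = mkC u v h' := fun k f g => (rs 1 hn).rv_inj ((e2 _).trans ((euc 1 hn).Λ_inj (by
    simp only [map_sub, map_zsmul, Euc.Λ_rv, pair_mk, f]; simp only [euc, vC_mk, g])))
  exact ⟨w, e1, key 1 (by grind [prw, dl, okC]) (by simp only [ev_neg]; module), fun _ _ => key (-1) (by grind [prw, dl, okC]) (by simp only [ev_neg]; module),
    fun _ _ => key 2 (by grind [prw, dl, okC]) (by simp only [ev_neg]; module)⟩

theorem liftsC_three (hG : S.Gx = ⊤) (hF : ∃ a : F, a ≠ 0 ∧ a ≠ 1) (h : ¬ ∃ c : Fˣ, c ^ 2 ≠ 1) : S.Lifts π := by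
  obtain ⟨hP, h3, h2⟩ := three_of hF h
  have hD := one_pow_ne hF
  have hL : ∀ a b h h', a ≠ -b → S.Cm π (mkC a a h) (mkC b b h') := fun a b h h' e => by
    by_cases e' : a = b
    · subst e'; exact cmC q hc' hc hs hF _
    have := h.bd; have := h'.bd
    exact St.Cm.of_swap1 hc hs hP h3 (k := mkC a (-b) (ok2 (by omega))) (cz_mk q hc' _ _ (by omega) 0) (by rw [pair_mk]; grind [prw, dl])
      ((euc 1 hn).two_iff.2 (by simp only [euc, vC_mk, ev_neg]; module))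
  have hS : ∀ a b c h h', a ≠ c ∧ a ≠ -c ∧ b ≠ c ∧ b ≠ -c ∨ a = c ∧ b ≠ -c → S.Cm π (mkC a b h) (mkC c c h') := fun a b c h h' e => by
    have := h.bd; have := h.ne
    by_cases e' : a = b
    · subst e'; exact hL _ _ _ _ (by omega)
    · exact cm_td q hc' hc hs hF _ _ (by omega)
  have a3 : ∀ r, ∃ y, (rs 1 hn).ln r = 2 → S.IsLift π r y := fun r => r.ind fun a b h => by
    by_cases e : a = b
    · exact ⟨1, by simp [ln_mk, e, h.ne]⟩
    obtain ⟨g, -, c, ha, -, h1⟩ := t1_mk q hc' (S := S) hD h (okL (a := a) (by grind [okC])) (okL (a := b) (by grind [okC])) (by grind [prw, dl, okC])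
    exact (St.exists_isLift hc hs hG (cmC q hc' hc hs hF _) ha h1).imp fun _ h _ => h
  choose y hy using a3
  have a4 : ∀ k, ∃ z, S.IsLift π k z ∧ ∀ a b h h' h'', k = mkC a a h'' → ∀ t u, ∃ v, lc hs (S.x (mkC a b h) t) (S.x (mkC a (-b) h') u) = z v :=
    fun k => k.ind fun a b h => by
    have := h.bd; have := h.ne
    by_cases e : a = b
    swap
    · exact ⟨_, hy _ (by simp [ln_mk, *]), fun _ _ _ _ _ f => by rw [mkC_inj] at f; omega⟩
    subst e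
    obtain ⟨z, hz⟩ : ∃ z : ℤ, 0 < z ∧ z ≤ n + 1 ∧ z ≠ a ∧ z ≠ -a := by simpa using fresh [a] hn
    have o1 : okC 1 n a z := ok2 (by omega)
    have o2 : okC 1 n a (-z) := ok2 (by omega)
    obtain ⟨N, e1, e2, e3, e4⟩ := ctC' q hc' o1 o2
    have l1 := hy (mkC a z o1) (by rw [ln_mk]; grind)
    have l2 := hy (mkC a (-z) o2) (by rw [ln_mk]; grind)
    obtain ⟨Y, h1, h4⟩ := l1.comm hc hs hP l2 (e := N) (k := mkC a a h) (fun f => h2 (pow_eq_zero_iff two_ne_zero |>.1 (by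
      rw [show (2 : F) ^ 2 = (N * N : ℤ) by rw [e1]; norm_num, Int.cast_mul, f, mul_zero]))) (fun t u => by
      rw [← commutatorElement_inv, St.comm_eq e2 e3, e4]; simp [St.x_inv]) ((euc 1 hn).add_iff.2 (by simp only [euc, vC_mk, ev_neg]; abel))
      (hS _ _ _ _ _ (by omega)) (hS _ _ _ _ _ (by omega))
    have h5 : ∀ t u, lc hs (S.x (mkC a z o1) t) (S.x (mkC a (-z) o2) u) = Y (N * t * u) := fun t u => by rw [← h4, ← lc_eq hc hs, l1.map, l2.map]
    refine ⟨Y, h1, fun a' b f f' _ g t u => ?_⟩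
    obtain rfl : a = a' := by rw [mkC_inj] at g; omega
    have := f.bd; have := f'.bd; have := f.ne
    by_cases e : z = b
    · subst e; exact ⟨_, h5 t u⟩
    have o3 : okC 1 n z (-b) := by grind [okC]
    obtain ⟨w, ⟨χ, -, i1⟩, i2, i3, -⟩ := exists_sw q hc' (S := S) o1 f o3 (by omega)
    obtain ⟨m, hm⟩ := hs (S.n (mkC z (-b) o3) 1)
    refine ⟨N * (t / χ (mkC a z o1)) * (u / χ (mkC a (-z) o2)), ?_⟩
    rw [← i2, ← i3 o2, ← mul_div_cancel₀ t (χ (mkC a z o1)).ne_zero, ← mul_div_cancel₀ u (χ (mkC a (-z) o2)).ne_zero, ← i1, ← i1, ← hm, lc_conj hc, h5,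
      mul_div_cancel₀ _ (χ _).ne_zero, mul_div_cancel₀ _ (χ _).ne_zero, mul_inv_eq_iff_eq_mul]
    refine (mem_LC hc).1 ?_
    rw [hm, h1.map]
    exact St.n_mem_LC (fun t => hS _ _ _ _ _ (by omega) _ _) (fun t => by rw [neg_mk]; exact hS _ _ _ _ _ (by omega) _ _) _
  choose z hz h4 using a4
  refine ⟨z, St.rel_of_lift hc hs hz (pair_cases (fun r s => ?_) (fun a b c d h1 h3 e e' => ?_) fun a b h1 h3 e1 e2 e3 => .inr (.inr fun t u => ?_)),
    fun r => (hz r).map⟩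
  · rw [or_left_comm]
    refine Or.imp_right (Or.imp_right fun h t u => ?_)
    rw [← commutatorElement_inv]
    exact inv_mem (Subgroup.closure_mono (by rintro _ ⟨k, a, b⟩; exact ⟨k, a.symm, b⟩) (h u t))
  · have := h1.bd; have := h3.bd; have := h3.ne
    by_cases f : a = b
    swap
    · exact .inl (t1_mk q hc' hD _ _ (okL (a := b) (by omega)) (by grind [prw, dl]))
    subst f
    by_cases g : c = d
    swap
    · exact .inr (.inl (t1_mk q hc' hD _ _ (okL (a := d) (by omega)) (by grind [prw, dl])))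
    subst g
    refine .inr (.inr fun t u => ?_)
    rw [commutatorElement_eq_one_iff_commute.2 ((mem_LC hc).1 (by rw [(hz _).map, (hz _).map]; exact hL _ _ _ _ (by omega) t u))]
    exact one_mem _
  · have o : okC 1 n a a := by grind [okC]
    obtain ⟨v, hv⟩ := h4 _ a b h1 h3 o rfl t u
    rw [← lc_eq hc hs, (hz _).map, (hz _).map, hv]
    exact Subgroup.subset_closure ⟨_, ⟨1, 1, one_pos, one_pos, by
      simpa using (euc 1 hn).add_iff.2 (by simp only [euc, vC_mk, ev_neg]; abel)⟩, _, rfl⟩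

theorem cmC_two (hF : ∀ t : F, t = 0 ∨ t = 1) (h3 : 3 ≤ n) (h1 : okC 1 n a b) (h2 : okC 1 n c d) (h : a + c ≠ 0 ∧ a + d ≠ 0 ∧ b + c ≠ 0 ∧ b + d ≠ 0) :
    S.Cm π (mkC a b h1) (mkC c d h2) := by
  have e1 : ∀ a b c h h', a ≠ b ∧ a + c ≠ 0 ∧ b + c ≠ 0 → S.Cm π (mkC a b h) (mkC c c h') := fun a b c h h' e => by
    obtain ⟨z, hz⟩ := fresh3 h3 a b c
    have := h.ne
    exact cm_mk q hc' hc hs _ _ (z := z) (by omega) (by omega)
  have := h1.bd; have := h2.bd; have := h1.ne; have := h2.ne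
  by_cases e : a = b
  · subst e
    by_cases e' : c = d
    swap
    · exact (e1 _ _ _ _ _ (by omega)).symm hc hs
    subst e'
    obtain ⟨z, hz⟩ := fresh2 (by omega : 2 ≤ n) a c
    exact cm_long q hc' hc hs (b := z) (ok2 (by omega)) (ok2 (by omega)) (cz_mk q hc' _ _ (by omega) 0) (cz_mk q hc' _ _ (by omega) 0) (e1 _ _ _ _ _ (by omega))
  by_cases e' : c = d
  · subst e'; exact e1 _ _ _ _ _ (by omega)
  by_cases e2 : a = c ∨ a = d ∨ b = c ∨ b = d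
  · obtain ⟨z, hz⟩ := fresh3 h3 a b (if a = c ∨ b = c then d else c)
    exact cm_mk q hc' hc hs _ _ (z := z) (by split_ifs at hz <;> omega) (by omega)
  exact cm_short q hc' hc hs h1 (ok2 (by omega)) Nat.cast_zero (cz_mk q hc' _ _ (by omega) 0) (cz_mk q hc' _ _ (by omega) 0)
    ((e1 _ _ _ _ _ (by omega)).symm hc hs)

theorem liftsC_two (hG : S.Gx = ⊤) (hF : ∀ t : F, t = 0 ∨ t = 1) (h3 : 3 ≤ n) : S.Lifts π := by
  have cm := fun {a b c d} => cmC_two q hc' hc hs (S := S) (a := a) (b := b) (c := c) (d := d) hF h3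
  have l2 : ∀ {a b} (h : okC 1 n a b), (rs 1 hn).ln (mkC a b h) = 2 ↔ a ≠ b := fun h => by rw [ln_mk]; grind [okC]
  have c1 : ∀ r s, (rs 1 hn).ln r = 2 → (rs 1 hn).ln s = 2 → 0 ≤ (rs 1 hn).pair r s → S.Cm π r s ∧ (q.cd hc').Cz 2 r s := fun r s => by
    by_cases e : s = r
    · subst e
      induction s using RC.ind with | h a b h => ?_
      have := h.bd; have := h.ne
      exact fun _ _ _ => ⟨cm _ _ (by omega), .inl rfl⟩
    by_cases e' : s = (rs 1 hn).neg r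
    · simp [e', RS.pair_neg_right, RS.pair_same]
    refine fun f g i => (pair_cases (P := fun r s => (rs 1 hn).ln r = 2 → (rs 1 hn).ln s = 2 → 0 ≤ (rs 1 hn).pair r s →
      (S.Cm π r s ∧ (q.cd hc').Cz 2 r s) ∧ (q.cd hc').Cz 2 s r)
      (fun r s a b c d => ?_) (fun a b c d h h' e1 e2 f g i => ?_) (fun a b h h' _ _ _ _ _ _ => ?_) r s e e' f g i).1
    · have := a c b (RS.pair_comm (b.trans c.symm) ▸ d)
      exact ⟨⟨this.1.1.symm hc hs, this.2⟩, this.1.2⟩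
    · have : a + c ≠ 0 ∧ a + d ≠ 0 ∧ b + c ≠ 0 ∧ b + d ≠ 0 := by
        rw [pair_mk] at i; rw [l2] at f g; clear * - f g i h h' e1 e2; grind (splits := 30) [prw, dl, okC]
      exact ⟨⟨cm _ _ this, cz_mk q hc' _ _ this 2⟩, cz_mk q hc' _ _ (by omega) 2⟩
    · exact ⟨⟨cm_opp q hc' hc hs hF h3 _ _ (by omega) (fun _ _ _ _ _ _ _ => czC q hc' _ _) fun _ _ _ _ _ _ _ => cm _ _ (by omega), czC q hc' _ _⟩,
        by simpa using czC q hc' h' (by simpa)⟩
  have c2 : ∀ a b k, (rs 1 hn).ln a = 2 → (rs 1 hn).ln b = 2 → (rs 1 hn).ln k = 2 → (rs 1 hn).rv k = (rs 1 hn).rv a + (rs 1 hn).rv b →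
    (q.cd hc').One a b k := fun a b k f g h i => q.one hc' i (f.trans h.symm) (g.trans h.symm)
  have c3 : ∀ k, ∃ y, (rs 1 hn).ln k = 2 → (π y = S.x k 1 ∧ y ∈ commutator E ∧ y * y = 1) ∧ ∀ a b, (rs 1 hn).ln a = 2 → (rs 1 hn).ln b = 2 →
      (rs 1 hn).rv k = (rs 1 hn).rv a + (rs 1 hn).rv b → lc hs (S.x a 1) (S.x b 1) = y := fun k => k.ind fun a b h => by
    obtain ⟨z, hz⟩ := fresh2 (by omega : 2 ≤ n) a b
    have := h.bd; have := h.ne
    have o1 : okC 1 n a z := ok2 (by omega)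
    have o2 : okC 1 n (-z) b := ok2 (by omega)
    have i1 := (l2 o1).2 (by omega)
    have i2 := (l2 o2).2 (by omega)
    refine ⟨lc hs (S.x (mkC a z o1) 1) (S.x (mkC (-z) b o2) 1), fun e => ?_⟩
    have i3 := St.comm_two (S := S) hF (c2 _ _ _ i1 i2 e (add_mk h o1 o2))
    exact ⟨⟨by rw [map_lc, i3], lc_mem hs _ _, St.lc_sq hc hs hF (by rw [i3]; exact cm _ _ (by omega) 1 1)⟩,
      fun _ _ f g i => St.exists_two hc hs hF (good (by omega)) c1 c2 e f g i1 i2 i (add_mk h o1 o2)⟩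
  choose y hy using c3
  have c4 : ∀ a b h1 h2 h3 h4, ⁅S.x (mkC b b h3) 1, S.x (mkC a (-b) h2) 1⁆ = S.x (mkC a b h1) 1 * S.x (mkC a a h4) 1 := fun a b h1 h2 h3 h4 => by
    obtain ⟨N, M, e1, e2, e3, e4, e5⟩ := ctC q hc' h1 h2 (by grind [okC])
    have : ∀ N : ℤ, N * N = 1 → (N : F) = 1 := fun N h => (hF _).resolve_left fun e => by simpa [e] using congrArg (Int.cast : ℤ → F) h
    have h1 : (-1 : F) = 1 := (hF _).resolve_left (by simp)
    rw [St.comm_eq e3 e4, e5]; simp [this _ e1, this _ e2, h1]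
  have c5 : ∀ k, ∃ z, (π z = S.x k 1 ∧ z ∈ commutator E ∧ z * z = 1) ∧ ((rs 1 hn).ln k = 2 → z = y k) ∧ ∀ a b h1 h2 h3 h4, k = mkC a a h4 →
      lc hs (S.x (mkC b b h3) 1) (S.x (mkC a (-b) h2) 1) = y (mkC a b h1) * z := fun k => k.ind fun a b h => by
    have := h.bd; have := h.ne
    by_cases e : a = b
    swap
    · exact ⟨_, (hy _ ((l2 h).2 e)).1, fun _ => rfl, fun _ _ _ _ _ _ f => by rw [mkC_inj] at f; omega⟩
    subst e
    obtain ⟨z, hz⟩ : ∃ z : ℤ, 0 < z ∧ z ≤ n + 1 ∧ z ≠ a ∧ z ≠ -a := by simpa using fresh [a] hn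
    have o1 : okC 1 n a z := ok2 (by omega)
    have o2 : okC 1 n a (-z) := ok2 (by omega)
    have o3 : okC 1 n z z := okL (by omega)
    obtain ⟨⟨i1, i2, i3⟩, -⟩ := hy _ ((l2 o1).2 (by omega))
    have i4 := c4 a z o1 o2 o3 h
    have i5 : π ((y (mkC a z o1))⁻¹ * lc hs (S.x (mkC z z o3) 1) (S.x (mkC a (-z) o2) 1)) = S.x (mkC a a h) 1 := by
      rw [map_mul, map_inv, i1, map_lc, i4, inv_mul_cancel_left]
    refine ⟨_, ⟨i5, mul_mem (inv_mem i2) (lc_mem hs _ _), ?_⟩, fun f => absurd rfl ((l2 h).1 f), fun a' b f f' f'' _ g => ?_⟩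
    · have : Commute (lc hs (S.x (mkC z z o3) 1) (S.x (mkC a (-z) o2) 1)) (y (mkC a z o1)) := (mem_LC hc).1 (by
        rw [map_lc, i4, i1]; exact mul_mem (cm _ _ (by omega) 1 1) (cm _ _ (by omega) 1 1))
      rw [this.inv_right.mul_mul_mul_comm, ← mul_inv_rev, i3, St.lc_sq hc hs hF (by
        rw [i4]; exact LC_symm hc hs (mul_mem (cm _ _ (by omega) 1 1) (cm _ _ (by omega) 1 1))), inv_one, one_mul]
    obtain rfl : a = a' := by rw [mkC_inj] at g; omega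
    have := f.bd; have := f'.bd; have := f.ne
    by_cases e : z = b
    · subst e; simp
    have o4 : okC 1 n z (-b) := by clear * - e o3 f''; grind [okC]
    obtain ⟨w, ⟨χ, -, j1⟩, j2, j3, j4⟩ := exists_sw q hc' (S := S) o1 f o4 (by omega)
    obtain ⟨m, hm⟩ := hs (S.n (mkC z (-b) o4) 1)
    have j5 : ∀ r s, lc hs (S.x (w • r) 1) (S.x (w • s) 1) = m * lc hs (S.x r 1) (S.x s 1) * m⁻¹ := fun r s => by
      rw [← lc_conj hc, hm, j1, j1, (hF (χ r * 1)).resolve_left (by simp), (hF (χ s * 1)).resolve_left (by simp)]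
    have j6 : y (mkC a b f) = m * y (mkC a z o1) * m⁻¹ := by
      obtain ⟨u, hu⟩ := fresh2 (by omega : 2 ≤ n) a z
      have p1 : okC 1 n a u := ok2 (by omega)
      have p2 : okC 1 n (-u) z := ok2 (by omega)
      have p3 := add_mk (hn := hn) o1 p1 p2
      rw [← (hy _ ((l2 o1).2 (by omega))).2 _ _ ((l2 p1).2 (by omega)) ((l2 p2).2 (by omega)) p3, ← j5,
        (hy _ ((l2 f).2 (by omega))).2 _ _ ((RS.ln_smul ..).trans ((l2 p1).2 (by omega))) ((RS.ln_smul ..).trans ((l2 p2).2 (by omega))) (by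
          rw [← j2, RS.rv_smul, RS.rv_smul w, RS.rv_smul w, p3]; simp only [Pi.add_apply, add_smul, Finset.sum_add_distrib])]
    have j7 : Commute m ((y (mkC a z o1))⁻¹ * lc hs (S.x (mkC z z o3) 1) (S.x (mkC a (-z) o2) 1)) := (mem_LC hc).1 (by
      rw [hm, i5]
      exact St.n_mem_LC (fun t => cm _ _ (by omega) _ _) (fun t => by rw [neg_mk]; exact cm _ _ (by omega) _ _) _)
    rw [← j3 o2, ← j4 o3, j5, j6, mul_assoc, mul_assoc, mul_assoc, j7.inv_left.eq]; group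
  choose z hz h4 h5 using c5
  refine St.lifts_two_of hc hs hF hG hz (pair_cases (fun r s => Or.imp (St.Cm.symm hc hs) fun h => ?_) (fun a b c d h1 h3 e e' => ?_)
    fun a b h1 h2 e1 e2 e3 => .inl (c1 _ _ ((l2 _).2 e1) ((l2 _).2 (by have := h1.bd; omega)) (by rw [pair_mk]; clear * - h1 h2; grind [prw, dl, okC])).1)
  · rw [← commutatorElement_inv]
    exact inv_mem (Subgroup.closure_mono (by rintro _ ⟨k, a, b⟩; exact ⟨k, a.symm, b⟩) h)
  by_cases g : a + c ≠ 0 ∧ a + d ≠ 0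
  · exact .inl (cm _ _ (by omega))
  wlog f : c = -a generalizing c d
  · rw [mkC_comm h3]; exact this _ _ _ (by omega) (by omega) (by omega)
  subst f
  have := h1.bd; have := h3.bd; have := h1.ne; have := h3.ne
  right
  rw [← lc_eq hc hs, (hz _).1, (hz _).1]
  by_cases f : d = -a
  · subst f
    have o1 : okC 1 n b (-a) := ok2 (by omega)
    have o2 : okC 1 n b b := okL (by omega)
    have := h5 _ b (-a) o1 (by simpa using h1.symm) h3 o2 rfl
    simp only [neg_neg] at this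
    rw [← lc_inv, mkC_comm h1, this, ← h4 _ ((l2 _).2 (by omega))]
    exact inv_mem (mul_mem (Subgroup.subset_closure ⟨_, ⟨1, 1, one_pos, one_pos, by
      simpa using (euc 1 hn).add_iff.2 (by simp only [euc, vC_mk, ev_neg]; abel)⟩, rfl⟩) (Subgroup.subset_closure ⟨_, ⟨2, 1, two_pos, one_pos, by
      simpa using (euc 1 hn).two_iff.2 (by simp only [euc, vC_mk, ev_neg]; module)⟩, rfl⟩))
  have o : okC 1 n b d := ok2 (by omega)
  have i : (rs 1 hn).rv (mkC b d o) = (rs 1 hn).rv (mkC a b h1) + (rs 1 hn).rv (mkC (-a) d h3) := mkC_comm h1 ▸ add_mk o h1.symm h3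
  rw [(hy _ ((l2 o).2 (by omega))).2 _ _ ((l2 _).2 (by omega)) ((l2 _).2 (by omega)) i, ← h4 _ ((l2 _).2 (by omega))]
  exact Subgroup.subset_closure ⟨_, ⟨1, 1, one_pos, one_pos, by simpa using i⟩, rfl⟩

theorem liftsC (hG : S.Gx = ⊤) (h : 3 ≤ n ∨ ∃ a : F, a ≠ 0 ∧ a ≠ 1) : S.Lifts π := by
  by_cases h1 : ∃ c : Fˣ, c ^ 2 ≠ 1
  · exact liftsC_big q hc' hc hs hG h1
  by_cases hF : ∃ a : F, a ≠ 0 ∧ a ≠ 1
  · exact liftsC_three q hc' hc hs hG hF h1
  · exact liftsC_two q hc' hc hs hG (by simpa [or_iff_not_imp_left] using hF) (h.resolve_right hF)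

end Cfsg.Agent.Chev.Cl
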