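import Cfsg.Agent.Lib.Chev.TwBN
import Cfsg.Agent.Lib.Chev.Aut

set_option autoImplicit false
set_option linter.unusedSectionVars false
set_option linter.style.haveILetI false

/-! Tools for the concrete twisted groups. -/

namespace Cfsg.Agent.Chev

open Cfsg.Lie
open scoped commutatorElement

section Field
variable {K : Type*} [Field K] [Fintype K]

theorem exists_frob {q m : ℕ} (hq : IsPrimePow q) (hK : Fintype.card K = q ^ m) :
    ∃ f : K →+* K, ∀ t, f t = t ^ q := by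
  obtain ⟨p, k, hp, -, rfl⟩ := (isPrimePow_nat_iff q).1 hq
  haveI := Fact.mk hp
  haveI : CharP K p := charP_of_card_eq_prime_pow (f := k * m) (by rw [hK, pow_mul])
  exact ⟨iterateFrobenius K p k, fun _ => rfl⟩

theorem card_pow_eq_one (d : ℕ) : Nat.card {c : Kˣ // c ^ d = 1} = Nat.gcd d (Fintype.card K - 1) := by
  have := IsCyclic.card_powMonoidHom_ker Kˣ d
  rw [Nat.card_units, Nat.card_eq_fintype_card (α := K), Nat.gcd_comm] at this
  exact this

theorem card_fixed_units {q m : ℕ} (hq : 1 ≤ q) (hK : Fintype.card K = q ^ m) :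
    Nat.card {c : Kˣ // c ^ q = c} = q - 1 := by
  have h := card_pow_eq_one (K := K) (q - 1)
  rw [hK, Nat.gcd_eq_left (Nat.sub_one_dvd_pow_sub_one q m)] at h
  rw [← h]
  refine Nat.card_congr (Equiv.subtypeEquivRight fun c => ?_)
  obtain ⟨q, rfl⟩ := Nat.exists_eq_add_of_le' hq
  simp [pow_succ]

theorem card_fixed {q m : ℕ} (hq : 1 ≤ q) (hK : Fintype.card K = q ^ m) : Nat.card {t : K | t ^ q = t} = q := by
  classical
  have h := card_fixed_units hq hK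
  have e : Nat.card (Option {c : Kˣ // c ^ q = c}) = Nat.card {t : K | t ^ q = t} := by
    refine Nat.card_eq_of_bijective (fun c => c.elim ⟨0, zero_pow (by omega)⟩ fun c =>
      ⟨c.1, by simpa using congrArg Units.val c.2⟩) ⟨?_, ?_⟩
    · rintro (_ | a) (_ | b) e <;> simp_all [Subtype.ext_iff, Units.ext_iff, eq_comm (a := (0 : K))]
    · rintro ⟨t, ht⟩
      by_cases h0 : t = 0
      · exact ⟨none, by simp [h0]⟩
      · exact ⟨some ⟨Units.mk0 t h0, Units.ext (by simpa using ht)⟩, rfl⟩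
  rw [← e, Finite.card_option, h]; omega

theorem exists_pow_ne_one {d : ℕ} (h0 : 0 < d) (hd : d < Fintype.card K - 1) : ∃ c : Kˣ, c ^ d ≠ 1 := by
  obtain ⟨g, hg⟩ := IsCyclic.exists_ofOrder_eq_natCard (α := Kˣ)
  refine ⟨g, pow_ne_one_of_lt_orderOf h0.ne' ?_⟩
  rwa [hg, Nat.card_units, Nat.card_eq_fintype_card]

end Field

theorem eq_top_of_range {Γ G : Type*} [Group Γ] [Group G] {ι : Γ →* G} (hι : Function.Injective ι) {A : Set G}
    (h : ι.range = Subgroup.closure A) {Z : Subgroup Γ} (hZ : ∀ g, ι g ∈ A → g ∈ Z) : Z = ⊤ := by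
  rw [eq_top_iff]
  intro g _
  have : Subgroup.closure A ≤ Z.map ι := (Subgroup.closure_le _).2 fun a ha => by
    obtain ⟨a, rfl⟩ : a ∈ ι.range := h ▸ Subgroup.subset_closure ha
    exact ⟨a, hZ a ha, rfl⟩
  exact (Subgroup.mem_map_iff_mem hι).1 (this (h ▸ ⟨g, rfl⟩))

theorem card_comap_inclusion {G : Type*} [Group G] {X Y : Subgroup G} (h : X ≤ Y) (A : Subgroup G) :
    Nat.card ((A.subgroupOf Y).comap (Subgroup.inclusion h)) = Nat.card (A ⊓ X : Subgroup G) := by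
  rw [← Nat.card_congr (Subgroup.subgroupOfEquivOfLe (inf_le_right (a := A) (b := X))).toEquiv,
    Subgroup.inf_subgroupOf_right]
  rfl

theorem comap_inclusion {G : Type*} [Group G] {X Y : Subgroup G} (h : X ≤ Y) (A : Subgroup G) :
    (A.subgroupOf Y).comap (Subgroup.inclusion h) = (A ⊓ X).subgroupOf X := by
  rw [Subgroup.inf_subgroupOf_right]; rfl

theorem exists_hom_inf {G W : Type*} [Group G] [Group W] {X A B : Subgroup G} (φ : (A ⊓ X).subgroupOf X →* W)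
    (h1 : Function.Surjective φ) (h2 : φ.ker = ((B ⊓ X).subgroupOf X).subgroupOf ((A ⊓ X).subgroupOf X)) :
    ∃ ψ : (A ⊓ X : Subgroup G) →* W, Function.Surjective ψ ∧ ψ.ker = (B ⊓ X).subgroupOf (A ⊓ X) := by
  refine ⟨φ.comp (Subgroup.subgroupOfEquivOfLe inf_le_right).symm.toMonoidHom,
    h1.comp (MulEquiv.surjective _), ?_⟩
  ext g
  rw [← MonoidHom.comap_ker, h2]
  rfl

theorem mul_aba {G : Type*} [Group G] {a b c d : G} (h1 : Commute a c) (h2 : Commute a d) (h3 : Commute b c)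
    (h4 : Commute b d) : a * b * a * (c * d * c) = a * c * (b * d) * (a * c) := by
  calc _ = a * (b * a * c) * d * c := by group
    _ = a * c * b * (a * d) * c := by rw [((h3.mul_left h1)).eq]; group
    _ = _ := by rw [h2.eq]; group

variable {I R : Type} [Fintype I] [DecidableEq I] [Fintype R] [DecidableEq R]

namespace St
variable {Φ : CD I R} {F : Type*} [Field F] {G : Type*} [Group G] {S : St Φ F G}

theorem commute_of_ct {r s : R} (h : s ≠ r ∧ s ≠ Φ.neg r ∧ Φ.ct r s = []) (t u : F) :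
    Commute (S.x r t) (S.x s u) := by
  have := S.comm r s t u h.1 h.2.1
  rw [h.2.2] at this
  simpa [commute_iff_eq] using this.symm

theorem co_P (i : I) {L : List R} (hL : L.Nodup) (h : ∀ r ∈ L, Φ.Pos r) (t : R → F) :
    S.co i (S.P L t) = if Φ.sim i ∈ L then t (Φ.sim i) else 0 := by
  induction L with
  | nil => simp [co_one]
  | cons r L ih =>
    rw [List.nodup_cons] at hL
    rw [P_cons, co_mul i (x_mem_U (h r (by simp)) _) (P_mem (fun s hs => h s (by simp [hs])) _),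
      ih hL.2 fun s hs => h s (by simp [hs]), co_x]
    by_cases e : r = Φ.sim i
    · subst e; simp [hL.1]
    · simp [e, Ne.symm e]

theorem mem_of_co {A : Set R} (hA : Φ.Unip 1 A) {u : G} (hu : u ∈ S.Ux A) (h : ∀ i, Φ.sim i ∈ A → S.co i u = 0) :
    u ∈ S.Ux {r ∈ A | ∀ i, r ≠ Φ.sim i} := by
  obtain ⟨L, hL, hL'⟩ := exists_list A
  obtain ⟨t, rfl⟩ := exists_P hA hL hL' hu
  refine Subgroup.list_prod_mem _ fun g hg => ?_
  obtain ⟨r, hr, rfl⟩ := List.mem_map.1 hg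
  by_cases e : ∀ i, r ≠ Φ.sim i
  · exact x_mem (by exact ⟨(hL' r).1 hr, e⟩) _
  · push Not at e
    obtain ⟨i, rfl⟩ := e
    have := h i ((hL' _).1 hr)
    rw [co_P i hL (fun s hs => RS.ht_pos_iff.1 (Φ.fn_one s ▸ hA.pos s ((hL' s).1 hs))), if_pos hr] at this
    simp [this]

theorem co_inv (i : I) {g : G} (hg : g ∈ S.U) : S.co i g⁻¹ = - S.co i g := by
  have := co_mul i (inv_mem hg) hg
  rw [inv_mul_cancel, co_one] at this
  exact eq_neg_of_add_eq_zero_left this.symm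

theorem n_mul_n_of {r s : R} (h : ∀ a ∈ [r, Φ.neg r], ∀ b ∈ [s, Φ.neg s], b ≠ a ∧ b ≠ Φ.neg a ∧ Φ.ct a b = [])
    (c d : Fˣ) : S.n r c * S.n s d = S.x r c * S.x s d * (S.x (Φ.neg r) (-(c : F)⁻¹) * S.x (Φ.neg s) (-(d : F)⁻¹)) *
      (S.x r c * S.x s d) ∧ Commute (S.n r c) (S.n s d) := by
  simp only [List.mem_cons, List.not_mem_nil, or_false, forall_eq_or_imp, forall_eq] at h
  have h1 := fun t u => commute_of_ct (S := S) h.1.1 t u
  have h2 := fun t u => commute_of_ct (S := S) h.1.2 t u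
  have h3 := fun t u => commute_of_ct (S := S) h.2.1 t u
  have h4 := fun t u => commute_of_ct (S := S) h.2.2 t u
  refine ⟨mul_aba (h1 _ _) (h2 _ _) (h3 _ _) (h4 _ _), ?_⟩
  have e1 : ∀ t, Commute (S.x r t) (S.n s d) := fun t => ((h1 _ _).mul_right (h2 _ _)).mul_right (h1 _ _)
  exact ((e1 _).mul_left (((h3 _ _).mul_right (h4 _ _)).mul_right (h3 _ _))).mul_left (e1 _)

theorem h_mem_of_one {X : Subgroup G} {r : R} {f : F →+* F} (hx : ∀ t, f t = t → S.x r t ∈ X ∧ S.x (Φ.neg r) t ∈ X)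
    {c : Fˣ} (hc : f c = c) : S.n r c ∈ X ∧ S.h r c ∈ X := by
  have : ∀ c : Fˣ, f c = c → S.n r c ∈ X := fun c hc =>
    mul_mem (mul_mem (hx _ hc).1 (hx _ (by simp [hc])).2) (hx _ hc).1
  exact ⟨this c hc, mul_mem (this c hc) (this _ (by simp))⟩

theorem h_mem_of_two {X : Subgroup G} {r s : R} {f : F →+* F}
    (h : ∀ a ∈ [r, Φ.neg r], ∀ b ∈ [s, Φ.neg s], b ≠ a ∧ b ≠ Φ.neg a ∧ Φ.ct a b = [])
    (hx : ∀ t, S.x r t * S.x s (f t) ∈ X ∧ S.x (Φ.neg r) t * S.x (Φ.neg s) (f t) ∈ X) (c : Fˣ) :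
    S.h r c * S.h s (Units.map f c) ∈ X := by
  have : ∀ c : Fˣ, S.n r c * S.n s (Units.map f c) ∈ X := fun c => by
    rw [(n_mul_n_of h _ _).1]
    exact mul_mem (mul_mem (hx _).1 (by simpa using (hx (-(c : F)⁻¹)).2)) (hx _).1
  have e : Units.map (f : F →* F) (-1) = -1 := by ext; simp
  rw [St.h, St.h, mul_assoc, ← mul_assoc (S.n r (-1)), (n_mul_n_of h _ _).2.eq, mul_assoc, ← mul_assoc]
  exact mul_mem (this c) (by have := this (-1); rwa [e] at this)

theorem h_mem_of_three {X : Subgroup G} {r s s' : R} {f g : F →+* F}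
    (h : ∀ a ∈ [r, Φ.neg r], ∀ b ∈ [s, Φ.neg s], b ≠ a ∧ b ≠ Φ.neg a ∧ Φ.ct a b = [])
    (h' : ∀ a ∈ [r, Φ.neg r], ∀ b ∈ [s', Φ.neg s'], b ≠ a ∧ b ≠ Φ.neg a ∧ Φ.ct a b = [])
    (h'' : ∀ a ∈ [s, Φ.neg s], ∀ b ∈ [s', Φ.neg s'], b ≠ a ∧ b ≠ Φ.neg a ∧ Φ.ct a b = [])
    (hx : ∀ t, S.x r t * (S.x s (f t) * S.x s' (g t)) ∈ X ∧
      S.x (Φ.neg r) t * (S.x (Φ.neg s) (f t) * S.x (Φ.neg s') (g t)) ∈ X) (c : Fˣ) :
    S.h r c * (S.h s (Units.map f c) * S.h s' (Units.map g c)) ∈ X := by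
  have : ∀ c : Fˣ, S.n r c * (S.n s (Units.map f c) * S.n s' (Units.map g c)) ∈ X := fun c => by
    rw [(n_mul_n_of h'' _ _).1, St.n]
    simp only [List.mem_cons, List.not_mem_nil, or_false, forall_eq_or_imp, forall_eq] at h h'
    rw [mul_aba ((commute_of_ct h.1.1 _ _).mul_right (commute_of_ct h'.1.1 _ _))
      ((commute_of_ct h.1.2 _ _).mul_right (commute_of_ct h'.1.2 _ _))
      ((commute_of_ct h.2.1 _ _).mul_right (commute_of_ct h'.2.1 _ _))
      ((commute_of_ct h.2.2 _ _).mul_right (commute_of_ct h'.2.2 _ _))]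
    exact mul_mem (mul_mem (hx _).1 (by simpa using (hx (-(c : F)⁻¹)).2)) (hx _).1
  have e : ∀ f : F →+* F, Units.map (f : F →* F) (-1) = -1 := fun f => by ext; simp
  have h1 := mul_mem (this c) (this (-1))
  rw [e, e] at h1
  convert h1 using 1
  simp only [St.h, mul_assoc]
  congr 1
  rw [← mul_assoc (S.n r (-1)), (n_mul_n_of h _ _).2.eq, mul_assoc]
  congr 1
  rw [← mul_assoc (S.n s (-1)), (n_mul_n_of h'' _ _).2.eq, ← mul_assoc, ← mul_assoc, (n_mul_n_of h' _ _).2.eq]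
  group

theorem x_mem_comm {X Y : Subgroup G} (hY : ∀ a ∈ X, ∀ b ∈ X, ⁅a, b⁆ ∈ Y) (hn : ∀ a ∈ X, ∀ y ∈ Y, a * y * a⁻¹ ∈ Y)
    {i : I} {b : R} {e : ℤ} (h : b ≠ Φ.sim i ∧ b ≠ Φ.neg (Φ.sim i) ∧ Φ.ct (Φ.sim i) b = [(Φ.rf i b, e, 1, 1)] ∧
      e * e = 1 ∧ Φ.A i b = -1) (h1 : S.x (Φ.sim i) 1 ∈ X) (h2 : S.n (Φ.sim i) 1 ∈ X) {t : F} (ht : S.x b t ∈ X) :
    S.x b t ∈ Y := by
  have a1 := S.comm (Φ.sim i) b 1 t h.1 h.2.1
  rw [h.2.2.1] at a1
  simp only [List.map_cons, List.map_nil, List.prod_cons, List.prod_nil, mul_one, pow_one] at a1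
  have a2 : S.x (Φ.rf i b) (e * -1 * t) ∈ Y := by
    have := hY _ (inv_mem ht) _ (inv_mem h1)
    rwa [commutatorElement_def, inv_inv, inv_inv, mul_assoc _ (S.x b t), a1,
      show ∀ a b c : G, a⁻¹ * b⁻¹ * (b * a * c) = c by intros; group] at this
  have a3 := hn _ h2 _ a2
  rw [n_conj, Φ.rf_rf] at a3
  simp only [one_zpow, Units.val_one, mul_one] at a3
  rcases Int.eq_one_or_neg_one_of_mul_eq_one h.2.2.2.1 with rfl | rfl <;>
    rcases Int.eq_one_or_neg_one_of_mul_eq_one (Φ.η_sq i (Φ.rf i b)) with e | e <;>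
    first
      | simpa [e] using a3
      | simpa [e, x_inv] using inv_mem a3

namespace Tw
variable (T : S.Tw) {K : Type} (o : T.ρ.Orb K)

theorem mem_of_co {k : K} {i : I} (hi : i ∈ o.J k) {u : G} (hu : u ∈ S.UL (o.J k)) (e : T.σ u = u)
    (h : S.co i u = 0) : u ∈ S.Ux {r | (Φ.Pos r ∧ Φ.InJ (o.J k) r) ∧ ∀ i, r ≠ Φ.sim i} := by
  refine St.mem_of_co (unip_UL _) hu fun j hj => ?_
  have h2 : j ∈ o.J k := RS.inJ_sim.1 hj.2
  obtain ⟨n, rfl⟩ := o.cyc i j ((show o.κ i = k from hi).trans (show o.κ j = k from h2).symm)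
  clear hj h2
  induction n with
  | zero => exact h
  | succ n ih => rw [Function.iterate_succ_apply', ← e, T.co_σ _ (UL_le_U _ hu), ih, map_zero]

theorem exists_param {k : K} {i : I} (hi : i ∈ o.J k) (hs : ∀ r, Φ.Pos r → Φ.InJ (o.J k) r → ∃ j, r = Φ.sim j)
    {u v : G} (hu : u ∈ S.UL (o.J k)) (e : T.σ u = u) (hv : v ∈ S.UL (o.J k)) (e' : T.σ v = v)
    (h : S.co i u = S.co i v) : u = v := by
  have := T.mem_of_co o hi (mul_mem (inv_mem hu) hv) (by simp [e, e'])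
    (by rw [co_mul _ (inv_mem (UL_le_U _ hu)) (UL_le_U _ hv), co_inv _ (UL_le_U _ hu), h, neg_add_cancel])
  have h2 := (Ux_le (K := ⊥)).2 (fun r hr => by
    obtain ⟨j, hj⟩ := hs r hr.1.1 hr.1.2
    exact absurd hj (hr.2 j)) this
  exact inv_mul_eq_one.1 h2

theorem card_param {Γ : Type*} [Group Γ] {ι : Γ →* G} (hX : T.Sub o ι.range) (hι : Function.Injective ι)
    {A : Subgroup G} (hA : A ≤ S.U) {Y : Type*} {g : Y → G} (hg : Function.Injective g)
    (h : ∀ u, (u ∈ A ∧ T.σ u = u) ↔ ∃ y, g y = u) : Nat.card (A.comap ι) = Nat.card Y := by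
  have : ∀ y, ∃ a : A.comap ι, ι a = g y := fun y => by
    obtain ⟨h1, h2⟩ := (h _).2 ⟨y, rfl⟩
    obtain ⟨a, e⟩ := hX.mem_of_U (hA h1) h2
    exact ⟨⟨a, by rw [Subgroup.mem_comap, e]; exact h1⟩, e⟩
  choose a ha using this
  symm
  refine Nat.card_eq_of_bijective a ⟨fun y y' e => hg (by rw [← ha, e, ha]), fun u => ?_⟩
  obtain ⟨y, e⟩ := (h _).1 ⟨u.2, hX.fix _ ⟨_, rfl⟩⟩
  exact ⟨y, Subtype.ext (hι (by rw [ha, e]))⟩

/-- the fixed points in the torus -/
def tfix : Subgroup (I → Fˣ) where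
  carrier := {c | ∀ i, c (T.ρ.ρI i) = Units.map (T.f i) (c i)}
  one_mem' := by simp
  mul_mem' := fun ha hb i => by simp [ha i, hb i]
  inv_mem' := fun ha i => by simp [ha i]

theorem mem_tfix_iff (hm : S.HMul) (hi : Function.Injective hm.hT) (c : I → Fˣ) :
    c ∈ T.tfix ↔ T.σ (hm.hT c) = hm.hT c := by
  rw [T.σ_hT, hi.eq_iff, funext_iff, T.ρ.ρI.surjective.forall]
  simp only [Equiv.Perm.coe_inv, Equiv.symm_apply_apply, eq_comm]
  rfl

theorem exists_tfix {G' : Type*} [Group G'] {S' : St Φ F G'} (φ : G →* G') (hφ : ∀ r t, φ (S.x r t) = S'.x r t)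
    (had : S'.ad = S.ad) (hG : S.Gx = ⊤) (hm : S.HMul) (hi : Function.Injective hm.hT) (hm' : S'.HMul)
    {g : G} (hg : T.σ g = g) (h : φ g ∈ S'.H) : ∃ c ∈ T.tfix, hm'.hT c = φ g := by
  have e : S.θ = S'.θ.comp φ := hom_ext hG fun r t => Units.ext (by simp [hφ, St.θ_x, had])
  obtain ⟨a, ha⟩ := exists_isTor h
  obtain ⟨c, rfl⟩ := hm.exists_hT (mem_H_of_θ (g := g) (hG ▸ trivial) ⟨a, by rw [e]; exact ha.1⟩)
  exact ⟨c, (T.mem_tfix_iff hm hi c).2 hg, (hm.hom_ext (fun i c => by rw [map_h hφ, hm'.hT_single]) c).symm⟩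

theorem card_H {Γ : Type*} [Group Γ] {ι : Γ →* G} (hι : Function.Injective ι) (hθ : Function.Injective S.θ)
    (hm : S.HMul) (A : Subgroup (I → Fˣ)) (h1 : ∀ c ∈ A, hm.hT c ∈ ι.range)
    (h2 : ∀ g, ι g ∈ S.H → ∃ c ∈ A, hm.hT c = ι g) :
    Nat.card (A ⊓ (zmap Fˣ Φ.cm).ker : Subgroup _) * Nat.card (S.H.comap ι) = Nat.card A := by
  have e1 : Nat.card (S.H.comap ι) = Nat.card (hm.hT.comp A.subtype).range := by
    rw [← Subgroup.card_map_of_injective hι]
    congr 2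
    ext g
    constructor
    · rintro ⟨g, hg, rfl⟩
      obtain ⟨c, hc, e⟩ := h2 g hg
      exact ⟨⟨c, hc⟩, e⟩
    · rintro ⟨⟨c, hc⟩, rfl⟩
      obtain ⟨g, e⟩ := h1 c hc
      exact ⟨g, by rw [SetLike.mem_coe, Subgroup.mem_comap, e]; exact hm.hT_mem c, e⟩
  rw [e1, ← Subgroup.index_ker, ← Subgroup.card_mul_index (hm.hT.comp A.subtype).ker, ← MonoidHom.comap_ker,
    hm.ker_hT hθ, ← Nat.card_congr (Subgroup.subgroupOfEquivOfLe (inf_le_left (a := A))).toEquiv,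
    Subgroup.inf_subgroupOf_left]
  rfl

end Tw
end St

namespace Checked
variable {D : ChevalleyDatum} {c : Cert} (h : Checked D c) {K : Type*} [Field K]

/-- the value of a word -/
def wd {G : Type*} [Group G] (y : Fin D.nroots → K → G) (w : List (ℕ × K)) : G := (w.map fun p => xN y p.1 p.2).prod

theorem map_wd {G G' : Type*} [Group G] [Group G'] {y : Fin D.nroots → K → G} {y' : Fin D.nroots → K → G'}
    (φ : G →* G') (hφ : ∀ r t, φ (y r t) = y' r t) (w : List (ℕ × K)) : φ (wd y w) = wd y' w := by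
  rw [wd, map_list_prod, List.map_map]
  congr 1
  refine List.map_congr_left fun p _ => ?_
  simp only [Function.comp_apply, xN]
  split_ifs <;> simp [hφ]

theorem wd_val (w : List (ℕ × K)) :
    (((wd (h.adj K).x w : D.group K) : GL D.Idx K) : Matrix D.Idx D.Idx K) = D.wordMat K w := by
  induction w with
  | nil => rfl
  | cons p w ih =>
    simp only [wd, ChevalleyDatum.wordMat, List.map_cons, List.prod_cons, Subgroup.coe_mul, Units.val_mul] at ih ⊢
    rw [ih]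
    congr 1
    unfold xN
    split_ifs with e
    · rfl
    · simp [ChevalleyDatum.x, e]

theorem gen_eq (W : Set (List (ℕ × K))) :
    D.genSubgroup K W = (Subgroup.closure (wd (h.adj K).x '' W)).map (D.group K).subtype := by
  rw [MonoidHom.map_closure, ChevalleyDatum.genSubgroup]
  congr 1
  ext g
  constructor
  · rintro ⟨w, hw, e⟩
    exact ⟨_, ⟨w, hw, rfl⟩, Units.ext ((h.wd_val w).trans e.symm)⟩
  · rintro ⟨_, ⟨w, hw, rfl⟩, rfl⟩
    exact ⟨w, hw, h.wd_val w⟩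

include h in
theorem gen_le (W : Set (List (ℕ × K))) : D.genSubgroup K W ≤ D.group K := by
  rw [h.gen_eq]; exact Subgroup.map_subtype_le _

theorem gen_range (W : Set (List (ℕ × K))) :
    (Subgroup.inclusion (h.gen_le W)).range = Subgroup.closure (wd (h.adj K).x '' W) := by
  rw [Subgroup.inclusion_range, eq_comm]
  exact eq_subgroupOf' (h.gen_eq W).symm

theorem w0_eq {σ : h.toCD.Sym} {n : ℕ} (o : σ.Orb (Fin n)) (L : Fin n → List (Fin D.rank))
    (e : ∀ k, (∀ i ∈ L k, o.κ i = k) ∧ ∀ j, o.κ j = k → ¬ h.toCD.Pos (wp h.toCD.s (L k) • h.toCD.sim j)) (k : Fin n) :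
    h.toCD.w0 (o.J k) = wp h.toCD.s (L k) :=
  (RS.eq_w0 (RS.wp_mem_WJ (e k).1) (e k).2).symm

theorem cox_W1 {σ : h.toCD.Sym} {n : ℕ} (o : σ.Orb (Fin n)) (L : Fin n → List (Fin D.rank))
    (e : ∀ k, h.toCD.w0 (o.J k) = wp h.toCD.s (L k)) (M : CoxeterMatrix (Fin n))
    (hM : ∀ i j, ordB D.rank D.simple c ((L i ++ L j).map Fin.val) (M i j) = true) :
    ∃ cs : CoxeterSystem M σ.W1, ∀ i, cs.simple i = o.t i :=
  o.invGen.exists_coxeterSystem o.exchange M fun i j => by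
    rw [← Subgroup.orderOf_coe, ← h.orderOf_wp _ (hM i j), wp_append]
    exact congrArg _ (congrArg₂ _ (e i).symm (e j).symm)

end Checked

end Cfsg.Agent.Chev
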