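import Cfsg.Agent.Lib.Chev.Cl10
import Cfsg.Agent.Lib.Chev.TwTools

set_option autoImplicit false
set_option linter.unusedSectionVars false
set_option linter.style.haveILetI false

/-! Schur multipliers of the symplectic and orthogonal groups. -/

namespace Cfsg.Agent.Chev.Cl
open Cfsg.Agent.Classical

variable {τ n : ℕ} {hn : 1 ≤ n} {A : Type*} [CommGroup A]

/-- the character `ε_x` of the torus -/
def lam (τ : ℕ) (hn : 1 ≤ n) (c : Option (Fin n) → A) (x : ℤ) : A := ∏ i, c i ^ prw (simC τ hn i).1.1 (simC τ hn i).1.2 x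

theorem lam_neg (c : Option (Fin n) → A) (x : ℤ) : lam τ hn c (-x) = (lam τ hn c x)⁻¹ := by
  simp only [lam, ← Finset.prod_inv_distrib, ← _root_.zpow_neg]
  exact Finset.prod_congr rfl fun i _ => by congr 1; grind [prw, dl]
theorem lam_zero (c : Option (Fin n) → A) : lam τ hn c 0 = 1 := Finset.prod_eq_one fun i _ => by
  rw [show prw _ _ 0 = 0 by grind [prw, dl], zpow_zero]
theorem mem_ker_iff {c : Option (Fin n) → A} : c ∈ (zmap A (rs τ hn).cm).ker ↔
    (∀ j : Fin n, lam τ hn c (j + 1) = lam τ hn c (j + 2)) ∧ lam τ hn c (n + 1) * lam τ hn c (lastC τ n) = 1 := by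
  have : ∀ j a b h, simC τ hn j = mkC a b h → zmap A (rs τ hn).cm c j = lam τ hn c a * lam τ hn c b := fun j a b h e => by
    rw [zmap_apply, lam, lam, ← Finset.prod_mul_distrib]
    refine Finset.prod_congr rfl fun i _ => ?_
    rw [← zpow_add, ← pair_mk (hn := hn) (simC τ hn i).2.1 h, mkC_eq, ← e, ← sim_eq, ← sim_eq, RS.pair_sim]; rfl
  rw [MonoidHom.mem_ker, funext_iff, Option.forall, and_comm]
  refine and_congr (forall_congr' fun j => ?_) (by rw [this none _ _ (by grind [okC, lastC]) rfl]; rfl)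
  rw [this (some j) _ _ (by grind [okC]) rfl, lam_neg, Pi.one_apply, mul_inv_eq_one]
theorem lam_eq {c : Option (Fin n) → A} (h : ∀ j : Fin n, lam τ hn c (j + 1) = lam τ hn c (j + 2)) (k : ℕ) (hk : k ≤ n) :
    lam τ hn c (k + 1) = lam τ hn c 1 := by
  induction k with
  | zero => simp
  | succ k ih => rw [← ih (by omega), h ⟨k, hk⟩]; simp [add_assoc]
theorem pow_of_lam {c : Option (Fin n) → A} {x : A} (h : ∀ k ≤ n, lam τ hn c ((k : ℕ) + 1) = x) (j : Fin n) (hj : 2 ≤ τ → j.val + 1 < n) :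
    c (some j) = x ^ (j.val + 1) := by
  induction h' : j.val generalizing j with
  | zero =>
    have := h j j.2.le
    rwa [lam, torus_step c j hj, dif_pos h', div_one, ← pow_one x] at this
  | succ k ih =>
    have := h j j.2.le
    rwa [lam, torus_step c j hj, dif_neg (by omega), ih ⟨j - 1, by omega⟩ (fun _ => by simp; omega) (by simp; omega), div_eq_iff_eq_mul', ← pow_succ] at this

theorem kerB : Nonempty ((zmap A (rs 0 hn).cm).ker ≃* (powMonoidHom 2 : A →* A).ker) := by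
  have h1 : ∀ c : (zmap A (rs 0 hn).cm).ker, (∀ j, c.1 (some j) = 1) ∧ c.1 none ^ 2 = 1 := fun ⟨c, h⟩ => by
    obtain ⟨h2, h3⟩ := mem_ker_iff.1 h
    rw [show lastC 0 n = 0 from rfl, lam_zero, mul_one] at h3
    have h4 : ∀ j, c (some j) = 1 := fun j => (pow_of_lam (fun k hk => (lam_eq h2 k hk).trans ((lam_eq h2 n le_rfl).symm.trans h3)) j (by omega)).trans (one_pow _)
    exact ⟨h4, by rw [lam, torus_last] at h3; simpa [h4] using h3⟩
  refine ⟨.ofBijective (((Pi.evalMonoidHom _ none).comp (Subgroup.subtype _)).codRestrict _ fun c => (h1 c).2)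
    ⟨(injective_iff_map_eq_one _).2 fun c h => Subtype.ext (funext ?_), fun ⟨y, hy⟩ => ⟨⟨Pi.mulSingle none y, mem_ker_iff.2 ?_⟩, Subtype.ext (by simp [MonoidHom.codRestrict])⟩⟩⟩
  · rintro (_ | j)
    exacts [congrArg Subtype.val h, (h1 c).1 j]
  have h2 : ∀ k ≤ n, lam 0 hn (Pi.mulSingle none y) ((k : ℕ) + 1) = 1 := fun k hk => by
    obtain rfl | e := hk.eq_or_lt
    · rw [lam, torus_last]; simpa using hy
    · rw [lam, torus_step _ ⟨k, e⟩ (by omega)]; simp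
  exact ⟨fun j => (h2 j j.2.le).trans (by simpa [add_assoc] using (h2 (j + 1) j.2).symm), by simp [h2, lastC, lam_zero]⟩

theorem torus_D (h : 2 ≤ n) (c : Option (Fin n) → A) : lam 2 hn c n = c (some ⟨n - 1, by omega⟩) * c none / c (some ⟨n - 2, by omega⟩) := by
  have : (fun i => prw (simC 2 hn i).1.1 (simC 2 hn i).1.2 n) = Pi.single (some ⟨n - 1, by omega⟩) 1 + Pi.single none 1 +
      Pi.single (some ⟨n - 2, by omega⟩) (-1) := funext (by
    rintro (_ | i) <;> simp only [simC, mkC, Pi.single_apply, Pi.add_apply, lastC] <;> grind (splits := 30) [prw, dl])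
  simp only [lam, congrFun this, Pi.add_apply, zpow_add, Finset.prod_mul_distrib, prod_single]; simp [div_eq_mul_inv]

theorem kerD (h : 2 ≤ n) : ∃ φ : (zmap A (rs 2 hn).cm).ker →* A × A, Function.Injective φ ∧ ∀ p, p ∈ φ.range ↔ p.1 ^ 2 = 1 ∧ p.2 ^ 2 = p.1 ^ (n + 1) := by
  have h1 : ∀ c : (zmap A (rs 2 hn).cm).ker, ∀ x, x = c.1 (some ⟨0, hn⟩) → (∀ j : Fin n, j.val + 1 < n → c.1 (some j) = x ^ (j.val + 1)) ∧
      c.1 (some ⟨n - 1, by omega⟩) = c.1 none / x ∧ x ^ 2 = 1 ∧ c.1 none ^ 2 = x ^ (n + 1) := fun ⟨c, hc⟩ x e => by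
    obtain ⟨h2, h3⟩ := mem_ker_iff.1 hc
    have h4 : ∀ k ≤ n, lam 2 hn c ((k : ℕ) + 1) = x := fun k hk => (lam_eq h2 k hk).trans (by
      have := torus_step (τ := 2) (hn := hn) c ⟨0, hn⟩ (by simp; omega)
      rw [← lam] at this
      simpa [e] using this)
    have h5 := fun j (hj : j.val + 1 < n) => pow_of_lam h4 j fun _ => hj
    have h6 := h4 (n - 1) (by omega)
    rw [Nat.cast_sub hn, Nat.cast_one, sub_add_cancel] at h6
    have h7 : c (some ⟨n - 1, by omega⟩) = c none / x := by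
      rw [← h4 n le_rfl, lam, torus_last]; simp
    refine ⟨h5, h7, by rwa [show lastC 2 n = n from rfl, h6, h4 n le_rfl, ← sq] at h3, ?_⟩
    rw [torus_D h, h7, h5 _ (by simp; omega), div_eq_iff_eq_mul, div_mul_eq_mul_div, div_eq_iff_eq_mul, ← pow_succ', ← pow_succ, ← sq] at h6
    rw [h6]; congr 1; simp; omega
  refine ⟨((Pi.evalMonoidHom (fun _ => A) (some ⟨0, hn⟩)).prod (Pi.evalMonoidHom _ none)).comp (Subgroup.subtype _), (injective_iff_map_eq_one _).2 fun c e => ?_,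
    fun ⟨x, y⟩ => ⟨by rintro ⟨c, e⟩; exact e ▸ (h1 c _ rfl).2.2, fun ⟨h2, h3⟩ => ?_⟩⟩
  · obtain ⟨e1, e2⟩ := Prod.ext_iff.1 e
    obtain ⟨h2, h3, -⟩ := h1 c 1 e1.symm
    refine Subtype.ext (funext ?_)
    rintro (_ | j)
    · exact e2
    by_cases f : j.val + 1 < n
    · simpa using h2 j f
    · rw [show j = ⟨n - 1, by omega⟩ from Fin.ext (by simp; omega), h3]; simpa using e2
  let c : Option (Fin n) → A := fun i => i.elim y fun j => if j.val + 1 < n then x ^ (j.val + 1) else y / x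
  have h4 : ∀ k ≤ n, lam 2 hn c ((k : ℕ) + 1) = x := fun k hk => by
    obtain rfl | e := hk.eq_or_lt
    · rw [lam, torus_last]; simp [c, Nat.sub_add_cancel hn]
    by_cases f : k + 1 < n
    · rw [lam, torus_step _ ⟨k, e⟩ fun _ => f]
      rcases k with _ | k <;> simp [c, f, pow_succ, show ∀ k, k + 1 + 1 < n → k + 1 < n by omega]
    obtain rfl : n = k + 1 := by omega
    obtain ⟨k, rfl⟩ : ∃ j, k = j + 1 := ⟨k - 1, by omega⟩
    rw [← Nat.cast_succ, torus_D h]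
    simp only [c, Option.elim, lt_irrefl, if_false, Nat.add_sub_cancel, Nat.succ_eq_add_one, show k + 1 + 1 - 2 = k from rfl, Nat.lt_add_one, if_true]
    rw [div_mul_eq_mul_div, ← sq, show y ^ 2 = _ from h3]; simp [pow_succ, div_eq_mul_inv]
  refine ⟨⟨c, mem_ker_iff.2 ⟨fun j => (h4 j j.2.le).trans (by simpa [add_assoc] using (h4 (j + 1) j.2).symm), ?_⟩⟩, by simp [c]; omega⟩
  have h6 := h4 (n - 1) (by omega)
  rw [Nat.cast_sub hn, Nat.cast_one, sub_add_cancel] at h6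
  rwa [show lastC 2 n = n from rfl, h6, h4 n le_rfl, ← sq]

theorem ker_pow_equiv (F : Type*) [Field F] [Fintype F] (d : ℕ) :
    Nonempty ((powMonoidHom d : Fˣ →* Fˣ).ker ≃* Multiplicative (ZMod (Nat.gcd d (Fintype.card F - 1)))) :=
  ⟨card_pow_eq_one (K := F) d ▸ (zmodCyclicMulEquiv inferInstance).symm⟩

theorem kerD_odd (h : 2 ≤ n) (h' : Odd (n + 1)) : Nonempty ((zmap A (rs 2 hn).cm).ker ≃* (powMonoidHom 4 : A →* A).ker) := by
  obtain ⟨φ, h1, h2⟩ := kerD (hn := hn) (A := A) h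
  obtain ⟨k, hk⟩ := h'
  have h3 : ∀ c, (φ c).1 ^ 2 = 1 ∧ (φ c).2 ^ 2 = (φ c).1 := fun c => by
    obtain ⟨a, b⟩ := (h2 _).1 ⟨c, rfl⟩
    exact ⟨a, by rw [b, hk, pow_succ, pow_mul, a, one_pow, one_mul]⟩
  refine ⟨.ofBijective (((MonoidHom.snd _ _).comp φ).codRestrict _ fun c => show (φ c).2 ^ (2 * 2) = 1 by rw [pow_mul, (h3 c).2, (h3 c).1])
    ⟨(injective_iff_map_eq_one _).2 fun c e => (injective_iff_map_eq_one _).1 h1 c ?_, fun ⟨y, hy⟩ => ?_⟩⟩
  · have : (φ c).2 = 1 := congrArg Subtype.val e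
    exact Prod.ext (by rw [← (h3 c).2, this, one_pow]; rfl) this
  have h4 : (y ^ 2) ^ 2 = 1 := by rw [← pow_mul]; exact hy
  obtain ⟨c, e⟩ := (h2 (y ^ 2, y)).2 ⟨h4, by rw [hk, pow_succ (y ^ 2), pow_mul, h4, one_pow, one_mul]⟩
  exact ⟨c, Subtype.ext (congrArg Prod.snd e)⟩

theorem kerD_even (h : 2 ≤ n) (h' : Even (n + 1)) :
    Nonempty ((zmap A (rs 2 hn).cm).ker ≃* (powMonoidHom 2 : A →* A).ker × (powMonoidHom 2 : A →* A).ker) := by
  obtain ⟨φ, h1, h2⟩ := kerD (hn := hn) (A := A) h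
  obtain ⟨k, hk⟩ := h'
  have h3 : φ.range = (powMonoidHom 2 : A →* A).ker.prod (powMonoidHom 2 : A →* A).ker := Subgroup.ext fun p => by
    rw [h2, hk, ← two_mul, pow_mul]
    exact and_congr_right fun e => by rw [e, one_pow]; rfl
  exact ⟨((MonoidHom.ofInjective h1).trans (.subgroupCongr h3)).trans (Subgroup.prodEquiv _ _)⟩

universe u
variable {F : Type u} [Field F] [Fintype F]

theorem OFrame.hasSchur {ι : Type} [Fintype ι] [DecidableEq ι] {Φ : Form (Kind.orth F) (ι → F)} {w : ℤ → ι → F} (X : OFrame τ n Φ w) (hτ : τ ≠ 1)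
    (hn : 1 ≤ n) (h : 2 ≤ n) (hl : ∀ {E : Type u} [Group E] {π : E →* (X.qa hτ hn fun _ => h).G}, π.ker ≤ Subgroup.center E → Function.Surjective π →
      (X.qa hτ hn fun _ => h).S.Lifts π) {A : Type*} [CommGroup A] (e : Nonempty ((zmap Fˣ (rs τ hn).cm).ker ≃* A)) :
    HasSchurMultiplier (POmega F Φ.N) A := by
  have hG := (X.qa hτ hn fun _ => h).S_Gx
  have := St.finite_of_Gx hG
  obtain ⟨e1⟩ := X.exists_st hτ hn (fun _ => h) (.inl h)
  have hi := X.hT_inj hτ hn (fun _ => h) (St.hMul_of_finite _)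
  have hk : (e1.toMonoidHom.comp (QuotientGroup.mk' _)).ker = Subgroup.center _ := by
    rw [← MonoidHom.comap_ker, (MonoidHom.ker_eq_bot_iff _).2 e1.injective, MonoidHom.comap_bot, QuotientGroup.ker_mk']
  refine hasSchur_quot ⟨e1.surjective.comp (QuotientGroup.mk'_surjective _), hk.le, (perfectO _ _ hτ (fun _ => h) hG (.inl h)).symm ▸ le_top⟩
    (Suz.hasSchur_one fun E _ _ σ ⟨hs, hc, hd⟩ => St.split_of_lifts hc hs hG hi hd (hl hc hs)) ?_
  rw [hk, St.HMul.center_eq (St.hMul_of_finite _) hG]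
  exact ⟨(Subgroup.equivMapOfInjective _ _ hi).symm.trans e.some⟩

theorem schur_sp (h : 3 ≤ n ∨ 1 ≤ n ∧ ∃ a : F, a ≠ 0 ∧ a ≠ 1) : HasCyclicSchurMultiplier (Matrix.symplecticGroup (Fin (n + 1)) F) 1 := by
  obtain ⟨S, h1, -, h2⟩ := exists_stC (n := n) (by omega) F
  exact Suz.hasSchur_one fun E _ _ σ ⟨hs, hc, hd⟩ => St.split_of_lifts hc hs h1 (h2 _) hd (liftsC _ _ hc hs h1 (h.imp_right (·.2)))

theorem gcd_pow_odd {q l : ℕ} (hq : 1 ≤ q) (hl : Odd l) : Nat.gcd 4 (q ^ l - 1) = Nat.gcd 4 (q - 1) := by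
  obtain ⟨k, rfl⟩ := hl
  have : ∀ k, (q ^ (2 * k + 1)) % 4 = q % 4 ∨ q % 2 = 0 ∧ (q ^ (2 * k + 1)) % 2 = 0 := fun k => by
    induction k with
    | zero => simp
    | succ k ih =>
      rw [show 2 * (k + 1) + 1 = 2 * k + 1 + 2 from rfl, pow_add, sq]
      obtain e | e | e : q % 2 = 0 ∨ q % 4 = 1 ∨ q % 4 = 3 := by omega
      · exact .inr ⟨e, by simp [Nat.mul_mod, e]⟩
      all_goals exact .inl (by rw [Nat.mul_mod, Nat.mul_mod q, e, ih.resolve_right (by omega), e])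
  have h1 := this k
  have h2 := Nat.pow_pos (n := 2 * k + 1) hq
  rw [Nat.gcd_rec, Nat.gcd_rec 4 (q - 1)]
  obtain e | e | e | e : (q - 1) % 4 = 0 ∨ (q - 1) % 4 = 1 ∨ (q - 1) % 4 = 2 ∨ (q - 1) % 4 = 3 := by omega
  all_goals obtain f | f | f | f : (q ^ (2 * k + 1) - 1) % 4 = 0 ∨ (q ^ (2 * k + 1) - 1) % 4 = 1 ∨ (q ^ (2 * k + 1) - 1) % 4 = 2 ∨
    (q ^ (2 * k + 1) - 1) % 4 = 3 := by omega
  all_goals first | omega | simp [e, f]

theorem gcd_two_pow {q l : ℕ} (hq : 1 ≤ q) (hl : l ≠ 0) : Nat.gcd 2 (q ^ l - 1) = Nat.gcd 2 (q - 1) := by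
  have h1 : q ^ l % 2 = q % 2 := by rcases Nat.mod_two_eq_zero_or_one q with e | e <;> simp [Nat.pow_mod, e, hl]
  have h2 := Nat.pow_pos (n := l) hq
  rw [Nat.gcd_rec, Nat.gcd_rec 2 (q - 1), show (q ^ l - 1) % 2 = (q - 1) % 2 by omega]

end Cfsg.Agent.Chev.Cl
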