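import Cfsg.Agent.Lib.Chev.TypeA

set_option autoImplicit false
set_option linter.unusedSectionVars false
set_option linter.style.haveILetI false

/-! The Steinberg presentation of the special linear group. -/

namespace Cfsg.Agent.Chev
open scoped commutatorElement
open Matrix

variable {n : ℕ} (hn : 2 ≤ n) {F : Type*} [Field F] {G : Type*} [Group G]

theorem NA {a b c : Fin (n + 1)} (h1 : a ≠ c) (h2 : a ≠ b) (h3 : b ≠ c) :
    (qzA n).N ⟨(a, b), h2⟩ ⟨(b, c), h3⟩ = 1 ∧ (qzA n).N ⟨(b, c), h3⟩ ⟨(a, b), h2⟩ = -1 := by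
  have e1 := congrFun (congrFun ((qzA n).N_eq (addA h1 h2 h3)) a) c
  have e2 := congrFun (congrFun ((qzA n).N_eq ((addA h1 h2 h3).trans (add_comm _ _))) a) c
  simp [single_mul, h1.symm] at e1 e2
  exact ⟨e1.symm, e2.symm⟩

theorem relA {y : RA n → F → G} (h1 : ∀ r t u, y r t * y r u = y r (t + u))
    (h2 : ∀ r s t u, r.1.1 ≠ s.1.2 → r.1.2 ≠ s.1.1 → Commute (y r t) (y s u))
    (h3 : ∀ a b c (h1 : a ≠ c) (h2 : a ≠ b) (h3 : b ≠ c) t u, ⁅y ⟨(a, b), h2⟩ t, y ⟨(b, c), h3⟩ u⁆ = y ⟨(a, c), h1⟩ (t * u)) :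
    (cdA hn).Rel y := by
  have h0 : ∀ r, y r 0 = 1 := fun r => by simpa using h1 r 0 0
  refine ⟨h1, fun ⟨(a, b), hr⟩ ⟨(c, d), hs⟩ t u e1 e2 => ?_⟩
  have e3 := e2
  simp only [negA, Prod.swap, ne_eq, Subtype.mk.injEq, Prod.mk.injEq] at e1 e3
  by_cases p1 : b = c
  · subst p1
    have p : a ≠ d := by grind
    rw [RS.QZ.ct_one _ _ (addA p hr hs) (by rw [pairA]; grind) (by rw [pairA]; grind), (NA p hr hs).1]
    have := h3 a b d p hr hs t u
    rw [commutatorElement_def, mul_inv_eq_iff_eq_mul, mul_inv_eq_iff_eq_mul] at this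
    simp only [List.map_cons, List.map_nil, List.prod_cons, List.prod_nil, this, mul_assoc, mul_one]
    rw [(h2 ⟨(a, b), hr⟩ ⟨(a, d), p⟩ _ _ p hr.symm).eq, ← mul_assoc (y _ u), (h2 ⟨(b, d), hs⟩ ⟨(a, d), p⟩ _ _ hs p.symm).eq, ← mul_assoc,
      ← mul_assoc, h1]
    simp [h0]
  by_cases p2 : d = a
  · subst p2
    have p : c ≠ b := Ne.symm p1
    rw [RS.QZ.ct_one _ _ ((addA p hs hr).trans (add_comm _ _)) (by rw [pairA]; grind) (by rw [pairA]; grind), (NA p hs hr).2]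
    have := h3 c d b p hs hr u t
    rw [commutatorElement_def, mul_inv_eq_iff_eq_mul, mul_inv_eq_iff_eq_mul] at this
    simp only [List.map_cons, List.map_nil, List.prod_cons, List.prod_nil, this, mul_assoc, mul_one]
    rw [(h2 ⟨(c, d), hs⟩ ⟨(c, b), p⟩ _ _ p hs.symm).eq, ← mul_assoc (y _ t), (h2 ⟨(d, b), hr⟩ ⟨(c, b), p⟩ _ _ hr p.symm).eq, mul_assoc]
    simp [mul_comm]
  rw [RS.QZ.ct_nil _ _ e2 (not_addA p1 (Ne.symm p2))]
  simpa using (h2 _ _ _ _ (Ne.symm p2) p1).symm.eq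

theorem tv_comm {ι : Type*} [Fintype ι] [DecidableEq ι] {a b c d : ι} (h1 : a ≠ b) (h2 : c ≠ d) (h3 : a ≠ d) (h4 : b ≠ c) (t u : F) :
    Commute (SpecialLinearGroup.transvection h1 t) (SpecialLinearGroup.transvection h2 u) := Subtype.ext <| by
  simp [SpecialLinearGroup.transvection_coe, mul_add, add_mul, h3.symm, h4, add_assoc, add_comm, add_left_comm]

theorem tv_br {ι : Type*} [Fintype ι] [DecidableEq ι] {a b c : ι} (h1 : a ≠ c) (h2 : a ≠ b) (h3 : b ≠ c) (t u : F) :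
    ⁅SpecialLinearGroup.transvection h2 t, SpecialLinearGroup.transvection h3 u⁆ = SpecialLinearGroup.transvection h1 (t * u) := by
  rw [commutatorElement_def, mul_inv_eq_iff_eq_mul, mul_inv_eq_iff_eq_mul]
  refine Subtype.ext ?_
  simp [SpecialLinearGroup.transvection_coe, mul_add, add_mul, h3.symm, h2.symm, h1.symm, add_assoc, add_comm, add_left_comm]

/-- homomorphisms out of the special linear group -/
theorem exists_homA [Finite F] {y : RA n → F → G} (h : (cdA hn).Rel y) :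
    ∃ φ : SpecialLinearGroup (Fin (n + 1)) F →* G, ∀ r t, φ (SpecialLinearGroup.transvection r.2 t) = y r t := by
  obtain ⟨S, h1, h2, h3⟩ := exists_stA hn F
  obtain ⟨φ, hφ⟩ := S.ad.cov_lift S.rel
  obtain ⟨ψ, hψ⟩ := S.ad.cov_lift h
  let e := MulEquiv.ofBijective φ ⟨St.inj_of_hT (S' := S) S.ad.cov_Gx rfl (St.hMul_of_finite _) (St.hMul_of_finite _) hφ (h3 _), St.surj_of h1 hφ⟩
  exact ⟨ψ.comp e.symm.toMonoidHom, fun r t => by rw [← h2, ← hφ, ← hψ]; exact congrArg ψ (e.symm_apply_apply _)⟩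

end Cfsg.Agent.Chev
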