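import Cfsg.Agent.Lib.Chev.Cl6
import Cfsg.Agent.Lib.Chev.TypeA2
import Cfsg.Agent.Lib.Chev.TwSL

set_option autoImplicit false
set_option linter.unusedSectionVars false
set_option linter.style.haveILetI false

/-! The unitary groups as twisted groups. -/

namespace Cfsg.Agent.Chev
open Cfsg.Agent.Classical Matrix
open scoped commutatorElement

section
variable {I R : Type} [Fintype I] [DecidableEq I] [Fintype R] [DecidableEq R]

/-- symmetries from coordinates -/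
def RS.mkSym (Φ : RS I R) (ρ : Equiv.Perm R) (ρI : Equiv.Perm I) (h1 : ∀ i, ρ (Φ.sim i) = Φ.sim (ρI i))
    (h2 : ∀ r i, Φ.rv (ρ r) (ρI i) = Φ.rv r i) (h3 : ∀ r i, Φ.A (ρI i) (ρ r) = Φ.A i r) : Φ.Sym where
  ρ := ρ
  ρI := ρI
  sim := h1
  rf i r := Φ.rv_inj (funext fun j => by
    obtain ⟨j, rfl⟩ := ρI.surjective j
    simp [h2, Φ.rv_rf, h3, Pi.single_apply])

/-- the orbits of a symmetry -/
def RS.Sym.orb {Φ : RS I R} (σ : Φ.Sym) : σ.Orb (Quotient (Equiv.Perm.SameCycle.setoid σ.ρI)) where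
  κ := Quotient.mk _
  surj := Quotient.mk_surjective
  inv i := Quotient.sound (Equiv.Perm.SameCycle.refl _ i).apply_left
  cyc i j e := (Equiv.Perm.SameCycle.exists_nat_pow_eq (Quotient.exact e)).imp fun n h => by simpa [← Equiv.Perm.iterate_eq_pow] using h

theorem RS.Sym.Orb.eq_of_invol {Φ : RS I R} {σ : Φ.Sym} {K : Type} (o : σ.Orb K) (h : ∀ i, σ.ρI (σ.ρI i) = i) {i j : I}
    (e : o.κ i = o.κ j) : j = i ∨ j = σ.ρI i := by
  obtain ⟨n, rfl⟩ := o.cyc i j e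
  clear e
  induction n with
  | zero => exact .inl rfl
  | succ n ih => rcases ih with a | a <;> simp [Function.iterate_succ_apply', a, h]

variable {Φ : CD I R} {F : Type*} [Field F] {G : Type*} [Group G] {S : St Φ F G}

theorem St.Tw.Sub.lieT {T : S.Tw} {K : Type} {o : T.ρ.Orb K} {Γ : Type*} [Group Γ] {ι : Γ →* G} (hX : T.Sub o ι.range)
    (hι : Function.Injective ι) [Finite F] (p : ℕ) [Fact p.Prime] [CharP F p] (hG : S.Gx = ⊤) (hc : Φ.Conn)
    (hco : ∀ i, ∃ u : Γ, ι u ∈ S.U ∧ S.co i (ι u) ≠ 0) (i : I) : LieT p Γ :=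
  have := St.finite_of_Gx hG
  ⟨hX.sbn hι p hG hc hco, fun h => by
    obtain ⟨_, ⟨v, rfl⟩, a, b⟩ := hX.VL (o.κ i)
    exact b (St.eq_one_of_mem_B_V (h.ge (Subgroup.mem_top v)) (St.VL_le_V _ a))⟩

end

variable {n : ℕ} (hn : 2 ≤ n) {F : Type*} [Field F]

/-- the graph symmetry of type `A` -/
noncomputable def symA : (cdA hn).Sym :=
  (rsA n).mkSym (Function.Involutive.toPerm (fun r => ⟨(r.1.2.rev, r.1.1.rev), Fin.rev_injective.ne r.2.symm⟩) fun r => by simp) Fin.revPerm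
    (fun i => by simp [simA, Fin.rev_succ, Fin.rev_castSucc, Function.Involutive.toPerm])
    (fun r i => by simp [rvA, Function.Involutive.toPerm]; grind) fun r i => by
      simp only [← RS.pair_sim, simA, pairA, Fin.ext_iff]; simp [Function.Involutive.toPerm]; grind

theorem symA_ρ (r : RA n) : (symA hn).ρ r = ⟨(r.1.2.rev, r.1.1.rev), Fin.rev_injective.ne r.2.symm⟩ := rfl
theorem symA_ρI (i : Fin n) : (symA hn).ρI i = i.rev := rfl

/-- signs -/
def εA (r : RA n) : ℤ := -(-1) ^ (r.1.1.val + r.1.2.val)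

theorem εA_sim (i : Fin n) : εA ((cdA hn).sim i) = 1 ∧ εA ((cdA hn).neg ((cdA hn).sim i)) = 1 := by
  have : (-1 : ℤ) ^ (i.val + (i.val + 1)) = -1 := Odd.neg_one_pow (by grind)
  simp [εA, negA, simA, this, add_comm]

open SpecialLinearGroup in
theorem exists_su [Fintype F] {q : ℕ} (hF : Fintype.card F = q ^ 2) : ∃ (S : St (cdA hn) F (SpecialLinearGroup (Fin (n + 1)) F))
    (σ : SpecialLinearGroup (Fin (n + 1)) F →* SpecialLinearGroup (Fin (n + 1)) F) (ι : SU (n + 1) F q →* SpecialLinearGroup (Fin (n + 1)) F),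
    S.Gx = ⊤ ∧ (∀ r t, S.x r t = transvection r.2 t) ∧ (∀ r t, σ (S.x r t) = S.x ((symA hn).ρ r) (εA r * frobq hF t)) ∧
      Function.Injective ι ∧ ∀ g, g ∈ ι.range ↔ σ g = g := by
  obtain ⟨S, h1, h2, -⟩ := exists_stA hn F
  set f := frobq hF
  have ff : ∀ x, f (f x) = x := frobq_frobq hF
  haveI : Nontrivial (Fin (n + 1)) := Fin.nontrivial_iff_two_le.2 (by omega)
  obtain ⟨σ, hσ⟩ := exists_homA hn (y := fun r t => S.x ((symA hn).ρ r) (εA r * f t)) (relA hn (fun r t u => by rw [S.add, map_add, mul_add])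
    (fun r s t u a b => by rw [h2, h2]; exact tv_comm _ _ (Fin.rev_injective.ne b) (Fin.rev_injective.ne a) _ _) fun a b c i j k t u => by
      rw [h2, h2, h2, ← commutatorElement_inv]
      refine (congrArg _ (tv_br (Fin.rev_injective.ne i.symm) _ _ _ _)).trans ?_
      rw [← h2 ⟨(c.rev, a.rev), Fin.rev_injective.ne i.symm⟩, ← h2, S.x_inv]
      congr 1
      have : ((-1 : F) ^ b.val) ^ 2 = 1 := by rw [← pow_mul, mul_comm, pow_mul]; simp
      simp only [εA, pow_add, map_mul]; push_cast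
      linear_combination (- (-1) ^ a.val * (-1) ^ c.val * f t * f u) * this)
  obtain ⟨c, c0, hc⟩ : ∃ c : F, c ≠ 0 ∧ f c = (-1) ^ n * c := by
    obtain e | e := Nat.even_or_odd n
    · exact ⟨1, one_ne_zero, by simp [e]⟩
    · simpa [e.neg_one_pow] using exists_skew f (frobq_ne_id hF) ff
  let Φ : Form (unitKind hF) (Fin (n + 1) → F) := Form.ofHerm f (frobq_ne_id hF) ff
    (LinearMap.mk₂'ₛₗ (RingHom.id F) f (fun u v => ∑ i, u i * (c * (-1) ^ i.val) * f (v i.rev))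
      (by intros; simp only [Pi.add_apply, add_mul, Finset.sum_add_distrib])
      (by intros; simp only [Pi.smul_apply, smul_eq_mul, Finset.mul_sum, mul_assoc, RingHom.id_apply])
      (by intros; simp only [Pi.add_apply, map_add, mul_add, Finset.sum_add_distrib])
      (by intros; simp only [Pi.smul_apply, smul_eq_mul, Finset.mul_sum, map_mul, mul_left_comm])) fun u v => by
    simp only [LinearMap.mk₂'ₛₗ_apply, map_sum, map_mul, ff, hc, map_pow, map_neg, map_one]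
    refine Fintype.sum_equiv Fin.revPerm _ _ fun i => ?_
    have : (-1 : F) ^ n * (-1) ^ i.rev.val = (-1) ^ i.val := by
      rw [← pow_add, show n + i.rev.val = 2 * i.rev.val + i by grind, pow_add, pow_mul]; simp
    simp only [Fin.revPerm_apply, Fin.rev_rev]
    linear_combination (- v i * c * f (u i.rev)) * this
  have hB : ∀ u v, Φ.B u v = ∑ i, u i * (c * (-1) ^ i.val) * f (v i.rev) := fun _ _ => rfl
  have hΦ : Φ.Nondeg := fun v hv => funext fun i => by simpa [hB, Pi.single_apply, c0] using hv (Pi.single i.rev 1)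
  have h3 : ∀ g u v, Φ.B (g.1 *ᵥ u) ((σ g).1 *ᵥ v) = Φ.B u v := fun g => by
    refine Lin.transvection_induction (fun g => ∀ u v, Φ.B (g.1 *ᵥ u) ((σ g).1 *ᵥ v) = Φ.B u v) (fun a b h t u v => ?_) (fun g g' a b u v => ?_) g
    · have : ((-1 : F) ^ b.val) ^ 2 = 1 := by rw [← pow_mul, mul_comm, pow_mul]; simp
      rw [hσ ⟨(a, b), h⟩, h2]
      simp [transvection_coe, add_mulVec, single_mulVec_eq, hB, symA_ρ, Pi.single_apply, h, h.symm, εA, ff, pow_add, Fin.rev_eq_iff]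
      simp only [mul_add, Finset.sum_add_distrib, apply_ite f, map_zero, mul_neg, mul_ite, mul_zero, Finset.sum_neg_distrib, Finset.sum_ite_eq',
        Finset.mem_univ, if_true, map_mul, map_pow, map_neg, map_one, ff]
      linear_combination (- u b * c * (-1) ^ a.val * t * f (v a.rev)) * this
    · simp only [map_mul, Matrix.SpecialLinearGroup.coe_mul, ← mulVec_mulVec, a, b]
  obtain ⟨e, e1, -⟩ := unit_iso_std hF Φ hΦ (n := n + 1) (by simp)
  let A := glEquiv.symm e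
  have a1 : ∀ v, A.1 *ᵥ v = e v := glEquiv_symm_mulVec e
  let ι : SpecialLinearGroup (Fin (n + 1)) F ≃* SpecialLinearGroup (Fin (n + 1)) F :=
    { toFun g := ⟨A⁻¹.1 * g.1 * A.1, by rw [det_units_conj', g.2]⟩
      invFun g := ⟨A.1 * g.1 * A⁻¹.1, by rw [det_units_conj, g.2]⟩
      left_inv g := Subtype.ext (by simp [mul_assoc])
      right_inv g := Subtype.ext (by simp [mul_assoc])
      map_mul' g g' := Subtype.ext (show A⁻¹.1 * (g.1 * g'.1) * A.1 = A⁻¹.1 * g.1 * A.1 * (A⁻¹.1 * g'.1 * A.1) by simp [mul_assoc]) }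
  have a2 : ∀ g v, e ((ι g).1 *ᵥ v) = g.1 *ᵥ e v := fun g v => by
    simp only [← a1, mulVec_mulVec]; congr 1; change A.1 * (A⁻¹.1 * g.1 * A.1) = _; simp [mul_assoc]
  refine ⟨S, σ, ι.toMonoidHom.comp (Subgroup.subtype _), h1, h2, fun r t => by rw [← hσ, h2], ι.injective.comp Subtype.val_injective, fun g => ?_⟩
  obtain ⟨g, rfl⟩ := ι.surjective g
  have a3 : g ∈ SU (n + 1) F q ↔ ∀ u v, Φ.B ((ι g).1 *ᵥ u) ((ι g).1 *ᵥ v) = Φ.B u v := by
    simp only [← e1, a2]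
    exact ⟨fun h u v => h _ _, fun h u v => by simpa [uForm_B] using h (e.symm u) (e.symm v)⟩
  refine ⟨fun ⟨g', h⟩ => Subtype.ext (matrix_ext_mulVec fun v => sub_eq_zero.1 (hΦ _ fun u => ?_)), fun h => ⟨⟨g, a3.2 fun u v => ?_⟩, rfl⟩⟩
  · obtain rfl : g'.1 = g := ι.injective h
    obtain ⟨u, rfl⟩ : ∃ u', (ι g').1 *ᵥ u' = u := ⟨(ι g')⁻¹.1 *ᵥ u, by rw [mulVec_mulVec, ← Matrix.SpecialLinearGroup.coe_mul]; simp⟩
    rw [map_sub, h3, a3.1 g'.2, sub_self]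
  · simpa only [h] using h3 (ι g) u v

theorem posA {r : RA n} : (rsA n).Pos r ↔ r.1.1 < r.1.2 := by
  refine ⟨fun h => by_contra fun e => ?_, fun h i => by rw [rvA]; grind⟩
  have := h ⟨r.1.2, by grind⟩
  rw [rvA] at this; grind

section
variable {S : St (cdA hn) F (SpecialLinearGroup (Fin (n + 1)) F)} {σ : SpecialLinearGroup (Fin (n + 1)) F →* SpecialLinearGroup (Fin (n + 1)) F}
  (h1 : ∀ r t, S.x r t = SpecialLinearGroup.transvection r.2 t) {f : F →+* F} (hσ : ∀ r t, σ (S.x r t) = S.x ((symA hn).ρ r) (εA r * f t))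
include h1

theorem swapA {a b c : Fin (n + 1)} (i : a ≠ c) (j : a ≠ b) (k : b ≠ c) (t u : F) :
    S.x ⟨(a, b), j⟩ t * S.x ⟨(b, c), k⟩ u = S.x ⟨(b, c), k⟩ u * S.x ⟨(a, b), j⟩ t * S.x ⟨(a, c), i⟩ (t * u) := Subtype.ext <| by
  simp [h1, SpecialLinearGroup.transvection_coe, mul_add, add_mul, i.symm, j.symm, k.symm, add_assoc, add_comm, add_left_comm]

include hσ
theorem fixA (ff : ∀ x, f (f x) = x) (hf : f ≠ RingHom.id F) {a b : Fin (n + 1)} (h : a ≠ b) (e : a.val + 1 = b ∨ b.val + 1 = a) :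
    ∃ u ∈ S.Ux {r | r ≠ ⟨(a, b), h⟩ ∧ (r.1 = (b.rev, a.rev) ∨ r.1 = (a, a.rev) ∧ b.rev = b ∨ r.1 = (b.rev, b) ∧ a.rev = a)},
      σ (S.x ⟨(a, b), h⟩ 1 * u) = S.x ⟨(a, b), h⟩ 1 * u ∧ (S.x ⟨(a, b), h⟩ 1 * u).1 a b = 1 := by
  have e1 : ∀ h, εA (n := n) ⟨(a, b), h⟩ = 1 := fun _ => by rw [εA, Odd.neg_one_pow (by grind), neg_neg]
  have e2 : ∀ h, εA (n := n) ⟨(b.rev, a.rev), h⟩ = 1 := fun _ => by rw [εA, Odd.neg_one_pow (by grind), neg_neg]
  have e3 : ∀ {x y : Fin (n + 1)} h, x.rev = x → εA (n := n) ⟨(y, y.rev), h⟩ = -1 := fun _ _ => by rw [εA, Even.neg_one_pow (by grind)]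
  obtain ⟨s, hs⟩ := trace_surj_fixed f hf ff (-1) (by simp)
  by_cases c1 : b.rev = a
  · exact ⟨1, one_mem _, by subst c1; simp [hσ, symA_ρ, e1], by simp [h1, SpecialLinearGroup.transvection_coe, h]⟩
  have h' : b.rev ≠ a.rev := Fin.rev_injective.ne h.symm
  by_cases c2 : b.rev = b
  · have i : a ≠ a.rev := by grind
    have j : b ≠ a.rev := by grind
    refine ⟨S.x ⟨(b, a.rev), j⟩ 1 * S.x ⟨(a, a.rev), i⟩ s, mul_mem (St.x_mem (by grind) _) (St.x_mem (by grind) _), ?_, ?_⟩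
    · simp only [map_mul, hσ, symA_ρ, e1, e3 _ c2, c2, Fin.rev_rev, show εA ⟨(b, a.rev), j⟩ = 1 by simpa only [c2] using e2 h']
      rw [← mul_assoc, ← mul_assoc, swapA hn h1 i, mul_assoc _ (S.x _ _) (S.x _ s), S.add]
      congr 2 <;> simp; linear_combination -hs
    · simp [h1, SpecialLinearGroup.transvection_coe, mul_add, add_mul, h, i.symm, j.symm, h.symm, j]
  by_cases c3 : a.rev = a
  · have i : b.rev ≠ b := c2
    have j : b.rev ≠ a := c1
    refine ⟨S.x ⟨(b.rev, a), j⟩ 1 * S.x ⟨(b.rev, b), i⟩ (-s), mul_mem (St.x_mem (by grind) _) (St.x_mem (by grind) _), ?_, ?_⟩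
    · simp only [map_mul, hσ, symA_ρ, e1, c3, Fin.rev_rev, show εA ⟨(b.rev, a), j⟩ = 1 by simpa only [c3] using e2 h',
        show εA ⟨(b.rev, b), i⟩ = -1 by simpa only [Fin.rev_rev] using e3 (y := b.rev) (by simpa) c3]
      rw [← mul_assoc, ← mul_assoc, swapA hn h1 i, mul_assoc _ (S.x _ _), S.add]
      congr 2 <;> simp; linear_combination hs
    · simp [h1, SpecialLinearGroup.transvection_coe, mul_add, add_mul, h, i.symm, j.symm, h.symm, j]
  refine ⟨S.x ⟨(b.rev, a.rev), h'⟩ 1, St.x_mem (by grind) _, ?_, ?_⟩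
  · simp only [map_mul, hσ, symA_ρ, e1, e2, Fin.rev_rev, map_one, Int.cast_one, mul_one]
    simp only [h1]
    exact (tv_comm h' h c2 c3 (1 : F) 1).eq
  · simp [h1, SpecialLinearGroup.transvection_coe, mul_add, add_mul, h, c1, Ne.symm c2]

theorem vlA (ff : ∀ x, f (f x) = x) (hf : f ≠ RingHom.id F) {J : Set (Fin n)} {i : Fin n} (hi : i ∈ J) (hi' : i.rev ∈ J) :
    ∃ v, σ v = v ∧ v ∈ S.VL J ∧ v ≠ 1 := by
  obtain ⟨u, a, b, c⟩ := fixA hn h1 hσ ff hf i.castSucc_lt_succ.ne' (.inr rfl)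
  have h2 : ∀ r : RA n, r.1.2 < r.1.1 → (∀ j : Fin n, r.1.2.val ≤ j → j < r.1.1.val → j = i ∨ j = i.rev) →
      r ∈ {r | ¬ (cdA hn).Pos r ∧ (cdA hn).InJ J r} := fun r h h' => ⟨fun e => h.not_gt (posA.1 e), fun j hj => (rvA r j).trans (by grind)⟩
  refine ⟨_, b, mul_mem (St.x_mem (h2 _ i.castSucc_lt_succ (by grind)) _) (St.Ux_mono (fun r hr => h2 r ?_ ?_) a), fun e => ?_⟩
  · simp only [Set.mem_ofPred, Prod.ext_iff, Fin.ext_iff, Fin.lt_def, Fin.val_rev, Fin.val_succ, Fin.val_castSucc] at hr ⊢; omega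
  · simp only [Set.mem_ofPred, Prod.ext_iff, Fin.ext_iff, Fin.lt_def, Fin.val_rev, Fin.val_succ, Fin.val_castSucc] at hr ⊢; omega
  · simp [e, i.castSucc_lt_succ.ne'] at c

theorem subA (hG : S.Gx = ⊤) (ff : ∀ x, f (f x) = x) (hf : f ≠ RingHom.id F) {Γ : Type*} [Group Γ] {ι : Γ →* _} (hr : ∀ g, g ∈ ι.range ↔ σ g = g) :
    (St.mkTw (symA hn) εA (εA_sim hn) f σ hσ).Sub (symA hn).orb ι.range ∧ ∀ i, ∃ u : Γ, ι u ∈ S.U ∧ S.co i (ι u) ≠ 0 := by
  refine ⟨⟨hG.ge.trans' le_top, fun g => (hr g).1, fun _ u _ => (hr u).2, fun k => ?_⟩, fun i => ?_⟩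
  · obtain ⟨i, rfl⟩ := (symA hn).orb.surj k
    obtain ⟨v, a, b⟩ := vlA hn h1 hσ ff hf ((symA hn).orb.mem_J i) ((symA hn).orb.inv i)
    exact ⟨v, (hr v).2 a, b⟩
  obtain ⟨u, a, b, -⟩ := fixA hn h1 hσ ff hf i.castSucc_lt_succ.ne (.inl rfl)
  obtain ⟨v, e⟩ := (hr _).2 b
  have h2 : ∀ r ∈ {r : RA n | r ≠ ⟨(i.castSucc, i.succ), i.castSucc_lt_succ.ne⟩ ∧ (r.1 = (i.succ.rev, i.castSucc.rev) ∨
    r.1 = (i.castSucc, i.castSucc.rev) ∧ i.succ.rev = i.succ ∨ r.1 = (i.succ.rev, i.succ) ∧ i.castSucc.rev = i.castSucc)},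
      (cdA hn).Pos r ∧ r ≠ (cdA hn).sim i := fun r hr => ⟨posA.2 (by grind), simA i ▸ hr.1⟩
  have h3 : u ∈ S.U := St.Ux_mono (fun r hr => (h2 r hr).1) a
  rw [← simA] at e
  refine ⟨v, e ▸ mul_mem (St.x_mem_U (RS.pos_sim _ i) _) h3, ?_⟩
  rw [e, St.co_mul i (St.x_mem_U (RS.pos_sim _ i) _) h3, St.co_eq_zero h2 a, St.co_x]
  simp
end

theorem lieT_su [Fintype F] (p : ℕ) [Fact p.Prime] [CharP F p] {n q : ℕ} (hn : 3 ≤ n) (hF : Fintype.card F = q ^ 2) : LieT p (SU n F q) := by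
  obtain ⟨n, rfl⟩ : ∃ k, n = k + 1 := ⟨n - 1, by omega⟩
  obtain ⟨S, σ, ι, h1, h2, h3, h4, h5⟩ := exists_su (n := n) (by omega) hF
  obtain ⟨a, b⟩ := subA _ h2 h3 h1 (frobq_frobq hF) (frobq_ne_id hF) h5
  exact a.lieT h4 p h1 (goodA (by omega)).conn b ⟨0, by omega⟩

end Cfsg.Agent.Chev
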