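import Cfsg.Agent.Lib.Chev.Cl6

set_option autoImplicit false
set_option linter.unusedSectionVars false
set_option linter.style.haveILetI false

/-! Central extensions of the symplectic and spin groups. -/

namespace Cfsg.Agent.Chev.Cl
open scoped commutatorElement

variable {τ n : ℕ} {hn : 1 ≤ n} {a b c d x y : ℤ}

theorem pair_cases {P : RC τ n → RC τ n → Prop} (sy : ∀ r s, P r s → P s r)
    (h1 : ∀ a b c d h h', b ≠ 0 → b ≠ c ∧ b ≠ d ∧ b ≠ -c ∧ b ≠ -d → P (mkC a b h) (mkC c d h'))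
    (h2 : ∀ a b h h', a ≠ b → a ≠ 0 → b ≠ 0 → P (mkC a b h) (mkC a (-b) h')) (r s : RC τ n) (e : s ≠ r) (e' : s ≠ (rs τ hn).neg r) : P r s := by
  induction r using RC.ind with | h a b h => ?_
  induction s using RC.ind with | h c d h' => ?_
  rw [neg_mk, Ne, mkC_inj] at e'
  rw [Ne, mkC_inj] at e
  by_cases e1 : b ≠ 0 ∧ b ≠ c ∧ b ≠ d ∧ b ≠ -c ∧ b ≠ -d
  · exact h1 _ _ _ _ _ _ e1.1 e1.2
  by_cases e2 : a ≠ 0 ∧ a ≠ c ∧ a ≠ d ∧ a ≠ -c ∧ a ≠ -d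
  · rw [mkC_comm h]; exact h1 _ _ _ _ _ _ e2.1 e2.2
  by_cases e3 : d ≠ 0 ∧ d ≠ a ∧ d ≠ b ∧ d ≠ -a ∧ d ≠ -b
  · exact sy _ _ (h1 _ _ _ _ _ _ e3.1 e3.2)
  by_cases e4 : c ≠ 0 ∧ c ≠ a ∧ c ≠ b ∧ c ≠ -a ∧ c ≠ -b
  · rw [mkC_comm h']; exact sy _ _ (h1 _ _ _ _ _ _ e4.1 e4.2)
  have e5 := h.2.2.2.2.1
  have e6 := h'.2.2.2.2.1
  have e7 : a ≠ b ∧ a ≠ 0 ∧ b ≠ 0 := by grind [okC]
  obtain ⟨rfl, rfl⟩ | ⟨rfl, rfl⟩ | ⟨rfl, rfl⟩ | ⟨rfl, rfl⟩ : c = a ∧ d = -b ∨ d = a ∧ c = -b ∨ c = b ∧ d = -a ∨ d = b ∧ c = -a := by omega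
  · exact h2 _ _ _ _ e7.1 e7.2.1 e7.2.2
  · rw [mkC_comm h']; exact h2 _ _ _ _ e7.1 e7.2.1 e7.2.2
  · rw [mkC_comm h]; exact h2 _ _ _ _ e7.1.symm e7.2.2 e7.2.1
  · rw [mkC_comm h, mkC_comm h']; exact h2 _ _ _ _ e7.1.symm e7.2.2 e7.2.1

theorem okC.bd (h : okC τ n a b) : -(n + 1 : ℤ) ≤ a ∧ a ≤ n + 1 ∧ -(n + 1 : ℤ) ≤ b ∧ b ≤ n + 1 ∧ a + b ≠ 0 := ⟨h.1, h.2.1, h.2.2.1, h.2.2.2.1, h.2.2.2.2.1⟩
theorem ok2 (h : -(n + 1 : ℤ) ≤ a ∧ a ≤ n + 1 ∧ -(n + 1 : ℤ) ≤ b ∧ b ≤ n + 1 ∧ a + b ≠ 0 ∧ a ≠ b ∧ a ≠ 0 ∧ b ≠ 0) : okC τ n a b := by grind [okC]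
theorem fresh2 (h : 2 ≤ n) (a b : ℤ) : ∃ z : ℤ, 0 < z ∧ z ≤ n + 1 ∧ (z ≠ a ∧ z ≠ -a) ∧ z ≠ b ∧ z ≠ -b := by simpa using fresh [a, b] h
theorem fresh3 (h : 3 ≤ n) (a b c : ℤ) : ∃ z : ℤ, 0 < z ∧ z ≤ n + 1 ∧ (z ≠ a ∧ z ≠ -a) ∧ (z ≠ b ∧ z ≠ -b) ∧ z ≠ c ∧ z ≠ -c := by
  simpa using fresh [a, b, c] h
theorem fresh4 (h : 4 ≤ n ∨ 3 ≤ n ∧ (a = 0 ∨ c = 0 ∨ d = 0 ∨ a = c ∨ a = d ∨ a = -c ∨ a = -d)) (b : ℤ) :
    ∃ z : ℤ, 0 < z ∧ z ≤ n + 1 ∧ (z ≠ a ∧ z ≠ -a) ∧ (z ≠ b ∧ z ≠ -b) ∧ (z ≠ c ∧ z ≠ -c) ∧ z ≠ d ∧ z ≠ -d := by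
  rcases h with h | ⟨h, e⟩
  · simpa using fresh [a, b, c, d] h
  by_cases e1 : c = 0
  · exact (fresh3 h a b d).imp (by omega)
  by_cases e2 : d = 0
  · exact (fresh3 h a b c).imp (by omega)
  exact (fresh3 h b c d).imp (by omega)

theorem exists_v {F : Type*} [Field F] (h2 : (2 : F) ≠ 0) (h : ∃ c : Fˣ, c ^ 2 ≠ 1) : ∃ v : F, v ≠ 0 ∧ v ≠ 1 ∧ 1 - v + v ^ 2 ≠ 0 := by
  by_cases h3 : (3 : F) = 0
  swap
  · exact ⟨-1, by simp, fun e => h2 (by linear_combination -e), fun e => h3 (by linear_combination e)⟩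
  obtain ⟨c, hc'⟩ := h
  have h4 : (c : F) ^ 2 ≠ 1 := fun e => hc' (Units.ext (by simpa using e))
  refine ⟨c, c.ne_zero, fun e => h4 (by rw [e, one_pow]), fun e => h4 ?_⟩
  rw [eq_neg_of_add_eq_zero_left (pow_eq_zero_iff two_ne_zero |>.1 (show ((c : F) + 1) ^ 2 = 0 by linear_combination e + c * h3))]
  simp

variable {A : Type*} [Ring A] {e : RC τ n → A} (q : (rs τ hn).QZ e) (hc') {F : Type*} [Field F] {G : Type*} [Group G]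
  {S : St (q.cd hc') F G} {E : Type*} [Group E] {π : E →* G} (hc : π.ker ≤ Subgroup.center E) (hs : Function.Surjective π)

theorem cz_mk (h : okC τ n a b) (h' : okC τ n c d) (h0 : a + c ≠ 0 ∧ a + d ≠ 0 ∧ b + c ≠ 0 ∧ b + d ≠ 0) (p : ℕ) :
    (q.cd hc').Cz p (mkC a b h) (mkC c d h') := q.cz hc' (by rw [neg_mk, Ne, mkC_inj]; omega) (not_add h0) p
theorem cz_O (hτ : τ ≠ 1) (h : okC τ n a b) (h' : okC τ n c d) (h0 : a ≠ 0 ∧ b ≠ 0 ∧ c ≠ 0 ∧ d ≠ 0) (h1 : 0 ≤ prw a b c + prw a b d) (p : ℕ) :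
    (q.cd hc').Cz p (mkC a b h) (mkC c d h') := q.cz_of_ln hc' (by rwa [pair_mk]) (fun k => k.ind fun _ _ _ => by simp only [ln_mk]; grind [okC]) p
theorem t1_mk {D : List ℤ} (hD : ∀ d ∈ D, ∃ c : Fˣ, c ^ d ≠ 1) (h : okC τ n a b) (h' : okC τ n c d) (hk : okC τ n x y)
    (h0 : prw x y c + prw x y d = 0 ∧ prw x y a + prw x y b ∈ D) : S.T1 (mkC a b h) (mkC c d h') :=
  St.T1.of_td hD ⟨mkC x y hk, by simpa only [pair_mk] using h0⟩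

include hc hs
/-- splitting a root along a fresh index -/
theorem cm_mk (h : okC τ n a b) (h' : okC τ n c d) {z : ℤ} (hz : 0 < z ∧ z ≤ n + 1 ∧ (z ≠ a ∧ z ≠ -a) ∧ (z ≠ b ∧ z ≠ -b) ∧ (z ≠ c ∧ z ≠ -c) ∧ z ≠ d ∧ z ≠ -d)
    (h0 : a ≠ b ∧ a ≠ 0 ∧ b ≠ 0 ∧ a + c ≠ 0 ∧ a + d ≠ 0 ∧ b + c ≠ 0 ∧ b + d ≠ 0) : S.Cm π (mkC a b h) (mkC c d h') :=
  St.Cm.of_one hc hs (one_mk q hc' h (b := z) (by grind [okC]) (by grind [okC]) (by grind [okC])) Nat.cast_zero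
    (cz_mk q hc' _ _ (by omega) 0) (cz_mk q hc' _ _ (by omega) 0)

theorem cm_opp (hF : ∀ t : F, t = 0 ∨ t = 1) (h3 : 3 ≤ n) (h : okC τ n a b) (h' : okC τ n a (-b)) (h0 : a ≠ b ∧ a ≠ 0 ∧ b ≠ 0)
    (h1 : ∀ a b h h', a ≠ 0 → b ≠ 0 → a ≠ b → (q.cd hc').Cz 2 (mkC a b h) (mkC a (-b) h'))
    (h2 : ∀ a b c d h h', a ≠ b ∧ c ≠ d ∧ a ≠ 0 ∧ b ≠ 0 ∧ c ≠ 0 ∧ d ≠ 0 ∧ a + c ≠ 0 ∧ a + d ≠ 0 ∧ b + c ≠ 0 ∧ b + d ≠ 0 → S.Cm π (mkC a b h) (mkC c d h')) :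
    S.Cm π (mkC a b h) (mkC a (-b) h') := by
  obtain ⟨u, hu⟩ := fresh2 (by omega : 2 ≤ n) a b
  obtain ⟨v, hv⟩ := fresh3 h3 a b u
  have o : ∀ {a b c d f g} h1 h2 h3, (∀ x, dl a x + dl b x = dl c x + dl d x + (dl f x + dl g x)) →
      a ≠ b ∧ c ≠ d ∧ f ≠ g ∧ a ≠ 0 ∧ b ≠ 0 ∧ c ≠ 0 ∧ d ≠ 0 ∧ f ≠ 0 ∧ g ≠ 0 → (q.cd hc').One (mkC c d h2) (mkC f g h3) (mkC a b h1) :=
    fun h1 h2 h3 h4 h5 => q.one hc' ((euc τ hn).add_iff.2 (funext fun i => by simpa [euc, vC_mk, ev] using h4 _))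
      (by simp [ln_mk, h5]) (by simp [ln_mk, h5])
  have := h.bd
  refine St.Cm.of_two hc hs hF (a := mkC u b (ok2 (by omega))) (b := mkC u (-b) (ok2 (by omega))) (g := mkC a (-u) (ok2 (by omega)))
    (k := mkC u a (ok2 (by omega))) (c := mkC u v (ok2 (by omega))) (d := mkC a (-v) (ok2 (by omega))) (g' := mkC v (-b) (ok2 (by omega)))
    (g'' := mkC v b (ok2 (by omega))) ?_ ?_ ?_ ?_ ?_ ?_ ?_ ?_ ?_ (h1 _ _ _ _ (by omega) (by omega) (by omega)) (cz_mk q hc' _ _ (by omega) 2) (cz_mk q hc' _ _ (by omega) 2)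
    (h2 _ _ _ _ _ _ (by omega)) (h2 _ _ _ _ _ _ (by omega)) (h2 _ _ _ _ _ _ (by omega)) (h2 _ _ _ _ _ _ (by omega)) (h2 _ _ _ _ _ _ (by omega))
  all_goals exact o _ _ _ (fun x => by simp only [dl]; omega) (by omega)

theorem cm_r (h : 2 ≤ n) (r : RC τ n) (h1 : (rs τ hn).ln r = 2) : S.Cm π r r := by
  induction r using RC.ind with | h a b h0 => ?_
  obtain ⟨z, hz⟩ := fresh2 h a b
  have := h0.bd
  exact cm_mk q hc' hc hs _ _ (z := z) (by omega) (by rw [ln_mk] at h1; grind)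

theorem liftsO (hτ : τ ≠ 1) (hG : S.Gx = ⊤) (hF : ∃ a : F, a ≠ 0 ∧ a ≠ 1) (h2 : τ = 0 → (2 : F) ≠ 0)
    (h : 3 ≤ n ∨ τ = 0 ∧ 2 ≤ n ∧ ∃ c : Fˣ, c ^ 2 ≠ 1) : S.Lifts π := by
  have hD := one_pow_ne hF
  refine St.lifts_of hc hs hG (fun r => ?_) (pair_cases (fun r s => by rw [or_left_comm]; exact Or.imp_right (Or.imp_right (St.Cm.symm hc hs)))
    (fun a b c d h1 h3 e e' => ?_) fun a b h1 h3 e1 e2 e3 => ?_)
  · induction r using RC.ind with | h a b h0 => ?_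
    wlog e : b ≠ 0 generalizing a b
    · rw [mkC_comm]; exact this _ _ _ (by grind [okC])
    obtain ⟨z, hz⟩ := fresh2 (by omega : 2 ≤ n) a b
    have := h0.bd
    have h3 : a ≠ b := by grind [okC]
    refine ⟨?_, mkC b (-z) (ok2 (by omega)), t1_mk q hc' hD _ _ (ok2 (a := b) (b := z) (by omega)) (by grind [prw, dl])⟩
    by_cases e' : a = 0
    swap
    · exact cm_r q hc' hc hs (by omega) _ (by simp [ln_mk, *])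
    by_cases h4 : ∃ c : Fˣ, c ^ 2 ≠ 1
    · obtain ⟨v, h5⟩ := exists_v (h2 (h0.2.2.2.2.2.2.1 e')) h4
      exact St.Cm.of_big hc hs (k := mkC b z (ok2 (by omega))) (by rw [pair_mk]; grind [prw, dl]) h5.1 h5.2.1 h5.2.2
    · exact St.Cm.of_prime hc hs (three_of hF h4).1 one_ne_zero (self_mem_LC hc hs _)
  · have := h1.bd
    have := h3.bd
    have h5 : a ≠ b := by grind [okC]
    by_cases e1 : 4 ≤ n ∨ 3 ≤ n ∧ (a = 0 ∨ c = 0 ∨ d = 0 ∨ a = c ∨ a = d ∨ a = -c ∨ a = -d)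
    · obtain ⟨z, hz⟩ := fresh4 e1 b
      exact .inl (t1_mk q hc' hD _ _ (ok2 (a := b) (b := z) (by omega)) (by grind [prw, dl]))
    by_cases h4 : ∃ c : Fˣ, c ^ 2 ≠ 1
    · by_cases e2 : τ = 0
      · exact .inl (t1_mk q hc' (two_pow_ne h4) _ _ (x := 0) (y := b) (by grind [okC]) (by grind [prw, dl]))
      · exact .inl (t1_mk q hc' (two_pow_ne h4) _ _ h1 (by grind [prw, dl]))
    have h6 : c ≠ d := by grind [okC]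
    have h7 : 3 ≤ n := h.resolve_right fun e => h4 e.2.2
    refine .inr (.inr (St.Cm.of_swap2 hc hs (three_of hF h4).1 (three_of hF h4).2.1 (k := mkC a (-c) (ok2 (by omega))) (l := mkC b (-d) (ok2 (by omega)))
      (cz_mk q hc' _ _ (by omega) 0) (by rw [pair_mk]; grind [prw, dl]) (by rw [pair_mk]; grind [prw, dl]) (by rw [pair_mk]; grind [prw, dl])
      ((euc τ hn).Λ_inj (by simp only [map_add, Euc.Λ_rv]; simp only [euc, vC_mk, ev_neg]; abel)) ?_))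
    simp only [neg_mk, List.mem_cons, List.not_mem_nil, or_false, forall_eq_or_imp, forall_eq]
    exact ⟨⟨cz_mk q hc' _ _ (by omega) 0, cz_mk q hc' _ _ (by omega) 0⟩, cz_mk q hc' _ _ (by omega) 0, cz_mk q hc' _ _ (by omega) 0⟩
  have := h1.bd
  by_cases h4 : ∃ c : Fˣ, c ^ 2 ≠ 1
  · exact .inl (t1_mk q hc' (two_pow_ne h4) _ _ h1 (by grind [prw, dl]))
  have h7 : 3 ≤ n := h.resolve_right fun e => h4 e.2.2
  obtain ⟨z, hz⟩ := fresh2 (by omega : 2 ≤ n) a b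
  refine .inr (.inr (St.Cm.of_swap2 hc hs (three_of hF h4).1 (three_of hF h4).2.1 (k := mkC b z (ok2 (by omega))) (l := mkC b (-z) (ok2 (by omega)))
      (cz_O q hc' hτ _ _ (by omega) (by grind [prw, dl]) 0) (by rw [pair_mk]; grind [prw, dl]) (by rw [pair_mk]; grind [prw, dl]) (by rw [pair_mk]; grind [prw, dl])
      ((euc τ hn).Λ_inj (by simp only [map_add, Euc.Λ_rv]; simp only [euc, vC_mk, ev_neg]; abel)) ?_))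
  simp only [neg_mk, List.mem_cons, List.not_mem_nil, or_false, forall_eq_or_imp, forall_eq]
  refine ⟨⟨?_, ?_⟩, ?_, ?_⟩ <;> exact cz_O q hc' hτ _ _ (by omega) (by grind [prw, dl]) 0

theorem liftsD (hτ : 2 ≤ τ) (hG : S.Gx = ⊤) (h : 4 ≤ n ∨ 3 ≤ n ∧ ∃ a : F, a ≠ 0 ∧ a ≠ 1) : S.Lifts π := by
  by_cases hF : ∃ a : F, a ≠ 0 ∧ a ≠ 1
  · exact liftsO q hc' hc hs (by omega) hG hF (by omega) (.inl (by omega))
  have h4 : 4 ≤ n := h.resolve_right fun e => hF e.2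
  replace hF : ∀ t : F, t = 0 ∨ t = 1 := by simpa [or_iff_not_imp_left] using hF
  have hl : ∀ r, (rs τ hn).ln r = 2 := fun r => r.ind fun _ _ _ => by rw [ln_mk]; grind [okC]
  have h1 : ∀ a b c d h h', a ≠ b ∧ c ≠ d ∧ a ≠ 0 ∧ b ≠ 0 ∧ c ≠ 0 ∧ d ≠ 0 ∧ a + c ≠ 0 ∧ a + d ≠ 0 ∧ b + c ≠ 0 ∧ b + d ≠ 0 →
      S.Cm π (mkC a b h) (mkC c d h') := fun a b c d h h' e => by
    obtain ⟨z, hz⟩ := fresh4 (a := a) (c := c) (d := d) (.inl h4) b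
    exact cm_mk q hc' hc hs _ _ hz (by omega)
  have h2 : ∀ r, ∃ k, (rs τ hn).pair k r = 1 := fun r => r.ind fun a b h => by
    obtain ⟨z, hz⟩ := fresh2 (by omega : 2 ≤ n) a b
    exact ⟨mkC a z (by clear h1; grind [okC]), by rw [pair_mk]; clear h1; grind [prw, dl, okC]⟩
  refine q.lifts_sl_two hc' hc hs hl hG (good (by omega)) hF h2 fun r s => ?_
  by_cases e : s = r
  · exact fun _ => e ▸ cm_r q hc' hc hs (by omega) _ (hl _)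
  by_cases e' : s = (rs τ hn).neg r
  · simp [e', RS.pair_neg_right, RS.pair_same]
  refine pair_cases (P := fun r s => 0 ≤ (rs τ hn).pair r s → S.Cm π r s)
    (fun r s a b => (a (RS.pair_comm ((hl r).trans (hl s).symm) ▸ b)).symm hc hs) (fun a b c d h h' e1 e2 f => ?_) (fun a b h h' _ _ _ _ => ?_) r s e e'
  · exact h1 _ _ _ _ _ _ (by rw [pair_mk] at f; clear * - f h h' e1 e2 hτ; grind (splits := 30) [prw, dl, okC])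
  · exact cm_opp q hc' hc hs hF (by omega) _ _ (by omega) (fun _ _ _ _ _ _ _ => cz_O q hc' (by omega) _ _ (by omega) (by clear h1 h2; grind [prw, dl, okC]) 2) h1

end Cfsg.Agent.Chev.Cl
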