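import Cfsg.Agent.Lib.Chev.Collect2

set_option autoImplicit false
set_option maxRecDepth 100000
set_option linter.unusedSectionVars false
set_option linter.style.haveILetI false

/-! Fixed points of field automorphisms; lifting and injectivity criteria. -/

namespace Cfsg.Agent.Chev

open Cfsg.Lie
open scoped commutatorElement

variable {I R : Type} [Fintype I] [DecidableEq I] [Fintype R] [DecidableEq R]

/-- the orbits of the trivial symmetry -/
def RS.orbOne (Φ : RS I R) : (RS.Sym.one Φ).Orb I where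
  κ := id
  surj := Function.surjective_id
  inv _ := rfl
  cyc _ _ e := ⟨0, e⟩

namespace St
variable {Φ : CD I R} {F : Type*} [Field F] {G : Type*} [Group G] {S : St Φ F G}

theorem Gx_le_of_len (hΦ : Φ.Good) {K : Subgroup G} (hN : S.N ≤ K)
    (h : ∀ r, ∃ s, Φ.ln s = Φ.ln r ∧ ∀ t, S.x s t ∈ K) : S.Gx ≤ K := Ux_le.2 fun r _ t => by
  obtain ⟨s, e, hs⟩ := h r
  obtain ⟨w, rfl⟩ := hΦ.trans s r e
  obtain ⟨m, hm, χ, -, hχ⟩ := exists_of_W (S := S) w
  rw [← Units.mul_inv_cancel_left (χ s) t, ← hχ]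
  exact mul_mem (mul_mem (hN hm) (hs _)) (inv_mem (hN hm))

theorem x_mem_of_ct {K : Subgroup G} {a b p : R} {e : ℤ} (h : b ≠ a ∧ b ≠ Φ.neg a ∧ Φ.ct a b = [(p, e, 1, 1)])
    (he : (e : F) ≠ 0) (ha : ∀ t, S.x a t ∈ K) (hb : ∀ t, S.x b t ∈ K) (t : F) : S.x p t ∈ K := by
  have := S.comm a b (-1) ((e : F)⁻¹ * t) h.1 h.2.1
  rw [h.2.2, ← inv_mul_eq_iff_eq_mul] at this
  simp only [List.map_cons, List.map_nil, List.prod_cons, List.prod_nil, neg_neg, pow_one, mul_one,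
    mul_inv_cancel_left₀ he] at this
  exact this ▸ mul_mem (inv_mem (mul_mem (ha _) (hb _))) (mul_mem (hb _) (ha _))

theorem injective_of [Nonempty I] (hG : S.Gx = ⊤) (hθ : Function.Injective S.θ) (hc : Φ.Conn) {G' : Type*} [Group G']
    {φ : G →* G'} {K : Subgroup G'} (h1 : S.B.map φ ≤ K) {g : G} (h2 : φ g ∉ K) : Function.Injective φ := by
  rcases BN.normal_le_or_sup (bn_irreducible hG hc) φ.ker with h | h
  · exact φ.ker_eq_bot_iff.1 (le_bot_iff.1 (normalCore_B hθ ▸ Subgroup.normal_le_normalCore.2 h))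
  · refine absurd (h1 ?_) h2
    have : g ∈ φ.ker ⊔ S.B := by rw [show φ.ker ⊔ S.B = ⊤ from h]; trivial
    rw [Subgroup.mem_sup_of_normal_left] at this
    obtain ⟨a, ha, b, hb, rfl⟩ := this
    exact ⟨b, hb, by simp [show φ a = 1 from ha]⟩

theorem eq_one_of_commute_one (hθ : Function.Injective S.θ) {g : G} (hg : g ∈ S.Gx) (h : ∀ r, Commute g (S.x r 1)) :
    g = 1 := by
  have hU : g ∈ S.U := by
    obtain ⟨u, hu, m, hm, w, hmw, u', hu', rfl⟩ := bruhat' hg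
    have key : ∀ r, Φ.Pos r → ∃ v ∈ S.Ux (Φ.Abv r), ∃ v' ∈ S.Ux (Φ.Abv r),
        m * (S.x r 1 * v) * m⁻¹ = S.x r 1 * v' := fun r hr => by
      obtain ⟨v, hv, e⟩ := conj_x_U (S := S) hr 1 (Uw_le_U _ hu')
      obtain ⟨v', hv', e'⟩ := conj_x_U (S := S) hr 1 (inv_mem hu)
      refine ⟨v, hv, v', hv', ?_⟩
      rw [← e, ← e', ← mul_inv_cancel_right (S.x r 1) (u * m * u'), ← (h r).eq]
      conv_lhs => rw [(h r).eq, mul_inv_cancel_right]
      group
    obtain rfl : w = 1 := RS.eq_one_of_pos fun j => by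
      obtain ⟨v, hv, v', hv', e⟩ := key _ (Φ.pos_sim j)
      exact smul_ge_of_conj (Φ.pos_sim j) one_ne_zero hv RS.unip_pos.closed (fun _ h => h) hmw
        (e ▸ mul_mem (x_mem_U (Φ.pos_sim j) _) (Ux_mono (fun k hk => RS.Abv.pos (Φ.pos_sim j) hk) hv'))
    have hH := mem_H_of_acts hm hmw
    obtain ⟨a, ha⟩ := exists_isTor hH
    obtain rfl : a = 1 := funext fun j => by
      obtain ⟨v, hv, v', hv', e⟩ := key _ (Φ.pos_sim j)
      rw [show ∀ a, m * (a * v) * m⁻¹ = m * a * m⁻¹ * (m * v * m⁻¹) by intros; group, ha.2, ← eq_mul_inv_iff_mul_eq,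
        mul_assoc] at e
      simpa [Φ.rv_sim, RS.chi_single] using
        eq_of_x_eq_mul (Φ.pos_sim j) (mul_mem hv' (inv_mem (conj_H_Ux hH hv))) e
    rw [ha.eq_of_inj hθ isTor_one, mul_one]
    exact mul_mem hu (Uw_le_U _ hu')
  have key : ∀ w, ∃ m, S.Acts m w ∧ Commute g m := fun w => by
    induction w using RS.W_induction with
    | h1 => exact ⟨1, acts_one, Commute.one_right _⟩
    | h2 i w ih =>
      obtain ⟨m, h1, h2⟩ := ih
      refine ⟨_, (acts_n i 1).mul h1, Commute.mul_right (((h _).mul_right ?_).mul_right (h _)) h2⟩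
      simpa [x_inv] using (h (Φ.neg (Φ.sim i))).inv_right
  obtain ⟨m, h1, h2⟩ := key (Φ.w0 Set.univ)
  refine eq_one_of_mem_B_V (U_le_B hU) ?_
  rw [← mul_inv_cancel_right g m, h2.eq]
  exact h1.conj_mem (fun r hr => RS.w0_neg hr fun i hi => absurd trivial hi) hU

variable (S) in
/-- the coefficient of a root in a unipotent element, when the root is minimal -/
noncomputable def cf (r : R) (g : G) : F :=
  S.ent r (Φ.exists_cv_ne_zero F r).choose g / Φ.cv r (Φ.exists_cv_ne_zero F r).choose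

theorem cf_one (r : R) : S.cf r 1 = 0 := by simp [cf, ent_one]

theorem cf_x (r s : R) (t : F) : S.cf r (S.x s t) = if s = r then t else 0 := by
  split_ifs with h
  · rw [h, cf, ent_x_self, mul_div_cancel_left₀ _ (Φ.exists_cv_ne_zero F r).choose_spec]
  · rw [cf, ent, mat_x, S.ad.entry_ne' h, zero_div]

theorem cf_mul {l : I → ℤ} {A : Set R} {r : R} (h0 : 0 < Φ.fn l r) (h : ∀ s ∈ A, Φ.fn l r ≤ Φ.fn l s) {g g' : G}
    (hg : g ∈ S.Ux A) (hg' : g' ∈ S.Ux A) : S.cf r (g * g') = S.cf r g + S.cf r g' := by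
  simp only [cf, ent_mul h0 h hg hg', add_div]

theorem cf_P {l : I → ℤ} {r : R} (h0 : 0 < Φ.fn l r) {L : List R} (hL : L.Nodup) (h : ∀ s ∈ L, Φ.fn l r ≤ Φ.fn l s)
    (t : R → F) : S.cf r (S.P L t) = if r ∈ L then t r else 0 := by
  induction L with
  | nil => simp [cf_one]
  | cons a L ih =>
    rw [P_cons, cf_mul (A := {s | s ∈ a :: L}) h0 h (x_mem (by simp) _) (P_mem (fun _ h => by simp [h]) _), cf_x,
      ih hL.of_cons fun s hs => h s (by simp [hs])]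
    by_cases e : a = r
    · subst e; simp [(List.nodup_cons.1 hL).1]
    · simp [e, Ne.symm e]

section Lev
variable {l : I → ℤ} {A : Set R} (hA : Φ.Unip l A) {m : ℤ}
include hA

theorem unip_lev (m : ℤ) : Φ.Unip l (Φ.Lev l A m) := hA.subset (fun r hr s hs k hk => ⟨hA.closed r hr.1 s hs.1 k hk, by
  have := hk.fn_le (hA.pos r hr.1).le (hA.pos s hs.1).le
  have := hA.pos r hr.1; have := hs.2; omega⟩) fun _ h => h.1

theorem cf_mul_lev {r : R} (hr : r ∈ A) (e : Φ.fn l r = m) {g g' : G} (hg : g ∈ S.Ux (Φ.Lev l A m))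
    (hg' : g' ∈ S.Ux (Φ.Lev l A m)) : S.cf r (g * g') = S.cf r g + S.cf r g' :=
  cf_mul (hA.pos r hr) (fun _ h => e ▸ h.2) hg hg'

theorem cf_inv_lev {r : R} (hr : r ∈ A) (e : Φ.fn l r = m) {g : G} (hg : g ∈ S.Ux (Φ.Lev l A m)) :
    S.cf r g⁻¹ = - S.cf r g := by
  rw [eq_neg_iff_add_eq_zero, ← cf_mul_lev hA hr e (inv_mem hg) hg, inv_mul_cancel, cf_one]

theorem cf_eq_zero {r : R} (hr : r ∈ A) (e : Φ.fn l r < m) {g : G} (hg : g ∈ S.Ux (Φ.Lev l A m)) : S.cf r g = 0 := by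
  rw [cf, ent_eq_zero (hA.pos r hr).le (fun s hs => by have := hs.2; omega) hg, zero_div]

theorem exists_cf (m : ℤ) (t : R → F) : ∃ a ∈ S.Ux (Φ.Lev l A m), ∀ r ∈ A, Φ.fn l r = m → S.cf r a = t r := by
  obtain ⟨L, h1, h2⟩ := exists_list (Φ.Lev l A m)
  exact ⟨S.P L t, P_mem (fun r => (h2 r).1) t, fun r hr e => by
    rw [cf_P (hA.pos r hr) h1 fun s hs => e ▸ ((h2 s).1 hs).2, if_pos ((h2 r).2 ⟨hr, e.ge⟩)]⟩

theorem mem_lev_succ {g : G} (hg : g ∈ S.Ux (Φ.Lev l A m)) (h : ∀ r ∈ A, Φ.fn l r = m → S.cf r g = 0) :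
    g ∈ S.Ux (Φ.Lev l A (m + 1)) := by
  obtain ⟨L, h1, h2⟩ := exists_list {r ∈ A | Φ.fn l r = m}
  have h0 : ∀ r ∈ L, r ∈ Φ.Lev l A m := fun r hr => ⟨((h2 r).1 hr).1, ((h2 r).1 hr).2.ge⟩
  obtain ⟨t, v, hv, rfl⟩ := exists_eq_P_mul (unip_lev hA m) h1 h0 hg
  have hv' : v ∈ S.Ux (Φ.Lev l A (m + 1)) := Ux_mono (fun r hr => by
    exact ⟨hr.1.1, lt_of_le_of_ne (show m ≤ Φ.fn l r from hr.1.2) fun e => hr.2 ((h2 r).2 ⟨hr.1.1, e.symm⟩)⟩) hv
  rwa [P_zero fun r hr => ?_, one_mul]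
  obtain ⟨h3, h4⟩ := (h2 r).1 hr
  have := h r h3 h4
  rwa [cf_mul_lev hA h3 h4 (P_mem h0 t) (Ux_mono (fun _ h => h.1) hv),
    cf_P (hA.pos r h3) h1 fun s hs => by rw [h4, ((h2 s).1 hs).2], if_pos hr, cf_eq_zero hA h3 (by omega) hv',
    add_zero] at this

theorem lev_induction {p : G → Prop} (h1 : p 1)
    (h2 : ∀ m, 0 < m → (∀ g ∈ S.Ux (Φ.Lev l A (m + 1)), p g) → ∀ g ∈ S.Ux (Φ.Lev l A m), p g) {g : G}
    (hg : g ∈ S.Ux A) : p g := by
  obtain ⟨M, hM⟩ := exists_fn_bound (Φ := Φ) l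
  have : ∀ n : ℕ, n ≤ M → ∀ g ∈ S.Ux (Φ.Lev l A (M - n + 1)), p g := fun n => by
    induction n with
    | zero =>
      intro _ g hg
      obtain rfl : g = 1 := (Ux_le (K := ⊥)).2 (fun r hr => by have := hM r; have := hr.2; omega) hg
      exact h1
    | succ n ih =>
      intro hn
      have := h2 (M - n) (by omega) (ih (by omega))
      rwa [show (M : ℤ) - n = M - (n + 1 : ℕ) + 1 by push_cast; ring] at this
  exact this M le_rfl g (Ux_mono (fun r hr => by exact ⟨hr, by have := hA.pos r hr; omega⟩) hg)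

end Lev

theorem Tw.Sub.exists_mul_H {T : S.Tw} {K : Type} {o : T.ρ.Orb K} {X : Subgroup G} (hX : T.Sub o X) {g : G}
    (hg : g ∈ S.Gx) (e : T.σ g = g) : ∃ x ∈ X, ∃ h ∈ S.H, T.σ h = h ∧ g = x * h := by
  obtain ⟨u, hu, m, hm, w, hmw, u', hu', rfl⟩ := St.bruhat' hg
  obtain ⟨hw, e1, e2, e3⟩ := T.fix_normal_form hu hm hmw hu' e
  obtain ⟨m', h1, h2, h3⟩ := hX.exists_of_W1 hw
  have h4 := inv_mul_mem_H h2 hm h3 hmw
  have h5 : T.σ (m'⁻¹ * m) = m'⁻¹ * m := by rw [map_mul, map_inv, hX.fix _ h1, e2]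
  refine ⟨u * m' * (m'⁻¹ * m * u' * (m'⁻¹ * m)⁻¹), mul_mem (mul_mem (hX.mem_of_U hu e1) h1)
    (hX.mem_of_U (conj_H_Ux h4 (Uw_le_U _ hu')) (by rw [map_mul, map_mul, map_inv, h5, e3])), _, h4, h5, by group⟩

/-- the twisting data of a field automorphism -/
abbrev fieldTw (f : F →+* F) (σ : G →* G) (hσ : ∀ r t, σ (S.x r t) = S.x r (f t)) : S.Tw where
  ρ := RS.Sym.one _
  σ := σ
  τ _ t := f t
  f _ := f
  σ_x := hσ
  τ_sim _ _ := rfl
  τ_neg _ _ := rfl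

variable (S) in
/-- the subgroup generated by the root elements with fixed parameters -/
def Gf (f : F →+* F) : Subgroup G := Subgroup.closure {g | ∃ r t, f t = t ∧ g = S.x r t}

theorem x_mem_Gf {f : F →+* F} (r : R) {t : F} (h : f t = t) : S.x r t ∈ S.Gf f :=
  Subgroup.subset_closure ⟨r, t, h, rfl⟩

section
variable {f : F →+* F} {σ : G →* G} (hσ : ∀ r t, σ (S.x r t) = S.x r (f t))

theorem sub_Gf : (fieldTw f σ hσ).Sub Φ.orbOne (S.Gf f) where
  le := (Subgroup.closure_le _).2 (by rintro _ ⟨r, t, -, rfl⟩; exact x_mem_Gx r t)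
  fix _ hg := (Subgroup.closure_le (σ.eqLocus (MonoidHom.id G))).2
    (by rintro _ ⟨r, t, h, rfl⟩; exact (hσ r t).trans (congrArg _ h)) hg
  UL k u hu e := by
    obtain ⟨t, rfl⟩ := mem_Ux_singleton.1 (Ux_mono (B := {Φ.sim k})
      (fun r hr => RS.eq_sim_of_support hr.1 fun j hj => hr.2 j hj) hu)
    exact x_mem_Gf _ (x_inj ((hσ _ _).symm.trans e))
  VL k := ⟨_, x_mem_Gf (Φ.neg (Φ.sim k)) (map_one f),
    x_mem (by exact ⟨Φ.not_pos_neg_sim k, (RS.inJ_sim.2 (Φ.orbOne.mem_J k)).neg⟩) 1, by simp [x_eq_one_iff]⟩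

include hσ

theorem conj_Gf {h : G} (hh : h ∈ S.H) (e : σ h = h) {g : G} (hg : g ∈ S.Gf f) : h * g * h⁻¹ ∈ S.Gf f := by
  obtain ⟨a, ha⟩ := exists_isTor hh
  refine (Subgroup.closure_le ((S.Gf f).comap (MulAut.conj h).toMonoidHom)).2 ?_ hg
  rintro _ ⟨r, t, ht, rfl⟩
  show h * _ * h⁻¹ ∈ S.Gf f
  rw [ha.2]
  exact x_mem_Gf _ (x_inj (by rw [← hσ, ← ha.2, map_mul, map_mul, map_inv, e, hσ, ht]))

theorem mem_Gf (hm : S.HMul) (hi : Function.Injective hm.hT) {g : G} (hg : g ∈ S.Gx) (e : σ g = g) : g ∈ S.Gf f := by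
  obtain ⟨x, hx, h, hh, e', rfl⟩ := (sub_Gf hσ).exists_mul_H hg e
  obtain ⟨c, rfl⟩ := hm.exists_hT hh
  have := ((fieldTw f σ hσ).mem_tfix_iff hm hi c).2 e'
  exact mul_mem hx (hm.hT_mem_of fun i => (h_mem_of_one (f := f) (fun t ht => ⟨x_mem_Gf _ ht, x_mem_Gf _ ht⟩)
    (congrArg Units.val (this i)).symm).2)

theorem exists_fix_U {l : I → ℤ} {A : Set R} (hA : Φ.Unip l A) (h2 : ∀ t, f (f t) = t)
    (hf : ∀ t, t + f t = 0 → ∃ s, t = f s - s) {u : G}
    (hu : u ∈ S.Ux A) (e : u * σ u = 1) : ∃ v ∈ S.Ux A, u = v⁻¹ * σ v := by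
  have h1 : ∀ {B g}, g ∈ S.Ux B → σ g ∈ S.Ux B := fun hg => (fieldTw f σ hσ).map_Ux (fun _ h => h) hg
  have h3 : ∀ {B g}, g ∈ S.Ux B → σ (σ g) = g := fun hg =>
    (Ux_le (K := (σ.comp σ).eqLocus (MonoidHom.id G))).2 (fun r _ t => by show σ (σ _) = _; simp [hσ, h2]) hg
  refine lev_induction hA (p := fun u => u * σ u = 1 → ∃ v ∈ S.Ux A, u = v⁻¹ * σ v)
    (fun _ => ⟨1, one_mem _, by simp⟩) (fun m _ ih u hu e => ?_) hu e
  have h4 : ∀ r ∈ A, Φ.fn l r = m → ∀ g ∈ S.Ux (Φ.Lev l A m), S.cf r (σ g) = f (S.cf r g) := fun r hr e g hg =>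
    Ux_induction (p := fun g => S.cf r (σ g) = f (S.cf r g)) (by simp [cf_one]) (fun s hs t g hg ih => by
      rw [map_mul, cf_mul_lev hA hr e (h1 hg) (h1 (x_mem hs _)), cf_mul_lev hA hr e hg (x_mem hs _), ih, hσ, cf_x, cf_x,
        map_add]
      split_ifs <;> simp) hg
  have h5 : ∀ r, ∃ s, r ∈ A → Φ.fn l r = m → S.cf r u = f s - s := fun r => by
    by_cases hr : r ∈ A ∧ Φ.fn l r = m
    · exact (hf _ (by rw [← h4 r hr.1 hr.2 u hu, ← cf_mul_lev hA hr.1 hr.2 hu (h1 hu), e, cf_one])).imp fun _ h _ _ => h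
    · exact ⟨0, fun a b => absurd ⟨a, b⟩ hr⟩
  choose s hs using h5
  obtain ⟨a, ha, ha'⟩ := exists_cf (S := S) hA m s
  obtain ⟨v, hv, e'⟩ := ih (a * u * (σ a)⁻¹) (mem_lev_succ hA (mul_mem (mul_mem ha hu) (inv_mem (h1 ha))) fun r hr e => by
    rw [cf_mul_lev hA hr e (mul_mem ha hu) (inv_mem (h1 ha)), cf_mul_lev hA hr e ha hu, cf_inv_lev hA hr e (h1 ha),
      h4 r hr e a ha, ha' r hr e, hs r hr e]; ring) (by simp [h3 ha, mul_assoc, ← mul_assoc u, e])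
  exact ⟨v * a, mul_mem hv (Ux_mono (fun _ h => h.1) ha), by
    rw [map_mul, mul_inv_rev, mul_assoc, ← mul_assoc v⁻¹, ← e']; group⟩

end

end St

namespace Checked
variable {D : ChevalleyDatum} {c : Cert} (h : Checked D c) {K : Type*} [Field K]

theorem hT_inj {G : Type*} [Group G] {S : St h.toCD K G} (hm : S.HMul)
    (hi : Function.Injective (zmap Kˣ h.toCD.cm)) : Function.Injective hm.hT := fun a b e =>
  hi ((hm.isTor_hT a).unique (e ▸ hm.isTor_hT b))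

theorem lift_of_finite [Finite K] (hi : Function.Injective (zmap Kˣ h.toCD.cm)) {G : Type*} [Group G]
    {y : Fin D.nroots → K → G} (hy : h.toCD.Rel y) : ∃ φ : D.group K →* G, ∀ r t, φ ((h.adj K).x r t) = y r t := by
  obtain ⟨ψ, hψ⟩ := h.cov_lift hy
  have := h.proj_ker h.cov_Gx (h.cov_ad (K := K))
  rw [(h.cov K).hMul_of_finite.center_eq h.cov_Gx, (MonoidHom.ker_eq_bot_iff _).2 hi, Subgroup.map_bot,
    MonoidHom.ker_eq_bot_iff] at this
  let e := MulEquiv.ofBijective _ ⟨this, h.proj_surj h.cov_Gx h.cov_ad⟩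
  refine ⟨ψ.comp e.symm.toMonoidHom, fun r t => ?_⟩
  rw [← hψ, ← h.proj_x h.cov_Gx h.cov_ad]
  exact congrArg ψ (e.symm_apply_apply _)

/-- the field automorphisms -/
noncomputable def fieldAut : (K ≃+* K) →* MulAut (D.group K) where
  toFun := h.fieldEquiv
  map_one' := MulEquiv.toMonoidHom_injective (St.hom_ext h.adj_Gx fun r t => by simp [fieldEquiv_x])
  map_mul' a b := MulEquiv.toMonoidHom_injective (St.hom_ext h.adj_Gx fun r t => by simp [fieldEquiv_x])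

theorem fieldAut_x (f : K ≃+* K) (r : Fin D.nroots) (t : K) :
    h.fieldAut f ((h.adj K).x r t) = (h.adj K).x r (f t) := h.fieldEquiv_x f r t

theorem fieldAut_inj [Nonempty (Fin D.rank)] : Function.Injective (h.fieldAut (K := K)) := fun f g e =>
  RingEquiv.ext fun t => St.x_inj (S := h.adj K) (r := h.toCD.sim (Classical.arbitrary _))
    (by rw [← fieldAut_x, e, fieldAut_x])

theorem isFieldAut_iff {φ : MulAut (D.group K)} : D.IsFieldAut φ ↔ ∃ f, φ = h.fieldAut f := by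
  constructor
  · rintro ⟨f, hf⟩
    exact ⟨f, MulEquiv.toMonoidHom_injective (St.hom_ext h.adj_Gx fun r t => by
      simpa [fieldAut_x] using (h.eq_adj_x r.2).1 (hf _ r t r.2 rfl))⟩
  · rintro ⟨f, rfl⟩
    exact ⟨f, fun g r t hr e => by rw [(h.eq_adj_x hr).1 e, fieldAut_x]; rfl⟩

theorem range_fieldHom {K₀ : Type*} [Field K₀] (ι : K₀ →+* K) {f : K →+* K} (hf : ∀ t, f t = t ↔ ∃ s, ι s = t) :
    (h.fieldHom ι).range = (h.adj K).Gf f := by
  refine le_antisymm ?_ ((Subgroup.closure_le _).2 ?_)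
  · rw [MonoidHom.range_eq_map, ← h.adj_Gx, Subgroup.map_le_iff_le_comap]
    exact St.Ux_le.2 fun r _ t => by
      rw [Subgroup.mem_comap, fieldHom_x]; exact St.x_mem_Gf _ ((hf _).2 ⟨t, rfl⟩)
  · rintro _ ⟨r, t, ht, rfl⟩
    obtain ⟨s, rfl⟩ := (hf t).1 ht
    exact ⟨_, h.fieldHom_x ι r s⟩

end Checked

theorem exists_fixedField {K : Type*} [Field K] [Fintype K] (f : K ≃+* K) :
    ∃ (K₀ : Type) (_ : Field K₀) (_ : Fintype K₀) (ι : K₀ →+* K),
      Fintype.card K = Fintype.card K₀ ^ orderOf f ∧ ∀ t, f t = t ↔ ∃ s, ι s = t := by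
  classical
  let A := FixedPoints.subfield (Subgroup.zpowers f) K
  haveI : Finite (K ≃+* K) := Finite.of_injective _ DFunLike.coe_injective
  haveI : Fintype (Subgroup.zpowers f) := Fintype.ofFinite _
  let e := (Fintype.equivFin A).symm
  letI := e.field
  refine ⟨Fin (Fintype.card A), e.field, inferInstance, A.subtype.comp e.ringEquiv.toRingHom, ?_, fun t => ⟨fun ht => ?_, ?_⟩⟩
  · rw [Fintype.card_fin, ← Nat.card_zpowers, Nat.card_eq_fintype_card, ← FixedPoints.finrank_eq_card (Subgroup.zpowers f) K,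
      Module.card_eq_pow_finrank (K := A)]
  · refine ⟨e.symm ⟨t, ?_⟩, by simp⟩
    rintro ⟨_, n, rfl⟩
    exact MulAction.mem_stabilizer_iff.1 ((Subgroup.zpowers_le (H := MulAction.stabilizer (K ≃+* K) t)).2 ht ⟨n, rfl⟩)
  · rintro ⟨s, rfl⟩
    exact (e s).2 ⟨f, Subgroup.mem_zpowers f⟩

theorem Checked.exists_fix_field {D : ChevalleyDatum} {c : Cert} (h : Checked D c) {K : Type*} [Field K] [Fintype K]
    [Nonempty (Fin D.rank)] (hi : Function.Injective (zmap Kˣ h.toCD.cm)) {φ : MulAut (D.group K)}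
    (hφ : D.IsFieldAut φ) : ∃ (K₀ : Type) (_ : Field K₀) (_ : Fintype K₀),
      Fintype.card K = Fintype.card K₀ ^ orderOf φ ∧
        Nonempty (φ.toMonoidHom.eqLocus (MonoidHom.id (D.group K)) ≃* D.group K₀) := by
  obtain ⟨f, rfl⟩ := h.isFieldAut_iff.1 hφ
  obtain ⟨K₀, _, _, ι, h1, h2⟩ := exists_fixedField f
  have e : (h.fieldAut f).toMonoidHom.eqLocus (MonoidHom.id (D.group K)) = (h.fieldHom ι).range := by
    rw [h.range_fieldHom ι (f := f.toRingHom) h2]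
    have hσ : ∀ r t, (h.fieldAut f).toMonoidHom ((h.adj K).x r t) = (h.adj K).x r (f.toRingHom t) := h.fieldAut_x f
    exact le_antisymm (fun g hg => St.mem_Gf hσ h.hMul_adj (h.hT_inj _ hi) (by rw [h.adj_Gx]; trivial) hg)
      (St.sub_Gf hσ).fix
  exact ⟨K₀, inferInstance, inferInstance, by rwa [orderOf_injective _ h.fieldAut_inj],
    ⟨(MulEquiv.subgroupCongr e).trans (MonoidHom.ofInjective (h.fieldHom_inj ι)).symm⟩⟩

end Cfsg.Agent.Chev
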