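import Cfsg.Agent.Lib.Chev.Cl12
import Cfsg.Agent.Lib.Chev.Cl9
import Cfsg.Agent.Lib.Chev.Fix

set_option autoImplicit false
set_option linter.unusedSectionVars false
set_option linter.style.haveILetI false

/-! The orthogonal groups of minus type as twisted groups. -/

namespace Cfsg.Agent.Chev
open Cfsg.Agent.Classical Matrix
open scoped commutatorElement

section
variable {I R : Type} [Fintype I] [DecidableEq I] [Fintype R] [DecidableEq R]

theorem RS.sim_of_orth {Φ : RS I R} {J : Set I} (h : ∀ i ∈ J, ∀ j ∈ J, i ≠ j → Φ.A i (Φ.sim j) = 0) {r : R} (h1 : Φ.Pos r) (h2 : Φ.InJ J r) :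
    ∃ j, r = Φ.sim j := by
  obtain ⟨i, a, -⟩ := h1.exists_A_pos
  refine ⟨i, by_contra fun e => ?_⟩
  have b := h1.rf e i
  rw [Φ.rv_rf, Φ.A_eq, Finset.sum_eq_single i (fun j _ c => ?_) (by simp), Φ.A_self] at b
  · simp at b; omega
  by_cases d : j ∈ J
  · rw [h i (by_contra fun e => a.ne' (h2 i e)) j d c.symm, mul_zero]
  · rw [h2 j d, zero_mul]

/-- symmetries from linear maps -/
def Euc.mkSym {E : Type} [Fintype E] (X : Euc I R E) (ρ : Equiv.Perm R) (ρI : Equiv.Perm I) (L : (E → ℤ) →+ (E → ℤ))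
    (h1 : ∀ i, ρ (X.rs.sim i) = X.rs.sim (ρI i)) (h2 : ∀ r, X.v (ρ r) = L (X.v r)) (h3 : ∀ r i, X.rs.A (ρI i) (ρ r) = X.rs.A i r) : X.rs.Sym where
  ρ := ρ
  ρI := ρI
  sim := h1
  rf i r := X.inj (by
    have : ∀ i r, X.v (X.rs.rf i r) = X.v r - X.rs.A i r • X.v (X.rs.sim i) := fun i r => by
      rw [← X.Λ_rv, X.rs.rv_rf, map_sub, X.Λ_rv, X.Λ_single, X.sim_eq]
    rw [h2, this, this, h3, ← h1, h2, h2, map_sub, map_zsmul])

variable {Φ : CD I R} {F : Type*} [Field F] {G : Type*} [Group G] {S : St Φ F G}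

theorem St.Tw.sub_invol (T : S.Tw) {K : Type} (o : T.ρ.Orb K) {f : F →+* F} (hf : ∀ i, T.f i = f) (h : ∀ i, T.ρ.ρI (T.ρ.ρI i) = i)
    (h0 : ∀ i, T.ρ.ρI i ≠ i → Φ.A i (Φ.sim (T.ρ.ρI i)) = 0) (hG : S.Gx = ⊤) {X : Subgroup G} (fix : ∀ g ∈ X, T.σ g = g)
    (h1 : ∀ b i t, T.ρ.ρI i = i → f t = t → S.x (Φ.pm b i) t ∈ X)
    (h2 : ∀ b i t, T.ρ.ρI i ≠ i → S.x (Φ.pm b i) t * S.x (Φ.pm b (T.ρ.ρI i)) (f t) ∈ X) :
    (T.Sub o X ∧ ∀ i, ∃ u ∈ X, u ∈ S.U ∧ S.co i u ≠ 0) ∧ ∀ k r, Φ.Pos r → Φ.InJ (o.J k) r → ∃ j, r = Φ.sim j := by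
  have a0 : ∀ k r, Φ.Pos r → Φ.InJ (o.J k) r → ∃ j, r = Φ.sim j := fun k r => RS.sim_of_orth fun i a j b c => by
    obtain rfl := (o.eq_of_invol h (a.trans b.symm)).resolve_left c.symm
    exact h0 i c.symm
  have a1 : ∀ {k i}, i ∈ o.J k → ∀ t, S.x (Φ.sim i) t ∈ S.UL (o.J k) ∧ S.x (Φ.neg (Φ.sim i)) t ∈ S.VL (o.J k) := fun a t =>
    ⟨St.x_mem (by exact ⟨Φ.pos_sim _, RS.inJ_sim.2 a⟩) t, St.x_mem (by exact ⟨(Φ.pos_sim _).not_neg, (RS.inJ_sim.2 a).neg⟩) t⟩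
  have a2 : ∀ i t, T.ρ.ρI i ≠ i → S.co i (S.x (Φ.sim i) t * S.x (Φ.sim (T.ρ.ρI i)) (f t)) = t := fun i t e => by
    simp [St.co_mul i (St.x_mem_U (Φ.pos_sim _) _) (St.x_mem_U (Φ.pos_sim _) _), St.co_x, Φ.sim_inj.eq_iff, e]
  refine ⟨⟨⟨hG.ge.trans' le_top, fix, fun k u hu e => ?_, fun k => ?_⟩, fun i => ?_⟩, a0⟩
  · obtain ⟨i, hi⟩ := o.exists_mem k
    by_cases c : T.ρ.ρI i = i
    · have b := h1 true i (S.co i u) c (by rw [← hf i, ← T.co_σ i (St.UL_le_U _ hu), c, e])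
      rwa [T.exists_param o hi (a0 k) hu e (a1 hi _).1 (fix _ b) (by simp [St.co_x])]
    · have b := h2 true i (S.co i u) c
      rwa [T.exists_param o hi (a0 k) hu e (mul_mem (a1 hi _).1 (a1 ((o.stable k i).2 hi) _).1) (fix _ b) (a2 i _ c).symm]
  · obtain ⟨i, hi⟩ := o.exists_mem k
    by_cases c : T.ρ.ρI i = i
    · exact ⟨_, h1 false i 1 c (map_one f), (a1 hi _).2, by simp [St.x_eq_one_iff]⟩
    · refine ⟨_, h2 false i 1 c, mul_mem (a1 hi _).2 (a1 ((o.stable k i).2 hi) _).2, fun e => ?_⟩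
      have := congrArg (S.cf (Φ.pm false i)) (eq_inv_of_mul_eq_one_left e)
      rw [St.x_inv, St.cf_x, St.cf_x, if_pos rfl, if_neg (by exact fun e => c (Φ.sim_inj (Φ.neg_inj e)))] at this
      exact one_ne_zero this
  by_cases c : T.ρ.ρI i = i
  · exact ⟨_, h1 true i 1 c (map_one f), St.x_mem_U (Φ.pos_sim _) _, by simp [St.co_x, CD.pm]⟩
  · exact ⟨_, h2 true i 1 c, mul_mem (St.x_mem_U (Φ.pos_sim _) _) (St.x_mem_U (Φ.pos_sim _) _), (a2 i 1 c).trans_ne one_ne_zero⟩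

end

theorem exists_baseChange {F K : Type*} [Field F] [Field K] {ι : Type} [Fintype ι] [DecidableEq ι] (Φ : Form (Kind.orth F) (ι → F))
    (Ψ : Form (Kind.orth K) (ι → K)) (φ : F →+* K) (hB : ∀ u v, Ψ.B (φ ∘ u) (φ ∘ v) = φ (Φ.B u v)) (hN : ∀ u, Ψ.N (φ ∘ u) = φ (Φ.N u)) :
    ∃ β : Φ.E →* Ψ.E, Function.Injective β ∧ (∀ g v, (β g).1 (φ ∘ v) = φ ∘ g.1 v) ∧
      ∀ e y c h, ∃ h', (β ⟨_, Φ.eich_mem_E e y c h⟩).1 = Ψ.eich (φ ∘ e) (φ ∘ y) (φ c) h' := by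
  let β : ((ι → F) ≃ₗ[F] (ι → F)) →* ((ι → K) ≃ₗ[K] (ι → K)) :=
    glEquiv.toMonoidHom.comp ((GeneralLinearGroup.map φ).comp glEquiv.symm.toMonoidHom)
  have h1 : ∀ g v, β g (φ ∘ v) = φ ∘ g v := fun g v => by
    rw [← glEquiv_symm_mulVec g]
    exact funext fun i => (RingHom.map_mulVec φ _ v i).symm
  have h2 : ∀ e y c h h', β (Φ.eich e y c h) = Ψ.eich (φ ∘ e) (φ ∘ y) (φ c) h' := fun e y c h h' =>
    (Pi.basisFun K ι).ext' fun i => by
      rw [show Pi.basisFun K ι i = φ ∘ Pi.single i 1 by ext j; simp [Pi.single_apply, apply_ite φ], h1]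
      ext j; simp [Form.eich_apply, hB]
  have h3 : Φ.E ≤ Ψ.E.comap β := (Subgroup.closure_le _).2 (by
    rintro _ ⟨e, y, c, h, rfl⟩
    exact (h2 e y c h ⟨by rw [hN, h.he, map_zero], by rw [hB, h.hy, map_zero], (hN y).symm ▸ congrArg φ h.ha⟩).symm ▸
      (Ψ.eich_mem_E _ _ _ _ : Ψ.eich _ _ _ _ ∈ Ψ.E) |> (id : β _ ∈ Ψ.E → _))
  refine ⟨(β.comp Φ.E.subtype).codRestrict _ fun g => h3 g.2, fun g g' e => Subtype.ext (LinearEquiv.ext fun v => funext fun i => φ.injective ?_),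
    fun g => h1 g, fun e y c h => ⟨⟨by rw [hN, h.he, map_zero], by rw [hB, h.hy, map_zero], (hN y).symm ▸ congrArg φ h.ha⟩, h2 _ _ _ h _⟩⟩
  exact congrFun ((h1 g v).symm.trans ((congrArg (fun x : Ψ.E => x.1 (φ ∘ v)) e).trans (h1 g' v))) i

namespace Cl
variable {n : ℕ} {hn : 1 ≤ n} {a b : ℤ}

theorem okC.sw (h : okC 2 n a b) : okC 2 n (sw (n + 1) True a) (sw (n + 1) True b) := by grind [okC, Cl.sw]

theorem sw_mk (h : okC 2 n a b) : mkC _ _ (mkC a b h).2.1.sw = mkC _ _ h.sw := by rw [mkC_inj]; grind [mkC]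
/-- the graph symmetry of type `D` -/
def ρD (n : ℕ) : Equiv.Perm (RC 2 n) :=
  Function.Involutive.toPerm (fun r => mkC _ _ r.2.1.sw) fun r => r.ind fun a b h => by simp only [sw_mk, sw_sw]
theorem ρD_mk (h : okC 2 n a b) : ρD n (mkC a b h) = mkC _ _ h.sw := sw_mk h

variable (hn) in
/-- the graph symmetry of type `D` -/
noncomputable def symD : (rs 2 hn).Sym :=
  (euc 2 hn).mkSym (ρD n) (Equiv.swap none (some ⟨n - 1, by omega⟩))
    (AddMonoidHom.mk' (fun v i => if i = .last n then -v i else v i) fun u v => by grind [Pi.add_apply])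
    (fun i => by
      simp only [sim_eq, Equiv.swap_apply_def]
      rcases i with _ | i <;> split_ifs <;> simp only [simC, ρD_mk, mkC_inj] <;> grind [sw, lastC])
    (fun r => r.ind fun a b h => funext fun i => by
      simp only [ρD_mk, euc, vC_mk, AddMonoidHom.mk'_apply, Pi.add_apply, ev]
      simp only [Fin.ext_iff, Fin.val_last]; have := h.bd; grind (splits := 30) [sw, dl])
    fun r => r.ind fun a b h i => by
      simp only [ρD_mk, ← RS.pair_sim, sim_eq, Equiv.swap_apply_def]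
      rcases i with _ | i <;> split_ifs <;> simp only [simC, pair_mk] <;> grind (splits := 40) [sw, prw, dl, lastC]

theorem symD_mk (h : okC 2 n a b) : (symD hn).ρ (mkC a b h) = mkC _ _ h.sw := sw_mk h
theorem symD_ρI : (symD hn).ρI = Equiv.swap none (some ⟨n - 1, by omega⟩) := rfl

variable {F K : Type*} [Field F] [Field K]

/-- a frame over the quadratic extension -/
def wM (n : ℕ) (θ θ' c c' : K) (x : ℤ) : (Fin n ⊕ Fin n) ⊕ Fin 2 → K :=
  Sum.elim (wv K cdP x) (if x = n + 1 then ![c * θ, c] else if x = -(n + 1) then ![-(c' * θ'), -c'] else 0)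

theorem wM_map {f : K →+* K} (ff : ∀ x, f (f x) = x) (θ c : K) (x : ℤ) : f ∘ wM n θ (f θ) c (f c) x =
    (if x = n + 1 ∨ x = -(n + 1) then -1 else 1 : K) • wM n θ (f θ) c (f c) (sw (n + 1) True x) := by
  have e4 : (-(n + 1) : ℤ) ≠ n + 1 := by omega
  have e5 : ∀ i : Fin n ⊕ Fin n, cdP i ≠ n + 1 ∧ cdP i ≠ -(n + 1) := by rintro (i | i) <;> simp only [cdP, Sum.elim_inl, Sum.elim_inr] <;> grind
  ext i
  by_cases h1 : x = n + 1
  · rcases i with i | i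
    · simp [wM, wv, sw, h1, e5, -neg_add_rev]
    · fin_cases i <;> simp [wM, sw, h1, e4, -neg_add_rev]
  by_cases h2 : x = -(n + 1)
  · rcases i with i | i
    · simp [wM, wv, sw, h2, e5, -neg_add_rev]
    · fin_cases i <;> simp [wM, sw, h2, e4, ff, -neg_add_rev]
  rcases i with i | i <;> simp [wM, wv, sw, h1, h2, apply_ite f, -neg_add_rev]

theorem frameM (n : ℕ) {a b θ θ' c c' : K} (h1 : a = -(θ + θ')) (h2 : b = θ * θ') (h3 : c * c' * (θ - θ') ^ 2 = 1) :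
    OFrame 2 n (minusForm n K a b) (wM n θ θ' c c') := by
  unfold wM
  have e1 : ∀ x, ix (n + 1) x → x = n + 1 ∨ x = -(n + 1) ∨ ix n x ∧ x ≠ n + 1 ∧ x ≠ -(n + 1) := by grind [ix]
  have e2 : wv K (cdP (m := n)) (n + 1) = 0 := funext (by rintro (i | i) <;> simp [wv, cdP] <;> omega)
  have e3 : wv K (cdP (m := n)) (-(n + 1)) = 0 := funext (by rintro (i | i) <;> simp [wv, cdP, -neg_add_rev] <;> grind)
  have e4 : (-(n + 1) : ℤ) ≠ n + 1 := by omega
  have e5 : ∀ i : Fin n, (i + 1 : ℤ) ≠ n + 1 ∧ (i + 1 : ℤ) ≠ -(n + 1) ∧ (-(i + 1) : ℤ) ≠ n + 1 ∧ (-(i + 1) : ℤ) ≠ -(n + 1) := fun i => by grind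
  have h0 : ∀ y ∈ Wk (minusForm n K a b) (fun x => Sum.elim (wv K cdP x)
      (if x = n + 1 then ![c * θ, c] else if x = -(n + 1) then ![-(c' * θ'), -c'] else 0)) (n + 1), y = 0 := fun y hy => by
    have a1 := hy (n + 1) (by grind [ix])
    have a2 := hy (-(n + 1)) (by grind [ix])
    simp [minusForm_B, e2, e3, e4, h1, h2, -neg_add_rev] at a1 a2
    refine funext ?_
    rintro ((i | i) | i)
    · simpa [wvP_neg, minusForm_B, Pi.single_apply, e5, -neg_add_rev] using hy (-(i + 1)) (by grind [ix])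
    · simpa [wvP_pos, minusForm_B, Pi.single_apply, e5, -neg_add_rev] using hy (i + 1) (by grind [ix])
    have a3 : y (.inr 1) = 0 := by linear_combination c * a2 - c' * a1 - y (.inr 1) * h3
    fin_cases i
    exacts [show y (.inr 0) = 0 by linear_combination c' * (θ - θ') * a1 - (y (.inr 0) - θ * y (.inr 1)) * h3 + θ * a3, a3]
  refine ⟨⟨fun ha => ?_, fun ha hb => ?_, fun y hy _ => h0 y hy⟩, by simp, fun y hy => .inl (h0 y hy)⟩
  · obtain rfl | rfl | ⟨h, -⟩ := e1 _ ha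
    · simp [minusForm_N, quadFormMinus, e2, h1, h2]; ring
    · simp [minusForm_N, quadFormMinus, e3, e4, h1, h2, -neg_add_rev]; ring
    obtain ⟨i, rfl | rfl⟩ := exists_cdP h <;> simp [wvP_pos, wvP_neg, minusForm_N, quadFormMinus, e5, -neg_add_rev]
  obtain rfl | rfl | ⟨h, i1, i2⟩ := e1 _ ha <;> obtain rfl | rfl | ⟨h', j1, j2⟩ := e1 _ hb
  · simp [minusForm_B, e2, h1, h2, show (n + 1 + (n + 1) : ℤ) ≠ 0 by omega]; ring
  · simp [minusForm_B, e2, e3, e4, h1, h2, -neg_add_rev]; linear_combination h3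
  · simp [minusForm_B, e2, j1, j2, show ∀ x : ℤ, n + 1 + x = 0 ↔ x = -(n + 1) by omega, -neg_add_rev]
  · simp [minusForm_B, e2, e3, e4, h1, h2, -neg_add_rev]; linear_combination h3
  · simp [minusForm_B, e3, e4, h1, h2, show (-(n + 1) + -(n + 1) : ℤ) ≠ 0 by omega, -neg_add_rev]; ring
  · simp [minusForm_B, e3, e4, j1, j2, show ∀ x : ℤ, -(n + 1) + x = 0 ↔ x = n + 1 by omega, -neg_add_rev]
  · simp [minusForm_B, e2, i1, i2, show ∀ x : ℤ, x + (n + 1) = 0 ↔ x = -(n + 1) by omega, -neg_add_rev]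
  · simp [minusForm_B, e3, e4, i1, i2, show ∀ x : ℤ, x + -(n + 1) = 0 ↔ x = n + 1 by omega, -neg_add_rev]
  obtain ⟨i, rfl | rfl⟩ := exists_cdP h <;> obtain ⟨j, rfl | rfl⟩ := exists_cdP h' <;>
    simp [wvP_pos, wvP_neg, minusForm_B, Pi.single_apply, e5, -neg_add_rev] <;> grind

theorem eich_neg {V : Type*} [AddCommGroup V] [Module K V] (Φ : Form (Kind.orth K) V) {e y e' y' : V} {c c' : K} (h h') {s : K}
    (h0 : s * s = 1) (h1 : e' = s • e) (h2 : y' = s • y) : Φ.eich e' y' c' h' = Φ.eich e y c h := by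
  subst h1 h2
  obtain rfl : c' = c := by simpa [Φ.N_smul, h0, ← show c = Φ.N y from h.ha] using h'.ha
  ext v
  simp only [Form.eich_apply, Form.B_smul_right, Kind.orth_σ, Kind.orth_ε, smul_smul]
  match_scalars
  exacts [rfl, by linear_combination (Φ.B v y - c' * Φ.B v e) * h0, by linear_combination (-Φ.B v e) * h0]

theorem subD {A : Type*} [Ring A] {e : RC 2 n → A} {q : (rs 2 hn).QZ e} {hc} {G : Type*} [Group G] {S : St (q.cd hc) K G} {f : K →+* K} {σ : G →* G}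
    (hσ : ∀ r t, σ (S.x r t) = S.x ((symD hn).ρ r) (((1 : ℤ) : K) * f t)) (h2 : 2 ≤ n) (hG : S.Gx = ⊤) {X : Subgroup G} (fix : ∀ g ∈ X, σ g = g)
    (y1 : ∀ (a b : ℤ) h t, ¬ (a = n + 1 ∨ a = -(n + 1)) → ¬ (b = n + 1 ∨ b = -(n + 1)) → f t = t → S.x (mkC a b h) t ∈ X)
    (y2 : ∀ (a b : ℤ) h h' t, ¬ (a = n + 1 ∨ a = -(n + 1)) → b = n + 1 ∨ b = -(n + 1) → S.x (mkC a b h) t * S.x (mkC a (sw (n + 1) True b) h') (f t) ∈ X) :
    ((St.mkTw (S := S) (symD hn) 1 (fun _ => ⟨rfl, rfl⟩) f σ hσ).Sub (symD hn).orb X ∧ ∀ i, ∃ u ∈ X, u ∈ S.U ∧ S.co i u ≠ 0) ∧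
      ∀ k r, (q.cd hc).Pos r → (q.cd hc).InJ ((symD hn).orb.J k) r → ∃ j, r = (q.cd hc).sim j := by
  have x4 : ∀ r : RC 2 n, ∃ a b h h', r = mkC a b h ∧ ¬ (a = n + 1 ∨ a = -(n + 1)) ∧ (symD hn).ρ r = mkC a (sw (n + 1) True b) h' :=
    fun r => r.ind fun a b h => by
      by_cases e : a = n + 1 ∨ a = -(n + 1)
      · exact ⟨b, a, h.symm, by grind [okC, sw], mkC_comm h, by grind [okC], by rw [symD_mk, mkC_inj]; grind [sw, okC]⟩
      · exact ⟨a, b, h, by grind [okC, sw], rfl, e, by rw [symD_mk, mkC_inj]; grind [sw]⟩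
  have x5 : ∀ b i, (q.cd hc).pm b ((symD hn).ρI i) = (symD hn).ρ ((q.cd hc).pm b i) := by
    rintro (_ | _) i
    exacts [((symD _).neg _).trans (congrArg _ ((symD _).sim i)) |>.symm, ((symD _).sim i).symm]
  refine St.Tw.sub_invol _ _ (f := f) (fun _ => rfl) (Equiv.swap_apply_self _ _) (fun i e => ?_) hG fix (fun b i t h e => ?_) fun b i t h => ?_
  · change (rs 2 _).A i ((rs 2 _).sim (Equiv.swap _ _ i)) = 0
    obtain rfl | rfl : i = none ∨ i = some ⟨n - 1, by omega⟩ := by_contra fun c => e (Equiv.swap_apply_of_ne_of_ne (by grind) (by grind))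
    all_goals simp only [← RS.pair_sim, sim_eq, Equiv.swap_apply_left, Equiv.swap_apply_right, simC, pair_mk]; clear * - h2; grind [prw, dl, lastC]
  · obtain ⟨x, y, j, j0, j1, j2, j3⟩ := x4 ((q.cd hc).pm b i)
    rw [← x5, show (symD hn).ρI i = i from h, j1, mkC_inj] at j3
    exact j1 ▸ y1 x y j t j2 (by clear * - j j3; grind [okC, sw]) e
  obtain ⟨x, y, j, j0, j1, j2, j3⟩ := x4 ((q.cd hc).pm b i)
  change S.x _ _ * S.x ((q.cd hc).pm b ((symD hn).ρI i)) _ ∈ _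
  rw [x5, j3, j1]
  refine y2 x y j j0 t j2 (by_contra fun e => h ?_)
  simp only [sw, Nat.cast_add, Nat.cast_one, e, and_false, if_false, ← j1, ← x5] at j3
  cases b
  exacts [RS.sim_inj _ (RS.neg_inj _ j3), RS.sim_inj _ j3]

theorem exists_minus [Finite F] [Finite K] [Algebra F K] (h2 : Module.finrank F K = 2) (hn : 2 ≤ n) {a b : F}
    (hab : ∀ z₁ z₂ : F, z₁ ^ 2 + a * z₁ * z₂ + b * z₂ ^ 2 = 0 → z₁ = 0 ∧ z₂ = 0) :
    ∃ (Φ : CD (Option (Fin n)) (RC 2 n)) (S : St Φ K (minusForm n K (algebraMap F K a) (algebraMap F K b)).E) (T : S.Tw)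
      (ι : (minusForm n F a b).E →* _), Function.Injective ι ∧ S.Gx = ⊤ ∧ Φ.Conn ∧ T.Sub T.ρ.orb ι.range ∧
      (∀ i, ∃ u, ι u ∈ S.U ∧ S.co i (ι u) ≠ 0) ∧ ∀ k r, Φ.Pos r → Φ.InJ (T.ρ.orb.J k) r → ∃ j, r = Φ.sim j := by
  obtain ⟨θ, hθ⟩ := exists_root_quad h2 a b fun x h => by simpa using (hab x 1 (by simpa using h)).2
  obtain ⟨f, ff, fc, fx, -⟩ := exists_conj h2
  set φ := algebraMap F K
  have t0 : θ ∉ Set.range φ := by
    rintro ⟨x, rfl⟩
    simpa using (hab x 1 (φ.injective (by simpa using hθ))).2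
  have t1 : θ - f θ ≠ 0 := fun k => t0 (fx (sub_eq_zero.1 k).symm)
  have t2 := congrArg f hθ
  simp only [map_add, map_mul, map_pow, fc, map_zero] at t2
  have t3 : φ a = -(θ + f θ) := mul_left_cancel₀ t1 (by linear_combination hθ - t2)
  have t4 : φ b = θ * f θ := by rw [t3] at hθ; linear_combination hθ
  obtain ⟨c, hc⟩ := norm_surj_fixed f (fun e => t1 (by simp [e])) ff ((θ - f θ) ^ 2)⁻¹ (by simp [ff]; ring)
  have X := frameM n t3 t4 (c := c) (c' := f c) (by rw [hc, inv_mul_cancel₀ (pow_ne_zero _ t1)])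
  have hw := wM_map (n := n) ff θ c
  set w := wM n θ (f θ) c (f c)
  set Ψ := minusForm n K (φ a) (φ b)
  obtain ⟨ψ, p1, p2, -, p3⟩ := X.exists_spin (by omega) (by omega) fun _ => hn
  have hG := (X.qa (by omega) (by omega) fun _ => hn).S_Gx
  obtain ⟨σ, -, s1, s2⟩ := exists_baseChange Ψ Ψ f (fun u v => by simp [Ψ, minusForm_B, fc, map_ofNat]) fun u => by simp [Ψ, minusForm_N, quadFormMinus, fc]
  have b1 : ∀ u v, Ψ.B (φ ∘ u) (φ ∘ v) = φ ((minusForm n F a b).B u v) := fun u v => by simp [Ψ, minusForm_B, map_ofNat]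
  have n1 : ∀ u, Ψ.N (φ ∘ u) = φ ((minusForm n F a b).N u) := fun u => by simp [Ψ, minusForm_N, quadFormMinus]
  obtain ⟨ι, i0, i1, i2⟩ := exists_baseChange (minusForm n F a b) Ψ φ b1 n1
  let S := St.ofSurj hG ψ p1 p2
  have x1 : ∀ a b (h : okC 2 n a b) t, S.x (mkC a b h) t = ⟨_, Ψ.eich_mem_E _ _ _ (X.isEich h (fun e => by simpa using h.l.2.2 e) (sg a b * t))⟩ :=
    fun a b h t => Subtype.ext (p3 a b h (fun e => by simpa using h.l.2.2 e) t)
  have e0 : ∀ s v, f ∘ (s • v : (Fin n ⊕ Fin n) ⊕ Fin 2 → K) = f s • f ∘ v := fun s v => funext fun i => map_mul f _ _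
  have x2 : ∀ r t, σ (S.x r t) = S.x ((symD (by omega)).ρ r) (((1 : ℤ) : K) * f t) := fun r => r.ind fun a b h t => Subtype.ext (by
    rw [symD_mk, x1, x1]
    refine (s2 _ _ _ _).2.trans (eich_neg Ψ (by exact X.isEich h.sw (fun e => by simpa using h.sw.l.2.2 e) _) _ ?_ (hw a) ?_)
    · split_ifs <;> simp
    rw [e0, hw b, smul_smul, smul_smul]
    congr 1
    have := h.bd
    have : a ≠ b := fun e => by simpa using h.2.2.2.2.2.1 e
    simp only [map_mul, map_intCast, sg, sw, true_and, Nat.cast_add, Nat.cast_one]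
    split_ifs <;> first | omega | simp)
  have x3 : ∀ e y c h, f ∘ e = e → f ∘ y = y → (⟨_, Ψ.eich_mem_E e y c h⟩ : Ψ.E) ∈ ι.range := fun e y c h a b => by
    choose e' he using fun i => fx (congrFun a i)
    choose y' hy using fun i => fx (congrFun b i)
    obtain rfl : φ ∘ e' = e := funext he
    obtain rfl : φ ∘ y' = y := funext hy
    obtain rfl : φ ((minusForm n F _ _).N y') = c := (n1 y').symm.trans h.ha.symm
    exact ⟨⟨_, Form.eich_mem_E _ e' y' _ ⟨φ.injective (by rw [← n1, h.he, map_zero]), φ.injective (by rw [← b1, h.hy, map_zero]), rfl⟩⟩,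
      Subtype.ext (i2 _ _ _ _).2⟩
  have x4 : ∀ x : ℤ, ¬ (x = n + 1 ∨ x = -(n + 1)) → f ∘ w x = w x := fun x e => by rw [hw, if_neg e, sw, if_neg (by simpa using e), one_smul]
  obtain ⟨⟨y1, y2⟩, y3⟩ := subD x2 hn (St.ofSurj_Gx hG ψ p1 p2) (X := ι.range) (by
      rintro _ ⟨g, rfl⟩
      refine Subtype.ext ((Pi.basisFun K _).ext' fun i => ?_)
      have e : ∀ v : (Fin n ⊕ Fin n) ⊕ Fin 2 → F, f ∘ φ ∘ v = φ ∘ v := fun v => funext fun i => fc _
      rw [show Pi.basisFun K _ i = φ ∘ Pi.single i 1 by ext j; simp [Pi.single_apply, apply_ite φ]]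
      exact (congrArg _ (e _).symm).trans ((s1 _ _).trans (by rw [i1, e])))
    (fun x y j t a b e => x1 _ _ _ _ ▸ x3 _ _ _ _ (x4 _ a) (by simp [e0, x4 _ b, e])) fun x y j j' t a b => by
      have e1 : (sg x (sw (n + 1) True y) : K) = - sg x y := by
        have := j.bd
        simp only [sg, sw, true_and, Nat.cast_add, Nat.cast_one]; split_ifs <;> first | omega | simp
      have e2 : sw (n + 1) True y = n + 1 ∨ sw (n + 1) True y = -(n + 1) := by clear * - b; grind [sw]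
      rw [x1, x1]
      convert x3 _ _ _ ((X.isEich j (fun e => by simpa using j.l.2.2 e) (sg x y * t)).add
        (X.isEich j' (fun e => by simpa using j.l.2.2 e) (sg x (sw (n + 1) True y) * f t))) (x4 _ a) ?_ using 1
      · exact Subtype.ext (Ψ.eich_mul (X.isEich j (fun e => by simpa using j.l.2.2 e) _) (X.isEich j' (fun e => by simpa using j.l.2.2 e) _))
      rw [show ∀ u v, f ∘ (u + v : (Fin n ⊕ Fin n) ⊕ Fin 2 → K) = f ∘ u + f ∘ v from fun u v => funext fun i => map_add f _ _, e0, e0, hw, hw, sw_sw,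
        if_pos b, if_pos e2, e1]
      simp [ff, add_comm]
  refine ⟨_, S, _, ι, i0, St.ofSurj_Gx hG ψ p1 p2, conn fun _ => hn, y1, fun i => ?_, y3⟩
  obtain ⟨_, ⟨u, rfl⟩, h⟩ := y2 i
  exact ⟨u, h⟩

theorem lieT_minus [Fintype F] (p : ℕ) [Fact p.Prime] [CharP F p] (hn : 2 ≤ n) {a b : F}
    (hab : ∀ z₁ z₂ : F, z₁ ^ 2 + a * z₁ * z₂ + b * z₂ ^ 2 = 0 → z₁ = 0 ∧ z₂ = 0) : LieT p (POmega F (quadFormMinus n F a b)) := by
  obtain ⟨K, _, _, _, h2⟩ := exists_quad_ext F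
  have := charP_of_injective_algebraMap (algebraMap F K).injective p
  obtain ⟨Φ, S, T, ι, h1, h3, h4, h5, h6, -⟩ := exists_minus h2 hn hab
  have := St.finite_of_Gx h3
  have := Finite.of_injective _ h1
  have hΦ := minusForm_nondeg n hab
  exact (h5.lieT h1 p h3 h4 h6 none).quot.congr ((nonempty_POmega (minusForm n F a b)).some.trans (nonempty_central_quot_equiv
    ((Form.good_of_finrank hΦ (by simp; omega)).omegaEquiv hΦ (by simp; omega))).some).symm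

end Cl
end Cfsg.Agent.Chev
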