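import Cfsg.Agent.Lib.Chev.PoincCert
import Cfsg.Agent.Lib.Chev.All

set_option autoImplicit false
set_option maxRecDepth 100000

/-! Poincaré polynomials and Coxeter presentations of the tabulated Weyl groups. -/

namespace Cfsg.Agent.Chev

open Cfsg.Lie

theorem Checked.poinc_univ {D : ChevalleyDatum} {c : Cert} (h : Checked D c) {L : List (ℕ × ℕ × ℕ)}
    {d : List ℕ} (h1 : chainB D.rank D.nroots c id id L = true) (h2 : headJ L = 2 ^ D.rank - 1)
    (h3 : peqB (pmu (pprod (List.replicate D.rank (pbin 1 (-1)))) (pprod (chainP D.rank D.nroots c id L)))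
      (pprod (d.map fun k => pbin k (-1))) = true) (q : ℕ) :
    ((q : ℤ) - 1) ^ D.rank * (RS.Sym.one h.toRS).poinc Set.univ q = (d.map fun k => (q : ℤ) ^ k - 1).prod := by
  have e := h.chain_spec (RS.Sym.one _) (π := id) (πI := id) (fun _ => rfl) (fun _ => rfl) h1 q
  have e2 : {i : Fin D.rank | (headJ L).testBit i} = Set.univ := by
    ext i; simp [h2, Nat.testBit_two_pow_sub_one]
  have := pe_eq_of_peqB q h3
  rw [pe_pmu, ← e, e2, pe_pprod, pe_pprod] at this
  simpa [pe_pbin, sub_eq_add_neg, Function.comp_def] using this

theorem Checked.card_W {D : ChevalleyDatum} {c : Cert} (h : Checked D c) {L : List (ℕ × ℕ × ℕ)}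
    (h1 : chainB D.rank D.nroots c id id L = true) (h2 : headJ L = 2 ^ D.rank - 1) {N : ℕ}
    (h3 : pe 1 (pprod (chainP D.rank D.nroots c id L)) = N) : Nat.card h.toRS.W = N := by
  have e := h.chain_spec (RS.Sym.one _) (π := id) (πI := id) (fun _ => rfl) (fun _ => rfl) h1 1
  have e2 : {i : Fin D.rank | (headJ L).testBit i} = Set.univ := by
    ext i; simp [h2, Nat.testBit_two_pow_sub_one]
  rw [e2, ← RS.card_W] at e
  exact_mod_cast e.trans h3

def chainB2L : List (ℕ × ℕ × ℕ) := [
  (3, 7, 0x102000003),
  (2, 2, 0x100)]

theorem chainB_B2 : chainB chevB2.rank chevB2.nroots certB2 id id chainB2L = true := by decide +kernel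

theorem poinc_B2 (q : ℕ) : ((q : ℤ) - 1) ^ 2 * (RS.Sym.one checkedB2.toRS).poinc Set.univ q =
    ([2, 4].map fun k => (q : ℤ) ^ k - 1).prod :=
  checkedB2.poinc_univ chainB_B2 rfl (by decide +kernel) q

theorem card_W_B2 : Nat.card checkedB2.toRS.W = 8 :=
  checkedB2.card_W chainB_B2 rfl (by decide +kernel)

theorem cox_B2 : ∃ cs : CoxeterSystem (CoxeterMatrix.B 2) checkedB2.toRS.W, ∀ i, cs.simple i = checkedB2.toRS.s i :=
  checkedB2.coxeterSystem (CoxeterMatrix.B 2) (by decide +kernel)

theorem coxElt_B2 : orderOf (wp checkedB2.toRS.s (List.finRange 2)) = 4 :=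
  checkedB2.orderOf_wp _ (by decide +kernel)

def chainG2L : List (ℕ × ℕ × ℕ) := [
  (3, 11, 0x100000002030000000405),
  (1, 5, 0x100)]

theorem chainB_G2 : chainB chevG2.rank chevG2.nroots certG2 id id chainG2L = true := by decide +kernel

theorem poinc_G2 (q : ℕ) : ((q : ℤ) - 1) ^ 2 * (RS.Sym.one checkedG2.toRS).poinc Set.univ q =
    ([2, 6].map fun k => (q : ℤ) ^ k - 1).prod :=
  checkedG2.poinc_univ chainB_G2 rfl (by decide +kernel) q

theorem card_W_G2 : Nat.card checkedG2.toRS.W = 12 :=
  checkedG2.card_W chainB_G2 rfl (by decide +kernel)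

theorem cox_G2 : ∃ cs : CoxeterSystem CoxeterMatrix.G₂ checkedG2.toRS.W, ∀ i, cs.simple i = checkedG2.toRS.s i :=
  checkedG2.coxeterSystem CoxeterMatrix.G₂ (by decide +kernel)

theorem coxElt_G2 : orderOf (wp checkedG2.toRS.s (List.finRange 2)) = 6 :=
  checkedG2.orderOf_wp _ (by decide +kernel)

def chainD4L : List (ℕ × ℕ × ℕ) := [
  (15, 23, 0x102020304020303040404050505060607050607070809),
  (13, 9, 0x10102000102020300)]

theorem chainB_D4 : chainB chevD4.rank chevD4.nroots certD4 id id chainD4L = true := by decide +kernel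

theorem poinc_D4 (q : ℕ) : ((q : ℤ) - 1) ^ 4 * (RS.Sym.one checkedD4.toRS).poinc Set.univ q =
    ([2, 4, 4, 6].map fun k => (q : ℤ) ^ k - 1).prod :=
  checkedD4.poinc_univ chainB_D4 rfl (by decide +kernel) q

theorem card_W_D4 : Nat.card checkedD4.toRS.W = 192 :=
  checkedD4.card_W chainB_D4 rfl (by decide +kernel)

theorem cox_D4 : ∃ cs : CoxeterSystem coxeterD4 checkedD4.toRS.W, ∀ i, cs.simple i = checkedD4.toRS.s i :=
  checkedD4.coxeterSystem coxeterD4 (by decide +kernel)

theorem coxElt_D4 : orderOf (wp checkedD4.toRS.s (List.finRange 4)) = 6 :=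
  checkedD4.orderOf_wp _ (by decide +kernel)

def chainF4L : List (ℕ × ℕ × ℕ) := [
  (15, 47, 0x102000304050000000000000000040506000000060707080809000000090a0b00000000000000000a0b0c000d0e0f),
  (7, 23, 0x1000000000203000000000000000000030400050600),
  (3, 22, 0x10000000000000000000002000000000000),
  (1, 20, 0x100000000000000000000000000)]

theorem chainB_F4 : chainB chevF4.rank chevF4.nroots certF4 id id chainF4L = true := by decide +kernel

theorem poinc_F4 (q : ℕ) : ((q : ℤ) - 1) ^ 4 * (RS.Sym.one checkedF4.toRS).poinc Set.univ q =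
    ([2, 6, 8, 12].map fun k => (q : ℤ) ^ k - 1).prod :=
  checkedF4.poinc_univ chainB_F4 rfl (by decide +kernel) q

theorem card_W_F4 : Nat.card checkedF4.toRS.W = 1152 :=
  checkedF4.card_W chainB_F4 rfl (by decide +kernel)

theorem cox_F4 : ∃ cs : CoxeterSystem CoxeterMatrix.F₄ checkedF4.toRS.W, ∀ i, cs.simple i = checkedF4.toRS.s i :=
  checkedF4.coxeterSystem CoxeterMatrix.F₄ (by decide +kernel)

theorem coxElt_F4 : orderOf (wp checkedF4.toRS.s (List.finRange 4)) = 12 :=
  checkedF4.orderOf_wp _ (by decide +kernel)

def chainE6L : List (ℕ × ℕ × ℕ) := [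
  (63, 71, 0x1020304030405050607060708090a0405060607080708090a0708090a08090a090a0a0b0b0c0b0c0d0b0c0d0e0b0c0d0e0d0e0f0f10110b0c0d0e0f0e0f101011121112131415),
  (61, 25, 0x1020302030404050600000000000304050506070607080900),
  (53, 32, 0x102000102030000000000000000000000000203040000000000000000000000),
  (33, 29, 0x10000000000000000000000000000),
  (32, 34, 0x1000000000000000000000000000000000000000000000000000000000000000000)]

theorem chainB_E6 : chainB chevE6.rank chevE6.nroots certE6 id id chainE6L = true := by decide +kernel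

theorem poinc_E6 (q : ℕ) : ((q : ℤ) - 1) ^ 6 * (RS.Sym.one checkedE6.toRS).poinc Set.univ q =
    ([2, 5, 6, 8, 9, 12].map fun k => (q : ℤ) ^ k - 1).prod :=
  checkedE6.poinc_univ chainB_E6 rfl (by decide +kernel) q

theorem card_W_E6 : Nat.card checkedE6.toRS.W = 51840 :=
  checkedE6.card_W chainB_E6 rfl (by decide +kernel)

theorem cox_E6 : ∃ cs : CoxeterSystem CoxeterMatrix.E₆ checkedE6.toRS.W, ∀ i, cs.simple i = checkedE6.toRS.s i :=
  checkedE6.coxeterSystem CoxeterMatrix.E₆ (by decide +kernel)

theorem coxElt_E6 : orderOf (wp checkedE6.toRS.s (List.finRange 6)) = 12 :=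
  checkedE6.orderOf_wp _ (by decide +kernel)

def chainE7L : List (ℕ × ℕ × ℕ) := [
  (127, 125, 0x102030405060405060706070808090a070809090a0b0a0b0c0d0b0c0d0e0f1008090a0a0b0c0b0c0d0e0c0d0e0f100c0d0e0f100d0e0f100e0f100f10101111121112131112131411121314151112131415131415161516171718191112131415161415161716171818191a171819191a1b1a1b1c1d1b1c1d1e1f2021),
  (126, 32, 0x1020304050304050605060707080906070808090a090a0b0c0a0b0c0d0e0f00),
  (122, 52, 0x1020304000000000002030405040506060708000000000000000000000000000000000000000000000000000000000000000000),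
  (114, 56, 0x102030000000000000102030400000000000000000000000000000000000000000000000000000000000000000000000000000000000000),
  (96, 59, 0x102000000000000000000000000000000000000000000000000000000000000000000000000000000000000000000000000000000000000000000),
  (64, 61, 0x1000000000000000000000000000000000000000000000000000000000000000000000000000000000000000000000000000000000000000000000000)]

theorem chainB_E7 : chainB chevE7.rank chevE7.nroots certE7 id id chainE7L = true := by decide +kernel

theorem poinc_E7 (q : ℕ) : ((q : ℤ) - 1) ^ 7 * (RS.Sym.one checkedE7.toRS).poinc Set.univ q =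
    ([2, 6, 8, 10, 12, 14, 18].map fun k => (q : ℤ) ^ k - 1).prod :=
  checkedE7.poinc_univ chainB_E7 rfl (by decide +kernel) q

theorem card_W_E7 : Nat.card checkedE7.toRS.W = 2903040 :=
  checkedE7.card_W chainB_E7 rfl (by decide +kernel)

theorem cox_E7 : ∃ cs : CoxeterSystem CoxeterMatrix.E₇ checkedE7.toRS.W, ∀ i, cs.simple i = checkedE7.toRS.s i :=
  checkedE7.coxeterSystem CoxeterMatrix.E₇ (by decide +kernel)

theorem coxElt_E7 : orderOf (wp checkedE7.toRS.s (List.finRange 7)) = 18 :=
  checkedE7.orderOf_wp _ (by decide +kernel)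

def chainE8L : List (ℕ × ℕ × ℕ) := [
  (255, 239, 0x10203040506060708090a0b0c0708090a0b0c0d0a0b0c0d0e0c0d0e0f0e0f101011120d0e0f100f101111121310111212131413141516111213131415141516171516171819161718191a1b1c12131414151615161718161718191a1718191a1b1c1718191a1b1c18191a1b1c191a1b1c1a1b1c1b1c1c1d1d1e1d1e1f1d1e1f201d1e1f20211d1e1f2021221d1e1f2021221f20212223212223242324252526271d1e1f202122232021222324222324252425262627282324252625262727282926272828292a292a2b2c272829292a2b2a2b2c2d2b2c2d2e2f2c2d2e2f3031322d2e2f3031323333343536373839),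
  (127, 119, 0x100000200000003000000000400000000000500000000000500000000060000000700000800090a00000000000006000000000700000008000009000a0b0000000900000a000b0c00000b000c0d000d0e0f00000c000d0e000e0f10000f1011120010111213141500111213141516161718191a1b00),
  (63, 118, 0x10000000200000000030000000000040000000000040000000005000000060000070008000000000000000500000000060000000700000800090000000008000009000a0000000a000b00000c000000000b000c00000d0000000e000000000f0000000000001000000000000000000000000000),
  (31, 116, 0x1000000000200000000000300000000000300000000040000000500000600000000000000000004000000000500000006000007000000000000070000080000000000090000000000000000000a0000000000000000000000000000000000000000000000000000000000000000000000),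
  (15, 113, 0x1000000000002000000000002000000000300000004000000000000000000000000030000000004000000050000000000000000000600000000000000000000000000000000000000000000000000000000000000000000000000000000000000000000000000000000000000),
  (7, 109, 0x100000000000100000000020000000000000000000000000000000002000000000300000000000000000000000000000000000000000000000000000000000000000000000000000000000000000000000000000000000000000000000000000000000000000000),
  (1, 104, 0x100000000000000000000000000000000000000000000000000000000000000000000000000000000000000000000000000000000000000000000000000000000000000000000000000000000)]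

theorem chainB_E8 : chainB chevE8.rank chevE8.nroots certE8 id id chainE8L = true := by decide +kernel

theorem poinc_E8 (q : ℕ) : ((q : ℤ) - 1) ^ 8 * (RS.Sym.one checkedE8.toRS).poinc Set.univ q =
    ([2, 8, 12, 14, 18, 20, 24, 30].map fun k => (q : ℤ) ^ k - 1).prod :=
  checkedE8.poinc_univ chainB_E8 rfl (by decide +kernel) q

theorem card_W_E8 : Nat.card checkedE8.toRS.W = 696729600 :=
  checkedE8.card_W chainB_E8 rfl (by decide +kernel)

theorem cox_E8 : ∃ cs : CoxeterSystem CoxeterMatrix.E₈ checkedE8.toRS.W, ∀ i, cs.simple i = checkedE8.toRS.s i :=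
  checkedE8.coxeterSystem CoxeterMatrix.E₈ (by decide +kernel)

theorem coxElt_E8 : orderOf (wp checkedE8.toRS.s (List.finRange 8)) = 30 :=
  checkedE8.orderOf_wp _ (by decide +kernel)

end Cfsg.Agent.Chev
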