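import Cfsg.Agent.Lib.Chev.Torus
import Cfsg.Agent.Lib.Chev.PoincAll
import Cfsg.Agent.Lib.Chev.Bridge

set_option autoImplicit false
set_option maxRecDepth 100000
set_option linter.style.haveILetI false

/-! Orders, perfectness and simplicity of the tabulated Chevalley groups. -/

namespace Cfsg.Agent.Chev

open Cfsg.Lie

/-- a matrix given by a list of rows -/
def lmat {n m : ℕ} (L : List (List ℤ)) : Matrix (Fin n) (Fin m) ℤ :=
  Matrix.of fun i j => (L.getD i []).getD j 0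

theorem card_ker_of_snf {n : ℕ} {A : Type*} [CommGroup A] [Finite A] [IsCyclic A]
    {M : Matrix (Fin n) (Fin n) ℤ} (P P' Q Q' : List (List ℤ)) (d : List ℕ) (hd : d.length = n)
    (h : (lmat P * lmat P' : Matrix (Fin n) (Fin n) ℤ) = 1 ∧ (lmat Q * lmat Q' : Matrix (Fin n) (Fin n) ℤ) = 1 ∧
      M = (lmat P : Matrix (Fin n) (Fin n) ℤ) * Matrix.diagonal (fun i : Fin n => ((d.getD i 0 : ℕ) : ℤ)) *
        (lmat Q : Matrix (Fin n) (Fin n) ℤ)) :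
    Nat.card (zmap A M).ker = (d.map fun k => Nat.gcd k (Nat.card A)).prod := by
  subst hd
  rw [card_ker_zmap (d := fun i : Fin d.length => d.getD i 0) h.1 h.2.1 h.2.2, ← List.prod_ofFn]
  congr 1
  apply List.ext_getElem <;> simp

section
variable {I R : Type} [Fintype I] [DecidableEq I] [Fintype R] [DecidableEq R] {Φ : CD I R}
  {F : Type*} [Field F] {G : Type*} [Group G]

theorem St.perfect_of_wit {S : St Φ F G} (hG : S.Gx = ⊤) (w : I → R × R × ℤ)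
    (h : ∀ i, (w i).2.1 ≠ (w i).1 ∧ (w i).2.1 ≠ Φ.neg (w i).1 ∧
      Φ.ct (w i).1 (w i).2.1 = [(Φ.sim i, (w i).2.2, 1, 1)] ∧ (w i).2.2 * (w i).2.2 = 1) :
    commutator G = ⊤ :=
  St.eq_top_of_sim hG fun i t => St.x_mem_commutator_of_ct (h i).1 (h i).2.1 (h i).2.2.1 (fun e => by
    have := congrArg (Int.cast (R := F)) (h i).2.2.2
    simp [e] at this) (by simp) t

theorem St.perfect_of_sq {S : St Φ F G} (hG : S.Gx = ⊤) {c : Fˣ} (hc : c ^ 2 ≠ 1) : commutator G = ⊤ :=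
  St.eq_top_of_sim hG fun _ t => St.x_mem_commutator_of_sq hc _ t

theorem sq_or_three (hF : ∃ a : F, a ≠ 0 ∧ a ≠ 1) : (∃ c : Fˣ, c ^ 2 ≠ 1) ∨ ((3 : F) = 0 ∧ (2 : F) ≠ 0) := by
  by_contra hn
  simp only [not_or, not_exists, not_not, not_and] at hn
  obtain ⟨a, h0, h1⟩ := hF
  have key : ∀ a : F, a ≠ 0 → (a - 1) * (a + 1) = 0 := fun a ha => by
    have := congrArg Units.val (hn.1 (Units.mk0 a ha))
    simp only [Units.val_pow_eq_pow_val, Units.val_mk0, Units.val_one] at this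
    linear_combination this
  have h2 : a + 1 = 0 := (mul_eq_zero.1 (key a h0)).resolve_left (sub_ne_zero.2 h1)
  have h3 : (2 : F) ≠ 0 := fun e => h1 (by linear_combination h2 - e)
  exact h3 (hn.2 (by linear_combination key 2 h3))

end

theorem Checked.card_group {D : ChevalleyDatum} {c : Cert} (h : Checked D c) {F : Type*} [Field F] [Fintype F]
    {q : ℕ} (hq : Fintype.card F = q) {k : ℕ} (hk : Nat.card (zmap Fˣ h.toRS.cm).ker = k) {P : ℤ}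
    (hP : ((q : ℤ) - 1) ^ D.rank * (RS.Sym.one h.toRS).poinc Set.univ q = P) :
    ((k * Nat.card (D.group F) : ℕ) : ℤ) = q ^ (D.nroots / 2) * P := by
  have h1 := St.card_H (S := h.st F) h.st_inj
  have h2 : 1 ≤ q := hq ▸ Fintype.card_pos
  rw [Nat.card_eq_fintype_card (α := F), hq, Fintype.card_fin] at h1
  rw [h.group_eq, St.card_Gx, Nat.card_eq_fintype_card (α := F), hq, ← hP, ← hk]
  have h3 : ((q : ℤ) - 1) ^ D.rank = ((q - 1) ^ D.rank : ℕ) := by push_cast [h2]; rfl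
  rw [h3, ← h1, ← h.card_pos]
  push_cast
  exact (by intros; ring : ∀ a b c d : ℤ, a * (b * c * d) = b * (a * c * d)) _ _ _ _

theorem ker_B2 (A : Type*) [CommGroup A] [Finite A] [IsCyclic A] :
    Nat.card (zmap A checkedB2.toRS.cm).ker = Nat.gcd 2 (Nat.card A) := by
  refine (card_ker_of_snf (n := chevB2.rank) [[2, 1], [-1, 0]]
    [[0, -1], [1, 2]]
    [[1, -2], [0, 1]]
    [[1, 2], [0, 1]] [1, 2] rfl (by decide +kernel)).trans ?_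
  simp

theorem conn_B2 : checkedB2.toRS.Conn := RS.conn_of_full (θ := ⟨7, by decide⟩) (by decide +kernel)

theorem ker_G2 (A : Type*) [CommGroup A] [Finite A] [IsCyclic A] :
    Nat.card (zmap A checkedG2.toRS.cm).ker = 1 := by
  refine (card_ker_of_snf (n := chevG2.rank) [[2, 1], [-1, 0]]
    [[0, -1], [1, 2]]
    [[1, -2], [0, 1]]
    [[1, 2], [0, 1]] [1, 1] rfl (by decide +kernel)).trans ?_
  simp

theorem conn_G2 : checkedG2.toRS.Conn := RS.conn_of_full (θ := ⟨11, by decide⟩) (by decide +kernel)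

theorem cm_inv_G2 : checkedG2.toRS.cm * (lmat [[2, 3], [1, 2]] : Matrix _ (Fin chevG2.rank) ℤ) = 1 := by
  decide +kernel

theorem ker_D4 (A : Type*) [CommGroup A] [Finite A] [IsCyclic A] :
    Nat.card (zmap A checkedD4.toRS.cm).ker = Nat.gcd 2 (Nat.card A) ^ 2 := by
  refine (card_ker_of_snf (n := chevD4.rank) [[-1, 0, 0, 0], [2, -1, 0, 0], [-1, 2, -1, 0], [-1, 0, 1, 1]]
    [[-1, 0, 0, 0], [-2, -1, 0, 0], [-3, -2, -1, 0], [2, 2, 1, 1]]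
    [[-2, 1, 0, 0], [-3, 0, 1, 1], [-2, 0, 0, 1], [1, 0, 0, 0]]
    [[0, 0, 0, 1], [1, 0, 0, 2], [0, 1, -1, 1], [0, 0, 1, 2]] [1, 1, 2, 2] rfl (by decide +kernel)).trans ?_
  simp [sq]

theorem conn_D4 : checkedD4.toRS.Conn := RS.conn_of_full (θ := ⟨23, by decide⟩) (by decide +kernel)

theorem perfect_D4 {F : Type*} [Field F] {G : Type*} [Group G] {S : St checkedD4.toCD F G}
    (hG : S.Gx = ⊤) : commutator G = ⊤ :=
  St.perfect_of_wit hG (fun i => let x := ([(6, 22, 1), (1, 23, -1), (3, 22, -1), (2, 22, -1)] : List (ℕ × ℕ × ℤ)).getD i 0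
    (Checked.toFin ⟨0, by decide⟩ x.1, Checked.toFin ⟨0, by decide⟩ x.2.1, x.2.2)) (by decide +kernel)

theorem ker_F4 (A : Type*) [CommGroup A] [Finite A] [IsCyclic A] :
    Nat.card (zmap A checkedF4.toRS.cm).ker = 1 := by
  refine (card_ker_of_snf (n := chevF4.rank) [[-1, 0, 0, 0], [2, 0, -1, 0], [-1, -1, 0, 0], [0, 2, 2, -1]]
    [[-1, 0, 0, 0], [1, 0, -1, 0], [-2, -1, 0, 0], [-2, -2, -2, -1]]
    [[-2, 1, 0, 0], [2, 0, -2, 1], [-3, 0, 2, 0], [-2, 0, 1, 0]]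
    [[0, 0, 1, -2], [1, 0, 2, -4], [0, 0, 2, -3], [0, 1, 2, -2]] [1, 1, 1, 1] rfl (by decide +kernel)).trans ?_
  simp

theorem conn_F4 : checkedF4.toRS.Conn := RS.conn_of_full (θ := ⟨47, by decide⟩) (by decide +kernel)

theorem cm_inv_F4 : checkedF4.toRS.cm * (lmat [[2, 3, 4, 2], [3, 6, 8, 4], [2, 4, 6, 3], [1, 2, 3, 2]] : Matrix _ (Fin chevF4.rank) ℤ) = 1 := by
  decide +kernel

theorem perfect_F4 {F : Type*} [Field F] {G : Type*} [Group G] {S : St checkedF4.toCD F G}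
    (hG : S.Gx = ⊤) : commutator G = ⊤ :=
  St.perfect_of_wit hG (fun i => let x := ([(7, 44, -1), (8, 40, -1), (2, 46, -1), (1, 47, -1)] : List (ℕ × ℕ × ℤ)).getD i 0
    (Checked.toFin ⟨0, by decide⟩ x.1, Checked.toFin ⟨0, by decide⟩ x.2.1, x.2.2)) (by decide +kernel)

theorem ker_E6 (A : Type*) [CommGroup A] [Finite A] [IsCyclic A] :
    Nat.card (zmap A checkedE6.toRS.cm).ker = Nat.gcd 3 (Nat.card A) := by
  refine (card_ker_of_snf (n := chevE6.rank) [[-1, 0, 0, 0, 0, 0], [0, -1, 0, 0, 0, 0], [2, -1, 0, 0, -1, 0], [-1, 2, -1, 0, 0, 0], [0, -1, 2, -1, 0, 0], [0, 0, -1, 2, 4, -1]]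
    [[-1, 0, 0, 0, 0, 0], [0, -1, 0, 0, 0, 0], [1, -2, 0, -1, 0, 0], [2, -3, 0, -2, -1, 0], [-2, 1, -1, 0, 0, 0], [-5, 0, -4, -3, -2, -1]]
    [[-2, 0, 1, 0, 0, 0], [0, -2, 0, 1, 0, 0], [2, -3, 0, 0, 1, 0], [4, -4, 0, 0, 0, 1], [-3, 2, 0, 0, 0, 0], [-2, 1, 0, 0, 0, 0]]
    [[0, 0, 0, 0, 1, -2], [0, 0, 0, 0, 2, -3], [1, 0, 0, 0, 2, -4], [0, 1, 0, 0, 4, -6], [0, 0, 1, 0, 4, -5], [0, 0, 0, 1, 4, -4]] [1, 1, 1, 1, 1, 3] rfl (by decide +kernel)).trans ?_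
  simp

theorem conn_E6 : checkedE6.toRS.Conn := RS.conn_of_full (θ := ⟨71, by decide⟩) (by decide +kernel)

theorem perfect_E6 {F : Type*} [Field F] {G : Type*} [Group G] {S : St checkedE6.toCD F G}
    (hG : S.Gx = ⊤) : commutator G = ⊤ :=
  St.perfect_of_wit hG (fun i => let x := ([(16, 66, 1), (1, 71, -1), (5, 69, -1), (2, 70, -1), (3, 69, -1), (4, 68, -1)] : List (ℕ × ℕ × ℤ)).getD i 0
    (Checked.toFin ⟨0, by decide⟩ x.1, Checked.toFin ⟨0, by decide⟩ x.2.1, x.2.2)) (by decide +kernel)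

theorem ker_E7 (A : Type*) [CommGroup A] [Finite A] [IsCyclic A] :
    Nat.card (zmap A checkedE7.toRS.cm).ker = Nat.gcd 2 (Nat.card A) := by
  refine (card_ker_of_snf (n := chevE7.rank) [[-1, 0, 0, 0, 0, 0, 0], [0, -1, 0, 0, 0, 0, 0], [2, -1, 0, 0, 0, -1, 0], [-1, 2, -1, 0, 0, 0, 0], [0, -1, 2, -1, 0, 0, 0], [0, 0, -1, 2, -1, 0, 0], [0, 0, 0, -1, 2, 4, -1]]
    [[-1, 0, 0, 0, 0, 0, 0], [0, -1, 0, 0, 0, 0, 0], [1, -2, 0, -1, 0, 0, 0], [2, -3, 0, -2, -1, 0, 0], [3, -4, 0, -3, -2, -1, 0], [-2, 1, -1, 0, 0, 0, 0], [-4, -1, -4, -4, -3, -2, -1]]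
    [[-2, 0, 1, 0, 0, 0, 0], [0, -2, 0, 1, 0, 0, 0], [2, -3, 0, 0, 1, 0, 0], [4, -4, 0, 0, 0, 1, 0], [6, -5, 0, 0, 0, 0, 1], [-3, 2, 0, 0, 0, 0, 0], [-2, 1, 0, 0, 0, 0, 0]]
    [[0, 0, 0, 0, 0, 1, -2], [0, 0, 0, 0, 0, 2, -3], [1, 0, 0, 0, 0, 2, -4], [0, 1, 0, 0, 0, 4, -6], [0, 0, 1, 0, 0, 4, -5], [0, 0, 0, 1, 0, 4, -4], [0, 0, 0, 0, 1, 4, -3]] [1, 1, 1, 1, 1, 1, 2] rfl (by decide +kernel)).trans ?_
  simp

theorem conn_E7 : checkedE7.toRS.Conn := RS.conn_of_full (θ := ⟨125, by decide⟩) (by decide +kernel)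

theorem perfect_E7 {F : Type*} [Field F] {G : Type*} [Group G] {S : St checkedE7.toCD F G}
    (hG : S.Gx = ⊤) : commutator G = ⊤ :=
  St.perfect_of_wit hG (fun i => let x := ([(1, 125, -1), (7, 122, -1), (2, 124, -1), (3, 123, -1), (4, 122, -1), (5, 121, -1), (6, 120, -1)] : List (ℕ × ℕ × ℤ)).getD i 0
    (Checked.toFin ⟨0, by decide⟩ x.1, Checked.toFin ⟨0, by decide⟩ x.2.1, x.2.2)) (by decide +kernel)

theorem ker_E8 (A : Type*) [CommGroup A] [Finite A] [IsCyclic A] :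
    Nat.card (zmap A checkedE8.toRS.cm).ker = 1 := by
  refine (card_ker_of_snf (n := chevE8.rank) [[-1, 0, 0, 0, 0, 0, 0, 0], [0, -1, 0, 0, 0, 0, 0, 0], [2, -1, 0, 0, 0, 0, -1, 0], [-1, 2, -1, 0, 0, 0, 0, 0], [0, -1, 2, -1, 0, 0, 0, 0], [0, 0, -1, 2, -1, 0, 0, 0], [0, 0, 0, -1, 2, -1, 0, 0], [0, 0, 0, 0, -1, 2, 4, -1]]
    [[-1, 0, 0, 0, 0, 0, 0, 0], [0, -1, 0, 0, 0, 0, 0, 0], [1, -2, 0, -1, 0, 0, 0, 0], [2, -3, 0, -2, -1, 0, 0, 0], [3, -4, 0, -3, -2, -1, 0, 0], [4, -5, 0, -4, -3, -2, -1, 0], [-2, 1, -1, 0, 0, 0, 0, 0], [-3, -2, -4, -5, -4, -3, -2, -1]]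
    [[-2, 0, 1, 0, 0, 0, 0, 0], [0, -2, 0, 1, 0, 0, 0, 0], [2, -3, 0, 0, 1, 0, 0, 0], [4, -4, 0, 0, 0, 1, 0, 0], [6, -5, 0, 0, 0, 0, 1, 0], [8, -6, 0, 0, 0, 0, 0, 1], [-3, 2, 0, 0, 0, 0, 0, 0], [-2, 1, 0, 0, 0, 0, 0, 0]]
    [[0, 0, 0, 0, 0, 0, 1, -2], [0, 0, 0, 0, 0, 0, 2, -3], [1, 0, 0, 0, 0, 0, 2, -4], [0, 1, 0, 0, 0, 0, 4, -6], [0, 0, 1, 0, 0, 0, 4, -5], [0, 0, 0, 1, 0, 0, 4, -4], [0, 0, 0, 0, 1, 0, 4, -3], [0, 0, 0, 0, 0, 1, 4, -2]] [1, 1, 1, 1, 1, 1, 1, 1] rfl (by decide +kernel)).trans ?_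
  simp

theorem conn_E8 : checkedE8.toRS.Conn := RS.conn_of_full (θ := ⟨239, by decide⟩) (by decide +kernel)

theorem cm_inv_E8 : checkedE8.toRS.cm * (lmat [[4, 5, 7, 10, 8, 6, 4, 2], [5, 8, 10, 15, 12, 9, 6, 3], [7, 10, 14, 20, 16, 12, 8, 4], [10, 15, 20, 30, 24, 18, 12, 6], [8, 12, 16, 24, 20, 15, 10, 5], [6, 9, 12, 18, 15, 12, 8, 4], [4, 6, 8, 12, 10, 8, 6, 3], [2, 3, 4, 6, 5, 4, 3, 2]] : Matrix _ (Fin chevE8.rank) ℤ) = 1 := by
  decide +kernel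

theorem perfect_E8 {F : Type*} [Field F] {G : Type*} [Group G] {S : St checkedE8.toCD F G}
    (hG : S.Gx = ⊤) : commutator G = ⊤ :=
  St.perfect_of_wit hG (fun i => let x := ([(14, 233, -1), (7, 234, -1), (6, 234, -1), (5, 235, -1), (4, 236, -1), (3, 237, -1), (2, 238, -1), (1, 239, -1)] : List (ℕ × ℕ × ℤ)).getD i 0
    (Checked.toFin ⟨0, by decide⟩ x.1, Checked.toFin ⟨0, by decide⟩ x.2.1, x.2.2)) (by decide +kernel)

theorem perfect_G2 {F : Type*} [Field F] {G : Type*} [Group G] {S : St checkedG2.toCD F G}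
    (hG : S.Gx = ⊤) (hF : ∃ a : F, a ≠ 0 ∧ a ≠ 1) : commutator G = ⊤ := by
  rcases sq_or_three hF with ⟨c, hc⟩ | ⟨h3, h2⟩
  · exact St.perfect_of_sq hG hc
  refine St.eq_top_of_sim hG fun i t => ?_
  have : i = ⟨0, Nat.le_of_ble_eq_true rfl⟩ ∨ i = ⟨1, Nat.le_of_ble_eq_true rfl⟩ := by revert i; decide +kernel
  rcases this with rfl | rfl
  · exact St.x_mem_commutator_of_ct (a := ⟨3, Nat.le_of_ble_eq_true rfl⟩) (b := ⟨9, Nat.le_of_ble_eq_true rfl⟩) (e := 2)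
      (L := [(⟨5, Nat.le_of_ble_eq_true rfl⟩, -3, 2, 1), (⟨10, Nat.le_of_ble_eq_true rfl⟩, 3, 1, 2)]) (by decide +kernel) (by decide +kernel)
      (by decide +kernel) (by simpa using h2) (by simp [h3]) t
  · exact St.x_mem_commutator_of_ct (a := ⟨1, Nat.le_of_ble_eq_true rfl⟩) (b := ⟨11, Nat.le_of_ble_eq_true rfl⟩) (e := -1)
      (L := []) (by decide +kernel) (by decide +kernel) (by decide +kernel) (by simp) (by simp) t

theorem perfect_B2 {F : Type*} [Field F] {G : Type*} [Group G] {S : St checkedB2.toCD F G}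
    (hG : S.Gx = ⊤) (hF : ∃ a : F, a ≠ 0 ∧ a ≠ 1) : commutator G = ⊤ := by
  rcases sq_or_three hF with ⟨c, hc⟩ | ⟨h3, h2⟩
  · exact St.perfect_of_sq hG hc
  have h4 : ∀ t, S.x (checkedB2.toCD.sim ⟨1, Nat.le_of_ble_eq_true rfl⟩) t ∈ commutator G := fun t =>
    St.x_mem_commutator_of_ct (a := ⟨6, Nat.le_of_ble_eq_true rfl⟩) (b := ⟨2, Nat.le_of_ble_eq_true rfl⟩) (e := 2)
      (L := []) (by decide +kernel) (by decide +kernel) (by decide +kernel) (by simpa using h2) (by simp) t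
  refine St.eq_top_of_sim hG fun i t => ?_
  have : i = ⟨0, Nat.le_of_ble_eq_true rfl⟩ ∨ i = ⟨1, Nat.le_of_ble_eq_true rfl⟩ := by revert i; decide +kernel
  rcases this with rfl | rfl
  · refine St.x_mem_commutator_of_ct (a := ⟨1, Nat.le_of_ble_eq_true rfl⟩) (b := ⟨7, Nat.le_of_ble_eq_true rfl⟩) (e := -1)
      (L := [(checkedB2.toCD.s ⟨1, Nat.le_of_ble_eq_true rfl⟩ • checkedB2.toCD.sim ⟨1, Nat.le_of_ble_eq_true rfl⟩, 1, 2, 1)])
      (by decide +kernel) (by decide +kernel) (by decide +kernel) (by simp) ?_ t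
    simp only [List.mem_singleton, forall_eq]
    exact Or.inr (St.x_mem_of_smul h4 _)
  · exact h4 t

theorem conn_of_mem {D : ChevalleyDatum}
    (hD : D ∈ [chevG2, chevB2, chevD4, chevF4, chevE6, chevE7, chevE8]) :
    ∃ c, ∃ h : Checked D c, h.toRS.Conn ∧ 0 < D.rank := by
  simp only [List.mem_cons, List.not_mem_nil, or_false] at hD
  rcases hD with rfl | rfl | rfl | rfl | rfl | rfl | rfl
  exacts [⟨_, _, conn_G2, by decide⟩, ⟨_, _, conn_B2, by decide⟩, ⟨_, _, conn_D4, by decide⟩,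
    ⟨_, _, conn_F4, by decide⟩, ⟨_, _, conn_E6, by decide⟩, ⟨_, _, conn_E7, by decide⟩,
    ⟨_, _, conn_E8, by decide⟩]

theorem Checked.simple {D : ChevalleyDatum} {c : Cert} (h : Checked D c) {F : Type*} [Field F]
    (hc : h.toRS.Conn) (hl : 0 < D.rank) (hp : commutator (h.st F).Gx = ⊤) :
    IsSimpleGroup (D.group F) ∧ ¬ IsMulCommutative (D.group F) := by
  haveI : Nonempty (Fin D.rank) := ⟨⟨0, hl⟩⟩
  rw [h.group_eq]
  exact St.isSimpleGroup St.res_Gx h.res_inj hc hp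

section Orders
variable {F : Type*} [Field F] [Fintype F] {q : ℕ} (hq : Fintype.card F = q)
include hq

theorem card_units_eq : Nat.card Fˣ = q - 1 := by rw [Nat.card_units, Nat.card_eq_fintype_card, hq]

theorem card_B2 : Nat.gcd 2 (q - 1) * Nat.card (chevB2.group F) =
    q ^ 4 * (q ^ 2 - 1) * (q ^ 4 - 1) := by
  have h := checkedB2.card_group hq (ker_B2 Fˣ) (poinc_B2 q)
  have h1 : ∀ k, 1 ≤ q ^ k := fun k => Nat.one_le_pow _ _ (hq ▸ Fintype.card_pos)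
  rw [card_units_eq hq] at h
  zify [h1] at h ⊢
  rw [h]
  simp [show chevB2.nroots / 2 = 4 from rfl, mul_assoc]

theorem card_G2 : Nat.card (chevG2.group F) =
    q ^ 6 * (q ^ 2 - 1) * (q ^ 6 - 1) := by
  have h := checkedG2.card_group hq (ker_G2 Fˣ) (poinc_G2 q)
  have h1 : ∀ k, 1 ≤ q ^ k := fun k => Nat.one_le_pow _ _ (hq ▸ Fintype.card_pos)
  rw [one_mul] at h
  zify [h1] at h ⊢
  rw [h]
  simp [show chevG2.nroots / 2 = 6 from rfl, mul_assoc]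

theorem card_D4 : Nat.gcd 2 (q - 1) ^ 2 * Nat.card (chevD4.group F) =
    q ^ 12 * (q ^ 2 - 1) * (q ^ 4 - 1) * (q ^ 4 - 1) * (q ^ 6 - 1) := by
  have h := checkedD4.card_group hq (ker_D4 Fˣ) (poinc_D4 q)
  have h1 : ∀ k, 1 ≤ q ^ k := fun k => Nat.one_le_pow _ _ (hq ▸ Fintype.card_pos)
  rw [card_units_eq hq] at h
  zify [h1] at h ⊢
  rw [h]
  simp [show chevD4.nroots / 2 = 12 from rfl, mul_assoc]

theorem card_F4 : Nat.card (chevF4.group F) =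
    q ^ 24 * (q ^ 2 - 1) * (q ^ 6 - 1) * (q ^ 8 - 1) * (q ^ 12 - 1) := by
  have h := checkedF4.card_group hq (ker_F4 Fˣ) (poinc_F4 q)
  have h1 : ∀ k, 1 ≤ q ^ k := fun k => Nat.one_le_pow _ _ (hq ▸ Fintype.card_pos)
  rw [one_mul] at h
  zify [h1] at h ⊢
  rw [h]
  simp [show chevF4.nroots / 2 = 24 from rfl, mul_assoc]

theorem card_E6 : Nat.gcd 3 (q - 1) * Nat.card (chevE6.group F) =
    q ^ 36 * (q ^ 2 - 1) * (q ^ 5 - 1) * (q ^ 6 - 1) * (q ^ 8 - 1) * (q ^ 9 - 1) * (q ^ 12 - 1) := by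
  have h := checkedE6.card_group hq (ker_E6 Fˣ) (poinc_E6 q)
  have h1 : ∀ k, 1 ≤ q ^ k := fun k => Nat.one_le_pow _ _ (hq ▸ Fintype.card_pos)
  rw [card_units_eq hq] at h
  zify [h1] at h ⊢
  rw [h]
  simp [show chevE6.nroots / 2 = 36 from rfl, mul_assoc]

theorem card_E7 : Nat.gcd 2 (q - 1) * Nat.card (chevE7.group F) =
    q ^ 63 * (q ^ 2 - 1) * (q ^ 6 - 1) * (q ^ 8 - 1) * (q ^ 10 - 1) * (q ^ 12 - 1) * (q ^ 14 - 1) * (q ^ 18 - 1) := by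
  have h := checkedE7.card_group hq (ker_E7 Fˣ) (poinc_E7 q)
  have h1 : ∀ k, 1 ≤ q ^ k := fun k => Nat.one_le_pow _ _ (hq ▸ Fintype.card_pos)
  rw [card_units_eq hq] at h
  zify [h1] at h ⊢
  rw [h]
  simp [show chevE7.nroots / 2 = 63 from rfl, mul_assoc]

theorem card_E8 : Nat.card (chevE8.group F) =
    q ^ 120 * (q ^ 2 - 1) * (q ^ 8 - 1) * (q ^ 12 - 1) * (q ^ 14 - 1) * (q ^ 18 - 1) * (q ^ 20 - 1) * (q ^ 24 - 1) * (q ^ 30 - 1) := by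
  have h := checkedE8.card_group hq (ker_E8 Fˣ) (poinc_E8 q)
  have h1 : ∀ k, 1 ≤ q ^ k := fun k => Nat.one_le_pow _ _ (hq ▸ Fintype.card_pos)
  rw [one_mul] at h
  zify [h1] at h ⊢
  rw [h]
  simp [show chevE8.nroots / 2 = 120 from rfl, mul_assoc]

end Orders

end Cfsg.Agent.Chev
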