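import Cfsg.Agent.Lib.Chev.Cl13
import Cfsg.Agent.Lib.Chev.TwE6
import Cfsg.Agent.Lib.Chev.TwD4
import Cfsg.Agent.Lib.Chev.TwF4
import Cfsg.Agent.Lib.Chev.TwG2
import Cfsg.Prelude.Def_LieTypeChar
import Cfsg.Agent.S0270
import Cfsg.Agent.S0283
import Cfsg.Agent.S0295
import Cfsg.Agent.S0296
import Cfsg.Agent.S0297
import Cfsg.Agent.S1054
import Cfsg.Agent.S1055
import Cfsg.Agent.S1070
import Cfsg.Agent.S1071
import Cfsg.Agent.S1072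
import Cfsg.Agent.S1073
import Cfsg.Agent.S1162

set_option autoImplicit false
set_option linter.unusedSectionVars false
set_option linter.style.haveILetI false

/-! Split `BN`-pairs in all groups of Lie type. -/

namespace Cfsg.Agent.Chev
open Cfsg.Agent.Classical Cfsg.Lie

variable {G : Type*} [Group G] {p : ℕ}

theorem lieT_of_char [Finite G] [Fact p.Prime] (hG : IsLieTypeChar p G) : LieT p G := by
  have k : ∀ {H : Type} [Group H] (e : G ≃* H), (Finite H → LieT p H) → LieT p G := fun e h =>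
    have := Finite.of_equiv _ e.toEquiv
    (h this).congr e.symm
  rcases hG with ⟨F, _, _, _, n, h1, -, ⟨e⟩⟩ | ⟨F, _, _, _, m, h1, -, ⟨e⟩⟩ | ⟨F, _, _, _, n, q, hF, h1, -, ⟨e⟩⟩ | ⟨F, _, _, _, m, h1, h2, ⟨e⟩⟩ |
    ⟨F, _, _, _, m, h1, ⟨e⟩⟩ | ⟨F, _, _, _, m, a, b, h1, h2, ⟨e⟩⟩ | ⟨F, _, _, _, ⟨-, ⟨e⟩⟩ | ⟨⟨e⟩⟩ | ⟨⟨e⟩⟩ | ⟨⟨e⟩⟩ | ⟨⟨e⟩⟩⟩ |
    ⟨F, _, _, _, q, h1, ⟨hF, ⟨e⟩⟩ | ⟨hF, ⟨e⟩⟩⟩ | ⟨rfl, F, _, _, m, h1, hF, ⟨e⟩⟩ | ⟨rfl, F, _, _, m, h1, hF, ⟨e⟩⟩ | ⟨rfl, F, _, _, m, h1, hF, ⟨e⟩⟩ <;>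
    refine k e fun _ => ?_
  · exact (lieT_sl h1 F p).quot
  · exact (Cl.lieT_sp F p (by omega)).quot
  · exact (lieT_su p h1 hF).quot
  · exact Cl.lieT_odd F p h2 (by omega)
  · exact Cl.lieT_plus F p (by omega)
  · exact Cl.lieT_minus p (by omega) h2
  · exact St.lieT checkedG2.adj_Gx conn_G2 (g2n 0)
  · exact St.lieT checkedF4.adj_Gx conn_F4 (f4n 0)
  · exact St.lieT checkedE6.adj_Gx conn_E6 (e6n 0)
  · exact St.lieT checkedE7.adj_Gx conn_E7 ⟨0, by decide⟩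
  · exact St.lieT checkedE8.adj_Gx conn_E8 ⟨0, by decide⟩
  · obtain ⟨f, hf⟩ := exists_frob h1 hF
    exact (sub_2E6 hf hF).lieT (checkedE6.inc_inj _) p checkedE6.adj_Gx conn_E6 (co_2E6 hf hF) (e6n 0)
  · obtain ⟨f, hf⟩ := exists_frob h1 hF
    exact (sub_3D4 hf hF).lieT (checkedD4.inc_inj _) p checkedD4.adj_Gx conn_D4 (co_3D4 hf hF) (d4n 0)
  · haveI := Suz.charTwo hF
    obtain ⟨P, -, a, b⟩ := (Suz.szB h1 hF).exists_sbn
    exact ⟨P, a ▸ b⟩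
  · obtain ⟨_, θ, hf, hθ⟩ := exists_theta hF
    exact (sub_2F4 hf hθ).lieT (checkedF4.inc_inj _) 2 checkedF4.adj_Gx conn_F4 (co_2F4 hf) (f4n 0)
  · obtain ⟨_, θ, hf, hθ⟩ := exists_theta hF
    exact (sub_2G2 hf hθ).lieT (checkedG2.inc_inj _) 3 checkedG2.adj_Gx conn_G2 (co_2G2 hf hθ) (g2n 0)

theorem simple_of_char (hG : IsLieTypeChar p G) : IsSimpleGroup G := by
  have k : ∀ {H : Type} [Group H] (e : G ≃* H), IsSimpleGroup H → IsSimpleGroup G := fun e _ => e.isSimpleGroup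
  rcases hG with ⟨F, _, _, _, n, h1, h2, ⟨e⟩⟩ | ⟨F, _, _, _, m, h1, h2, ⟨e⟩⟩ | ⟨F, _, _, _, n, q, hF, h1, h2, ⟨e⟩⟩ | ⟨F, _, _, _, m, h1, h2, ⟨e⟩⟩ |
    ⟨F, _, _, _, m, h1, ⟨e⟩⟩ | ⟨F, _, _, _, m, a, b, h1, h2, ⟨e⟩⟩ | ⟨F, _, _, _, ⟨h1, ⟨e⟩⟩ | ⟨⟨e⟩⟩ | ⟨⟨e⟩⟩ | ⟨⟨e⟩⟩ | ⟨⟨e⟩⟩⟩ |
    ⟨F, _, _, _, q, h1, ⟨hF, ⟨e⟩⟩ | ⟨hF, ⟨e⟩⟩⟩ | ⟨-, F, _, _, m, h1, hF, ⟨e⟩⟩ | ⟨-, F, _, _, m, h1, hF, ⟨e⟩⟩ | ⟨-, F, _, _, m, h1, hF, ⟨e⟩⟩ <;>
    refine k e ?_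
  · obtain rfl | h := h1.eq_or_lt
    · exact Matrix.ProjectiveSpecialLinearGroup.rank_two_simple (by simpa using h2 rfl)
    · exact Lin.simple_PSL (by simp; omega)
  · exact S0270.result m h1 h2
  · exact S0283.result hF n h1 h2
  · exact S0295.result h2 m h1
  · exact S0296.result m h1
  · exact S0297.result m h1 a b h2
  · refine (S1055.result (by_contra fun h => ?_)).1
    classical
    have := Finset.card_le_card (fun a _ => by by_contra c; exact h ⟨a, by simpa using c⟩ : Finset.univ ⊆ ({0, 1} : Finset F))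
    have := Finset.card_le_two (a := (0 : F)) (b := 1)
    rw [← Finset.card_univ] at h1
    omega
  · exact (S1054.result _ (by simp)).1
  · exact (S1054.result _ (by simp)).1
  · exact (S1054.result _ (by simp)).1
  · exact (S1054.result _ (by simp)).1
  · exact (S1070.result h1 hF).1
  · exact (S1071.result h1 hF).1
  · exact S1162.result h1 hF
  · exact (S1072.result h1 hF).1
  · exact (S1073.result h1 hF).1

theorem SBN.center_eq [Finite G] [Fact p.Prime] [IsSimpleGroup G] (P : SBN p G) (h : P.B ≠ ⊤) : Subgroup.center G = ⊥ :=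
  (Subgroup.Normal.eq_bot_or_eq_top inferInstance).resolve_right fun e => h (top_le_iff.1 (e ▸ P.center_le.trans inf_le_left))

theorem SBN.U_ne [Finite G] [Fact p.Prime] (P : SBN p G) (h : P.B ≠ ⊤) : P.U ≠ ⊥ := fun e =>
  h (P.normalizer_U.symm.trans (by rw [e]; exact Subgroup.normalizer_eq_top _))

theorem SBN.exists_U_eq [Finite G] [Fact p.Prime] (P : SBN p G) (Q : Sylow p G) (h : P.B ≠ ⊤) : ∃ P' : SBN p G, P'.B ≠ ⊤ ∧ P'.U = Q := by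
  obtain ⟨g, e⟩ := MulAction.exists_smul_eq G P.syl Q
  refine ⟨P.map (φ := (MulAut.conj g).toMonoidHom) (MulAut.conj g).surjective (by
    rw [(MonoidHom.ker_eq_bot_iff _).2 (MulAut.conj g).injective]; exact bot_le), fun c => h ?_, congrArg Sylow.toSubgroup e⟩
  exact Subgroup.map_injective (MulAut.conj g).injective (c.trans (Subgroup.map_top_of_surjective _ (MulAut.conj g).surjective).symm)

end Cfsg.Agent.Chev
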