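import Cfsg.Agent.Lib.Chev.Cl1

set_option autoImplicit false
set_option linter.unusedSectionVars false
set_option linter.style.haveILetI false

/-! Root elements of types `B`, `D` in Clifford algebras and of type `C` in matrix algebras. -/

namespace Cfsg.Agent.Chev.Cl

variable {τ n : ℕ} {hn : 1 ≤ n} {a b c d : ℤ} {A : Type*} [Ring A]

/-- valid indices -/
def vi (τ n : ℕ) (a : ℤ) : Prop := -(n + 1 : ℤ) ≤ a ∧ a ≤ n + 1 ∧ (a = 0 → τ = 0)
theorem okC.l (h : okC τ n a b) : vi τ n a := by grind [okC, vi]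
theorem okC.r (h : okC τ n a b) : vi τ n b := by grind [okC, vi]
theorem vi.neg (h : vi τ n a) : vi τ n (-a) := by grind [vi]
/-- the polar form -/
def bt (a b : ℤ) : ℤ := if a + b = 0 then if a = 0 then 2 else 1 else 0
/-- a sign -/
def sg (a b : ℤ) : ℤ := if a ≤ b then 1 else -1
theorem sg_sq (a b : ℤ) : sg a b * sg a b = 1 := by grind [sg]

theorem br_of {P : RC τ n → RC τ n → Prop} (h1 : ∀ a b d h h', P (mkC a b h) (mkC (-b) d h'))
    (h2 : ∀ a b c d h h', a + c ≠ 0 ∧ a + d ≠ 0 ∧ b + c ≠ 0 ∧ b + d ≠ 0 → P (mkC a b h) (mkC c d h')) (r s : RC τ n) : P r s := by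
  refine r.ind fun a b h => s.ind fun c d h' => ?_
  by_cases e : c = -b
  · subst e; exact h1 _ _ _ _ _
  by_cases e : d = -b
  · subst e; rw [mkC_comm h']; exact h1 _ _ _ _ _
  by_cases e : c = -a
  · subst e; rw [mkC_comm h]; exact h1 _ _ _ _ _
  by_cases e : d = -a
  · subst e; rw [mkC_comm h, mkC_comm h']; exact h1 _ _ _ _ _
  exact h2 _ _ _ _ _ _ (by omega)

theorem two_mkB (h1 : okC τ n b c) (h2 : okC τ n 0 b) (h3 : okC τ n (-b) c) :
    (rs τ hn).rv (mkC b c h1) = 2 • (rs τ hn).rv (mkC 0 b h2) + (rs τ hn).rv (mkC (-b) c h3) :=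
  (euc τ hn).two_iff.2 (by simp only [euc, vC_mk, ev_neg, ev_zero]; abel)
theorem two_mkC (h1 : okC τ n a a) (h2 : okC τ n a b) (h3 : okC τ n (-b) (-b)) :
    (rs τ hn).rv (mkC a a h1) = 2 • (rs τ hn).rv (mkC a b h2) + (rs τ hn).rv (mkC (-b) (-b) h3) :=
  (euc τ hn).two_iff.2 (by simp only [euc, vC_mk, ev_neg]; abel)

/-- anticommutation relations -/
structure CAR (τ n : ℕ) (u : ℤ → A) : Prop where
  ac : ∀ {a b}, vi τ n a → vi τ n b → u a * u b + u b * u a = bt a b • 1
  sq : ∀ {a}, vi τ n a → u a * u a = if a = 0 then 1 else 0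

/-- root elements -/
def eO (u : ℤ → A) (r : RC τ n) : A := u r.1.1 * u r.1.2

namespace CAR
variable {u : ℤ → A} (q : CAR τ n u)
include q

theorem anti (ha : vi τ n a) (hb : vi τ n b) (h : a + b ≠ 0) : u b * u a = -(u a * u b) :=
  eq_neg_of_add_eq_zero_right (by rw [q.ac ha hb, bt, if_neg h, zero_smul])
theorem e_mk (h : okC τ n a b) : eO u (mkC a b h) = sg a b • (u a * u b) := by
  by_cases e : a ≤ b
  · simp [eO, mkC, e, sg]
  · simp [eO, mkC, e, sg, (not_le.1 e).le, q.anti h.l h.r h.2.2.2.2.1]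
theorem e_neg (hτ : τ ≠ 1) (h : okC τ n a b) : eO u ((rs τ hn).neg (mkC a b h)) = sg a b • (u (-b) * u (-a)) := by
  rw [neg_mk, mkC_comm, q.e_mk]; congr 1; grind [sg]
theorem cm1 (ha : vi τ n a) (hb : vi τ n b) (hc : vi τ n c) : u a * u b * u c = u c * (u a * u b) + (bt b c • u a - bt a c • u b) := by
  have h1 := q.ac hb hc
  have h2 := q.ac ha hc
  simp only [zsmul_eq_mul, mul_one] at *
  linear_combination (norm := noncomm_ring) u a * h1 - h2 * u b - (Int.cast_commute (bt b c) (u a)).eq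
theorem cm2 (ha : vi τ n a) (hb : vi τ n b) (hc : vi τ n c) (hd : vi τ n d) : u a * u b * (u c * u d) - u c * u d * (u a * u b) =
    bt b c • (u a * u d) - bt a c • (u b * u d) + (bt b d • (u c * u a) - bt a d • (u c * u b)) := by
  rw [← mul_assoc, q.cm1 ha hb hc, add_mul, mul_assoc, q.cm1 ha hb hd]
  simp only [mul_add, mul_sub, sub_mul, smul_mul_assoc, mul_smul_comm, mul_assoc]; abel
theorem tri1 (ha : vi τ n a) : u a * u (-a) * u a = u a := by
  rw [q.cm1 ha ha.neg ha, ← mul_assoc, q.sq ha]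
  by_cases e : a = 0
  · simp [e, bt]
  · simp [e, bt]
theorem cm3 (ha : vi τ n a) (hc : vi τ n c) : u a * u (-a) * u c = u c * (u a * u (-a)) + dl a c • u c := by
  rw [q.cm1 ha ha.neg hc]; congr 1
  by_cases e : c = a
  · by_cases e' : a = 0 <;> simp [e, e', bt, dl, show a = -a ↔ a = 0 by omega]
  by_cases e' : c = -a
  · simp [e', bt, dl, show a ≠ 0 by omega, show a ≠ -a by omega]
  simp [bt, dl, show a + c ≠ 0 by omega, show -a + c ≠ 0 by omega, show a ≠ -c by omega, Ne.symm e]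
theorem hq_mk (hτ : τ ≠ 1) (h : okC τ n a b) : (rs τ hn).hq (eO u) (mkC a b h) =
    bt b (-b) • (u a * u (-a)) - bt a (-a) • (u (-b) * u b) := by
  rw [RS.hq, q.e_neg hτ, q.e_mk, smul_mul_smul_comm, smul_mul_smul_comm, sg_sq, one_smul, one_smul, q.cm2 h.l h.r h.r.neg h.l.neg,
    show bt a (-b) = 0 by grind [bt, okC], show bt b (-a) = 0 by grind [bt, okC]]
  simp [sub_eq_add_neg]
theorem hq_u (hτ : τ ≠ 1) (h : okC τ n a b) (hc : vi τ n c) :
    (rs τ hn).hq (eO u) (mkC a b h) * u c = u c * (rs τ hn).hq (eO u) (mkC a b h) + prw a b c • u c := by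
  have := q.cm3 h.r.neg hc
  rw [neg_neg] at this
  rw [q.hq_mk hτ, sub_mul, smul_mul_assoc, smul_mul_assoc, q.cm3 h.l hc, this,
    show prw a b c = bt b (-b) * dl a c - bt a (-a) * dl (-b) c by grind [prw, bt, dl, okC]]
  simp only [mul_sub, mul_smul_comm]; module
theorem ne_of (ha : vi τ n a) {R : Type*} [Ring R] [Module R A] [IsScalarTower R A A] [SMulCommClass R A A] {k : R} (h : k • u a = 0) :
    k • (1 : A) = 0 := by
  by_cases e : a = 0
  · simpa [smul_mul_assoc, q.sq ha, if_pos e] using congrArg (· * u a) h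
  have := congrArg (k • ·) (q.ac ha ha.neg)
  simpa [bt, e, ← smul_mul_assoc, ← mul_smul_comm _ (u (-a)), h] using this.symm
theorem ne_of' (hτ : τ ≠ 1) (r : RC τ n) {R : Type*} [Ring R] [Module R A] [IsScalarTower R A A] [SMulCommClass R A A] {k : R}
    (h : k • eO u r = 0) : k • (1 : A) = 0 := by
  obtain ⟨⟨a, b⟩, h1, h2⟩ := r
  by_cases e : b = 0
  · exact q.ne_of h1.l (by simpa [eO, smul_mul_assoc, mul_assoc, q.sq h1.r, if_pos e] using congrArg (· * u b) h)
  have := congrArg (k • ·) (q.cm1 h1.l h1.r h1.r.neg)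
  refine q.ne_of h1.l ?_
  simp only [eO] at h
  simpa [bt, e, ← smul_mul_assoc k (u a * u b), ← mul_smul_comm _ (u (-b)), h, show a + -b ≠ 0 by grind [okC]] using this.symm

theorem sq_mk (hτ : τ ≠ 1) (h : okC τ n a b) : u a * u b * (u a * u b) = 0 := by
  rw [mul_assoc, ← mul_assoc (u b), q.anti h.l h.r h.2.2.2.2.1, neg_mul, mul_neg, mul_assoc, q.sq h.r, ← mul_assoc, q.sq h.l]
  grind [okC]
theorem br_tr (hτ : τ ≠ 1) (hn : 1 ≤ n) (r s : RC τ n) : s ≠ (rs τ hn).neg r → (eO u r * eO u s = eO u s * eO u r ∨ ∃ k, ∃ N : ℤ,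
    (rs τ hn).rv k = (rs τ hn).rv r + (rs τ hn).rv s ∧ eO u r * eO u s - eO u s * eO u r = N • eO u k ∧
    N * N = if (rs τ hn).ln r < (rs τ hn).ln k ∧ (rs τ hn).ln s < (rs τ hn).ln k then 4 else 1) ∧ (eO u r * eO u s * eO u r = 0 ∨ ∃ k, ∃ M : ℤ,
    (rs τ hn).rv k = 2 • (rs τ hn).rv r + (rs τ hn).rv s ∧ eO u r * eO u s * eO u r = M • eO u k ∧ M * M = 1) := by
  revert r s
  refine br_of (fun a b d h h' e => ?_) fun a b c d h h' e _ => ?_
  · have h1 : a + d ≠ 0 := by rw [neg_mk, Ne, mkC_inj] at e; omega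
    have h2 := q.cm2 h.l h.r h'.l h'.r
    rw [show bt a (-b) = 0 by grind [bt, okC], show bt a d = 0 by grind [bt], show bt b d = 0 by grind [bt, okC]] at h2
    simp only [zero_smul, sub_zero, add_zero] at h2
    simp only [q.e_mk, smul_mul_smul_comm]
    constructor
    · by_cases e' : a = d
      · subst e'
        rw [q.sq h.l, if_neg (by omega), smul_zero, sub_eq_zero] at h2
        exact .inl (by rw [h2, mul_comm])
      have h3 : okC τ n a d := by grind [okC]
      refine .inr ⟨mkC a d h3, sg a b * sg (-b) d * bt b (-b) * sg a d, add_mk _ _ _, ?_, by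
        simp only [ln_mk]; grind [sg, bt, okC]⟩
      rw [q.e_mk, smul_smul, mul_assoc _ (sg a d), sg_sq, mul_one, mul_comm (sg (-b) d), ← smul_sub, h2, smul_smul]
    rw [sub_eq_iff_eq_add.1 h2, add_mul, mul_assoc (u (-b) * u d), q.sq_mk hτ h, mul_zero, add_zero, smul_mul_assoc, mul_assoc (u a), ← mul_assoc (u d),
      q.anti h.l h'.r h1, neg_mul, mul_neg, mul_assoc (u a), ← mul_assoc (u a), q.sq h.l]
    by_cases e' : a = 0
    · subst e'
      have h3 : okC τ n b d := by grind [okC]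
      refine .inr ⟨mkC b d h3, sg (-b) d * sg b d, two_mkB _ _ _, ?_, by grind [sg]⟩
      rw [q.e_mk, smul_smul, smul_smul, mul_assoc _ (sg b d), sg_sq, q.anti h3.l h3.r h3.2.2.2.2.1, mul_right_comm (sg 0 b), sg_sq,
        show bt b (-b) = 1 by grind [bt, okC]]
      simp
    · simp [e']
  have h2 := q.cm2 h.l h.r h'.l h'.r
  simp only [bt, e, if_false, zero_smul, sub_zero, add_zero, sub_eq_zero] at h2
  simp only [q.e_mk, smul_mul_smul_comm, h2, mul_comm, true_or, mul_assoc (u c * u d), q.sq_mk hτ h, mul_zero, smul_zero, and_self]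

theorem qz [CharZero A] (hτ : τ ≠ 1) (hn : 1 ≤ n) : (rs τ hn).QZ (eO u) where
  bd := (euc τ hn).bd fun r s => r.ind fun a b h => s.ind fun c d h' => by simp only [euc, vC_self]; grind [okC]
  sq r := r.ind fun a b h => by rw [q.e_mk, smul_mul_smul_comm, q.sq_mk hτ h, smul_zero]
  tri r := r.ind fun a b h => by
    have h1 := q.cm3 h.r h.l
    have h2 := q.cm3 h.r h.l.neg
    rw [show dl b a = 0 by grind [dl, okC], zero_smul, add_zero] at h1
    rw [show dl b (-a) = 0 by grind [dl, okC], zero_smul, add_zero] at h2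
    rw [q.e_neg hτ, q.e_mk, smul_mul_smul_comm, sg_sq, one_smul, mul_smul_comm]
    congr 1
    linear_combination (norm := noncomm_ring) u a * h2 * u a * u b + u a * u (-a) * h1 * u b + q.tri1 h.l * u b * u (-b) * u b + u a * q.tri1 h.r
  he r s := r.ind fun a b h => s.ind fun c d h' => by
    have h1 := q.hq_u (hn := hn) hτ h h'.l
    have h2 := q.hq_u (hn := hn) hτ h h'.r
    rw [← RS.hq, pair_mk, q.e_mk, mul_smul_comm, smul_mul_assoc, ← mul_assoc, h1, add_mul, mul_assoc, h2]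
    simp only [mul_add, mul_smul_comm, smul_mul_assoc, mul_assoc]; module
  br r s h := (q.br_tr hτ hn r s h).1
  tr r s h := (q.br_tr hτ hn r s h).2
  tf r k h := by simpa using q.ne_of' hτ r h

theorem li_p (F : Type*) [Field F] [Algebra F A] [Nontrivial A] {c : F} {g : Fin (n + 1) → F}
    (h : c • (1 : A) = ∑ i, g i • (u (i + 1) * u (-(i + 1)))) : c = 0 ∧ ∀ i, g i = 0 := by
  have h1 : ∀ i : Fin (n + 1), vi τ n (i + 1) := fun i => by grind [vi]
  have h2 : ∀ j, g j = 0 := fun j => by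
    have := congrArg (fun x => x * u (j + 1) - u (j + 1) * x) h
    simp only [Finset.sum_mul, Finset.mul_sum, smul_mul_assoc, mul_smul_comm, q.cm3 (h1 _) (h1 j), one_mul, mul_one, sub_self,
      ← Finset.sum_sub_distrib, ← smul_sub, add_sub_cancel_left] at this
    rw [Finset.sum_eq_single j (fun i _ e => by rw [show dl (i + 1) (j + 1) = 0 by grind [dl]]; simp) (by simp),
      show dl (j + 1) (j + 1) = 1 by grind [dl], one_smul] at this
    simpa using q.ne_of (h1 j) this.symm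
  exact ⟨by simpa [h2] using h, h2⟩

theorem p_neg (ha : vi τ n a) : u (-a) * u a = bt a (-a) • 1 - u a * u (-a) := by rw [← q.ac ha ha.neg]; simp

theorem ind (hτ : τ ≠ 1) (F : Type*) [Field F] [Algebra F A] [Nontrivial A] :
    LinearIndependent F fun i => (rs τ hn).hq (eO u) ((rs τ hn).sim i) := by
  have h1 : ∀ i : Fin n, (rs τ hn).hq (eO u) ((rs τ hn).sim (some i)) =
      u (i.castSucc + 1) * u (-(i.castSucc + 1)) - u (i.succ + 1) * u (-(i.succ + 1)) := fun i => by
    rw [sim_eq, simC, q.hq_mk hτ, show bt (-(i + 2)) (- -(i + 2)) = 1 by grind [bt], show bt (i + 1) (-(i + 1)) = 1 by grind [bt]]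
    simp [add_assoc]
  have h2 : ∀ a : ℤ, 0 < a → a ≤ n + 1 → u a * u (-a) ∈ Submodule.span F (Set.range fun i : Fin (n + 1) => u (i + 1) * u (-(i + 1))) :=
    fun a h h' => Submodule.subset_span ⟨⟨(a - 1).toNat, by omega⟩, by simp only [show ((a - 1).toNat : ℤ) + 1 = a by omega]⟩
  refine li_opt (u := fun i : Fin (n + 1) => u (i + 1) * u (-(i + 1))) (Fintype.linearIndependent_iff.2 fun g h =>
    (q.li_p F (c := 0) (by rw [h, zero_smul])).2) h1 (Submodule.span F (Set.range fun i : Fin (n + 1) => u (i + 1) * u (-(i + 1))))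
    (fun i => h1 i ▸ sub_mem (Submodule.subset_span ⟨_, rfl⟩) (Submodule.subset_span ⟨_, rfl⟩)) fun c h => ?_
  suffices c • (1 : A) ∈ Submodule.span F (Set.range fun i : Fin (n + 1) => u (i + 1) * u (-(i + 1))) by
    obtain ⟨g, hg⟩ := (Submodule.mem_span_range_iff_exists_fun F).1 this
    exact (q.li_p F hg.symm).1
  rw [sim_eq, simC, q.hq_mk hτ, show bt (n + 1) (-(n + 1)) = 1 by grind [bt], one_smul, smul_sub, Submodule.sub_mem_iff_right _
    (Submodule.smul_mem _ _ (zsmul_mem (h2 _ (by omega) le_rfl) _))] at h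
  by_cases h0 : τ = 0
  · simpa [lastC, h0, q.sq (a := 0) (by grind [vi])] using h
  rw [lastC, if_neg h0, if_neg hτ, q.p_neg (by grind [vi]), smul_sub, Submodule.sub_mem_iff_left _ (Submodule.smul_mem _ _ (h2 _ (by omega) (by omega))),
    show bt n (-n) = 1 by grind [bt], one_smul] at h
  exact h

theorem map {B : Type*} [Ring B] (φ : A →+* B) : CAR τ n fun a => φ (u a) where
  ac ha hb := by simpa using congrArg φ (q.ac ha hb)
  sq ha := by simpa [apply_ite φ] using congrArg φ (q.sq ha)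
theorem prod {B : Type*} [Ring B] {u' : ℤ → B} (q' : CAR τ n u') : CAR τ n fun a => (u a, u' a) where
  ac ha hb := Prod.ext (q.ac ha hb) (q'.ac ha hb)
  sq ha := Prod.ext (by simp [q.sq ha, apply_ite Prod.fst]) (by simp [q'.sq ha, apply_ite Prod.snd])

/-- the spin representation -/
def qa [CharZero A] (hτ : τ ≠ 1) (hn : 1 ≤ n) (h : 2 ≤ τ → 2 ≤ n) (F : Type*) [Field F] {B : Type*} [Ring B] [Algebra F B] [Nontrivial B]
    (φ : A →+* B) : QA (q.qz hτ hn) F B where
  φ := φ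
  good := good h
  hc := hcC h
  ind := by simpa [RS.hq, eO] using (q.map φ).ind (hn := hn) hτ F

end CAR

/-- the alternating form -/
def gm (a b : ℤ) : ℤ := if a + b = 0 then sg 0 a else 0
/-- inequality symbol -/
def nq (a b : ℤ) : ℤ := if a = b then 0 else 1
/-- symmetrized operators -/
def ts (T : ℤ → ℤ → A) (a b : ℤ) : A := T a b + nq a b • T b a
/-- root elements of type `C` -/
def eS (T : ℤ → ℤ → A) (r : RC τ n) : A := sg 0 r.1.2 • ts T r.1.1 r.1.2
/-- rank one operators -/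
def TC (n : ℕ) (T : ℤ → ℤ → A) : Prop := ∀ {a b c d}, vi 1 n c → T a b * T c d = gm b c • T a d
/-- the projections -/
def pj (T : ℤ → ℤ → A) (a : ℤ) : A := -sg 0 a • T a (-a)

theorem ts_comm (T : ℤ → ℤ → A) (a b : ℤ) : ts T b a = ts T a b := by
  by_cases e : a = b
  · rw [e]
  · simp [ts, nq, e, Ne.symm e, add_comm]
theorem eS_mk (T : ℤ → ℤ → A) (h : okC τ n a b) : eS T (mkC a b h) = sg 0 (max a b) • ts T a b := by
  rcases le_total a b with e | e <;> simp [eS, mkC, e, ts_comm]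

namespace TC
variable {T : ℤ → ℤ → A} (q : TC n T)
include q

theorem ts_mul (a b : ℤ) (hc : vi 1 n c) (y : ℤ) : ts T a b * T c y = gm b c • T a y + (nq a b * gm a c) • T b y := by
  simp only [ts, add_mul, smul_mul_assoc, q hc, smul_smul]
theorem mul_ts (h : okC 1 n a b) (x y : ℤ) : T x y * ts T a b = gm y a • T x b + (nq a b * gm y b) • T x a := by
  simp only [ts, mul_add, mul_smul_comm, q h.l, q h.r, smul_smul]
theorem ts_ts (a b : ℤ) (h : okC 1 n c d) : ts T a b * ts T c d =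
    gm b c • T a d + (nq a b * gm a c) • T b d + ((nq c d * gm b d) • T a c + (nq c d * (nq a b * gm a d)) • T b c) := by
  rw [ts.eq_1 T c, mul_add, mul_smul_comm, q.ts_mul _ _ h.l, q.ts_mul _ _ h.r, smul_add, smul_smul, smul_smul]
theorem pj_mul (ha : a ≠ 0) (hc : vi 1 n c) (y : ℤ) : pj T a * T c y = (1 - nq a c) • T c y := by
  rw [pj, smul_mul_assoc, q hc, smul_smul]
  by_cases e : a = c
  · rw [← e]; congr 1; grind [sg, gm, nq]
  · simp [gm, nq, e, show -a + c ≠ 0 by omega]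
theorem mul_pj (ha : vi 1 n a) (x y : ℤ) : T x y * pj T a = (1 - nq a (-y)) • T x y := by
  rw [pj, mul_smul_comm, q ha, smul_smul]
  by_cases e : y = -a
  · rw [e]; congr 1; grind [sg, gm, nq, vi]
  · simp [gm, nq, show a ≠ -y by omega, show y + a ≠ 0 by omega]
theorem ee_mk (h : okC 1 n a b) : eS T (mkC a b h) * eS T ((rs 1 hn).neg (mkC a b h)) = pj T a + nq a b • pj T b := by
  rw [neg_mk, eS_mk, eS_mk, smul_mul_smul_comm, q.ts_ts _ _ h.neg]
  simp only [pj, smul_add, smul_smul]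
  by_cases e : a = b
  · subst e
    simp only [nq, if_true, zero_mul, mul_zero, zero_smul, add_zero]; congr 1; grind [sg, gm, okC]
  · rw [show gm b (-a) = 0 by grind [gm], show gm a (-b) = 0 by grind [gm]]
    simp only [mul_zero, zero_smul, add_zero, zero_add]
    rw [add_comm]; congr 2 <;> grind [sg, gm, okC, nq]
theorem ee_mk' (h : okC 1 n a b) : eS T ((rs 1 hn).neg (mkC a b h)) * eS T (mkC a b h) = pj T (-a) + nq a b • pj T (-b) := by
  have := q.ee_mk (hn := hn) h.neg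
  rwa [← neg_mk (hn := hn) h, RS.neg_neg, show nq (-a) (-b) = nq a b by grind [nq]] at this
theorem hq_T (h : okC 1 n a b) (hc : vi 1 n c) (y : ℤ) : (rs 1 hn).hq (eS T) (mkC a b h) * T c y = prw a b c • T c y := by
  have h1 : a ≠ 0 ∧ b ≠ 0 := by grind [okC]
  simp only [RS.hq, q.ee_mk, q.ee_mk', sub_mul, add_mul, smul_mul_assoc, q.pj_mul h1.1 hc, q.pj_mul h1.2 hc, q.pj_mul (neg_ne_zero.2 h1.1) hc,
    q.pj_mul (neg_ne_zero.2 h1.2) hc, smul_smul, ← add_smul, ← sub_smul]
  congr 1; grind [nq, prw, dl]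
theorem T_hq (h : okC 1 n a b) (x y : ℤ) : T x y * (rs 1 hn).hq (eS T) (mkC a b h) = -prw a b y • T x y := by
  simp only [RS.hq, q.ee_mk, q.ee_mk', mul_sub, mul_add, mul_smul_comm, q.mul_pj h.l, q.mul_pj h.r, q.mul_pj h.l.neg,
    q.mul_pj h.r.neg, smul_smul, ← add_smul, ← sub_smul]
  congr 1; grind [nq, prw, dl, okC]
theorem key (h : okC 1 n a b) (h' : okC 1 n (-b) d) (e : a + d ≠ 0) :
    ts T a b * ts T (-b) d = sg 0 b • T a d ∧ ts T (-b) d * ts T a b = -sg 0 b • T d a := by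
  rw [q.ts_ts _ _ h', ← ts_comm T a, ← ts_comm T (-b), q.ts_ts _ _ h.symm]
  constructor
  · rw [show nq a b * gm a (-b) = 0 by grind [nq, gm], show nq (-b) d * gm b d = 0 by grind [nq, gm], show gm a d = 0 by grind [gm],
      show gm b (-b) = sg 0 b by grind [gm]]
    simp
  · rw [show nq d (-b) * gm d b = 0 by grind [nq, gm], show nq b a * gm (-b) a = 0 by grind [nq, gm], show gm d a = 0 by grind [gm],
      show gm (-b) b = -sg 0 b by grind [gm, sg, okC]]
    simp
theorem br_tr (hn : 1 ≤ n) (r s : RC 1 n) : s ≠ (rs 1 hn).neg r → (eS T r * eS T s = eS T s * eS T r ∨ ∃ k, ∃ N : ℤ,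
    (rs 1 hn).rv k = (rs 1 hn).rv r + (rs 1 hn).rv s ∧ eS T r * eS T s - eS T s * eS T r = N • eS T k ∧
    N * N = if (rs 1 hn).ln r < (rs 1 hn).ln k ∧ (rs 1 hn).ln s < (rs 1 hn).ln k then 4 else 1) ∧ (eS T r * eS T s * eS T r = 0 ∨ ∃ k, ∃ M : ℤ,
    (rs 1 hn).rv k = 2 • (rs 1 hn).rv r + (rs 1 hn).rv s ∧ eS T r * eS T s * eS T r = M • eS T k ∧ M * M = 1) := by
  revert r s
  refine br_of (fun a b d h h' e => ?_) fun a b c d h h' e _ => ?_
  · have h1 : a + d ≠ 0 := by rw [neg_mk, Ne, mkC_inj] at e; omega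
    obtain ⟨h2, h3⟩ := q.key h h' h1
    simp only [eS_mk, smul_mul_smul_comm, h2, h3]
    constructor
    · have h4 : okC 1 n a d := by grind [okC]
      refine .inr ⟨mkC a d h4, sg 0 (max a b) * sg 0 (max (-b) d) * sg 0 b * (2 - nq a d) * sg 0 (max a d), add_mk _ _ _, ?_, by
        simp only [ln_mk]; grind [sg, nq, okC]⟩
      rw [eS_mk, smul_smul _ (sg 0 (max a d)), mul_assoc _ (sg 0 (max a d)), sg_sq, mul_one, ts]
      by_cases e' : a = d
      · simp only [e', nq, if_true]; module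
      · simp only [e', nq, if_false]; module
    rw [smul_mul_assoc, q.mul_ts h, show gm d a = 0 by grind [gm], zero_smul, zero_add]
    by_cases e' : a ≠ b ∧ d = -b
    · obtain ⟨e1, rfl⟩ := e'
      have h4 : okC 1 n a a := by grind [okC]
      refine .inr ⟨mkC a a h4, - (sg 0 (-b) * sg 0 a), two_mkC _ _ _, ?_, by grind [sg]⟩
      simp only [eS_mk, ts, smul_smul, max_self, nq, if_true, zero_smul, add_zero, if_neg e1]
      congr 1; grind [sg, gm, okC]
    · simp [show nq a b * gm d b = 0 by grind [nq, gm]]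
  simp [eS_mk, smul_mul_smul_comm, q.ts_ts _ _ h, q.ts_ts _ _ h', gm, e, add_comm c, add_comm d, -zsmul_eq_mul]

theorem qz (ht : ∀ a b (k : ℤ), vi 1 n a → vi 1 n b → k • T a b = 0 → k = 0) (hn : 1 ≤ n) : (rs 1 hn).QZ (eS T) where
  bd := (euc 1 hn).bd fun r s => r.ind fun a b h => s.ind fun c d h' => by simp only [euc, vC_self]; grind [okC]
  sq r := r.ind fun a b h => by
    have h1 : a + a ≠ 0 ∧ a + b ≠ 0 ∧ b + a ≠ 0 ∧ b + b ≠ 0 := by grind [okC]
    simp [eS_mk, smul_mul_smul_comm, q.ts_ts _ _ h, gm, h1, -zsmul_eq_mul]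
  tri r := r.ind fun a b h => by
    have h1 : a ≠ 0 ∧ b ≠ 0 := by grind [okC]
    rw [q.ee_mk, eS_mk, mul_smul_comm]
    congr 1
    simp only [ts, mul_add, add_mul, mul_smul_comm, smul_mul_assoc, q.pj_mul h1.1 h.l, q.pj_mul h1.1 h.r, q.pj_mul h1.2 h.l, q.pj_mul h1.2 h.r]
    by_cases e : a = b <;> simp [nq, e, eq_comm]
  he r s := r.ind fun a b h => s.ind fun c d h' => by
    rw [← RS.hq, pair_mk, eS_mk]
    simp only [ts, mul_add, add_mul, mul_smul_comm, smul_mul_assoc, q.hq_T h h'.l, q.hq_T h h'.r, q.T_hq h]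
    module
  br r s h := (q.br_tr hn r s h).1
  tr r s h := (q.br_tr hn r s h).2
  tf r := r.ind fun a b h k e => by
    have := congrArg (· * T (-b) b) e
    simp only [eS_mk, smul_mul_assoc, q.ts_mul _ _ h.r.neg, show nq a b * gm a (-b) = 0 by grind [nq, gm], zero_smul, add_zero,
      smul_smul, zero_mul] at this
    have := ht _ _ _ h.l h.r this
    grind [sg, gm]

end TC

end Cfsg.Agent.Chev.Cl
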