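import Cfsg.Agent.Lib.Chev.Cl21

set_option autoImplicit false
set_option linter.unusedSectionVars false
set_option linter.style.haveILetI false

/-! Involutions of `²F₄(2)`. -/

namespace Cfsg.Agent.Chev
open Cfsg.Lie Checked Col

theorem coord0 {D : ChevalleyDatum} {c : Cert} {h : Checked D c} {K : Type*} [Field K] {G : Type*} [Group G] (S : St h.toCD K G)
    (p : ℕ) [CharP K p] (v : List K) {key : ℕ → ℕ} {w W : Wd} {M : List (Fin D.nroots)} (hM : M.Nodup ∧ ∀ r ∈ M, h.toCD.Pos r)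
    (d : W ∈ collect D p key 60 w) (f : W.map (·.1) = M.map (·.1)) (a : wd S.x (ev v w) = 1) : ∀ q ∈ W, mpev v q.2 = 0 := fun q b => by
  have := wd_inj S M hM (L := ev v W) (L' := W.map fun a => (a.1, 0)) (by simpa [ev, Function.comp_def] using f) (by simpa [Function.comp_def] using f)
    ((h.collect_spec S.rel p v key _ _ d).trans (a.trans (by simp [wd, Function.comp_def, h.xN_zero S.rel])))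
  simp only [ev, List.map_map] at this
  exact List.map_inj_left.1 this q b

theorem exists_WF : ∃ b, b * b = 1 ∧ Rp [27, 25, 28] b ∧ Rp [33, 24] 1 ∧ ∀ u ∈ pF4.U, ∃ v : Fin 12 → ZMod 2,
    iF u = wd sF.x (ev (List.ofFn v) WF) ∧ Abelianization.of u = b ^ (v 0).val * b ^ (v 3).val * b ^ (v 6).val * b ^ (v 9).val := by
  obtain ⟨b, h1, h2, h3⟩ := exists_rp
  refine ⟨b, h1, h2, h3, fun u h => ?_⟩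
  have h4 : Rp [28, 30] 1 := h1 ▸ (h2.mul h2).of (by decide +kernel)
  have h5 : Rp [27, 25, 30] b := mul_one b ▸ (h2.mul h4).of (by decide +kernel)
  have h6 : ∀ ω a a' c d, (([27, 25, 28].map f4r).map (fun r => (wp checkedF4.toCD.s (List.flatMap wF4 ω) • r).1) = [a, a', c] ∧
      ([28, 30].map f4r).map (fun r => (wp checkedF4.toCD.s (List.flatMap wF4 ω) • r).1) = [c, d] ∧
      ([27, 25, 30].map f4r).map (fun r => (wp checkedF4.toCD.s (List.flatMap wF4 ω) • r).1) = [a, a', d]) →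
      ∀ t u, RpW [(a, t), (a', t), (c, t + u), (d, u)] (b ^ t.val) := fun ω a a' c d e =>
    RpW.four ⟨h2.conj ω _ ⟨rfl, e.1⟩, h4.conj ω _ ⟨rfl, e.2.1⟩, h5.conj ω _ ⟨rfl, e.2.2⟩⟩
  have h7 : ∀ ω a a', ([33, 24].map f4r).map (fun r => (wp checkedF4.toCD.s (List.flatMap wF4 ω) • r).1) = [a, a'] →
      ∀ t, RpW [(a, t), (a', t)] 1 := fun ω a a' e => RpW.two (h3.conj ω _ ⟨rfl, e⟩)
  have h8 : ∀ v : Fin 12 → ZMod 2, RpW (ev (List.ofFn v) WF) (b ^ (v 0).val * b ^ (v 3).val * b ^ (v 6).val * b ^ (v 9).val) := fun v => by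
    simpa [ev, WF, mpev, mev, List.ofFn_succ] using ((((((((h6 [] 27 25 28 30 (by decide +kernel) (v 0) (v 1)).mul (h7 [1] 37 32 (by decide +kernel) (v 2))).mul
      (h6 [1, 0] 35 31 40 46 (by decide +kernel) (v 3) (v 4))).mul (h7 [1, 0, 1] 39 45 (by decide +kernel) (v 5))).mul
      (h6 [1, 0, 1, 0] 29 41 44 47 (by decide +kernel) (v 6) (v 7))).mul (h7 [0, 1] 38 43 (by decide +kernel) (v 8))).mul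
      (h6 [0] 34 26 36 42 (by decide +kernel) (v 9) (v 10))).mul (h7 [] 33 24 (by decide +kernel) (v 11)))
  choose f h8 h9 using h8
  have hM : (MF.map f4r).Nodup ∧ ∀ r ∈ MF.map f4r, checkedF4.toCD.Pos r := by decide +kernel
  have a1 : ∀ v, f v ∈ pF4.U := fun v => show iF _ ∈ sF.U from h8 v ▸ wd_mem sF (by
    rw [show (ev (List.ofFn v) WF).map (·.1) = WF.map (·.1) by simp [ev]]; decide +kernel)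
  obtain ⟨v, a2⟩ := (Function.Injective.bijective_of_nat_card_le (f := fun v => (⟨f v, a1 v⟩ : pF4.U)) (fun v v' e => by
    have := wd_inj sF _ hM (by simp [ev, Function.comp_def]; rfl) (by simp [ev, Function.comp_def]; rfl)
      ((h8 v).symm.trans ((congrArg (fun x : pF4.U => iF x) e).trans (h8 v')))
    simp [ev, WF, mpev, mev, List.ofFn_succ] at this
    funext i
    fin_cases i <;> simp [this])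
    ((card_U_2F4 (θ := RingHom.id _) (e := 1) (by simp) (by decide)).trans_le (by simp))).2 ⟨u, h⟩
  obtain rfl : f v = u := congrArg Subtype.val a2
  exact ⟨v, h8 v, h9 v⟩

/-- some coordinates of the square -/
def sqQ : Wd :=
  [(28, [(1, [2])]), (31, [(1, [0, 1, 0, 0, 0, 0, 0, 0, 0, 0, 0, 1]), (1, [2, 0, 0, 0, 0, 0, 0, 0, 0, 1])]), (36, [(1, [0, 0, 0, 0, 0, 0, 0, 0, 0, 2]), 
  (1, [0, 0, 0, 0, 0, 0, 1, 0, 0, 0, 0, 1]), (1, [0, 0, 0, 1, 0, 0, 0, 0, 0, 0, 0, 1]), (1, [0, 1, 0, 0, 0, 0, 0, 0, 0, 0, 0, 2]), 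
  (1, [1, 0, 0, 0, 0, 0, 0, 0, 0, 0, 0, 2])]), (45, [(1, [0, 0, 0, 1, 0, 0, 1]), (1, [0, 0, 1, 0, 0, 0, 0, 0, 0, 2]), 
  (1, [0, 0, 2, 0, 0, 0, 0, 0, 0, 0, 0, 1]), (1, [0, 1, 0, 0, 0, 0, 0, 0, 0, 0, 1]), (1, [0, 1, 0, 0, 0, 0, 0, 0, 0, 3]), 
  (1, [0, 1, 0, 0, 0, 0, 1, 0, 0, 0, 0, 1]), (1, [0, 1, 0, 1, 0, 0, 0, 0, 0, 0, 0, 2]), (1, [0, 2, 0, 0, 0, 0, 0, 0, 0, 0, 0, 3]), 
  (1, [0, 2, 0, 0, 0, 0, 0, 0, 0, 2, 0, 1]), (1, [1, 0, 0, 1, 0, 0, 0, 0, 0, 2]), (1, [2, 0, 0, 0, 0, 0, 0, 0, 0, 2, 0, 1]), 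
  (1, [2, 0, 0, 0, 0, 0, 0, 0, 1]), (1, [2, 0, 0, 0, 0, 0, 1, 0, 0, 1]), (1, [2, 0, 1, 0, 0, 0, 0, 0, 0, 0, 0, 2]), 
  (1, [2, 2, 0, 0, 0, 0, 0, 0, 0, 0, 0, 3]), (1, [3, 0, 0, 1, 0, 0, 0, 0, 0, 0, 0, 2]), (1, [4, 0, 0, 0, 0, 0, 0, 0, 0, 0, 0, 3])]), 
  (40, [(1, [0, 0, 0, 2]), (1, [0, 0, 1, 0, 0, 0, 0, 0, 0, 1]), (1, [0, 0, 1, 0, 0, 0, 1]), (1, [0, 1, 0, 0, 0, 0, 0, 0, 0, 0, 1]), 
  (1, [0, 1, 0, 0, 0, 0, 0, 0, 0, 1]), (1, [0, 1, 0, 0, 0, 0, 0, 0, 0, 2]), (1, [0, 1, 0, 0, 0, 0, 0, 0, 1]), 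
  (1, [0, 1, 0, 0, 0, 0, 1, 0, 0, 0, 0, 1]), (1, [0, 1, 0, 0, 0, 0, 1, 0, 0, 1]), (1, [0, 1, 1, 0, 0, 0, 0, 0, 0, 0, 0, 1]), 
  (1, [0, 2, 0, 0, 0, 0, 0, 0, 0, 1, 0, 1]), (1, [1, 0, 0, 0, 0, 0, 0, 0, 1]), (1, [1, 0, 0, 0, 0, 0, 1, 0, 0, 1]), (1, [1, 0, 0, 0, 0, 1]), 
  (1, [1, 0, 0, 1, 0, 0, 0, 0, 0, 0, 0, 1]), (1, [1, 0, 0, 1, 0, 0, 0, 0, 0, 1]), (1, [1, 0, 1, 0, 0, 0, 0, 0, 0, 1]), 
  (1, [1, 1, 0, 0, 0, 0, 0, 0, 0, 0, 1]), (1, [1, 1, 0, 0, 0, 0, 0, 0, 0, 1]), (1, [1, 1, 0, 0, 0, 0, 1, 0, 0, 0, 0, 1]), 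
  (1, [1, 2, 0, 0, 0, 0, 0, 0, 0, 0, 0, 2]), (1, [2, 0, 0, 0, 0, 0, 0, 0, 0, 0, 1]), (1, [2, 0, 0, 0, 0, 0, 0, 0, 0, 1]), 
  (1, [2, 0, 0, 0, 0, 0, 0, 0, 0, 1, 0, 1]), (1, [2, 0, 0, 0, 0, 0, 1, 0, 0, 0, 0, 1]), (1, [2, 0, 0, 1, 0, 0, 0, 0, 0, 0, 0, 1]), 
  (1, [2, 0, 0, 1, 0, 0, 0, 0, 0, 1]), (1, [2, 1, 0, 0, 0, 0, 0, 0, 0, 0, 0, 2]), (1, [3, 0, 0, 0, 0, 0, 0, 0, 0, 0, 0, 2]), 
  (1, [3, 0, 0, 0, 0, 0, 0, 0, 0, 2]), (1, [4, 0, 0, 0, 0, 0, 0, 0, 0, 1, 0, 1])]), (47, [(1, [0, 0, 0, 0, 0, 0, 3]), 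
  (1, [0, 0, 0, 0, 0, 1, 0, 0, 0, 1]), (1, [0, 0, 0, 0, 1, 0, 0, 0, 0, 0, 0, 1]), (1, [0, 0, 0, 1, 0, 0, 0, 0, 1]), 
  (1, [0, 0, 0, 3, 0, 0, 0, 0, 0, 0, 0, 1]), (1, [0, 0, 1, 0, 0, 0, 0, 0, 0, 0, 1]), (1, [0, 0, 1, 1, 0, 0, 0, 0, 0, 0, 0, 2]), 
  (1, [0, 0, 2, 0, 0, 0, 0, 0, 0, 1, 0, 1]), (1, [0, 1, 0, 0, 0, 0, 0, 0, 0, 0, 2]), (1, [0, 1, 0, 0, 0, 0, 0, 0, 0, 1, 1]), 
  (1, [0, 1, 0, 0, 0, 0, 0, 0, 0, 2]), (1, [0, 1, 0, 0, 0, 0, 0, 0, 1, 0, 0, 1]), (1, [0, 1, 0, 0, 0, 0, 2, 0, 0, 0, 0, 2]), 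
  (1, [0, 1, 0, 1, 0, 0, 0, 0, 0, 1, 0, 2]), (1, [0, 1, 1, 0, 0, 0, 0, 0, 0, 0, 0, 3]), (1, [0, 2, 0, 0, 0, 0, 0, 0, 0, 0, 1, 1]), 
  (1, [0, 2, 0, 0, 0, 0, 0, 0, 0, 1, 0, 3]), (1, [0, 2, 0, 0, 0, 0, 1, 0, 0, 0, 0, 2]), (1, [0, 2, 0, 1, 0, 0, 0, 0, 0, 0, 0, 3]), 
  (1, [1, 0, 0, 0, 0, 0, 0, 0, 2]), (1, [1, 0, 0, 0, 0, 0, 2, 0, 0, 2]), (1, [1, 0, 0, 0, 0, 1, 0, 0, 0, 0, 0, 1]), 
  (1, [1, 0, 0, 1, 0, 0, 0, 0, 0, 0, 1]), (1, [1, 0, 2, 0, 0, 0, 0, 0, 0, 0, 0, 2]), (1, [1, 1, 0, 1, 0, 0, 0, 0, 0, 0, 0, 3]), 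
  (1, [1, 2, 0, 0, 0, 0, 0, 0, 0, 0, 0, 4]), (1, [1, 2, 0, 0, 0, 0, 0, 0, 0, 2, 0, 2]), (1, [2, 0, 0, 0, 0, 0, 0, 0, 0, 0, 1, 1]), 
  (1, [2, 0, 0, 0, 0, 0, 0, 0, 1, 1]), (1, [2, 0, 0, 0, 0, 0, 1, 0, 0, 0, 0, 2]), (1, [2, 0, 0, 0, 0, 0, 1, 0, 0, 2]), 
  (1, [2, 0, 0, 1, 0, 0, 0, 0, 0, 0, 0, 3]), (1, [2, 0, 1, 0, 0, 0, 0, 0, 0, 1, 0, 2]), (1, [2, 2, 0, 0, 0, 0, 0, 0, 0, 1, 0, 3]), 
  (1, [3, 0, 0, 0, 0, 0, 0, 0, 0, 0, 2]), (1, [3, 0, 0, 0, 0, 0, 0, 0, 0, 2]), (1, [3, 0, 0, 0, 0, 0, 0, 0, 0, 2, 0, 2]), 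
  (1, [3, 0, 0, 0, 0, 0, 0, 0, 0, 4]), (1, [3, 0, 0, 0, 0, 0, 2, 0, 0, 0, 0, 2]), (1, [3, 0, 0, 1, 0, 0, 0, 0, 0, 1, 0, 2]), 
  (1, [3, 2, 0, 0, 0, 0, 0, 0, 0, 0, 0, 4]), (1, [4, 0, 0, 0, 0, 0, 0, 0, 0, 1, 0, 3]), (1, [5, 0, 0, 0, 0, 0, 0, 0, 0, 0, 0, 4])])]

theorem sq_WF : ∃ W ∈ collect chevF4 2 (MF.map (·.1)).idxOf 60 (WF ++ WF), W.map (·.1) = (((MF.drop 2).take 20).map f4r).map (·.1) ∧ ∀ q ∈ sqQ, q ∈ W := by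
  decide +kernel

theorem sq_par (a b c d e f g h i j k l : ZMod 2) (m : ∀ q ∈ sqQ, mpev [a, b, c, d, e, f, g, h, i, j, k, l] q.2 = 0) : (a.val + d.val + g.val + j.val) % 2 = 0 := by
  simp only [sqQ, List.forall_mem_cons, mpev, mev, List.map_cons, List.map_nil, List.sum_cons, List.sum_nil, pow_zero, pow_one, Int.cast_one, one_mul, mul_one,
    add_zero] at m
  replace m := And.intro m.1 (And.intro m.2.1 (And.intro m.2.2.1 (And.intro m.2.2.2.1 (And.intro m.2.2.2.2.1 m.2.2.2.2.2.1))))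
  revert a b c d e f g h i j k l
  decide +kernel

theorem invol_mem {g : twistedF4 (ZMod 2) 1} (hg : g * g = 1) : g ∈ commutator _ := by
  obtain ⟨b, h1, -, -, h⟩ := exists_WF
  obtain ⟨k, a⟩ := pF4.toSBN₀.exists_conj_le (D := .zpowers g) (IsPGroup.of_card_dvd_pow (n := 1) (by
    rw [Nat.card_zpowers]; exact orderOf_dvd_of_pow_eq_one ((sq g).trans hg)))
  obtain ⟨v, c, d⟩ := h _ (a g (Subgroup.mem_zpowers g))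
  obtain ⟨W, e, f, i⟩ := sq_WF
  have := sq_par (v 0) (v 1) (v 2) (v 3) (v 4) (v 5) (v 6) (v 7) (v 8) (v 9) (v 10) (v 11) fun q j => by
    simpa [List.ofFn_succ] using coord0 sF 2 (List.ofFn v) (by decide +kernel) e f (by
      rw [ev, List.map_append, wd_append, ← ev, ← c, ← map_mul]; simp [mul_assoc, ← mul_assoc g, hg]) q (i q j)
  rw [← pow_add, ← pow_add, ← pow_add, ← Nat.div_add_mod (_ + _) 2, this, add_zero, pow_mul, sq, h1, one_pow] at d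
  simpa [mem_comm_iff] using d

end Cfsg.Agent.Chev
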