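import Cfsg.Agent.Lib.Chev.Cl2
import Cfsg.Agent.Lib.Classical.SpUE
import Cfsg.Agent.Lib.Classical.Spinor

set_option autoImplicit false
set_option linter.unusedSectionVars false
set_option linter.style.haveILetI false

/-! Hyperbolic frames and generation of isometry groups by root elements. -/

namespace Cfsg.Agent.Chev.Cl
open Cfsg.Agent.Classical
open scoped commutatorElement

variable {F : Type*} [Field F] {K : Kind F} {V : Type*} [AddCommGroup V] [Module F V] {Φ : Form K V} {m k : ℕ} {w : ℤ → V} {a b : ℤ}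

/-- nonzero indices -/
def ix (m : ℕ) (a : ℤ) : Prop := a ≠ 0 ∧ -(m : ℤ) ≤ a ∧ a ≤ m

/-- the orthogonal complement of the first `k` hyperbolic pairs -/
def Wk (Φ : Form K V) (w : ℤ → V) (k : ℕ) : Submodule F V where
  carrier := {v | ∀ a, ix k a → Φ.B v (w a) = 0}
  zero_mem' := by simp
  add_mem' ha hb a h := by simp [ha a h, hb a h]
  smul_mem' c v hv a h := by simp [hv a h]

/-- hyperbolic frames with anisotropic complement -/
structure Frame (Φ : Form K V) (m : ℕ) (w : ℤ → V) : Prop where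
  N : ∀ {a}, ix m a → Φ.N (w a) = 0
  B : ∀ {a b}, ix m a → ix m b → Φ.B (w a) (w b) = if a + b = 0 then if 0 < a then 1 else K.ε else 0
  an : ∀ v ∈ Wk Φ w m, Φ.N v = 0 → v = 0

/-- reachability inside `G`, fixing the first `k` pairs -/
def Rk (Φ : Form K V) (G : Subgroup (V ≃ₗ[F] V)) (w : ℤ → V) (k : ℕ) (u v : V) : Prop :=
  ∃ g ∈ G, g ∈ Φ.Isom ∧ (∀ b, ix k b → g (w b) = w b) ∧ ∃ c : F, c ≠ 0 ∧ g u = c • v

variable {G : Subgroup (V ≃ₗ[F] V)}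
theorem Rk.symm {u v : V} (h : Rk Φ G w k u v) : Rk Φ G w k v u := by
  obtain ⟨g, h1, h2, h3, c, h4, h5⟩ := h
  exact ⟨g⁻¹, inv_mem h1, inv_mem h2, fun b hb => g.symm_apply_eq.2 (h3 b hb).symm, c⁻¹, inv_ne_zero h4,
    g.symm_apply_eq.2 (by rw [map_smul, h5, inv_smul_smul₀ h4])⟩
theorem Rk.trans {u v x : V} (h : Rk Φ G w k u v) (h' : Rk Φ G w k v x) : Rk Φ G w k u x := by
  obtain ⟨g, h1, h2, h3, c, h4, h5⟩ := h
  obtain ⟨g', h1', h2', h3', c', h4', h5'⟩ := h'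
  exact ⟨g' * g, mul_mem h1' h1, mul_mem h2' h2, fun b hb => by rw [LinearEquiv.mul_apply, h3 b hb, h3' b hb], c * c', mul_ne_zero h4 h4',
    by rw [LinearEquiv.mul_apply, h5, map_smul, h5', smul_smul]⟩
theorem Wk.map {g : V ≃ₗ[F] V} (hg : g ∈ Φ.Isom) (h : ∀ b, ix k b → ∃ b', ix k b' ∧ g (w b') = w b) {v : V} (hv : v ∈ Wk Φ w k) :
    g v ∈ Wk Φ w k := fun b hb => by
  obtain ⟨b', h1, h2⟩ := h b hb
  rw [← h2, hg.1, hv b' h1]

namespace Frame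
variable (X : Frame Φ m w)
include X

theorem mem (ha : ix m a) (h : ¬ ix k a) (hk : k ≤ m) : w a ∈ Wk Φ w k := fun b hb => by
  rw [X.B ha (by grind [ix]), if_neg (by grind [ix])]
theorem hyp (ha : ix m a) : Φ.IsHyp (w a) ((if 0 < a then 1 else K.ε) • w (-a)) := by
  have h : ix m (-a) := by grind [ix]
  refine ⟨X.N ha, by rw [Φ.N_smul, X.N h, mul_zero], ?_⟩
  rw [Φ.B_smul_right, X.B ha h]
  split_ifs <;> simp_all [K.σε, K.εε]
theorem hyp' (ha : ix m a) (h : 0 < a) : Φ.IsHyp (w a) (w (-a)) := by simpa [h] using X.hyp ha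
theorem B_ne (ha : ix m a) : Φ.B (w a) (w (-a)) ≠ 0 := by
  rw [X.B ha (by grind [ix])]; split_ifs <;> simp_all [K.ε_ne]

theorem ind {P : V → Prop} (h0 : ∀ y ∈ Wk Φ w m, P y)
    (hs : ∀ k < m, ∀ y ∈ Wk Φ w (k + 1), ∀ s t : F, P y → P (s • w (k + 1) + t • w (-(k + 1)) + y)) (v : V) : P v := by
  suffices ∀ j k, k + j = m → ∀ y ∈ Wk Φ w k, P y from this m 0 (zero_add _) v fun a h => by grind [ix]
  intro j
  induction j with
  | zero => rintro k rfl; exact h0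
  | succ j ih =>
    intro k e y hy
    have h1 : ix m (k + 1) := by grind [ix]
    obtain ⟨s, t, z, h2, rfl⟩ := (X.hyp' h1 (by omega)).decomp y
    have h3 : z ∈ Wk Φ w (k + 1) := fun b hb => by
      by_cases e1 : ix k b
      · simpa [X.mem h1 (k := k) (by grind [ix]) (by omega) b e1,
          X.mem (a := -(k + 1)) (k := k) (by grind [ix]) (by grind [ix]) (by omega) b e1, -neg_add_rev] using hy b e1
      obtain rfl | rfl : b = k + 1 ∨ b = -(k + 1) := by grind [ix]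
      exacts [(Φ.mem_hperp.1 h2).1, (Φ.mem_hperp.1 h2).2]
    exact hs k (by omega) z h3 s t (ih _ (by omega) z h3)

theorem ext {V' : Type*} [AddCommGroup V'] [Module F V'] {f g : V →ₗ[F] V'} (h1 : ∀ a, ix m a → f (w a) = g (w a))
    (h2 : ∀ y ∈ Wk Φ w m, f y = g y) (v : V) : f v = g v :=
  X.ind (P := fun v => f v = g v) h2 (fun k hk y _ s t h => by
    simp only [map_add, map_smul, h, h1 (k + 1) (by grind [ix]), h1 (-(k + 1)) (by grind [ix])]) v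

theorem eich_mem (h1 : ∀ a b, ix m a → ix m b → a ≠ b → a + b ≠ 0 → ∀ t : F, ∃ c h, Φ.eich (w a) (t • w b) c h ∈ G)
    (h2 : ∀ a, ix m a → ∀ y ∈ Wk Φ w m, ∀ c h, Φ.eich (w a) y c h ∈ G) (ha : ix m a) (y : V) (c : F) (h) : Φ.eich (w a) y c h ∈ G := by
  have h3 : ∀ {y y'}, (∃ c h, Φ.eich (w a) y c h ∈ G) → (∃ c h, Φ.eich (w a) y' c h ∈ G) → ∃ c h, Φ.eich (w a) (y + y') c h ∈ G :=
    fun ⟨c, h, e⟩ ⟨c', h', e'⟩ => ⟨_, _, Φ.eich_mul h h' ▸ mul_mem e e'⟩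
  have h4 : ∀ b (t : F), ix m b → (a + b = 0 → t = 0) → ∃ c h, Φ.eich (w a) (t • w b) c h ∈ G := fun b t hb e => by
    by_cases e1 : a + b = 0
    · simp only [e e1, zero_smul]
      exact ⟨0, .zero (X.N ha), h2 a ha 0 (zero_mem _) _ _⟩
    by_cases e2 : a = b
    · subst e2
      have h5 : Φ.IsEich (w a) (t • w a) 0 := ⟨X.N ha, by simp [Φ.B_self_of_N (X.N ha)], by simp [Φ.N_smul, X.N ha]⟩
      obtain ⟨h6, h7⟩ := Φ.eich_smul_self h5
      exact ⟨0, h5, h7 ▸ h2 a ha 0 (zero_mem _) _ _⟩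
    exact h1 a b ha hb e2 e1 t
  obtain ⟨c', h', e⟩ := X.ind (P := fun y => Φ.B y (w a) = 0 → ∃ c h, Φ.eich (w a) y c h ∈ G) (fun y hy e => by
    obtain ⟨c, hc⟩ := Φ.N_range y
    exact ⟨c, ⟨X.N ha, e, hc⟩, h2 a ha y hy _ _⟩) (fun k hk y hy s t ih e => by
    have i1 : ix m (k + 1) := by grind [ix]
    have i2 : ix m (-(k + 1)) := by grind [ix]
    simp only [map_add, map_smul, LinearMap.add_apply, LinearMap.smul_apply, X.B i1 ha, X.B i2 ha] at e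
    by_cases e1 : ix (k + 1) a
    · refine h3 (h3 (h4 _ _ i1 fun e2 => ?_) (h4 _ _ i2 fun e2 => ?_)) (ih (hy a e1))
      · simpa [hy a e1, show (k + 1 : ℤ) + a = 0 by omega, show -(k + 1 : ℤ) + a ≠ 0 by omega, -neg_add_rev] using e
      · simpa [hy a e1, show (k + 1 : ℤ) + a ≠ 0 by omega, show -(k + 1 : ℤ) + a = 0 by omega, -neg_add_rev, K.ε_ne,
          show ¬ (k + 1 : ℤ) < 0 by omega] using e
    refine h3 (h3 (h4 _ _ i1 (by grind [ix])) (h4 _ _ i2 (by grind [ix]))) (ih ?_)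
    simpa [show (k + 1 : ℤ) + a ≠ 0 by grind [ix], show -(k + 1 : ℤ) + a ≠ 0 by grind [ix], -neg_add_rev] using e) y h.hy
  have h5 : Φ.IsEich (w a) 0 (c - c') := ⟨X.N ha, by simp, by simp [h.ha, h'.ha]⟩
  have := mul_mem e (h2 a ha 0 (zero_mem _) _ h5)
  rwa [Φ.eich_mul, Φ.eich_congr _ (add_zero y) (show _ = c by simp)] at this

variable (hG : ∀ a, ix m a → ∀ y c h, Φ.eich (w a) y c h ∈ G)
include hG

theorem exists_eich (ha : ix m a) (h : w a ∈ Wk Φ w k) {f f' : V} (h1 : Φ.IsHyp (w a) f) (h2 : Φ.IsHyp (w a) f') (h3 : f ∈ Wk Φ w k)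
    (h4 : f' ∈ Wk Φ w k) : ∃ g ∈ G, g ∈ Φ.Isom ∧ (∀ b, ix k b → g (w b) = w b) ∧ g (w a) = w a ∧ g f = f' := by
  obtain ⟨y, c, h5, h6, h7⟩ := h1.exists_eich h2
  have h8 : y ∈ Wk Φ w k := by
    rw [show y = f - f' - c • w a by rw [← h7, h1.eich_f h6]; abel]
    exact sub_mem (sub_mem h3 h4) (Submodule.smul_mem _ _ h)
  exact ⟨_, hG a ha y c h5, Φ.eich_mem _ _ _ _, fun b hb => by
    simp [Φ.eich_apply, Φ.B_symm_zero (h8 b hb), Φ.B_symm_zero (h b hb)], Φ.eich_self _ _ _ _, h7⟩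

theorem rk_of (ha : ix m a) (h : ¬ ix k a) (hk : k ≤ m) {u : V} (h1 : u ∈ Wk Φ w k) (h2 : Φ.N u = 0) (h3 : Φ.B (w a) u ≠ 0) :
    Rk Φ G w k (w (-a)) u := by
  obtain ⟨g, i1, i2, i3, -, i4⟩ := X.exists_eich hG ha (X.mem ha h hk) (X.hyp ha) (Form.isHyp_of_ne (X.N ha) h2 h3)
    (Submodule.smul_mem _ _ (X.mem (by grind [ix]) (by grind [ix]) hk)) (Submodule.smul_mem _ _ h1)
  have i5 : (if 0 < a then 1 else K.ε) ≠ 0 := by split_ifs <;> simp [K.ε_ne]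
  exact ⟨g, i1, i2, i3, (if 0 < a then 1 else K.ε)⁻¹ * K.σ (Φ.B (w a) u)⁻¹, by simp [i5, h3],
    by rw [mul_smul, ← i4, map_smul, inv_smul_smul₀ i5]⟩

theorem exists_rk (hk : k ≤ m) {u : V} (h1 : u ∈ Wk Φ w k) (h2 : Φ.N u = 0) (h3 : u ≠ 0) : ∃ a, ix m a ∧ ¬ ix k a ∧ Rk Φ G w k (w a) u := by
  by_contra! h
  refine h3 (X.an u (fun a ha => ?_) h2)
  by_cases e : ix k a
  · exact h1 a e
  exact by_contra fun e' => h (-a) (by grind [ix]) (by grind [ix]) (X.rk_of hG ha e hk h1 h2 fun e => e' (Φ.B_symm_zero e))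

theorem rk_w (hk : k ≤ m) (ha : ix m a) (hb : ix m b) (h1 : ¬ ix k a) (h2 : ¬ ix k b) (h : a + b ≠ 0) : Rk Φ G w k (w a) (w b) := by
  have h3 : ∀ {a b}, ix m a → ix m b → ¬ ix k a → ¬ ix k b → a + b ≠ 0 → a ≠ b → Rk Φ G w k (w a) (w a + w b) := fun {a b} ha hb h1 h2 h e => by
    have i : ix m (-a) := by grind [ix]
    have := X.rk_of hG i (by grind [ix]) hk (add_mem (X.mem ha h1 hk) (X.mem hb h2 hk))
      (by rw [Φ.N_add_of_orth (by rw [X.B ha hb, if_neg h]), X.N ha, X.N hb, add_zero])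
      (by simpa [X.B i hb, show -a + b ≠ 0 by omega] using X.B_ne i)
    rwa [neg_neg] at this
  by_cases e : a = b
  · exact ⟨1, one_mem _, one_mem _, fun _ _ => rfl, 1, one_ne_zero, by simp [e]⟩
  exact (h3 ha hb h1 h2 h e).trans (by rw [add_comm]; exact (h3 hb ha h2 h1 (by omega) (Ne.symm e)).symm)

theorem rk_all (hk : k + 2 ≤ m) {u : V} (h1 : u ∈ Wk Φ w k) (h2 : Φ.N u = 0) (h3 : u ≠ 0) : Rk Φ G w k (w (k + 1)) u := by
  obtain ⟨a, i1, i2, i3⟩ := X.exists_rk hG (by omega) h1 h2 h3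
  refine Rk.trans ?_ i3
  by_cases e : k + 1 + a = 0
  · exact (X.rk_w hG (b := k + 2) (by omega) (by grind [ix]) (by grind [ix]) (by grind [ix]) (by grind [ix]) (by omega)).trans
      (X.rk_w hG (by omega) (by grind [ix]) i1 (by grind [ix]) i2 (by omega))
  exact X.rk_w hG (by omega) (by grind [ix]) i1 (by grind [ix]) i2 e

theorem E_le : Φ.E ≤ G := Φ.E_le_of fun e y t h he => by
  obtain ⟨a, i1, -, g, i2, i3, -, c, i4, i5⟩ := X.exists_rk hG (Nat.zero_le _) (fun a h => by grind [ix]) h.he he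
  have h1 := Φ.eich_conj (inv_mem i3) h
  have h2 : g⁻¹ e = c⁻¹ • w a := g.symm_apply_eq.2 (by rw [map_smul, i5, inv_smul_smul₀ i4])
  rw [Φ.eich_congr' _ h2 rfl rfl, Φ.eich_smul _ (inv_ne_zero i4)] at h1
  rw [show Φ.eich e y t h = g * (g⁻¹ * Φ.eich e y t h * g⁻¹⁻¹) * g⁻¹ by group, h1]
  exact mul_mem (mul_mem i2 (hG a i1 _ _ _)) (inv_mem i2)

theorem step (hd : ∀ e f h l, Φ.dil e f h l ∈ G) (hk : k < m) {g : V ≃ₗ[F] V} (hg : g ∈ Φ.Isom) (h : ∀ b, ix k b → g (w b) = w b)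
    (ha : ix m a) (h1 : ¬ ix k a) (h2 : Rk Φ G w k (g (w (k + 1))) (w a)) : ∃ z ∈ G, z ∈ Φ.Isom ∧ (∀ b, ix k b → (z * g) (w b) = w b) ∧
      (z * g) (w (k + 1)) = w a ∧ (z * g) (w (-(k + 1))) = (if 0 < a then 1 else K.ε) • w (-a) := by
  obtain ⟨x, i1, i2, i3, c, i4, i5⟩ := h2
  have j1 := X.mem ha h1 hk.le
  have j2 : (if 0 < a then 1 else K.ε) • w (-a) ∈ Wk Φ w k := Submodule.smul_mem _ _ (X.mem (by grind [ix]) (by grind [ix]) hk.le)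
  set d := Φ.dil _ _ (X.hyp ha) (Units.mk0 c i4)⁻¹
  have j3 : d * x * g ∈ Φ.Isom := mul_mem (mul_mem (Φ.dil_mem _ _ _ _) i2) hg
  have j4 : ∀ b, ix k b → (d * x * g) (w b) = w b := fun b hb => by
    rw [LinearEquiv.mul_apply, LinearEquiv.mul_apply, h b hb, i3 b hb, Φ.dil_of_perp _ _ _ _ (Φ.B_symm_zero (j1 b hb)) (Φ.B_symm_zero (j2 b hb))]
  have j5 : (d * x * g) (w (k + 1)) = w a := by
    rw [LinearEquiv.mul_apply, LinearEquiv.mul_apply, i5, map_smul, Φ.dil_e]; simp [i4]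
  obtain ⟨y, l1, l2, l3, l4, l5⟩ := X.exists_eich hG ha j1 (j5 ▸ (X.hyp' (a := k + 1) (by grind [ix]) (by omega)).map j3) (X.hyp ha)
    (Wk.map j3 (fun b hb => ⟨b, hb, j4 b hb⟩) (X.mem (by grind [ix]) (by grind [ix]) hk.le)) j2
  refine ⟨y * (d * x), mul_mem l1 (mul_mem (hd _ _ _ _) i1), mul_mem l2 (mul_mem (Φ.dil_mem _ _ _ _) i2), fun b hb => ?_, ?_, ?_⟩ <;>
    rw [mul_assoc, LinearEquiv.mul_apply]
  exacts [by rw [j4 b hb, l3 b hb], by rw [j5, l4], l5]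

theorem normal (hd : ∀ e f h l, Φ.dil e f h l ∈ G) {g : V ≃ₗ[F] V} (hg : g ∈ Φ.Isom) (hk : k < m) :
    ∃ z ∈ G, z ∈ Φ.Isom ∧ ∀ b, ix k b → (z * g) (w b) = w b := by
  induction k with
  | zero => exact ⟨1, one_mem _, one_mem _, fun b h => by grind [ix]⟩
  | succ k ih =>
    obtain ⟨z, i1, i2, i3⟩ := ih (by omega)
    have i4 := (X.hyp' (a := k + 1) (by grind [ix]) (by omega)).map (mul_mem i2 hg)
    obtain ⟨z', j1, j2, j3, j4, j5⟩ := X.step hG hd (by omega) (mul_mem i2 hg) i3 (a := k + 1) (by grind [ix]) (by grind [ix])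
      (X.rk_all hG hk (Wk.map (mul_mem i2 hg) (fun b hb => ⟨b, hb, i3 b hb⟩) (X.mem (by grind [ix]) (by grind [ix]) (by omega)))
        i4.he i4.e_ne).symm
    refine ⟨z' * z, mul_mem j1 i1, mul_mem j2 i2, fun b hb => ?_⟩
    rw [mul_assoc]
    by_cases e : ix k b
    · exact j3 b e
    obtain rfl | rfl : b = k + 1 ∨ b = -(k + 1) := by grind [ix]
    exacts [j4, by simpa using j5]

end Frame

/-- isometries central modulo Eichler transformations -/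
def Zc (Φ : Form K V) : Subgroup (V ≃ₗ[F] V) where
  carrier := {g | g ∈ Φ.Isom ∧ ∀ h ∈ Φ.Isom, ⁅g, h⁆ ∈ Φ.E}
  one_mem' := ⟨one_mem _, fun h _ => by simp⟩
  mul_mem' {a b} ha hb := ⟨mul_mem ha.1 hb.1, fun h hh => by
    rw [show ⁅a * b, h⁆ = a * ⁅b, h⁆ * a⁻¹ * ⁅a, h⁆ by simp only [commutatorElement_def]; group]
    exact mul_mem (Φ.E_conj ha.1 (hb.2 h hh)) (ha.2 h hh)⟩
  inv_mem' {a} ha := ⟨inv_mem ha.1, fun h hh => by
    rw [show ⁅a⁻¹, h⁆ = a⁻¹ * ⁅a, h⁆⁻¹ * a⁻¹⁻¹ by simp only [commutatorElement_def]; group]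
    exact Φ.E_conj (inv_mem ha.1) (inv_mem (ha.2 h hh))⟩

theorem E_le_Zc : Φ.E ≤ Zc Φ := fun g hg => ⟨Φ.E_le hg, fun h hh => by
  rw [show ⁅g, h⁆ = g * (h * g⁻¹ * h⁻¹) by simp only [commutatorElement_def]; group]
  exact mul_mem hg (Φ.E_conj hh (inv_mem hg))⟩

theorem Frame.dil_mem (X : Frame Φ (m + 2) w) (e f : V) (h) (l : Fˣ) : Φ.dil e f h l ∈ Zc Φ := ⟨Φ.dil_mem _ _ _ _, fun g hg => by
  have hE : ∀ a, ix (m + 2) a → ∀ y c h, Φ.eich (w a) y c h ∈ Φ.E := fun _ _ _ _ _ => Φ.eich_mem_E _ _ _ _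
  have h0 : ∀ v, v ∈ Wk Φ w 0 := fun v a h => by grind [ix]
  have h' := h.map hg
  obtain ⟨x, i1, i2, -, c, i3, i4⟩ := (X.rk_all hE (by omega) (h0 _) h.he h.e_ne).symm.trans (X.rk_all hE (by omega) (h0 _) h'.he h'.e_ne)
  obtain ⟨y, t, j1, -, j2⟩ := (h.map i2).exists_eich (f' := (K.σ c)⁻¹ • g f)
    ⟨(h.map i2).he, by simp [Φ.N_smul, h'.hf], by simp [i4, h'.hef, i3, K.σσ]⟩
  have j3 : Φ.eich _ y t j1 * x ∈ Φ.E := mul_mem (Φ.eich_mem_E _ _ _ _) i1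
  have j4 : g * Φ.dil e f h l * g⁻¹ = (Φ.eich _ y t j1 * x) * Φ.dil e f h l * (Φ.eich _ y t j1 * x)⁻¹ := by
    rw [Φ.dil_conj hg, Φ.dil_conj (Φ.E_le j3)]
    ext v
    simp only [Φ.dil_apply, LinearEquiv.mul_apply, Φ.eich_self, j2]
    simp only [i4, Φ.B_smul_right, smul_smul, map_inv₀, K.σσ]
    have := K.σ_eq_zero.not.2 i3
    congr 2
    · congr 1; field_simp
    · field_simp
  rw [show ⁅Φ.dil e f h l, g⁆ = Φ.dil e f h l * (g * Φ.dil e f h l * g⁻¹)⁻¹ by simp only [commutatorElement_def]; group, j4]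
  simpa [mul_assoc] using mul_mem (Φ.E_conj (Φ.dil_mem e f h l) j3) (inv_mem j3)⟩

/-- change of sign of the last index -/
def sw (m : ℕ) (s : Prop) [Decidable s] (b : ℤ) : ℤ := if s ∧ (b = m ∨ b = -m) then -b else b
theorem sw_ix {s : Prop} [Decidable s] (h : ix m b) : ix m (sw m s b) := by grind [sw, ix]
theorem sw_sw {s : Prop} [Decidable s] (b : ℤ) : sw m s (sw m s b) = b := by grind [sw]
theorem sw_comm {s s' : Prop} [Decidable s] [Decidable s'] (b : ℤ) : sw m s (sw m s' b) = sw m s' (sw m s b) := by grind [sw]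

theorem Frame.normal' {Φ : Form (Kind.orth F) V} (X : Frame Φ (m + 1) w) (hG : ∀ a, ix (m + 1) a → ∀ y c h, Φ.eich (w a) y c h ∈ G)
    (hd : ∀ e f h l, Φ.dil e f h l ∈ G) {g : V ≃ₗ[F] V} (hg : g ∈ Φ.Isom) :
    ∃ z ∈ G, z ∈ Φ.Isom ∧ ∃ s : ℤ, ∀ b, ix (m + 1) b → (z * g) (w b) = w (sw (m + 1) (s < 0) b) := by
  obtain ⟨z, i1, i2, i3⟩ := X.normal hG hd hg (Nat.lt_succ_self _)
  have i4 := (X.hyp' (a := m + 1) (by grind [ix]) (by omega)).map (mul_mem i2 hg)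
  obtain ⟨a, j1, j2, j3⟩ := X.exists_rk hG (Nat.le_succ _) (Wk.map (mul_mem i2 hg) (fun b hb => ⟨b, hb, i3 b hb⟩)
    (X.mem (by grind [ix]) (by grind [ix]) (by omega))) i4.he i4.e_ne
  obtain ⟨z', l1, l0, l2, l3, l4⟩ := X.step hG hd (Nat.lt_succ_self _) (mul_mem i2 hg) i3 j1 j2 j3.symm
  refine ⟨z' * z, mul_mem l1 i1, mul_mem l0 i2, a, fun b hb => ?_⟩
  rw [mul_assoc]
  by_cases e : ix m b
  · rw [l2 b e]; congr 1; grind [ix, sw]
  obtain rfl | rfl : b = m + 1 ∨ b = -(m + 1) := by grind [ix]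
  all_goals simp only [l3, l4, Kind.orth_ε, ite_self, one_smul]; congr 1; grind [ix, sw]

theorem Frame.comm_le {Φ : Form (Kind.orth F) V} (X : Frame Φ (m + 2) w)
    (hW : ∀ y ∈ Wk Φ w (m + 2), ∀ y' ∈ Wk Φ w (m + 2), y ≠ 0 → ∃ c : F, y' = c • y) : ⁅Φ.Isom, Φ.Isom⁆ ≤ Φ.E := by
  refine Subgroup.commutator_le.2 fun g hg g' hg' => ?_
  obtain ⟨z, i1, -, s, i3⟩ := X.normal' (fun _ _ _ _ _ => E_le_Zc (Φ.eich_mem_E _ _ _ _)) X.dil_mem hg
  obtain ⟨z', j1, -, s', j3⟩ := X.normal' (fun _ _ _ _ _ => E_le_Zc (Φ.eich_mem_E _ _ _ _)) X.dil_mem hg'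
  have h4 : ∀ {g}, g ∈ Φ.Isom → ∀ {s : ℤ}, (∀ b, ix (m + 2) b → g (w b) = w (sw (m + 2) (s < 0) b)) →
      ∀ y ∈ Wk Φ w (m + 2), g y ∈ Wk Φ w (m + 2) := fun hg s h y hy => Wk.map hg (fun b hb =>
    ⟨sw (m + 2) (s < 0) b, sw_ix hb, by rw [h _ (sw_ix hb), sw_sw]⟩) hy
  have h5 : ⁅z * g, z' * g'⁆ = 1 := by
    rw [commutatorElement_eq_one_iff_mul_comm]
    ext v
    refine X.ext (f := (z * g * (z' * g')).toLinearMap) (g := (z' * g' * (z * g)).toLinearMap) (fun a ha => ?_) (fun y hy => ?_) v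
    · simp only [LinearEquiv.coe_coe, LinearEquiv.mul_apply (z * g), LinearEquiv.mul_apply (z' * g'), i3 a ha, j3 a ha]
      rw [i3 _ (sw_ix ha), j3 _ (sw_ix ha), sw_comm]
    by_cases e : y = 0
    · simp [e]
    obtain ⟨c, e1⟩ := hW y hy _ (h4 (mul_mem i1.1 hg) i3 y hy) e
    obtain ⟨c', e2⟩ := hW y hy _ (h4 (mul_mem j1.1 hg') j3 y hy) e
    simp only [LinearEquiv.coe_coe, LinearEquiv.mul_apply (z * g), LinearEquiv.mul_apply (z' * g'), e1, e2, map_smul, smul_comm c]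
  have h6 : z * g ∈ Φ.Isom := mul_mem i1.1 hg
  rw [show ⁅g, g'⁆ = z⁻¹ * (z'⁻¹ * (⁅z', z * g⁆ * ⁅z * g, z' * g'⁆) * z'⁻¹⁻¹) * z⁻¹⁻¹ * ⁅z⁻¹, g'⁆ by simp only [commutatorElement_def]; group, h5, mul_one]
  exact mul_mem (Φ.E_conj (inv_mem i1.1) (Φ.E_conj (inv_mem j1.1) (j1.2 _ h6))) ((inv_mem i1).2 _ hg')

end Cfsg.Agent.Chev.Cl
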