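import Cfsg.Agent.Lib.Chev.Cl3
import Cfsg.Agent.Lib.Classical.OrthStm

set_option autoImplicit false
set_option linter.unusedSectionVars false
set_option linter.style.haveILetI false

/-! Spin groups. -/

namespace Cfsg.Agent.Chev.Cl
open Cfsg.Agent.Classical CliffordAlgebra
open scoped commutatorElement

variable {F : Type*} [Field F] {V : Type*} [AddCommGroup V] [Module F V] {τ n : ℕ} {w : ℤ → V} {a b : ℤ}

theorem ring_h0 {B : Type*} [Ring B] [Algebra F B] {e f y : B} (h1 : e * y = y * e) (h2 : f * y = y * f) (c d : F) :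
    (1 + c • (e * f) + d • (f * e)) * y = y * (1 + c • (e * f) + d • (f * e)) := by
  simp only [add_mul, mul_add, smul_mul_assoc, mul_smul_comm, mul_assoc, h1, h2, one_mul, mul_one]
  simp only [← mul_assoc, h1, h2]
theorem ring_h1 {B : Type*} [Ring B] [Algebra F B] {e f y : B} (h1 : e * y = 0) (h2 : y * e = 0) (h3 : e * f * y + y * (f * e) = y) (c : Fˣ) :
    (1 + ((c : F) - 1) • (e * f) + ((c : F)⁻¹ - 1) • (f * e)) * y = (c : F) • y * (1 + ((c : F) - 1) • (e * f) + ((c : F)⁻¹ - 1) • (f * e)) := by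
  simp only [add_mul, mul_add, smul_mul_assoc, mul_smul_comm, mul_assoc f, h1, ← mul_assoc y e, h2, one_mul, mul_one, mul_zero, zero_mul,
    eq_sub_of_add_eq' h3]
  match_scalars <;> field_simp <;> ring
theorem ring_h2 {B : Type*} [Ring B] [Algebra F B] {e f y : B} (h1 : e * y = 0) (h2 : y * e = 0) (h3 : e * f * y = y) (h4 : y * (f * e) = y) (c : Fˣ) :
    (1 + ((c : F) - 1) • (e * f) + ((c : F)⁻¹ - 1) • (f * e)) * y = (c : F) ^ 2 • y * (1 + ((c : F) - 1) • (e * f) + ((c : F)⁻¹ - 1) • (f * e)) := by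
  simp only [add_mul, mul_add, smul_mul_assoc, mul_smul_comm, mul_assoc f, h1, ← mul_assoc y e, h2, one_mul, mul_one, mul_zero, zero_mul, h3, h4]
  match_scalars <;> field_simp <;> ring

theorem prw_comm (a b x : ℤ) : prw a b x = prw b a x := by grind [prw]

theorem prod_single {A I : Type*} [CommGroup A] [Fintype I] [DecidableEq I] (c : I → A) (j : I) (k : ℤ) :
    ∏ i, c i ^ (Pi.single j k : I → ℤ) i = c j ^ k := by
  rw [Finset.prod_eq_single j (fun i _ hi => by simp [hi]) (by simp)]; simp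

theorem torus_step {A : Type*} [CommGroup A] {hn : 1 ≤ n} (c : Option (Fin n) → A) (j : Fin n) (hj : 2 ≤ τ → j.val + 1 < n) :
    ∏ i, c i ^ prw (simC τ hn i).1.1 (simC τ hn i).1.2 (j + 1) = c (some j) / if h : j.val = 0 then 1 else c (some ⟨j - 1, by omega⟩) := by
  split_ifs with h
  · have : (fun i => prw (simC τ hn i).1.1 (simC τ hn i).1.2 (j + 1)) = Pi.single (some j) 1 := funext (by
      rintro (_ | i) <;> simp only [simC, mkC, Pi.single_apply, lastC] <;> grind (splits := 30) [prw, dl])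
    simp only [congrFun this, prod_single]; simp
  have : (fun i => prw (simC τ hn i).1.1 (simC τ hn i).1.2 (j + 1)) = Pi.single (some j) 1 + Pi.single (some ⟨j - 1, by omega⟩) (-1) := funext (by
      rintro (_ | i) <;> simp only [simC, mkC, Pi.single_apply, Pi.add_apply, lastC] <;> grind (splits := 30) [prw, dl])
  simp only [congrFun this, Pi.add_apply, zpow_add, Finset.prod_mul_distrib, prod_single]; simp [div_eq_mul_inv]

theorem torus_eq {A : Type*} [CommGroup A] {hn : 1 ≤ n} {c : Option (Fin n) → A} (h : ∀ x : ℤ, 0 < x → x ≤ n + 1 →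
    ∏ i, c i ^ prw (simC τ hn i).1.1 (simC τ hn i).1.2 x = 1) (j : Fin n) (hj : 2 ≤ τ → j.val + 1 < n) : c (some j) = 1 := by
  induction h' : j.val generalizing j with
  | zero =>
    have := h (j + 1) (by omega) (by omega)
    rwa [torus_step c j hj, dif_pos h', div_one] at this
  | succ k ih =>
    have := h (j + 1) (by omega) (by omega)
    rwa [torus_step c j hj, dif_neg (by omega), ih ⟨j - 1, by omega⟩ (fun _ => by simp; omega) (by simp; omega), div_one] at this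

theorem torus_last {A : Type*} [CommGroup A] {hn : 1 ≤ n} (c : Option (Fin n) → A) :
    ∏ i, c i ^ prw (simC τ hn i).1.1 (simC τ hn i).1.2 (n + 1) = c none ^ (if τ = 0 then 2 else 1 : ℤ) / c (some ⟨n - 1, by omega⟩) := by
  have : (fun i => prw (simC τ hn i).1.1 (simC τ hn i).1.2 (n + 1)) = Pi.single none (if τ = 0 then 2 else 1) +
      Pi.single (some ⟨n - 1, by omega⟩) (-1) := funext (by
    rintro (_ | i) <;> simp only [simC, mkC, Pi.single_apply, Pi.add_apply, lastC] <;> grind (splits := 30) [prw, dl])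
  simp only [congrFun this, Pi.add_apply, zpow_add, Finset.prod_mul_distrib, prod_single]; simp [div_eq_mul_inv]

theorem torus_C {A : Type*} [CommGroup A] {hn : 1 ≤ n} {c : Option (Fin n) → A} (h : ∀ x : ℤ, 0 < x → x ≤ n + 1 →
    ∏ i, c i ^ prw (simC 1 hn i).1.1 (simC 1 hn i).1.2 x = 1) : c = 1 := funext (by
  rintro (_ | j)
  · have := h (n + 1) (by omega) le_rfl
    rw [torus_last, torus_eq h _ (by omega)] at this
    simpa using this
  · exact torus_eq h j (by omega))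

namespace CAR
variable {B : Type*} [Ring B] [Algebra F B] {u : ℤ → B} (q : CAR τ n u) {hn : 1 ≤ n}
include q

theorem h_u (hτ : τ ≠ 1) (r : RC τ n) {x : ℤ} (hx : vi τ n x) (h0 : x ≠ 0) (c : Fˣ) :
    (1 + ((c : F) - 1) • (eO u r * eO u ((rs τ hn).neg r)) + ((c : F)⁻¹ - 1) • (eO u ((rs τ hn).neg r) * eO u r)) * u x =
      ((c ^ prw r.1.1 r.1.2 x : Fˣ) : F) • u x *
      (1 + ((c : F) - 1) • (eO u r * eO u ((rs τ hn).neg r)) + ((c : F)⁻¹ - 1) • (eO u ((rs τ hn).neg r) * eO u r)) := by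
  have key : ∀ a b (h : okC τ n a b) (c : Fˣ), a ≠ 0 → (1 + ((c : F) - 1) • (eO u (mkC a b h) * eO u ((rs τ hn).neg (mkC a b h))) +
      ((c : F)⁻¹ - 1) • (eO u ((rs τ hn).neg (mkC a b h)) * eO u (mkC a b h))) * u a = ((c ^ bt b (-b) : Fˣ) : F) • u a *
      (1 + ((c : F) - 1) • (eO u (mkC a b h) * eO u ((rs τ hn).neg (mkC a b h))) +
      ((c : F)⁻¹ - 1) • (eO u ((rs τ hn).neg (mkC a b h)) * eO u (mkC a b h))) := fun a b h c e => by
    have h1 : u a * u a = 0 := by rw [q.sq h.l, if_neg e]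
    have h2 : u a * (u a * u b) = 0 := by rw [← mul_assoc, h1, zero_mul]
    have h3 : u a * u b * u a = 0 := by rw [mul_assoc, q.anti h.l h.r h.2.2.2.2.1, mul_neg, h2, neg_zero]
    have h4 := q.cm3 h.r h.l
    have h5 := q.cm3 h.r h.l.neg
    have h6 := q.cm3 h.r.neg h.l
    have h7 := q.cm3 h.r.neg h.l.neg
    rw [show dl b a = 0 by grind [dl, okC], zero_smul, add_zero] at h4
    rw [show dl b (-a) = 0 by grind [dl, okC], zero_smul, add_zero] at h5
    have h8 : u a * u b * (u (-b) * u (-a)) * u a = u a * (u b * u (-b)) := by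
      linear_combination (norm := noncomm_ring) u a * h5 * u a + u a * u (-a) * h4 + q.tri1 h.l * u b * u (-b)
    have h9 : u a * (u (-b) * u (-a) * (u a * u b)) = u a * (u (-b) * u b) := by
      have i1 := q.anti h.l h.r.neg (by grind [okC])
      have i2 := q.anti h.l.neg h.r.neg (by grind [okC])
      linear_combination (norm := noncomm_ring) u a * i2 * u a * u b - u a * u (-a) * i1 * u b + q.tri1 h.l * u (-b) * u b
    simp only [q.e_neg hτ, q.e_mk, smul_mul_smul_comm, sg_sq, one_smul]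
    by_cases e' : b = 0
    · subst e'
      rw [neg_zero, q.sq h.r, if_pos rfl, mul_one] at h8 h9
      simpa [bt] using ring_h2 h3 h2 h8 h9 c
    · simpa [bt, e'] using ring_h1 h3 h2 (by rw [h8, h9, ← mul_add, q.ac h.r h.r.neg]; simp [bt, e']) c
  have key' : ∀ a b (h : okC τ n a b), x = a ∨ x = -a → (1 + ((c : F) - 1) • (eO u (mkC a b h) * eO u ((rs τ hn).neg (mkC a b h))) +
      ((c : F)⁻¹ - 1) • (eO u ((rs τ hn).neg (mkC a b h)) * eO u (mkC a b h))) * u x = ((c ^ prw a b x : Fˣ) : F) • u x *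
      (1 + ((c : F) - 1) • (eO u (mkC a b h) * eO u ((rs τ hn).neg (mkC a b h))) +
      ((c : F)⁻¹ - 1) • (eO u ((rs τ hn).neg (mkC a b h)) * eO u (mkC a b h))) := by
    rintro a b h (rfl | rfl)
    · rw [key _ _ h c h0]; congr 4; clear * - h h0 hτ; grind [prw, dl, bt, okC]
    · have := key _ _ h.neg c⁻¹ h0
      rw [← neg_mk (hn := hn) h, RS.neg_neg, Units.val_inv_eq_inv_val, inv_inv, add_right_comm] at this
      rw [this, inv_zpow']; congr 4; clear * - h h0 hτ; grind [prw, dl, bt, okC]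
  obtain ⟨⟨a, b⟩, h, h'⟩ := r
  rw [← mkC_eq ⟨(a, b), h, h'⟩]
  simp only [show (mkC a b h).1 = (a, b) from congrArg Subtype.val (mkC_eq ⟨(a, b), h, h'⟩)]
  by_cases e : x = a ∨ x = -a
  · exact key' a b h e
  by_cases e' : x = b ∨ x = -b
  · rw [mkC_comm, prw_comm]; exact key' b a h.symm e'
  clear key key'
  rw [show prw a b x = 0 by grind [prw, dl], zpow_zero, Units.val_one, one_smul, q.e_neg hτ, q.e_mk]
  refine ring_h0 ?_ ?_ _ _
  · rw [smul_mul_assoc, q.cm1 h.l h.r hx]; simp [bt, show a + x ≠ 0 by omega, show b + x ≠ 0 by omega, -zsmul_eq_mul]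
  · rw [smul_mul_assoc, q.cm1 h.r.neg h.l.neg hx]; simp [bt, show -a + x ≠ 0 by omega, show -b + x ≠ 0 by omega, -zsmul_eq_mul]

end CAR

theorem _root_.Cfsg.Agent.Chev.QA.h_e {I R : Type} [Fintype I] [DecidableEq I] [Fintype R] [DecidableEq R] {Φ : RS I R} {A : Type*} [Ring A]
    {e : R → A} {q : Φ.QZ e} {B : Type*} [Ring B] [Algebra F B] (D : QA q F B) (r : R) (c : Fˣ) : D.v (D.S.h r c) * D.ee r = (c : F) • D.ee r := by
  simp only [D.v_h, add_mul, smul_mul_assoc, D.tri, mul_assoc (D.ee (Φ.neg r)), D.sq]; simp [sub_smul]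

namespace CAR
variable {A : Type*} [Ring A] [CharZero A] {u : ℤ → A} (q : CAR τ n u) (hτ : τ ≠ 1) (hn : 1 ≤ n) (h : 2 ≤ τ → 2 ≤ n)
  {B : Type*} [Ring B] [Algebra F B] [Nontrivial B] (φ : A →+* B)

theorem qa_ee (r : RC τ n) : (q.qa hτ hn h F φ).ee r = eO (fun a => φ (u a)) r := map_mul φ _ _

theorem hT_u (hm : (q.qa hτ hn h F φ).S.HMul) (c : Option (Fin n) → Fˣ) {x : ℤ} (hx : vi τ n x) (h0 : x ≠ 0) :
    (q.qa hτ hn h F φ).v (hm.hT c) * φ (u x) = (RS.chi c fun i => prw (simC τ hn i).1.1 (simC τ hn i).1.2 x : F) • φ (u x) *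
      (q.qa hτ hn h F φ).v (hm.hT c) := by
  induction c using St.pi_units_induction with
  | h1 i c =>
    rw [hm.hT_single, RS.chi_mulSingle, QA.v_h, ← sim_eq]
    simp only [qa_ee]
    exact (q.map φ).h_u hτ _ hx h0 c
  | h0 => simp [RS.chi_one]
  | h2 a b ha hb => simp only [map_mul, mul_assoc, hb, RS.chi_mul, smul_mul_assoc, mul_smul_comm, ← mul_assoc _ (φ (u x)), ha, smul_smul,
      Units.val_mul, mul_comm]

theorem hT_inj (hm : (q.qa hτ hn h F φ).S.HMul) : Function.Injective hm.hT := (injective_iff_map_eq_one _).2 fun c hc => by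
  set D := q.qa hτ hn h F φ
  have h1 := torus_eq (τ := τ) (hn := hn) (c := c) fun x a b => by
    have := q.hT_u hτ hn h φ hm c (x := x) (by grind [vi]) a.ne'
    rw [hc, map_one, one_mul, mul_one, ← sub_eq_zero, ← one_smul F (φ (u x)), smul_smul, mul_one, ← sub_smul] at this
    exact Units.ext (sub_eq_zero.1 ((smul_eq_zero.1 ((q.map φ).ne_of (by grind [vi]) this)).resolve_right one_ne_zero)).symm
  have h2 : ∀ i (d : Fˣ), D.v (D.S.h ((rs τ hn).sim i) d) * D.ee ((rs τ hn).sim i) = D.ee ((rs τ hn).sim i) → d = 1 := fun i d e => by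
    rw [D.h_e] at e
    exact Units.ext (smul_left_injective F (D.ee_ne _) (e.trans (one_smul _ _).symm))
  obtain ⟨n, rfl⟩ : ∃ k, n = k + 1 := ⟨n - 1, by omega⟩
  have h3 : c = Pi.mulSingle (some (.last n)) (c (some (.last n))) * Pi.mulSingle none (c none) := funext (by
    rintro (_ | j)
    · simp
    by_cases e : j = .last n
    · simp [e]
    · simp [e, h1 j fun _ => by grind])
  rw [h3, map_mul, hm.hT_single, hm.hT_single] at hc
  have h4 : c none = 1 := by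
    by_cases e : τ = 0
    · rw [h1 _ (by omega), St.h_one, one_mul] at hc
      exact h2 none _ (by rw [hc, map_one, one_mul])
    refine h2 none _ ?_
    have h5 := congrArg (D.v · * D.ee ((rs τ hn).sim none)) hc
    simp only [map_mul, map_one, one_mul, mul_assoc, D.h_e, mul_smul_comm] at h5
    rw [D.h_e]
    suffices D.ee ((rs τ hn).sim (some (.last n))) * D.ee ((rs τ hn).sim none) = 0 ∧
        D.ee ((rs τ hn).neg ((rs τ hn).sim (some (.last n)))) * D.ee ((rs τ hn).sim none) = 0 by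
      simpa [D.v_h, add_mul, mul_assoc, this] using h5
    have q' := q.map φ
    have i1 : vi τ (n + 1) (n + 1) := by grind [vi]
    have i2 : vi τ (n + 1) (n + 2) := by grind [vi]
    have i3 : φ (u (n + 1)) * φ (u (n + 1)) = 0 := by rw [q'.sq i1, if_neg (by omega)]
    have i4 : φ (u (n + 2)) * φ (u (n + 2)) = 0 := by rw [q'.sq i2, if_neg (by omega)]
    simp only [D, qa_ee, sim_eq, simC, q'.e_neg hτ, q'.e_mk, smul_mul_smul_comm, lastC, if_neg e, if_neg hτ, Fin.val_last, Nat.cast_add,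
      Nat.cast_one, add_assoc, one_add_one_eq_two, neg_neg]
    rw [q'.anti i2.neg i1 (by omega), q'.anti i1 i2 (by omega), q'.anti i1.neg i2 (by omega), neg_mul_neg, mul_assoc, ← mul_assoc (φ (u (n + 1))), i3,
      ← q'.anti i1 i2 (by omega), neg_mul, mul_assoc, ← mul_assoc (φ (u (n + 2))), i4]
    simp
  rw [h4, St.h_one, mul_one] at hc
  rw [h3, h4, h2 (some (.last n)) (c (some (.last n))) (by rw [hc, map_one, one_mul])]; simp

end CAR

theorem cliff_eich {Φ : Form (Kind.orth F) V} {e y : V} {c : F} (h : Φ.IsEich e y c) (v : V) :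
    (1 + ι Φ.toQuad e * ι Φ.toQuad y) * ι Φ.toQuad v = ι Φ.toQuad (Φ.eich e y c h v) * (1 + ι Φ.toQuad e * ι Φ.toQuad y) := by
  have h0 : ∀ u v, ι Φ.toQuad u * ι Φ.toQuad v = Φ.B v u • 1 - ι Φ.toQuad v * ι Φ.toQuad u := fun u v => by
    rw [eq_sub_iff_add_eq, add_comm, ι_mul_ι_add_swap, Φ.toQuad_polar, Algebra.algebraMap_eq_smul_one]
  have h1 : ι Φ.toQuad e * ι Φ.toQuad e = 0 := by simp [h.he]
  have h2 : ι Φ.toQuad y * ι Φ.toQuad y = c • 1 := by simp [← h.ha, Algebra.algebraMap_eq_smul_one]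
  have h3 : ι Φ.toQuad y * ι Φ.toQuad e = -(ι Φ.toQuad e * ι Φ.toQuad y) := by rw [h0, Φ.B_symm_zero h.hy]; simp
  have h4 : ι Φ.toQuad e * ι Φ.toQuad y * ι Φ.toQuad v =
      Φ.B v y • ι Φ.toQuad e - Φ.B v e • ι Φ.toQuad y + ι Φ.toQuad v * (ι Φ.toQuad e * ι Φ.toQuad y) := by
    rw [mul_assoc, h0 y v, mul_sub, ← mul_assoc, h0 e v]; simp only [sub_mul, smul_mul_assoc, mul_smul_comm, one_mul, mul_one, mul_assoc]; abel
  have h5 : ι Φ.toQuad y * (ι Φ.toQuad e * ι Φ.toQuad y) = -(c • ι Φ.toQuad e) := by rw [← mul_assoc, h3, neg_mul, mul_assoc, h2]; simp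
  have h6 : ι Φ.toQuad e * (ι Φ.toQuad e * ι Φ.toQuad y) = 0 := by rw [← mul_assoc, h1, zero_mul]
  simp only [Φ.eich_apply, map_add, map_sub, map_smul, add_mul, mul_add, sub_mul, one_mul, mul_one, smul_mul_assoc, h4, h5, h6, Kind.orth_ε]
  module

/-- orthogonal frames of type `B` or `D` -/
structure OFrame (τ n : ℕ) (Φ : Form (Kind.orth F) V) (w : ℤ → V) : Prop extends Frame Φ (n + 1) w where
  w0 : τ = 0 → w 0 ∈ Wk Φ w (n + 1) ∧ Φ.N (w 0) = 1
  sp : ∀ y ∈ Wk Φ w (n + 1), y = 0 ∨ τ = 0 ∧ ∃ c : F, y = c • w 0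

theorem vi.ix (h : vi τ n a) (h0 : a ≠ 0) : ix (n + 1) a := by grind [vi, Cl.ix]
theorem okC_of (h : vi τ n a) (h' : vi τ n b) (e : a ≠ b) (e' : a + b ≠ 0) : okC τ n a b := by grind [vi, okC]
theorem ix.vi (h : ix (n + 1) a) : vi τ n a := by grind [Cl.vi, Cl.ix]

namespace OFrame
variable {Φ : Form (Kind.orth F) V} (X : OFrame τ n Φ w)
include X

theorem N' (ha : vi τ n a) : Φ.N (w a) = if a = 0 then 1 else 0 := by
  split_ifs with e
  exacts [e ▸ (X.w0 (ha.2.2 e)).2, X.N (ha.ix e)]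
theorem B' (ha : vi τ n a) (hb : vi τ n b) : Φ.B (w a) (w b) = bt a b := by
  by_cases e : a = 0
  · by_cases e' : b = 0
    · simp [e, e', Φ.B_self, (X.w0 (ha.2.2 e)).2, bt]
    · simp [e, e', (X.w0 (ha.2.2 e)).1 b (hb.ix e'), bt]
  by_cases e' : b = 0
  · simp [e, e', Φ.B_symm_zero ((X.w0 (hb.2.2 e')).1 a (ha.ix e)), bt]
  simp [X.B (ha.ix e) (hb.ix e'), bt, e]
theorem car : CAR τ n fun a => ι Φ.toQuad (w a) where
  ac ha hb := by rw [ι_mul_ι_add_swap, Φ.toQuad_polar, X.B' ha hb]; simp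
  sq ha := by rw [ι_sq_scalar, Φ.toQuad_apply, X.N' ha]; split_ifs <;> simp
theorem ι_inj : Function.Injective (ι Φ.toQuad) := (injective_iff_map_eq_zero _).2 fun v h => X.an v (fun a _ => cliff_algebraMap_injective Φ.toQuad (by
    rw [← Φ.toQuad_polar, ← ι_mul_ι_add_swap, h]; simp)) (cliff_algebraMap_injective Φ.toQuad (by rw [← Φ.toQuad_apply, ← ι_sq_scalar, h]; simp))
theorem isEich (h : okC τ n a b) (h0 : a ≠ 0) (t : F) : Φ.IsEich (w a) (t • w b) (Φ.N (t • w b)) :=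
  ⟨X.N (h.l.ix h0), by simp [X.B' h.r h.l, bt, show b + a ≠ 0 by grind [okC]], rfl⟩
theorem comm_le (hn : 1 ≤ n) : ⁅Φ.Isom, Φ.Isom⁆ ≤ Φ.E := by
  obtain ⟨n, rfl⟩ : ∃ k, n = k + 1 := ⟨n - 1, by omega⟩
  refine X.toFrame.comm_le fun y hy y' hy' e => ?_
  obtain ⟨-, c, rfl⟩ := (X.sp y hy).resolve_left e
  obtain rfl | ⟨-, c', rfl⟩ := X.sp y' hy'
  exacts [⟨0, by simp⟩, ⟨c' / c, by rw [smul_smul, div_mul_cancel₀ _ (left_ne_zero_of_smul e)]⟩]

end OFrame

/-- index codes -/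
def cdP {m : ℕ} : Fin m ⊕ Fin m → ℤ := Sum.elim (fun i => i + 1) fun i => -(i + 1)
/-- index codes -/
def cdO {m : ℕ} : Unit ⊕ (Fin m ⊕ Fin m) → ℤ := Sum.elim (fun _ => 0) cdP
/-- standard basis vectors -/
def wv (K : Type*) [Ring K] {ι : Type} (cd : ι → ℤ) (a : ℤ) : ι → K := fun x => if cd x = a then 1 else 0

theorem exists_cdP {m : ℕ} (h : ix m a) : ∃ i : Fin m, a = i + 1 ∨ a = -(i + 1) := ⟨⟨a.natAbs - 1, by grind [ix]⟩, by grind [ix]⟩
theorem wvP_pos (K : Type*) [Ring K] {m : ℕ} (i : Fin m) : wv K cdP (i + 1) = Pi.single (.inl i : Fin m ⊕ Fin m) 1 :=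
  funext (by rintro (j | j) <;> simp only [wv, cdP, Sum.elim_inl, Sum.elim_inr, Pi.single_apply] <;> grind)
theorem wvP_neg (K : Type*) [Ring K] {m : ℕ} (i : Fin m) : wv K cdP (-(i + 1)) = Pi.single (.inr i : Fin m ⊕ Fin m) 1 :=
  funext (by rintro (j | j) <;> simp only [wv, cdP, Sum.elim_inl, Sum.elim_inr, Pi.single_apply] <;> grind)

theorem frameP (n : ℕ) (F : Type*) [Field F] : OFrame 2 n (plusForm (n + 1) F) (wv F cdP) := by
  have h1 : ∀ y ∈ Wk (plusForm (n + 1) F) (wv F cdP) (n + 1), y = 0 := fun y hy => funext (by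
    rintro (i | i)
    · simpa [wvP_neg, plusForm_B, Pi.single_apply, -neg_add_rev] using hy (-(i + 1)) (by grind [ix])
    · simpa [wvP_pos, plusForm_B, Pi.single_apply] using hy (i + 1) (by grind [ix]))
  refine ⟨⟨fun ha => ?_, fun ha hb => ?_, fun y hy _ => h1 y hy⟩, by simp, fun y hy => .inl (h1 y hy)⟩
  · obtain ⟨i, rfl | rfl⟩ := exists_cdP ha <;> simp [wvP_pos, wvP_neg, plusForm_N, quadFormPlus, -neg_add_rev]
  obtain ⟨i, rfl | rfl⟩ := exists_cdP ha <;> obtain ⟨j, rfl | rfl⟩ := exists_cdP hb <;>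
    simp [wvP_pos, wvP_neg, plusForm_B, Pi.single_apply, -neg_add_rev] <;> grind

theorem frameO (n : ℕ) (F : Type*) [Field F] : OFrame 0 n (oddForm (n + 1) F) (wv F cdO) := by
  have h0 := (frameP n F).toFrame
  have e0 : ∀ {a}, a ≠ 0 → wv F (cdO (m := n + 1)) a (.inl ()) = 0 := fun h => if_neg (Ne.symm h)
  have e1 : ∀ a x, wv F (cdO (m := n + 1)) a (.inr x) = wv F cdP a x := fun _ _ => rfl
  have h1 : ∀ y ∈ Wk (oddForm (n + 1) F) (wv F cdO) (n + 1), y = y (.inl ()) • wv F cdO 0 := fun y hy => by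
    have := ((frameP n F).sp (y ∘ .inr) fun a ha => by simpa [oddForm_B, e0 ha.1, plusForm_B, e1] using hy a ha).resolve_right (by simp)
    funext x
    rcases x with _ | x
    · simp [wv, cdO]
    · rw [show y (.inr x) = 0 from congrFun this x]; rcases x with i | i <;>
      simp [wv, cdO, cdP, show (i + 1 : ℤ) ≠ 0 by omega, -neg_add_rev]
  have h2 : (oddForm (n + 1) F).N (wv F cdO 0) = 1 := by
    simp [oddForm_N, quadFormOdd, wv, cdO, cdP, show ∀ i : Fin (n + 1), (i + 1 : ℤ) ≠ 0 by omega]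
  refine ⟨⟨fun ha => ?_, fun ha hb => ?_, fun y hy e => ?_⟩, fun _ => ⟨fun a ha => ?_, h2⟩, fun y hy => .inr ⟨rfl, _, h1 y hy⟩⟩
  · simpa [oddForm_N, quadFormOdd, e0 ha.1, e1, plusForm_N, quadFormPlus] using h0.N ha
  · simpa [oddForm_B, e0 ha.1, e1, plusForm_B] using h0.B ha hb
  · rw [h1 y hy, Form.N_smul, h2] at e
    rw [h1 y hy, show y (.inl ()) = 0 by simpa using e, zero_smul]
  · simp only [oddForm_B, e0 ha.1]
    simp [wv, cdO, cdP, show ∀ i : Fin (n + 1), (i + 1 : ℤ) ≠ 0 by omega, -neg_add_rev]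

instance (n : ℕ) : CharZero (CliffordAlgebra (oddForm (n + 1) ℚ).toQuad) := charZero_of_injective_algebraMap (cliff_algebraMap_injective _)
instance instNontrivialCliff (Q : QuadraticForm F V) : Nontrivial (CliffordAlgebra Q) := (cliff_algebraMap_injective Q).nontrivial
theorem carQ (τ n : ℕ) : CAR τ n fun a => ι (oddForm (n + 1) ℚ).toQuad (wv ℚ cdO a) :=
  ⟨fun ha hb => (frameO n ℚ).car.ac (by grind [vi]) (by grind [vi]), fun ha => (frameO n ℚ).car.sq (by grind [vi])⟩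

namespace OFrame
variable {Φ : Form (Kind.orth F) V} (X : OFrame τ n Φ w) (hτ : τ ≠ 1) (hn : 1 ≤ n) (h : 2 ≤ τ → 2 ≤ n)

/-- the spin representation -/
noncomputable def qa : QA ((X.car.prod (carQ τ n)).qz hτ hn) F (CliffordAlgebra Φ.toQuad) := (X.car.prod (carQ τ n)).qa hτ hn h F (RingHom.fst _ _)

theorem ee (r : RC τ n) : (X.qa hτ hn h).ee r = eO (fun a => ι Φ.toQuad (w a)) r := rfl
theorem hT_inj (hm : (X.qa hτ hn h).S.HMul) : Function.Injective hm.hT := CAR.hT_inj _ _ _ _ _ hm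
theorem v_x (h1 : okC τ n a b) (t : F) : (X.qa hτ hn h).v ((X.qa hτ hn h).S.x (mkC a b h1) t) =
    1 + ι Φ.toQuad (w a) * ι Φ.toQuad ((sg a b * t) • w b) := by
  rw [QA.v_x, ee, X.car.e_mk, map_smul, mul_smul_comm, mul_comm, mul_smul, Int.cast_smul_eq_zsmul]

theorem exists_spin : ∃ ψ : (X.qa hτ hn h).G →* Φ.E, Function.Surjective ψ ∧ ψ.ker ≤ Subgroup.center _ ∧
    (∀ g v, (X.qa hτ hn h).v g * ι Φ.toQuad v = ι Φ.toQuad ((ψ g).1 v) * (X.qa hτ hn h).v g) ∧
    ∀ a b (h1 : okC τ n a b) (h0 : a ≠ 0) t, (ψ ((X.qa hτ hn h).S.x (mkC a b h1) t)).1 = Φ.eich _ _ _ (X.isEich h1 h0 (sg a b * t)) := by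
  set D := X.qa hτ hn h
  have h1 : ∀ {g g' : D.G} {M M' : Φ.E}, (∀ v, D.v g * ι Φ.toQuad v = ι Φ.toQuad (M.1 v) * D.v g) →
      (∀ v, D.v g' * ι Φ.toQuad v = ι Φ.toQuad (M'.1 v) * D.v g') → ∀ v, D.v (g * g') * ι Φ.toQuad v = ι Φ.toQuad ((M * M').1 v) * D.v (g * g') :=
    fun a b v => by rw [map_mul, mul_assoc, b, ← mul_assoc, a, mul_assoc]; rfl
  have h2 : ∀ {g : D.G} {M M' : Φ.E}, (∀ v, D.v g * ι Φ.toQuad v = ι Φ.toQuad (M.1 v) * D.v g) →
      (∀ v, D.v g * ι Φ.toQuad v = ι Φ.toQuad (M'.1 v) * D.v g) → M = M' := fun {g _ _} a b => Subtype.ext (LinearEquiv.ext fun v =>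
    X.ι_inj (by simpa [mul_assoc, ← map_mul] using congrArg (· * D.v g⁻¹) ((a v).symm.trans (b v))))
  have h3 : ∀ a b (h1 : okC τ n a b) (h0 : a ≠ 0) t v, D.v (D.S.x (mkC a b h1) t) * ι Φ.toQuad v =
      ι Φ.toQuad (Φ.eich _ _ _ (X.isEich h1 h0 (sg a b * t)) v) * D.v (D.S.x (mkC a b h1) t) := fun a b h1 h0 t v => by
    rw [v_x, cliff_eich]
  let K : Subgroup D.G :=
    { carrier := {g | ∃ M : Φ.E, ∀ v, D.v g * ι Φ.toQuad v = ι Φ.toQuad (M.1 v) * D.v g}
      one_mem' := ⟨1, by simp⟩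
      mul_mem' := fun ⟨_, a⟩ ⟨_, b⟩ => ⟨_, h1 a b⟩
      inv_mem' := fun {g} ⟨M, a⟩ => ⟨M⁻¹, fun v => by
        have := congrArg (D.v g⁻¹ * · * D.v g⁻¹) (a (M⁻¹.1 v)).symm
        simp only [← mul_assoc, ← map_mul, inv_mul_cancel, map_one, one_mul] at this
        rwa [mul_assoc, ← map_mul, mul_inv_cancel, map_one, mul_one, show M.1 (M⁻¹.1 v) = v from M.1.apply_symm_apply v] at this⟩ }
  have h4 : D.S.Gx ≤ K := St.Ux_le.2 fun r _ t => r.ind fun a b h1 => by
    by_cases e : a = 0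
    · have e' : b ≠ 0 := fun e' => h1.2.2.2.2.1 (by omega)
      rw [mkC_comm]; exact ⟨⟨_, Φ.eich_mem_E _ _ _ (X.isEich h1.symm e' _)⟩, h3 _ _ _ e' t⟩
    · exact ⟨⟨_, Φ.eich_mem_E _ _ _ (X.isEich h1 e _)⟩, h3 _ _ _ e t⟩
  choose ψ hψ using fun g => h4 (D.S_Gx ▸ Subgroup.mem_top g)
  have h5 : ∀ a b (h1 : okC τ n a b) (h0 : a ≠ 0) t, (ψ (D.S.x (mkC a b h1) t)).1 = Φ.eich _ _ _ (X.isEich h1 h0 (sg a b * t)) :=
    fun a b h1 h0 t => congrArg Subtype.val (h2 (M' := ⟨_, Φ.eich_mem_E _ _ _ (X.isEich h1 h0 _)⟩) (hψ _) (h3 a b h1 h0 t))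
  let φ : D.G →* Φ.E := MonoidHom.mk' ψ fun g g' => h2 (hψ _) (h1 (hψ g) (hψ g'))
  have h6 : ∀ a b (h1 : okC τ n a b) (h0 : a ≠ 0) (t : F), Φ.eich _ _ _ (X.isEich h1 h0 t) ∈ φ.range.map Φ.E.subtype := fun a b h1 h0 t =>
    ⟨_, ⟨D.S.x (mkC a b h1) (sg a b * t), rfl⟩, (h5 a b h1 h0 _).trans (by simp only [← mul_assoc, ← Int.cast_mul, sg_sq, Int.cast_one, one_mul])⟩
  refine ⟨φ, fun g => ?_, fun g hg => Subgroup.mem_center_iff.2 fun g' => ?_, hψ, h5⟩
  · obtain ⟨_, ⟨g', rfl⟩, e⟩ := X.E_le (G := φ.range.map Φ.E.subtype) (fun a ha => X.eich_mem (fun a b ha hb e e' t =>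
      ⟨_, _, h6 a b (okC_of ha.vi hb.vi e e') ha.1 t⟩) (fun a ha y hy c hc => by
        obtain rfl | ⟨e, t, rfl⟩ := X.sp y hy
        · rw [Φ.eich_congr hc rfl (show c = 0 by simpa using hc.ha), Φ.eich_zero]; exact one_mem _
        · rw [Φ.eich_congr hc rfl hc.ha]; exact h6 a 0 (okC_of ha.vi ⟨by omega, by omega, fun _ => e⟩ ha.1 (by simpa using ha.1)) ha.1 t) ha) g.2
    exact ⟨g', Subtype.ext e⟩
  have h7 : ∀ v, D.v g * ι Φ.toQuad v = ι Φ.toQuad v * D.v g := fun v => by rw [hψ, show ψ g = 1 from hg]; rfl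
  refine ((St.Ux_le (K := Subgroup.centralizer {g})).2 (fun r _ t => Subgroup.mem_centralizer_singleton_iff.2 (D.v_inj ?_))
    (D.S_Gx ▸ Subgroup.mem_top g' : g' ∈ D.S.Gx) g rfl).symm
  simp only [D] at h7
  simp only [map_mul, QA.v_x, D, ee, eO, add_mul, mul_add, smul_mul_assoc, mul_smul_comm, one_mul, mul_one, mul_assoc, ← h7]
  simp only [← mul_assoc, ← h7]

end OFrame

end Cfsg.Agent.Chev.Cl
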