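import Cfsg.Agent.Lib.Chev.Cl4

set_option autoImplicit false
set_option linter.unusedSectionVars false
set_option linter.style.haveILetI false

/-! Symplectic and orthogonal groups as Chevalley groups. -/

namespace Cfsg.Agent.Chev.Cl
open Cfsg.Agent.Classical Matrix
open scoped commutatorElement

variable {F : Type*} [Field F] {τ n : ℕ} {a b c d : ℤ}

theorem fresh (L : List ℤ) (h : L.length ≤ n) : ∃ z : ℤ, 0 < z ∧ z ≤ n + 1 ∧ ∀ x ∈ L, z ≠ x ∧ z ≠ -x := by
  obtain ⟨z, hz⟩ := Chev.fresh (n := n) (L.map fun x => .ofNat _ (x.natAbs - 1)) (by simpa)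
  refine ⟨z + 1, by omega, by omega, fun x hx => ?_⟩
  have : z ≠ .ofNat _ (x.natAbs - 1) := fun e => hz (List.mem_map.2 ⟨x, hx, e.symm⟩)
  constructor <;> intro e <;> refine this (Fin.ext ?_) <;> rw [Fin.val_ofNat, Nat.mod_eq_of_lt (by omega)] <;> omega

/-- the standard symplectic frame -/
def wS (K : Type*) [Ring K] (m : ℕ) (a : ℤ) : Fin m ⊕ Fin m → K := wv K cdP (-a)
/-- rank one operators -/
def TM (K : Type*) [CommRing K] (m : ℕ) (a b : ℤ) : Matrix (Fin m ⊕ Fin m) (Fin m ⊕ Fin m) K :=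
  vecMulVec (wS K m a) fun y => gm b (-cdP y)

theorem wS_cases (K : Type*) [Ring K] {m : ℕ} (h : ix m a) :
    ∃ x : Fin m ⊕ Fin m, cdP x = -a ∧ wS K m a = Pi.single x 1 := by
  obtain ⟨i, rfl | rfl⟩ := exists_cdP h
  exacts [⟨.inr i, rfl, wvP_neg K i⟩, ⟨.inl i, by simp [cdP], by rw [wS, neg_neg, wvP_pos]⟩]
theorem TM_w (K : Type*) [CommRing K] {m : ℕ} (a b : ℤ) (h : ix m c) : TM K m a b *ᵥ wS K m c = gm b c • wS K m a := by
  obtain ⟨x, h1, h2⟩ := wS_cases K h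
  rw [TM, vecMulVec_mulVec, h2]; simp [h1, Int.cast_smul_eq_zsmul]
theorem vi.ix1 (h : vi 1 n a) : Cl.ix (n + 1) a := by grind [vi, Cl.ix]
theorem tc_TM (K : Type*) [CommRing K] (n : ℕ) : TC n (TM K (n + 1)) := fun {a b c d} h => by
  rw [TM.eq_1 K _ c, mul_vecMulVec, TM_w K _ _ h.ix1, smul_vecMulVec]; rfl
theorem TM_ne (K : Type*) [CommRing K] {R : Type*} [Ring R] [Module R K] {k : R} (ha : vi 1 n a) (hb : vi 1 n b)
    (h : k • TM K (n + 1) a b = 0) : k • (1 : K) = 0 := by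
  obtain ⟨x, h1, h2⟩ := wS_cases K ha.ix1
  obtain ⟨y, h3, -⟩ := wS_cases K hb.neg.ix1
  have := congrFun (congrFun h x) y
  simp only [TM, h2, Matrix.smul_apply, vecMulVec_apply, Pi.single_eq_same, one_mul, h3, neg_neg, gm, add_neg_cancel, if_true, sg] at this
  split_ifs at this <;> simpa using this
theorem TM_map (a b : ℤ) (m : ℕ) : (TM ℤ m a b).map (Int.castRingHom F) = TM F m a b := by
  ext x y; simp [TM, wS, wv, vecMulVec_apply]
theorem frameS (m : ℕ) (F : Type*) [Field F] : Frame (spForm m F) m (wS F m) ∧ ∀ y ∈ Wk (spForm m F) (wS F m) m, y = 0 := by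
  have h1 : ∀ y ∈ Wk (spForm m F) (wS F m) m, y = 0 := fun y hy => funext (by
    rintro (i | i)
    · simpa [wS, wvP_neg, spForm_B, sympForm_eq, Pi.single_apply, -neg_add_rev] using hy (i + 1) (by grind [ix])
    · simpa [wS, wvP_pos, spForm_B, sympForm_eq, Pi.single_apply, -neg_add_rev] using hy (-(i + 1)) (by grind [ix]))
  refine ⟨⟨fun ha => Form.symp_N _ _, fun ha hb => ?_, fun y hy _ => h1 y hy⟩, h1⟩
  obtain ⟨i, rfl | rfl⟩ := exists_cdP ha <;> obtain ⟨j, rfl | rfl⟩ := exists_cdP hb <;>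
    simp [wS, wvP_pos, wvP_neg, spForm_B, sympForm_eq, Pi.single_apply, -neg_add_rev] <;> grind
theorem TM_mulVec {m : ℕ} (a : ℤ) (hb : ix m b) (v : Fin m ⊕ Fin m → F) : TM F m a b *ᵥ v = -(spForm m F).B v (wS F m b) • wS F m a :=
  (frameS m F).1.ext (f := Matrix.toLin' (TM F m a b)) (g := -(spForm m F).rk _ _) (fun c hc => by
    simp only [toLin'_apply, TM_w F _ _ hc, LinearMap.neg_apply, Form.rk_apply, (frameS m F).1.B hc hb, ← neg_smul, ← Int.cast_smul_eq_zsmul F]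
    have := hb.1
    congr 1; simp only [gm, sg, add_comm c]; split_ifs <;> first | omega | simp | grind [ix]) (fun y hy => by simp [(frameS m F).2 y hy]) v |>.trans
    (neg_smul _ _).symm

theorem TC.h_T {B : Type*} [Ring B] [Algebra F B] {T : ℤ → ℤ → B} (q : TC n T) {hn : 1 ≤ n} (h : okC 1 n a b) (hc : vi 1 n c) (y : ℤ) (t : Fˣ) :
    (1 + ((t : F) - 1) • (eS T (mkC a b h) * eS T ((rs 1 hn).neg (mkC a b h))) +
      ((t : F)⁻¹ - 1) • (eS T ((rs 1 hn).neg (mkC a b h)) * eS T (mkC a b h))) * T c y = ((t ^ prw a b c : Fˣ) : F) • T c y := by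
  have h1 : a ≠ 0 ∧ b ≠ 0 := by grind [okC]
  simp only [q.ee_mk, q.ee_mk', add_mul, smul_mul_assoc, q.pj_mul h1.1 hc, q.pj_mul h1.2 hc, q.pj_mul (neg_ne_zero.2 h1.1) hc,
    q.pj_mul (neg_ne_zero.2 h1.2) hc, smul_smul, ← add_smul, one_mul]
  obtain ⟨e1, e2, e3⟩ | ⟨e1, e2, e3⟩ | ⟨e1, e2, e3⟩ : prw a b c = 1 ∧ 1 - nq a c + nq a b * (1 - nq b c) = 1 ∧ 1 - nq (-a) c + nq a b * (1 - nq (-b) c) = 0 ∨
    prw a b c = -1 ∧ 1 - nq a c + nq a b * (1 - nq b c) = 0 ∧ 1 - nq (-a) c + nq a b * (1 - nq (-b) c) = 1 ∨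
    prw a b c = 0 ∧ 1 - nq a c + nq a b * (1 - nq b c) = 0 ∧ 1 - nq (-a) c + nq a b * (1 - nq (-b) c) = 0 := by
    clear q; grind (splits := 20) [prw, nq, dl, okC]
  all_goals simp [e1, e2, e3, sub_smul]

theorem qzC (hn : 1 ≤ n) : (rs 1 hn).QZ (eS (TM ℤ (n + 1))) := TC.qz (tc_TM ℤ n) (fun a b k ha hb h => by simpa using TM_ne ℤ ha hb h) hn
theorem map_eS (r : RC τ n) : (Int.castRingHom F).mapMatrix (eS (TM ℤ (n + 1)) r) = eS (TM F (n + 1)) r := by
  simp only [eS, ts, map_zsmul, map_add, RingHom.mapMatrix_apply, TM_map]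

/-- the natural representation of type `C` -/
def qaC (hn : 1 ≤ n) (F : Type*) [Field F] : QA (qzC hn) F (Matrix (Fin (n + 1) ⊕ Fin (n + 1)) (Fin (n + 1) ⊕ Fin (n + 1)) F) where
  φ := (Int.castRingHom F).mapMatrix
  good := good (by omega)
  hc := hcC (by omega)
  ind := Fintype.linearIndependent_iff.2 fun g hg => by
    have h1 : ∀ x : ℤ, 0 < x → x ≤ n + 1 → ∑ i, g i * (prw (simC 1 hn i).1.1 (simC 1 hn i).1.2 x : F) = 0 := fun x h h' => by
      have hx : vi 1 n x := by grind [vi]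
      have := congrArg (· * TM F (n + 1) x x) hg
      simp only [RS.hq, map_sub, map_mul, map_eS, Finset.sum_mul, smul_mul_assoc, zero_mul] at this
      have h2 := fun i => TC.hq_T (hn := hn) (tc_TM F n) (simC 1 hn i).2.1 hx x
      simp only [mkC_eq, RS.hq] at h2
      simp only [sim_eq, h2, ← Int.cast_smul_eq_zsmul F, smul_smul, ← Finset.sum_smul] at this
      simpa using TM_ne F hx hx this
    exact congrFun (torus_C (A := Multiplicative F) (hn := hn) (c := fun i => .ofAdd (g i)) fun x h h' => Multiplicative.toAdd.injective (by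
      simpa [toAdd_prod, mul_comm] using h1 x h h'))

theorem eeC (hn : 1 ≤ n) (r : RC 1 n) : (qaC hn F).ee r = eS (TM F (n + 1)) r := map_eS r

/-- the Chevalley datum of type `C` -/
noncomputable abbrev cdC (hn : 1 ≤ n) : CD (Option (Fin n)) (RC 1 n) := (qzC hn).cd (hcC (by omega))

theorem isEichS (h : okC 1 n a b) (t : F) : (spForm (n + 1) F).IsEich (wS F _ a) ((t * nq a b) • wS F _ b) (t * (1 - nq a b)) :=
  ⟨Form.symp_N _ _, by simp [(frameS _ F).1.B h.r.ix1 h.l.ix1, show b + a ≠ 0 by grind [okC]], (Form.symp_N _ _).symm⟩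
theorem eeC_mulVec (hn : 1 ≤ n) (h : okC 1 n a b) (t : F) (v) : (1 + t • (qaC hn F).ee (mkC a b h)) *ᵥ v =
    (spForm (n + 1) F).eich _ _ _ (isEichS h (-(sg 0 (max a b) * t))) v := by
  simp only [eeC, eS_mk, ts, add_mulVec, smul_mulVec, one_mulVec, TM_mulVec _ h.l.ix1, TM_mulVec _ h.r.ix1, Form.eich_apply,
    Form.B_smul_right, ← Int.cast_smul_eq_zsmul F, Kind.symp_σ, Kind.symp_ε]
  by_cases e : a = b
  · simp only [e, nq, if_true]; module
  · simp only [e, nq, if_false]; module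

theorem exists_stC (hn : 1 ≤ n) (F : Type*) [Field F] : ∃ S : St (cdC hn) F (symplecticGroup (Fin (n + 1)) F), S.Gx = ⊤ ∧
    (∀ r t, (S.x r t).1 = 1 + t • eS (TM F (n + 1)) r) ∧ ∀ hm : S.HMul, Function.Injective hm.hT := by
  let y : RC 1 n → F → symplecticGroup (Fin (n + 1)) F := fun r t => ⟨1 + t • (qaC hn F).ee r, (mem_symplecticGroup_iff_form _).2 (r.ind fun a b h u v => by
    rw [eeC_mulVec, eeC_mulVec]; exact ((spForm (n + 1) F).eich_mem _ _ _ _).1 u v)⟩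
  obtain ⟨S, h1, h2, h3⟩ := (qaC hn F).exists_st (H := symplecticGroup (Fin (n + 1)) F) (Submonoid.subtype _) Subtype.val_injective y
    (fun _ _ => rfl) fun K hK => eq_top_iff.2 fun g _ => by
      have h4 : ∀ a b (h : okC 1 n a b) (t : F), (spForm (n + 1) F).eich _ _ _ (isEichS h t) ∈
          (K.map (spEquiv (n + 1) F).toMonoidHom).map (spForm (n + 1) F).Isom.subtype := fun a b h t =>
        ⟨_, ⟨_, hK (mkC a b h) (-(sg 0 (max a b) * t)), rfl⟩, LinearEquiv.ext fun v => (eeC_mulVec hn h _ v).trans (by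
          simp only [mul_neg, neg_neg, ← mul_assoc, ← Int.cast_mul, sg_sq, Int.cast_one, one_mul])⟩
      obtain ⟨_, ⟨g', h5, rfl⟩, h6⟩ := (frameS (n + 1) F).1.E_le (G := (K.map (spEquiv (n + 1) F).toMonoidHom).map (spForm (n + 1) F).Isom.subtype)
        (fun a ha => (frameS (n + 1) F).1.eich_mem (fun a b ha hb e e' t => by
          have := h4 a b (okC_of ha.vi hb.vi e e') t
          simp only [nq, if_neg e, Int.cast_one, mul_one] at this
          exact ⟨_, _, this⟩)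
        (fun a ha y hy c hc => by
          obtain rfl := (frameS _ F).2 y hy
          simpa [nq] using h4 a a (by clear h4 hK; grind [okC, ix]) c) ha)
        ((Form.symp_E_eq (spForm_nondeg _)).ge (spEquiv (n + 1) F g).2)
      exact (spEquiv (n + 1) F).injective (Subtype.ext h6) ▸ h5
  refine ⟨S, h1, fun r t => by rw [h2, ← eeC hn], fun hm => (injective_iff_map_eq_one _).2 fun c hc => torus_C (hn := hn) fun x h h' => ?_⟩
  have hx : vi 1 n x := by grind [vi]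
  have h4 : ∀ c, (hm.hT c).1 * TM F (n + 1) x x = (RS.chi c fun i => prw (simC 1 hn i).1.1 (simC 1 hn i).1.2 x : F) • TM F (n + 1) x x := fun c => by
    induction c using St.pi_units_induction with
    | h1 i c =>
      rw [hm.hT_single, RS.chi_mulSingle]
      refine (congrArg (· * _) (h3 _ _)).trans ?_
      have := TC.h_T (hn := hn) (tc_TM F n) (simC 1 hn i).2.1 hx x c
      simpa only [mkC_eq, eeC, sim_eq] using this
    | h0 => simp [RS.chi_one]
    | h2 a b ha hb => simp [map_mul, mul_assoc, ha, hb, RS.chi_mul, smul_smul, mul_comm]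
  have := h4 c
  rw [hc, OneMemClass.coe_one, one_mul, ← sub_eq_zero, ← one_smul F (TM F _ x x), smul_smul, mul_one, ← sub_smul] at this
  exact Units.ext (sub_eq_zero.1 ((smul_eq_zero.1 (TM_ne F hx hx this)).resolve_right one_ne_zero)).symm

section Perfect
variable {hn : 1 ≤ n} {A : Type*} [Ring A] {e : RC τ n → A} (q : (rs τ hn).QZ e) (hc) {G : Type*} [Group G] {S : St (q.cd hc) F G}

theorem add_mk0 (h1 : okC τ n a c) (h2 : okC τ n a 0) (h3 : okC τ n 0 c) :
    (rs τ hn).rv (mkC a c h1) = (rs τ hn).rv (mkC a 0 h2) + (rs τ hn).rv (mkC 0 c h3) := add_mk h1 h2 h3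
theorem one_mk (h1 : okC τ n a c) (h2 : okC τ n a b) (h3 : okC τ n (-b) c) (h : a ≠ b ∧ a ≠ c ∧ -b ≠ c ∧ b ≠ 0 ∧ (a = 0 ↔ c = 0)) :
    (q.cd hc).One (mkC a b h2) (mkC (-b) c h3) (mkC a c h1) :=
  q.one hc (add_mk _ _ _) (by simp only [ln_mk]; grind [okC]) (by simp only [ln_mk]; grind [okC])

theorem perfectO (hτ : τ ≠ 1) (h2 : 2 ≤ τ → 2 ≤ n) (hG : S.Gx = ⊤) (h : 2 ≤ n ∨ ∃ a : F, a ≠ 0 ∧ a ≠ 1) : commutator G = ⊤ := by
  by_cases h3 : ∃ c : Fˣ, c ^ 2 ≠ 1
  · exact St.perfect_of_sq hG h3.choose_spec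
  have h1 : ∀ a b (h : okC τ n a b), a ≠ 0 → b ≠ 0 → ∀ t, S.x (mkC a b h) t ∈ commutator G := fun a b h4 ha hb t => by
    by_cases e : 2 ≤ n
    · obtain ⟨z, i1, i2, i3⟩ := fresh [a, b] e
      simp only [List.mem_cons, List.not_mem_nil, or_false, forall_eq_or_imp, forall_eq] at i3
      obtain ⟨c, j1, j2⟩ := St.comm_one (S := S) (one_mk q hc h4 (b := z) (by grind [okC]) (by grind [okC]) (by grind [okC]))
      have := j2 c t
      rw [j1, one_mul] at this
      exact this ▸ Subgroup.commutator_mem_commutator (Subgroup.mem_top _) (Subgroup.mem_top _)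
    have i1 : okC τ n a 0 := by grind [okC]
    have i2 : okC τ n 0 b := by grind [okC]
    have i3 := add_mk0 (hn := hn) h4 i1 i2
    refine St.x_mem_commutator_of_ct (by rw [Ne, mkC_inj]; grind [okC]) (by rw [neg_mk, Ne, mkC_inj]; grind [okC])
      (q.ct_one hc i3 (by rw [pair_mk]; grind [okC, prw, dl]) (by rw [pair_mk]; grind [okC, prw, dl])) (fun f => ?_) (by simp) t
    have := congrArg (Int.cast : ℤ → F) (q.N_sq i3)
    rw [if_pos (by simp only [ln_mk]; grind [okC]), Int.cast_mul, f] at this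
    exact (three_of (h.resolve_left e) h3).2.2 (pow_eq_zero_iff two_ne_zero |>.1 (by simpa [show (2 : F) ^ 2 = 4 by norm_num] using this.symm))
  refine St.eq_top_of_sim hG fun i => ((rs τ hn).sim i).ind fun a b h4 t => ?_
  wlog ha : b ≠ 0 generalizing a b
  · rw [mkC_comm]; exact this _ _ _ (by grind [okC])
  by_cases e : a = 0
  swap
  · exact h1 a b h4 e ha t
  subst e
  obtain ⟨z, i1, i2, i3⟩ := fresh [b] hn
  simp only [List.mem_cons, List.not_mem_nil, or_false, forall_eq] at i3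
  have j1 : okC τ n 0 z := by grind [okC]
  have j2 : okC τ n (-z) b := by grind [okC]
  have j3 : okC τ n z b := by grind [okC]
  have i4 := add_mk (hn := hn) h4 j1 j2
  refine St.x_mem_commutator_of_ct (by rw [Ne, mkC_inj]; grind [okC]) (by rw [neg_mk, Ne, mkC_inj]; grind [okC])
    (q.ct_two hc (good h2) i4 (two_mkB j3 j1 j2)) (fun f => ?_) (by simpa using .inr (h1 _ _ _ i1.ne' ha)) t
  have := congrArg (Int.cast : ℤ → F) (q.N_sq i4)
  rw [if_neg (by simp only [ln_mk]; grind [okC]), Int.cast_mul, f] at this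
  simp at this

end Perfect

theorem OFrame.exists_pomega {V : Type*} [AddCommGroup V] [Module F V] {Φ : Form (Kind.orth F) V} {w : ℤ → V} (X : OFrame τ n Φ w) (hτ : τ ≠ 1)
    (hn : 1 ≤ n) (h : 2 ≤ τ → 2 ≤ n) (h' : 2 ≤ n ∨ ∃ a : F, a ≠ 0 ∧ a ≠ 1) : Nonempty ((X.qa hτ hn h).G ⧸ Subgroup.center _ ≃*
      commutator Φ.Isom ⧸ Subgroup.center (commutator Φ.Isom)) ∧ ⁅Φ.Isom, Φ.Isom⁆ = Φ.E := by
  obtain ⟨ψ, h1, h2, -⟩ := X.exists_spin hτ hn h
  have hG := (X.qa hτ hn h).S_Gx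
  have h3 : commutator Φ.E = ⊤ := perfectO _ _ hτ h (St.ofSurj_Gx hG ψ h1 h2) h'
  have h4 : ⁅Φ.Isom, Φ.Isom⁆ = Φ.E := le_antisymm (X.comm_le hn) fun g hg => Subgroup.commutator_mono Φ.E_le Φ.E_le
    (mem_commutator_subtype.1 (h3.ge (Subgroup.mem_top (⟨g, hg⟩ : Φ.E))))
  let e : commutator Φ.Isom ≃* Φ.E :=
    { toFun g := ⟨g.1.1, h4.le (mem_commutator_subtype.1 g.2)⟩
      invFun g := ⟨⟨g.1, Φ.E_le g.2⟩, mem_commutator_subtype.2 (h4.ge g.2)⟩
      left_inv _ := rfl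
      right_inv _ := rfl
      map_mul' _ _ := rfl }
  obtain ⟨e1⟩ := nonempty_central_quot ψ h1 (Subgroup.ext fun g => by
    rw [Subgroup.mem_comap, St.mem_center_iff hG, St.mem_center_iff (St.ofSurj_Gx hG ψ h1 h2),
      St.θ_comp (S' := St.ofSurj hG ψ h1 h2) hG rfl (fun _ _ => rfl)])
  obtain ⟨e2⟩ := nonempty_central_quot_equiv e
  exact ⟨⟨e1.trans e2.symm⟩, h4⟩

end Cfsg.Agent.Chev.Cl
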