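import Cfsg.Agent.Lib.Chev.TwSBN
import Cfsg.Agent.Lib.Chev.TypeA2
import Cfsg.Agent.Lib.Sz.Main
import Cfsg.Agent.Lib.Perm.GL2g

set_option autoImplicit false
set_option linter.unusedSectionVars false
set_option linter.style.haveILetI false

/-! Split `BN`-pairs of rank one, and the special linear groups. -/

namespace Cfsg.Agent.Chev
open BN
open Blk hiding pr

theorem exists_sbn_one {G : Type*} [Group G] [Finite G] {p : ℕ} [Fact p.Prime] {U H B : Subgroup G} {n : G} (hU : IsPGroup p U)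
    (hH : ¬ p ∣ Nat.card H) (h0 : ∀ b, b ∈ B ↔ ∃ u ∈ U, ∃ h ∈ H, b = u * h) (h1 : ∀ h ∈ H, ∀ u ∈ U, h * u * h⁻¹ ∈ U)
    (h2 : ∀ h ∈ H, n * h * n⁻¹ ∈ H) (h3 : n * n ∈ H) (h4 : ∀ g, g ∉ B → ∃ b ∈ B, ∃ b' ∈ B, g = b * n * b')
    (h5 : ∀ u ∈ U, n⁻¹ * u * n ∈ B → u = 1) (h6 : U ≠ ⊥) (h7 : B ⊓ Ce U ≤ U ⊔ Subgroup.center G) :
    ∃ P : SBN p G, P.U = U ∧ P.B = B ∧ B ≠ ⊤ := by
  have a1 : U ≤ B := fun u hu => (h0 u).2 ⟨u, hu, 1, one_mem _, by simp⟩
  have a2 : H ≤ B := fun u hu => (h0 u).2 ⟨1, one_mem _, u, hu, by simp⟩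
  have a3 : ∀ h ∈ H, n⁻¹ * h * n ∈ H := fun h hh => by simpa [mul_assoc] using mul_mem (mul_mem (inv_mem h3) (h2 h hh)) h3
  have a4 : n ∉ B := fun h => h6 (eq_bot_iff.2 fun u hu => h5 u hu (mul_mem (mul_mem (inv_mem h) (a1 hu)) h))
  let N : Subgroup G :=
    { carrier := {m | ∃ h ∈ H, m = h ∨ m = h * n}
      one_mem' := ⟨1, one_mem _, .inl rfl⟩
      mul_mem' := by
        rintro _ _ ⟨h, a, rfl | rfl⟩ ⟨k, b, rfl | rfl⟩
        exacts [⟨_, mul_mem a b, .inl rfl⟩, ⟨_, mul_mem a b, .inr (by group)⟩, ⟨_, mul_mem a (h2 _ b), .inr (by group)⟩,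
          ⟨_, mul_mem (mul_mem a (h2 _ b)) h3, .inl (by group)⟩]
      inv_mem' := by
        rintro _ ⟨h, a, rfl | rfl⟩
        exacts [⟨_, inv_mem a, .inl rfl⟩, ⟨_, mul_mem (a3 _ (inv_mem a)) (inv_mem h3), .inr (by group)⟩] }
  have a5 : n ∈ N := ⟨1, one_mem _, .inr (by simp)⟩
  have a6 : B ⊓ N = H := le_antisymm (by
    rintro _ ⟨a, h, b, rfl | rfl⟩
    exacts [b, absurd ((B.mul_mem_cancel_left (a2 b)).1 a) a4]) fun h a => ⟨a2 a, h, a, .inl rfl⟩
  have a7 : ∀ b ∈ B, ∀ u ∈ U, b * u * b⁻¹ ∈ U := fun b hb u hu => by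
    obtain ⟨v, a, h, c, rfl⟩ := (h0 b).1 hb
    simpa [mul_assoc] using mul_mem (mul_mem a (h1 h c u hu)) (inv_mem a)
  have a8 : B ≠ ⊤ := fun e => a4 (e ▸ trivial)
  have a9 : ∀ M, B ≤ M → n ∈ M → M = ⊤ := fun M a b => eq_top_iff.2 fun g _ => by_contra fun c => by
    obtain ⟨x, d, y, e, rfl⟩ := h4 g fun f => c (a f)
    exact c (mul_mem (mul_mem (a d) b) (a e))
  let P : SBN₀ p G :=
    { B := B, N := N, S := {n}, U := U, n₀ := ⟨n, a5⟩, pU := hU, U_le := a1, conj_U := a7, pH := a6 ▸ hH, sat := h5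
      sup_eq_top := a9 _ le_sup_left (Subgroup.mem_sup_right a5)
      conj_mem := by
        rw [a6]
        rintro _ ⟨h, a, rfl | rfl⟩ t b
        exacts [a2 (mul_mem (mul_mem a b) (inv_mem a)), by simpa [mul_assoc] using a2 (mul_mem (mul_mem a (h2 t b)) (inv_mem a))]
      subset := by simpa
      sq_mem := by simpa using a2 h3
      inj := by simp
      closure_sup := le_antisymm (sup_le (by simpa) inf_le_right) (by
        rw [a6]
        rintro _ ⟨h, a, rfl | rfl⟩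
        exacts [Subgroup.mem_sup_right a, mul_mem (Subgroup.mem_sup_right a) (Subgroup.mem_sup_left (Subgroup.subset_closure rfl))])
      mul_mem_union := by
        rintro _ ⟨⟩ _ ⟨h, a, rfl | rfl⟩ b c
        · exact .inl (DoubleCoset.mem_doubleCoset.2 ⟨1, one_mem _, _, mul_mem (mul_mem (inv_mem (a2 a)) c) (a2 a), by group⟩)
        by_cases d : n * b * (h * n) ∈ B
        · have := a2 (mul_mem (h2 h a) h3)
          exact .inl (DoubleCoset.mem_doubleCoset.2 ⟨_, d, _, inv_mem this, by group⟩)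
        · obtain ⟨x, e, y, f, i⟩ := h4 _ d
          exact .inr (DoubleCoset.mem_doubleCoset.2 ⟨_, mul_mem e (inv_mem (a2 a)), y, f, by rw [i]; group⟩)
      conj_ne := by
        rintro _ rfl e
        refine h6 (eq_bot_iff.2 fun u hu => h5 u hu ?_)
        simpa [mul_assoc] using mul_mem (inv_mem (a2 h3)) (e.le ⟨u, a1 hu, rfl⟩)
      split := fun b hb => a6 ▸ (h0 b).1 hb }
  refine ⟨{ P with bt := fun D a b => ?_, rad := fun M a b => ⟨U, le_rfl, ?_⟩ }, rfl, rfl, a8⟩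
  · obtain ⟨g, c⟩ := P.exists_conj_le a
    obtain ⟨⟨x, d⟩, e⟩ := Subgroup.ne_bot_iff_exists_ne_one.1 b
    refine ⟨g⁻¹, B, le_rfl, a8, fun m f => mem_cs.2 (by_contra fun i => e (Subtype.ext ?_))⟩
    obtain ⟨y, j, z, k, l⟩ := h4 _ i
    have := h5 _ (a7 _ (inv_mem j) _ (c x d)) (by
      have := mul_mem (mul_mem k (a1 (c _ ((Subgroup.mem_normalizer_iff''.1 f x).1 d)))) (inv_mem k)
      rwa [show z * (g * (m⁻¹ * x * m) * g⁻¹) * z⁻¹ = z * (g⁻¹⁻¹ * m * g⁻¹)⁻¹ * (g * x * g⁻¹) * (g⁻¹⁻¹ * m * g⁻¹) * z⁻¹ by group, l,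
        show z * (y * n * z)⁻¹ * (g * x * g⁻¹) * (y * n * z) * z⁻¹ = n⁻¹ * (y⁻¹ * (g * x * g⁻¹) * y⁻¹⁻¹) * n by group] at this)
    rwa [conj_eq_one_iff, conj_eq_one_iff] at this
  · obtain rfl : M = B := le_antisymm (fun g c => by_contra fun d => by
      obtain ⟨x, e, y, f, rfl⟩ := h4 g d
      exact b (a9 M a ((M.mul_mem_cancel_left (a e)).1 ((M.mul_mem_cancel_right (a f)).1 c)))) a
    exact ⟨Subgroup.le_normalizer_iff.2 a7, h7⟩

theorem _root_.Cfsg.Agent.Suz.SzS.exists_sbn {F : Type*} [Field F] [Finite F] [CharP F 2] {Γ : Type*} [Group Γ] [Finite Γ] (S : Suz.SzS F Γ) :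
    ∃ P : SBN 2 Γ, P.U = S.Q ∧ P.B = S.B ∧ S.B ≠ ⊤ := by
  refine exists_sbn_one (H := S.K) (n := S.w) S.isPGroup_Q (by rw [S.card_K]; exact S.odd_sub.not_two_dvd_nat)
    (fun b => ⟨fun h => ?_, ?_⟩) (fun h a u => S.conj_mem_Q (S.K_le_B a)) ?_ (by rw [S.w_w]; exact one_mem _) (fun g h => ?_)
    (fun u a b => by_contra fun c => S.w_not_mem_B (inv_mem_iff.1 (Suz.SzS.mem_B_of_conj a c (by simpa using b))))
    (fun e => S.s_ne (e.le (S.s_mem 0 1))) fun g h => Subgroup.mem_sup_left (Suz.SzS.mem_Q_of_comm (S.s_mem 0 1) S.s_ne (h.2 _ (S.s_mem 0 1)).symm)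
  · obtain ⟨a, b, t, rfl⟩ := Suz.SzS.exists_of_B h
    exact ⟨_, S.s_mem a b, _, S.d_mem t, rfl⟩
  · rintro ⟨u, a, h, c, rfl⟩
    exact mul_mem (S.Q_le_B a) (S.K_le_B c)
  · rintro _ ⟨t, rfl⟩
    exact ⟨t⁻¹, (S.w_conj t).symm⟩
  · obtain ⟨x, y, e⟩ := S.exists_pt h
    exact ⟨_, S.Q_le_B (S.s_mem x y), (S.s x y * S.w)⁻¹ * g, by
      rw [MulAction.mem_stabilizer_iff, mul_smul, inv_smul_eq_iff, e, mul_smul]; simp, by group⟩

section SL2
open Matrix
variable {F : Type*} [Field F]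

/-- upper unitriangular matrices -/
def sl2x : Multiplicative F →* SpecialLinearGroup (Fin 2) F where
  toFun t := ⟨!![1, t.toAdd; 0, 1], by simp⟩
  map_one' := Subtype.ext (by simp [one_fin_two])
  map_mul' a b := Subtype.ext (by change _ = (_ * _ : Matrix _ _ F); simp [add_comm])
/-- diagonal matrices -/
def sl2h : Fˣ →* SpecialLinearGroup (Fin 2) F where
  toFun t := ⟨!![(t : F), 0; 0, (t : F)⁻¹], by simp⟩
  map_one' := Subtype.ext (by simp [one_fin_two])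
  map_mul' a b := Subtype.ext (by change _ = (_ * _ : Matrix _ _ F); simp [mul_comm])
/-- the Weyl element -/
def sl2n : SpecialLinearGroup (Fin 2) F := ⟨!![0, 1; -1, 0], by simp⟩
/-- scalar matrices -/
def sl2z (c : F) (h : c * c = 1) : SpecialLinearGroup (Fin 2) F := ⟨!![c, 0; 0, c], by simpa⟩
@[simp] theorem sl2x_val (t : Multiplicative F) : (sl2x t).1 = !![1, t.toAdd; 0, 1] := rfl
@[simp] theorem sl2h_val (t : Fˣ) : (sl2h t).1 = !![(t : F), 0; 0, (t : F)⁻¹] := rfl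
@[simp] theorem sl2n_val : (sl2n (F := F)).1 = !![0, 1; -1, 0] := rfl
@[simp] theorem sl2z_val (c : F) (h : c * c = 1) : (sl2z c h).1 = !![c, 0; 0, c] := rfl

theorem exists_sbn_sl2 (F : Type*) [Field F] [Finite F] (p : ℕ) [Fact p.Prime] [CharP F p] :
    ∃ P : SBN p (SpecialLinearGroup (Fin 2) F), P.B ≠ ⊤ ∧ P.U = sl2x.range := by
  let B : Subgroup (SpecialLinearGroup (Fin 2) F) :=
    { carrier := {g | g.1 1 0 = 0}
      one_mem' := by simp
      mul_mem' := fun {a b} c d => by simp_all [mul_apply]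
      inv_mem' := fun {a} c => by simpa [adjugate_fin_two] using c }
  have hB : ∀ g, g ∈ B ↔ g.1 1 0 = 0 := fun _ => Iff.rfl
  have a0 : ∀ u ∈ (sl2x (F := F)).range, u ^ p = 1 := by
    rintro _ ⟨t, rfl⟩
    rw [← map_pow, show t ^ p = 1 from Multiplicative.toAdd.injective (by simp), map_one]
  have a1 : Function.Injective (sl2x (F := F)) := fun a b e => Multiplicative.toAdd.injective (congrArg (·.1 0 1) e)
  have det : ∀ g : SpecialLinearGroup (Fin 2) F, g.1 0 0 * g.1 1 1 - g.1 0 1 * g.1 1 0 = 1 := fun g => det_fin_two g.1 ▸ g.2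
  refine Exists.imp (fun P (a : P.U = sl2x.range ∧ P.B = B ∧ B ≠ ⊤) => ⟨a.2.1 ▸ a.2.2, a.1⟩) (exists_sbn_one (p := p) (U := sl2x.range) (H := sl2h.range) (B := B) (n := sl2n) (fun u => ⟨1, Subtype.ext (by simpa using a0 u u.2)⟩)
    (fun e => ?_) (fun b => ⟨fun e => ?_, ?_⟩) ?_ ?_ ⟨-1, Subtype.ext (by simp)⟩ (fun g e => ?_) ?_
    (fun e => by simpa using a1 ((e.le ⟨.ofAdd 1, rfl⟩ : _ = _).trans (map_one sl2x).symm)) fun g e => ?_)
  · have := Fintype.ofFinite F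
    have d := e.trans (Subgroup.card_range_dvd sl2h)
    rw [Nat.card_units, Nat.card_eq_fintype_card] at d
    exact (Fact.out : p.Prime).not_dvd_one ((Nat.dvd_sub_iff_right Fintype.card_pos
      ((CharP.cast_eq_zero_iff F p _).1 (FiniteField.cast_card_eq_zero F))).1 d)
  · have d := det b
    rw [(hB b).1 e, mul_zero, sub_zero] at d
    refine ⟨_, ⟨.ofAdd (b.1 0 1 * b.1 0 0), rfl⟩, _, ⟨.mk0 _ (left_ne_zero_of_mul_eq_one d), rfl⟩, Subtype.ext ?_⟩
    ext i j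
    fin_cases i <;> fin_cases j <;> simp [(hB b).1 e, left_ne_zero_of_mul_eq_one d, eq_inv_of_mul_eq_one_right d]
  · rintro ⟨_, ⟨t, rfl⟩, _, ⟨c, rfl⟩, rfl⟩
    simp [hB]
  · rintro _ ⟨c, rfl⟩ _ ⟨t, rfl⟩
    exact ⟨.ofAdd (c * t.toAdd * c), eq_mul_inv_of_mul_eq (Subtype.ext (by simp))⟩
  · rintro _ ⟨c, rfl⟩
    exact ⟨c⁻¹, eq_mul_inv_of_mul_eq (Subtype.ext (by simp))⟩
  · refine ⟨sl2x (.ofAdd (g.1 0 0 / g.1 1 0)), by simp [hB], (sl2x (.ofAdd (g.1 0 0 / g.1 1 0)) * sl2n)⁻¹ * g, ?_, by group⟩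
    simp [hB, adjugate_fin_two, vecMul, dotProduct, div_mul_cancel₀ _ (mt (hB g).2 e)]
  · rintro _ ⟨t, rfl⟩ e
    rw [show t = 1 from Multiplicative.toAdd.injective (by simpa [hB, adjugate_fin_two] using e), map_one]
  · have d := det g
    have f := congrArg (·.1 0 1) (e.2 _ ⟨.ofAdd 1, rfl⟩)
    have i := (hB g).1 e.1
    simp [mul_apply, vecMul, dotProduct] at f
    rw [i, mul_zero, sub_zero] at d
    have j : g.1 1 1 = g.1 0 0 := by linear_combination f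
    rw [show g = sl2x (.ofAdd (g.1 0 1 * g.1 0 0)) * sl2z _ (j ▸ d : g.1 0 0 * g.1 0 0 = 1) from Subtype.ext (by
      ext a b
      fin_cases a <;> fin_cases b <;> simp [i, j, mul_assoc, show g.1 0 0 * g.1 0 0 = 1 from j ▸ d])]
    refine Subgroup.mul_mem_sup ⟨_, rfl⟩ (Subgroup.mem_center_iff.2 fun y => Subtype.ext ?_)
    ext a b
    fin_cases a <;> fin_cases b <;> simp [mul_apply, vecMul, dotProduct, mul_comm]

open Cfsg.Agent.Perm.GL2 in
theorem sl2_eq_StS [Fintype F] [DecidableEq F] (p : ℕ) [Fact p.Prime] [CharP F p] {χ : SpecialLinearGroup (Fin 2) F → ℂ} (hχ : IsIrrCharacter _ χ) {d : ℕ}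
    (hd : χ 1 = d) (h : p ∣ d) : χ = StS F := by
  obtain ⟨e, he⟩ := exists_ell (F := F)
  have a := (CharP.cast_eq_zero_iff F p _).1 (FiniteField.cast_card_eq_zero F)
  have b := (Fact.out : p.Prime).not_dvd_one
  rcases irr_SL2 he hχ with c | c | c | c | c | c
  · exact absurd ((show d = 1 by simpa [c] using hd.symm) ▸ h) b
  · exact c
  · rw [(famWS_irr c).2] at hd
    exact absurd ((Nat.dvd_add_right a).1 ((show Fintype.card F + 1 = d by exact_mod_cast hd) ▸ h)) b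
  · rw [(famXS_irr c).2, sub_eq_iff_eq_add] at hd
    exact absurd ((Nat.dvd_add_right h).1 ((show Fintype.card F = d + 1 by exact_mod_cast hd) ▸ a)) b
  · rw [(halfW_irr c).2.1, div_eq_iff two_ne_zero] at hd
    exact absurd ((Nat.dvd_add_right a).1 ((show Fintype.card F + 1 = d * 2 by exact_mod_cast hd) ▸ h.mul_right 2)) b
  · rw [(halfX_irr c).2.1, div_eq_iff two_ne_zero, sub_eq_iff_eq_add] at hd
    exact absurd ((Nat.dvd_add_right (h.mul_right 2)).1 ((show Fintype.card F = d * 2 + 1 by exact_mod_cast hd) ▸ a)) b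

theorem St.B_ne_top {I R : Type} [Fintype I] [DecidableEq I] [Fintype R] [DecidableEq R] {Φ : CD I R} {G : Type*} [Group G] (S : St Φ F G)
    (i : I) : S.B ≠ ⊤ := fun e => St.n_not_mem_B i 1 (e.ge trivial)

theorem exists_sbn_sl {n : ℕ} (hn : 2 ≤ n) (F : Type*) [Field F] [Fintype F] (p : ℕ) [Fact p.Prime] [CharP F p] :
    ∃ P : SBN p (SpecialLinearGroup (Fin n) F), P.B ≠ ⊤ ∧ ∀ χ ψ : IrrCharacter (SpecialLinearGroup (Fin n) F),
      nu p χ = (Nat.card (SpecialLinearGroup (Fin n) F)).factorization p → nu p ψ = (Nat.card (SpecialLinearGroup (Fin n) F)).factorization p →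
        χ = ψ := by
  classical
  obtain rfl | hn := hn.eq_or_lt
  · obtain ⟨P, a, b⟩ := exists_sbn_sl2 F p
    have c : (Nat.card (SpecialLinearGroup (Fin 2) F)).factorization p ≠ 0 := fun e => by
      have := P.syl.card_eq_multiplicity
      rw [e, pow_zero, Subgroup.card_eq_one] at this
      simpa using congrArg (·.1 0 1) ((b.symm.trans this).le ⟨.ofAdd 1, rfl⟩ : _ = _)
    exact ⟨P, a, fun χ ψ d e => Subtype.ext ((sl2_eq_StS p χ.2 χ.2.isCharacter.cast_charDegree.symm (Nat.dvd_of_factorization_pos (d.trans_ne c))).trans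
      (sl2_eq_StS p ψ.2 ψ.2.isCharacter.cast_charDegree.symm (Nat.dvd_of_factorization_pos (e.trans_ne c))).symm)⟩
  obtain ⟨n, rfl⟩ : ∃ m, n = m + 1 := ⟨n - 1, by omega⟩
  obtain ⟨S, h, -⟩ := exists_stA (n := n) (by omega) F
  have := Fintype.ofFinite (SpecialLinearGroup (Fin (n + 1)) F)
  exact ⟨St.sbn p h (goodA (by omega)).conn, S.B_ne_top ⟨0, by omega⟩, fun χ ψ d e => Subtype.ext
    ((St.eq_stein h p χ.2 χ.2.isCharacter.cast_charDegree.symm (d ▸ Nat.ordProj_dvd _ _)).trans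
      (St.eq_stein h p ψ.2 ψ.2.isCharacter.cast_charDegree.symm (e ▸ Nat.ordProj_dvd _ _)).symm)⟩

end SL2

theorem SBN₀.card_zero {G : Type*} [Group G] [Finite G] {p : ℕ} [Fact p.Prime] (P : SBN₀ p G) (h : ∀ χ ψ : IrrCharacter G,
    nu p χ = (Nat.card G).factorization p → nu p ψ = (Nat.card G).factorization p → χ = ψ) {M : Ideal AlgInt} (hM : IsPModular p M) :
    Nat.card {B : Set (IrrCharacter G) // IsPBlock M B ∧ blockDefect p B = 0} = 1 := by
  have : PMod M p := ⟨hM⟩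
  obtain ⟨χ, a, b⟩ := P.exists_stein
  have c : nu p ⟨χ, a⟩ = (Nat.card G).factorization p := by
    change (charDegree χ).factorization p = _
    rw [charDegree, (b P.syl).1, Complex.natCast_re, Nat.floor_natCast, Sylow.card_eq_multiplicity,
      Nat.factorization_pow_self Fact.out]
  refine Nat.card_eq_one_iff_exists.2 ⟨⟨_, isPBlock_blockOf ⟨χ, a⟩, ((isPBlock_blockOf _).defect_eq_zero_iff (mem_blockOf_self _)).2 c⟩,
    fun ⟨B, d, e⟩ => Subtype.ext ?_⟩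
  obtain ⟨ψ, f⟩ := d.nonempty
  exact h _ _ ((d.defect_eq_zero_iff f).1 e) c ▸ d.eq_blockOf f

/-- the split `BN`-pair of the central quotient -/
noncomputable def SBN.quot {G : Type*} [Group G] [Finite G] {p : ℕ} [Fact p.Prime] (P : SBN p G) : SBN p (G ⧸ Subgroup.center G) :=
  P.map (QuotientGroup.mk'_surjective _) (QuotientGroup.ker_mk' _).le

end Cfsg.Agent.Chev
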