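import Cfsg.Agent.Lib.Chev.Cl5
import Cfsg.Agent.Lib.Chev.Rk1SBN
import Cfsg.Agent.Lib.Classical.Klein2
import Cfsg.Agent.Lib.Char.FS
import Cfsg.Agent.S0244

set_option autoImplicit false
set_option linter.unusedSectionVars false
set_option linter.style.haveILetI false

/-! Split `BN`-pairs in the classical groups. -/

namespace Cfsg.Agent.Chev
open Cfsg.Agent.Classical Matrix

/-- there is an irreducible character of degree `|G|_p` -/
def Stein (p : ℕ) (G : Type*) [Group G] : Prop := ∃ χ : G → ℂ, IsIrrCharacter G χ ∧ χ 1 = (p ^ (Nat.card G).factorization p : ℕ)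
/-- there is a proper split `BN`-pair -/
def LieT (p : ℕ) (G : Type*) [Group G] : Prop := ∃ P : SBN p G, P.B ≠ ⊤

section
variable {p : ℕ} {G G' : Type*} [Group G] [Group G'] [Finite G] [Fact p.Prime]

theorem Stein.out (h : Stein p G) : ∃ χ : G → ℂ, IsIrrCharacter G χ ∧ ∀ Q : Sylow p G, χ 1 = Nat.card Q ∧ ∀ x : G, x ∈ Q → x ≠ 1 → χ x = 0 := by
  obtain ⟨χ, h1, h2⟩ := h
  refine ⟨_, h1, fun Q => ⟨Q.card_eq_multiplicity ▸ h2, fun x hx h => h1.eq_zero_of_defect_zero Fact.out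
    (Nat.pow_succ_factorization_not_dvd Nat.card_pos.ne' Fact.out) h2 dvd_rfl ?_⟩⟩
  obtain ⟨k, hk⟩ := IsPGroup.iff_orderOf.1 Q.2 ⟨x, hx⟩
  rw [Subgroup.orderOf_mk] at hk
  exact hk ▸ dvd_pow_self p (by rintro rfl; exact h (by simpa using hk))
theorem LieT.stein (h : LieT p G) : Stein p G := by
  obtain ⟨P, -⟩ := h
  obtain ⟨χ, h1, h2⟩ := P.toSBN₀.exists_stein
  exact ⟨χ, h1, P.syl.card_eq_multiplicity ▸ (h2 _).1⟩
theorem Stein.comp (h : Stein p G') (f : G →* G') (hf : Function.Surjective f) (hk : ¬ p ∣ Nat.card f.ker) : Stein p G := by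
  obtain ⟨χ, h1, h2⟩ := h
  have := Finite.of_surjective f hf
  refine ⟨_, h1.comp_surjective f hf, ?_⟩
  rw [map_one, h2, ← f.ker.card_mul_index, Subgroup.index_ker, f.range_eq_top_of_surjective hf, Subgroup.card_top,
    Nat.factorization_mul Nat.card_pos.ne' Nat.card_pos.ne', Finsupp.add_apply, Nat.factorization_eq_zero_of_not_dvd hk, zero_add]
theorem Stein.congr (h : Stein p G) (e : G' ≃* G) : Stein p G' :=
  have := Finite.of_equiv _ e.symm.toEquiv
  h.comp e.toMonoidHom e.surjective (by simpa [(MonoidHom.ker_eq_bot_iff e.toMonoidHom).2 e.injective, -MulEquiv.toMonoidHom_eq_coe] using (Fact.out : p.Prime).ne_one)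
theorem Stein.prod [Finite G'] (h : Stein p G) (h' : Stein p G') : Stein p (G × G') := by
  obtain ⟨χ, h1, h2⟩ := h
  obtain ⟨ψ, h3, h4⟩ := h'
  exact ⟨_, h1.prod h3, by simp [h2, h4, Nat.factorization_mul Nat.card_pos.ne' Nat.card_pos.ne', pow_add]⟩
theorem Stein.of_not_dvd (h : ¬ p ∣ Nat.card G) : Stein p G :=
  ⟨_, Char.isIrrCharacter_one, by simp [Nat.factorization_eq_zero_of_not_dvd h]⟩

theorem LieT.map (h : LieT p G) {φ : G →* G'} (hs : Function.Surjective φ) (hk : φ.ker ≤ Subgroup.center G) : LieT p G' := by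
  obtain ⟨P, h⟩ := h
  refine ⟨P.map hs hk, fun e => h ?_⟩
  rw [← Subgroup.comap_map_eq_self ((hk.trans P.center_le).trans inf_le_left), show P.B.map φ = ⊤ from e, Subgroup.comap_top]
theorem LieT.congr (h : LieT p G) (e : G ≃* G') : LieT p G' :=
  h.map (φ := e.toMonoidHom) e.surjective (((MonoidHom.ker_eq_bot_iff e.toMonoidHom).2 e.injective).le.trans bot_le)
theorem LieT.quot (h : LieT p G) : LieT p (G ⧸ Subgroup.center G) := h.map (QuotientGroup.mk'_surjective _) (QuotientGroup.ker_mk' _).le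
theorem St.lieT {I R : Type} [Fintype I] [DecidableEq I] [Fintype R] [DecidableEq R] {Φ : CD I R} {F : Type*} [Field F] [Finite F] [CharP F p]
    {G : Type*} [Group G] {S : St Φ F G} (hG : S.Gx = ⊤) (hc : Φ.Conn) (i : I) : LieT p G :=
  have := St.finite_of_Gx hG
  ⟨St.sbn p hG hc, S.B_ne_top i⟩
end

theorem lieT_sl {n : ℕ} (hn : 2 ≤ n) (F : Type*) [Field F] [Fintype F] (p : ℕ) [Fact p.Prime] [CharP F p] :
    LieT p (SpecialLinearGroup (Fin n) F) := (exists_sbn_sl hn F p).imp fun _ h => h.1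

theorem sp2_equiv (F : Type*) [Field F] : Nonempty (SpecialLinearGroup (Fin 2) F ≃* symplecticGroup (Fin 1) F) :=
  let e := reindexAlgEquiv F F (finSumFinEquiv (m := 1) (n := 1))
  ⟨{ toFun g := ⟨e.symm g.1, (S0244.result _).2 (by simp [e])⟩
     invFun g := ⟨e g.1, by simpa [e] using (S0244.result _).1 g.2⟩
     left_inv g := Subtype.ext (e.apply_symm_apply _)
     right_inv g := Subtype.ext (e.symm_apply_apply _)
     map_mul' a b := Subtype.ext (map_mul e.symm _ _) }⟩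

namespace Cl
variable {τ n : ℕ} {F : Type*} [Field F]

theorem conn {hn : 1 ≤ n} (h : 2 ≤ τ → 2 ≤ n) : (rs τ hn).Conn := by
  refine RS.conn_of_full (θ := mkC 1 (if 2 ≤ τ then n else n + 1) (by grind [okC])) ?_
  rintro (_ | j) <;> simp only [rv_mk, coC, psC] <;> grind

theorem OFrame.exists_st {ι : Type} [Fintype ι] [DecidableEq ι] {Φ : Form (Kind.orth F) (ι → F)} {w : ℤ → ι → F} (X : OFrame τ n Φ w) (hτ : τ ≠ 1)
    (hn : 1 ≤ n) (h : 2 ≤ τ → 2 ≤ n) (h' : 2 ≤ n ∨ ∃ a : F, a ≠ 0 ∧ a ≠ 1) :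
    Nonempty ((X.qa hτ hn h).G ⧸ Subgroup.center _ ≃* POmega F Φ.N) :=
  ⟨(X.exists_pomega hτ hn h h').1.some.trans (nonempty_POmega Φ).some.symm⟩

variable (F) [Fintype F] (p : ℕ) [Fact p.Prime] [CharP F p]
theorem lieT_sp {m : ℕ} (hm : 1 ≤ m) : LieT p (symplecticGroup (Fin m) F) := by
  obtain rfl | h := hm.eq_or_lt
  · exact (lieT_sl le_rfl F p).congr (sp2_equiv F).some
  obtain ⟨n, rfl⟩ : ∃ n, m = n + 1 := ⟨m - 1, by omega⟩
  obtain ⟨S, h1, -⟩ := exists_stC (n := n) (by omega) F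
  exact St.lieT h1 (conn (by omega)) none
theorem OFrame.lieT {ι : Type} [Fintype ι] [DecidableEq ι] {Φ : Form (Kind.orth F) (ι → F)} {w : ℤ → ι → F} (X : OFrame τ n Φ w) (hτ : τ ≠ 1)
    (hn : 1 ≤ n) (h : 2 ≤ τ → 2 ≤ n) (h' : 2 ≤ n ∨ ∃ a : F, a ≠ 0 ∧ a ≠ 1) : LieT p (POmega F Φ.N) :=
  have := St.finite_of_Gx (X.qa hτ hn h).S_Gx
  (St.lieT (X.qa hτ hn h).S_Gx (conn h) none).quot.congr (X.exists_st hτ hn h h').some
theorem lieT_odd (hodd : Odd (Fintype.card F)) {m : ℕ} (hm : 1 ≤ m) : LieT p (POmega F (quadFormOdd m F)) := by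
  obtain rfl | h := hm.eq_or_lt
  · exact (lieT_sl le_rfl F p).quot.congr (iso_three (two_ne_zero_of_odd hodd)).some.symm
  obtain ⟨n, rfl⟩ : ∃ n, m = n + 1 := ⟨m - 1, by omega⟩
  exact (frameO n F).lieT F p (by omega) (by omega) (by omega) (.inr ⟨-1, by simp, fun e => two_ne_zero_of_odd hodd (by linear_combination -e)⟩)
theorem lieT_plus {m : ℕ} (hm : 3 ≤ m) : LieT p (POmega F (quadFormPlus m F)) := by
  obtain ⟨n, rfl⟩ : ∃ n, m = n + 1 := ⟨m - 1, by omega⟩
  exact (frameP n F).lieT F p (by omega) (by omega) (by omega) (.inl (by omega))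

end Cl
end Cfsg.Agent.Chev
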