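import Cfsg.Agent.Lib.Chev.Cl6

set_option autoImplicit false
set_option linter.unusedSectionVars false
set_option linter.style.haveILetI false

/-! The Chevalley groups of types `B₂` and `D₄` are orthogonal groups. -/

namespace Cfsg.Agent.Chev.Cl
open Cfsg.Agent.Classical Cfsg.Lie

variable {τ n : ℕ} {F : Type*} [Field F] {x y w e f : ℤ}

instance (τ n : ℕ) (a b : ℤ) : Decidable (okC τ n a b) := by unfold okC; infer_instance
/-- normal form of a signed monomial -/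
def nv (a b e : ℤ) : ℤ × ℤ × ℤ := if a ≤ b then (a, b, e) else (b, a, -e)
/-- the terms of the commutator formula -/
def ex (x y e w f : ℤ) : List ((ℤ × ℤ × ℤ) × ℕ × ℕ) := if x = w then [] else (nv x w (e * f * bt y (-y)), 1, 1) ::
  if x = 0 then [(nv y w (-f), 2, 1)] else if w = 0 then [(nv (-y) x e, 1, 2)] else []
/-- the value of a signed monomial -/
def vl {B : Type*} [Ring B] (u : ℤ → B) (p : ℤ × ℤ × ℤ) : B := p.2.2 • (u p.1 * u p.2.1)

namespace CAR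
variable {B : Type*} [Ring B] [Algebra F B] {u : ℤ → B} (q : CAR τ n u)
include q
theorem vl_swap (h : okC τ n x y) (e : ℤ) : vl u (y, x, -e) = vl u (x, y, e) := by simp [vl, q.anti h.l h.r h.2.2.2.2.1, -zsmul_eq_mul]
theorem vl_nv (h : okC τ n x y) (e : ℤ) : vl u (nv x y e) = vl u (x, y, e) := by
  unfold nv; split_ifs; exacts [rfl, q.vl_swap h e]
theorem tri0 (h : okC τ n x y) (h' : okC τ n (-y) w) (hτ : τ ≠ 1) (h1 : x + w ≠ 0) :
    u x * u y * (u (-y) * u w) - u (-y) * u w * (u x * u y) = bt y (-y) • (u x * u w) ∧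
    u x * u y * (u (-y) * u w) * (u x * u y) = if x = 0 then u y * u w else 0 := by
  have h2 := q.cm2 h.l h.r h'.l h'.r
  rw [show bt x (-y) = 0 by grind [bt, okC], show bt x w = 0 by grind [bt], show bt y w = 0 by grind [bt, okC]] at h2
  simp only [zero_smul, sub_zero, add_zero] at h2
  refine ⟨h2, ?_⟩
  rw [sub_eq_iff_eq_add.1 h2, add_mul, mul_assoc (u (-y) * u w), q.sq_mk hτ h, mul_zero, add_zero, smul_mul_assoc, mul_assoc (u x), ← mul_assoc (u w),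
    q.anti h.l h'.r h1, neg_mul, mul_neg, mul_assoc (u x), ← mul_assoc (u x), q.sq h.l]
  split_ifs with e
  · rw [q.anti h.r h'.r (by grind [okC]), show bt y (-y) = 1 by grind [bt, okC]]; simp
  · simp
theorem comm_ex (h : okC τ n x y) (h' : okC τ n (-y) w) (hτ : τ ≠ 1) (h1 : x + w ≠ 0) (he : e * e = 1) (hf : f * f = 1) (t s : F) :
    (1 + s • vl u (-y, w, f)) * (1 + t • vl u (x, y, e)) = (1 + t • vl u (x, y, e)) * (1 + s • vl u (-y, w, f)) *
      ((ex x y e w f).map fun c => 1 + ((-t) ^ c.2.1 * s ^ c.2.2) • vl u c.1).prod := by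
  obtain ⟨h2, h3⟩ := q.tri0 h h' hτ h1
  have h4 := (q.tri0 (y := -y) h'.symm (by simpa using h.symm) hτ (add_comm x w ▸ h1)).2
  rw [neg_neg, q.anti h'.l h'.r h'.2.2.2.2.1, q.anti h.l h.r h.2.2.2.2.1] at h4
  simp only [mul_neg, neg_mul, neg_neg, neg_eq_iff_eq_neg] at h4
  have i1 : t • vl u (x, y, e) * s • vl u (-y, w, f) - s • vl u (-y, w, f) * t • vl u (x, y, e) = (t * s) • vl u (x, w, e * f * bt y (-y)) := by
    simp only [vl, smul_mul_smul_comm, mul_smul (e * f), ← h2, mul_comm f, mul_comm s, smul_sub]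
  have i2 : t • vl u (x, y, e) * s • vl u (-y, w, f) * t • vl u (x, y, e) = (t ^ 2 * s) • if x = 0 then vl u (y, w, f) else 0 := by
    simp only [vl, smul_mul_smul_comm, h3, mul_right_comm e, he, one_mul, mul_right_comm t, pow_two, smul_ite, smul_zero]
  have i3 : s • vl u (-y, w, f) * t • vl u (x, y, e) * s • vl u (-y, w, f) = (t * s ^ 2) • if w = 0 then vl u (-y, x, -e) else 0 := by
    simp only [vl, smul_mul_smul_comm, h4, mul_right_comm f e, hf, one_mul, mul_comm s t, mul_assoc t, pow_two]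
    split_ifs <;> simp [-zsmul_eq_mul]
  rw [comm_ring_aux (by simp only [vl, smul_mul_smul_comm, q.sq_mk hτ h, smul_zero]) (by simp only [vl, smul_mul_smul_comm, q.sq_mk hτ h', smul_zero])
    (by rw [i2, i3]; split_ifs <;> simp; omega), i1, i2, i3, ex]
  congr 1
  by_cases e1 : x = w
  · subst e1
    simp [vl, q.sq h.l, show x ≠ 0 by omega]
  have h5 : okC τ n x w := by grind [okC]
  simp only [if_neg e1, List.map_cons, List.prod_cons, q.vl_nv h5, pow_one, neg_mul, neg_smul, sub_eq_add_neg]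
  congr 1
  by_cases e2 : x = 0
  · simp only [e2, if_true, List.map_cons, List.prod_cons, q.vl_nv (x := y) (y := w) (by grind [okC])]
    simp [show w ≠ 0 by omega, vl, -zsmul_eq_mul]
  by_cases e3 : w = 0
  · simp only [e2, e3, if_true, if_false, List.map_cons, List.prod_cons, q.vl_nv (x := -y) (y := x) (by grind [okC])]
    simp [vl, -zsmul_eq_mul]
  simp [e2, e3]
end CAR

/-- a matching of roots and structure constants -/
def Mt (D : ChevalleyDatum) (τ n : ℕ) (T : ℕ → ℤ × ℤ × ℤ) : Prop :=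
  (∀ r < D.nroots, okC τ n (T r).1 (T r).2.1 ∧ (T r).2.2 * (T r).2.2 = 1) ∧
  (∀ a < 2 * n + 3, ∀ b < 2 * n + 3, a ≤ b → okC τ n (a - (n + 1)) (b - (n + 1)) →
    ∃ r < D.nroots, (T r).1 = a - (n + 1) ∧ (T r).2.1 = b - (n + 1)) ∧
  ∀ r < D.nroots, ∀ s < D.nroots, s ≠ r → s ≠ D.negIdx.getD r 0 →
    ((T r).1 + (T s).1 ≠ 0 ∧ (T r).1 + (T s).2.1 ≠ 0 ∧ (T r).2.1 + (T s).1 ≠ 0 ∧ (T r).2.1 + (T s).2.1 ≠ 0) ∧ D.commTerms r s = [] ∨
    ∃ p ∈ [T r, ((T r).2.1, (T r).1, -(T r).2.2)], ∃ p' ∈ [T s, ((T s).2.1, (T s).1, -(T s).2.2)], p'.1 = -p.2.1 ∧ p.1 + p'.2.1 ≠ 0 ∧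
      (D.commTerms r s).map (fun c => (nv (T c.1).1 (T c.1).2.1 (c.2.1 * (T c.1).2.2), c.2.2)) = ex p.1 p.2.1 p.2.2 p'.2.1 p'.2.2
set_option synthInstance.maxSize 2000 in
instance (D : ChevalleyDatum) (τ n : ℕ) (T : ℕ → ℤ × ℤ × ℤ) : Decidable (Mt D τ n T) := by unfold Mt; infer_instance

theorem _root_.Cfsg.Agent.Chev.St.center_bot {I R : Type} [Fintype I] [DecidableEq I] [Fintype R] [DecidableEq R] {Φ : CD I R} {G : Type*} [Group G]
    {S : St Φ F G} (a : S.Gx = ⊤) (b : Function.Injective S.θ) : Subgroup.center G = ⊥ :=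
  eq_bot_iff.2 fun _ hg => b (((St.mem_center_iff a).1 hg).trans (map_one _).symm)

theorem _root_.Cfsg.Agent.Chev.Checked.iso_of_rel {D : ChevalleyDatum} {c : Cert} (H : Checked D c) (hc : H.toRS.Conn) (h0 : 0 < D.rank)
    (hp : commutator (D.group F) = ⊤) {I R : Type} [Fintype I] [DecidableEq I] [Fintype R] [DecidableEq R] {Φ : CD I R} {G : Type*} [Group G]
    {S : St Φ F G} (hG : S.Gx = ⊤) (i : I) {y : Fin D.nroots → F → G} (h2 : H.toCD.Rel y) (h3 : ∀ r t, ∃ r' t', S.x r t = y r' t') :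
    Nonempty (D.group F ≃* G ⧸ Subgroup.center G) := by
  obtain ⟨φ, h4⟩ := H.adj_lift (h2.map (QuotientGroup.mk' (Subgroup.center _))) fun g _ hg =>
    St.eq_one_of_commute (St.quot_inj hG) ((St.quot_Gx hG).ge trivial) fun r t => by
      obtain ⟨r', t', e⟩ := h3 r t
      rw [← St.quot_x, e]; exact hg r' t'
  have h5 : Function.Surjective φ := MonoidHom.range_eq_top.1 (eq_top_iff.2 ((St.quot_Gx hG).ge.trans (St.Ux_le.2 fun r _ t => by
    obtain ⟨r', t', e⟩ := h3 r t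
    exact ⟨_, (h4 r' t').trans (e ▸ St.quot_x hG r t)⟩)))
  have : Nontrivial (G ⧸ Subgroup.center G) := ⟨by
    by_contra! a
    exact (St.quot hG).B_ne_top i (eq_top_iff.2 fun g _ => a 1 g ▸ one_mem _)⟩
  have : Nonempty (Fin D.rank) := ⟨⟨0, h0⟩⟩
  have h6 := St.ker_eq_center (H.adj_Gx (K := F)) hc hp (St.center_bot (St.quot_Gx hG) (St.quot_inj hG)) h5
  rw [St.center_bot (H.adj_Gx (K := F)) H.adj_inj, MonoidHom.ker_eq_bot_iff] at h6
  exact ⟨MulEquiv.ofBijective φ ⟨h6, h5⟩⟩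

theorem OFrame.iso_of_mt {ι : Type} [Fintype ι] [DecidableEq ι] {Φ : Form (Kind.orth F) (ι → F)} {w : ℤ → ι → F} (X : OFrame τ n Φ w) (hτ : τ ≠ 1)
    (hn : 1 ≤ n) (h : 2 ≤ τ → 2 ≤ n) (h' : 2 ≤ n ∨ ∃ a : F, a ≠ 0 ∧ a ≠ 1) {D : ChevalleyDatum} {c : Cert} (H : Checked D c)
    (hc : H.toRS.Conn) (h0 : 0 < D.rank) (hp : commutator (D.group F) = ⊤) {T : ℕ → ℤ × ℤ × ℤ} (hT : Mt D τ n T) :
    Nonempty (D.group F ≃* POmega F Φ.N) := by
  let Q := X.qa hτ hn h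
  let u := fun a => CliffordAlgebra.ι Φ.toQuad (w a)
  let y : Fin D.nroots → F → Q.G := fun r t => Q.S.x (mkC _ _ (hT.1 r r.2).1) (((T r).2.2 * sg (T r).1 (T r).2.1 : ℤ) * t)
  have h1 : ∀ r t, Q.v (y r t) = 1 + t • vl u (T r) := fun r t => by
    rw [Q.v_x, X.ee, X.car.e_mk, vl, mul_comm, mul_smul, Int.cast_smul_eq_zsmul, smul_smul, mul_assoc, sg_sq, mul_one]
  have h2 : H.toCD.Rel y := ⟨fun r t s => by simp only [y, Q.S.add, mul_add], fun r s t t' e e' => Q.v_inj (by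
    have i := hT.1 r r.2
    have j := hT.1 s s.2
    have : Q.v ((H.toCD.ct r s).map fun c => y c.1 ((c.2.1 : F) * (-t) ^ c.2.2.1 * t' ^ c.2.2.2)).prod = (((D.commTerms r s).map
        (fun c => (nv (T c.1).1 (T c.1).2.1 (c.2.1 * (T c.1).2.2), c.2.2))).map fun c => 1 + ((-t) ^ c.2.1 * t' ^ c.2.2) • vl u c.1).prod := by
      simp only [map_list_prod, Checked.toCD, List.map_map]
      refine congrArg _ (List.map_congr_left fun k hk => ?_)
      have i := (H.commTerms_spec r.2 s.2 hk).1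
      simp only [Function.comp, h1, Checked.toFin_val _ i, u, X.car.vl_nv (hT.1 _ i).1]
      simp only [vl, mul_assoc, mul_smul, Int.cast_smul_eq_zsmul, smul_comm k.2.1]
    simp only [map_mul, this, h1]
    obtain ⟨a, b⟩ | ⟨p, a, p', b, d1, d2, d3⟩ := hT.2.2 r r.2 s s.2 (fun f => e (Fin.ext f)) fun f => e' (Fin.ext f)
    · have := X.car.cm2 i.1.l i.1.r j.1.l j.1.r
      simp only [bt, a, if_false, zero_smul, sub_zero, add_zero, sub_eq_zero] at this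
      simp only [b, List.map_nil, List.prod_nil, mul_one, vl, add_mul, mul_add, one_mul, smul_mul_smul_comm, u, this, mul_comm]
      abel
    have k : ∀ {p₀ p : ℤ × ℤ × ℤ}, okC τ n p₀.1 p₀.2.1 ∧ p₀.2.2 * p₀.2.2 = 1 → p ∈ [p₀, (p₀.2.1, p₀.1, -p₀.2.2)] →
        okC τ n p.1 p.2.1 ∧ p.2.2 * p.2.2 = 1 ∧ vl u p₀ = vl u p := fun i a => by
      simp only [List.mem_cons, List.not_mem_nil, or_false] at a
      obtain rfl | rfl := a
      exacts [⟨i.1, i.2, rfl⟩, ⟨i.1.symm, by simpa using i.2, (X.car.vl_swap i.1 _).symm⟩]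
    obtain ⟨a1, a2, a3⟩ := k i a
    obtain ⟨b1, b2, b3⟩ := k j b
    obtain ⟨x, z, e1⟩ := p
    obtain ⟨_, v, f⟩ := p'
    subst d1
    rw [a3, b3, d3]
    exact X.car.comm_ex a1 b1 hτ d2 a2 b2 t t')⟩
  have h3 : ∀ r t, ∃ r' t', Q.S.x r t = y r' t' := fun ⟨⟨a, b⟩, i, j⟩ t => by
    obtain ⟨r, i1, rfl, rfl⟩ : ∃ r < D.nroots, (T r).1 = a ∧ (T r).2.1 = b := by
      have k : ∀ a, vi τ n a → ∃ k < 2 * n + 3, a = (k : ℕ) - (n + 1) := fun a h => ⟨(a + (n + 1)).toNat, by grind [vi]⟩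
      obtain ⟨a, i1, rfl⟩ := k a i.l
      obtain ⟨b, i2, rfl⟩ := k b i.r
      exact hT.2.1 a i1 b i2 (by simpa using j) i
    refine ⟨⟨r, i1⟩, (((T r).2.2 * sg (T r).1 (T r).2.1 : ℤ) * t), ?_⟩
    rw [← mkC_eq ⟨_, i, j⟩]
    simp only [y, ← mul_assoc, ← Int.cast_mul]
    simp only [mul_right_comm (T r).2.2 _ (T r).2.2, (hT.1 r i1).2, one_mul, sg_sq, Int.cast_one]
  exact ⟨(H.iso_of_rel hc h0 hp Q.S_Gx none h2 h3).some.trans (X.exists_st hτ hn h h').some⟩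

theorem mt_B2 : Mt chevB2 0 1 ([(-2, -1, 1), (-1, 0, 1), (-2, 0, 1), (-1, 2, -1), (-2, 1, -1), (0, 2, 1), (0, 1, 1), (1, 2, 1)].getD · 0) := by
  decide +kernel
theorem mt_D4 : Mt chevD4 2 3 ([(-2, -1, 1), (-3, -1, -1), (-1, 4, 1), (-4, -1, 1), (-1, 3, 1), (-1, 2, 1), (-3, -2, -1), (-2, 4, 1), (-4, -2, 1),
    (-2, 3, 1), (-3, 4, 1), (-4, -3, 1), (3, 4, 1), (-4, 3, 1), (-3, 2, 1), (2, 4, 1), (-4, 2, 1), (2, 3, -1), (-2, 1, 1), (-3, 1, 1), (1, 4, 1),
    (-4, 1, 1), (1, 3, -1), (1, 2, 1)].getD · 0) := by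
  decide +kernel

theorem iso_D4 (F : Type*) [Field F] : Nonempty (chevD4.group F ≃* POmega F (quadFormPlus 4 F)) :=
  (frameP 3 F).iso_of_mt (by omega) (by omega) (by omega) (.inl (by omega)) checkedD4 conn_D4 (by decide) (perfect_D4 checkedD4.adj_Gx) mt_D4
theorem iso_B2 (hF : ∃ a : F, a ≠ 0 ∧ a ≠ 1) : Nonempty (chevB2.group F ≃* POmega F (quadFormOdd 2 F)) :=
  (frameO 1 F).iso_of_mt (by omega) (by omega) (by omega) (.inr hF) checkedB2 conn_B2 (by decide) (perfect_B2 checkedB2.adj_Gx hF) mt_B2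

end Cfsg.Agent.Chev.Cl
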