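import Cfsg.Agent.Lib.Chev.More

set_option autoImplicit false
set_option linter.unusedSectionVars false

/-! The collector in arbitrary characteristic (coefficients reduced modulo any `p` vanishing in the field). -/

namespace Cfsg.Agent.Chev

open Cfsg.Lie

instance instFactZero (K : Type*) [Field K] : Fact (((0 : ℕ) : K) = 0) := ⟨Nat.cast_zero⟩

instance instFactChar (K : Type*) [Field K] (p : ℕ) [CharP K p] : Fact ((p : K) = 0) := ⟨CharP.cast_eq_zero K p⟩

namespace Col
section
variable {K : Type*} [Field K]
variable (p : ℕ) [hp : Fact ((p : K) = 0)] (v : List K)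

theorem cast_mod' (c : ℤ) : ((c % p : ℤ) : K) = c := by
  rw [Int.emod_def]; simp [hp.out]

theorem cast_zero' {c : ℤ} (h : c % p = 0) : (c : K) = 0 := by rw [← cast_mod' p, h, Int.cast_zero]

theorem mpev_tins' (c : ℤ) (m : List ℕ) (P : MP) : mpev v (tins p c m P) = c * mev v m + mpev v P := by
  induction P with
  | nil =>
    simp only [tins]
    split_ifs with h
    · simp [cast_zero' (K := K) p h]
    · simp [mpev_cons, cast_mod']
  | cons a P ih =>
    simp only [tins]
    split_ifs with h1 h2 h3 h4
    · have := cast_zero' (K := K) p h2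
      rw [mpev_cons, ← eq_of_mcmp h1, ← add_assoc, ← add_mul, ← Int.cast_add, this]; simp
    · rw [mpev_cons, mpev_cons, cast_mod', ← eq_of_mcmp h1]; push_cast; ring
    · simp [cast_zero' (K := K) p h4]
    · rw [mpev_cons, cast_mod']
    · rw [mpev_cons, mpev_cons, ih]; ring

theorem mpev_padd' (P Q : MP) : mpev v (padd p P Q) = mpev v P + mpev v Q := by
  induction P with
  | nil => simp [padd]
  | cons a P ih => rw [padd, List.foldr_cons, mpev_tins', ← padd, ih, mpev_cons, add_assoc]

theorem mpev_mpmul' (P Q : MP) : mpev v (mpmul p P Q) = mpev v P * mpev v Q := by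
  induction P with
  | nil => simp [mpmul]
  | cons a P ih =>
    have : ∀ R, mpev v (Q.foldr (fun b R => tins p (a.1 * b.1) (madd a.2 b.2) R) R) =
        a.1 * mev v a.2 * mpev v Q + mpev v R := by
      intro R
      clear ih
      induction Q with
      | nil => simp
      | cons b Q ih' => rw [List.foldr_cons, mpev_tins', mev_madd, mpev_cons, ih']; push_cast; ring
    rw [mpmul, List.foldr_cons, this, ← mpmul, ih, mpev_cons]; ring

theorem mpev_mppow' (P : MP) (e : ℕ) : mpev v (mppow p P e) = mpev v P ^ e := by
  induction e with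
  | zero => simp [mppow, mpev, mev]
  | succ e ih => rw [mppow, mpev_mpmul', ih, pow_succ']

end
end Col

namespace Checked
open Col
variable {D : ChevalleyDatum} {c : Cert} (h : Checked D c) {K : Type*} [Field K] {G : Type*} [Group G]
  {y : Fin D.nroots → K → G} (hy : h.toCD.Rel y) (p : ℕ) [hp : Fact ((p : K) = 0)] (v : List K)

include hy

theorem ins_spec' (key : ℕ → ℕ) (f : ℕ) (a : ℕ × MP) (o : Option Wd) {w' : Wd} (e : ins D p key f a o = some w') :
    ∃ w, o = some w ∧ wd y (ev v w') = xN y a.1 (mpev v a.2) * wd y (ev v w) := by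
  induction f generalizing a o w' with
  | zero => cases o <;> simp [ins] at e
  | succ f ih =>
    cases o with
    | none => simp [ins] at e
    | some w =>
      refine ⟨w, rfl, ?_⟩
      simp only [ins] at e
      split_ifs at e with h1 h2
      · cases e; rw [h1, mpev_nil, h.xN_zero hy, one_mul]
      cases w with
      | nil => cases e; simp [ev, wd]
      | cons b w =>
        simp only at e
        have e1 : ∀ (b : ℕ × MP) w, wd y (ev v (b :: w)) = xN y b.1 (mpev v b.2) * wd y (ev v w) := fun b w =>
          wd_cons y _ _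
        split_ifs at e with h3 h4 h5 h6
        · cases e
          rw [e1, h3, ← mul_assoc, h.xN_add hy, ← mpev_padd' p, h4, mpev_nil, h.xN_zero hy, one_mul]
        · cases e
          rw [e1, e1, h3, ← mul_assoc, h.xN_add hy, ← mpev_padd' p]
        · cases e; rw [e1]
        obtain ⟨w₁, e2, rfl⟩ := Option.map_eq_some_iff.1 e
        obtain ⟨w₂, e3, e4⟩ := ih _ _ e2
        push Not at h2 h6
        rw [e1, e1, e4, ← mul_assoc, ← mul_assoc, h.xN_comm hy h6.1 h2 _ _ h3 h6.2, mul_assoc (_ * _)]
        congr 1
        generalize D.commTerms b.1 a.1 = L at e3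
        clear e2 e e4
        induction L generalizing w₂ with
        | nil => cases e3; simp [evT]
        | cons q L ih' =>
          obtain ⟨w₃, e5, e6⟩ := ih _ _ e3
          rw [e6, ih' _ e5]
          simp only [evT, List.map_cons, List.prod_cons, mpev_mpmul', mpev_tins', mpev_mppow', neg_pow (mpev v b.2)]
          simp [mev, mul_assoc]

theorem collect_spec' (key : ℕ → ℕ) (f : ℕ) (w : Wd) {w' : Wd} (e : collect D p key f w = some w') :
    wd y (ev v w') = wd y (ev v w) := by
  induction w generalizing w' with
  | nil => cases e; rfl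
  | cons a w ih =>
    obtain ⟨w₁, e1, e2⟩ := h.ins_spec' hy p v key f _ _ e
    rw [e2, ih e1, mpev_padd', mpev_nil, add_zero]
    exact (wd_cons y (a.1, mpev v a.2) _).symm

theorem wd_eq_of_same' (key : ℕ → ℕ) (f : ℕ) (w w' : Wd) (e : same D p key f w w' = true) :
    wd y (ev v w) = wd y (ev v w') := by
  simp only [same, Bool.and_eq_true, beq_iff_eq, Option.isSome_iff_exists] at e
  obtain ⟨⟨w₁, e1⟩, e2⟩ := e
  rw [← h.collect_spec' hy p v key f w e1, h.collect_spec' hy p v key f w' (e2 ▸ e1)]

end Checked

end Cfsg.Agent.Chev
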