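import Cfsg.Agent.Lib.Chev.Cent

set_option autoImplicit false
set_option linter.unusedSectionVars false
set_option linter.style.haveILetI false

/-! The rank one calculus: symbols over finite fields, homomorphisms from `SL₂`. -/

namespace Cfsg.Agent.Chev

open Cfsg.Lie

/-- the Steinberg relations of rank one -/
structure Rk1 (F : Type*) [Field F] (G : Type*) [Group G] where
  x : F → G
  y : F → G
  add_x : ∀ t u, x t * x u = x (t + u)
  add_y : ∀ t u, y t * y u = y (t + u)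
  nx : ∀ (c : Fˣ) t, x c * y (-(c : F)⁻¹) * x c * x t = y (-(c : F)⁻¹ ^ 2 * t) * (x c * y (-(c : F)⁻¹) * x c)

namespace Rk1
variable {F : Type*} [Field F] {G : Type*} [Group G] (A : Rk1 F G)

/-- the monomial elements -/
def n (c : Fˣ) : G := A.x c * A.y (-(c : F)⁻¹) * A.x c

/-- the diagonal elements -/
def h (c : Fˣ) : G := A.n c * A.n (-1)

@[simp] theorem x_zero : A.x 0 = 1 := by simpa using A.add_x 0 0
@[simp] theorem y_zero : A.y 0 = 1 := by simpa using A.add_y 0 0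
theorem x_inv (t : F) : (A.x t)⁻¹ = A.x (-t) := inv_eq_of_mul_eq_one_right (by simp [A.add_x])
theorem y_inv (t : F) : (A.y t)⁻¹ = A.y (-t) := inv_eq_of_mul_eq_one_right (by simp [A.add_y])
theorem n_inv (c : Fˣ) : (A.n c)⁻¹ = A.n (-c) := by simp [n, x_inv, y_inv, mul_assoc]
theorem n_x (c : Fˣ) (t : F) : A.n c * A.x t = A.y (-(c : F)⁻¹ ^ 2 * t) * A.n c := A.nx c t

theorem n_y (c : Fˣ) (t : F) : A.n c * A.y t = A.x (-(c : F) ^ 2 * t) * A.n c := by
  have := A.n_x (-c) (-(c : F) ^ 2 * t)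
  rw [← n_inv, show -((-c : Fˣ) : F)⁻¹ ^ 2 * (-(c : F) ^ 2 * t) = t by simp] at this
  rw [← mul_inv_eq_iff_eq_mul, mul_assoc, ← this, mul_inv_cancel_left]

theorem h_one : A.h 1 = 1 := by rw [h, ← n_inv, mul_inv_cancel]

theorem n_eq (c : Fˣ) : A.n c = A.h c * A.n 1 := by rw [h, ← n_inv, inv_mul_cancel_right]

theorem h_x (c : Fˣ) (t : F) : A.h c * A.x t = A.x (c ^ 2 * t) * A.h c := by
  rw [h, mul_assoc, n_x, ← mul_assoc, n_y, mul_assoc]; simp

theorem h_y (c : Fˣ) (t : F) : A.h c * A.y t = A.y ((c : F)⁻¹ ^ 2 * t) * A.h c := by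
  rw [h, mul_assoc, n_y, ← mul_assoc, n_x, mul_assoc]; simp

theorem h_n (c d : Fˣ) : A.h c * A.n d = A.n (c ^ 2 * d) * A.h c := by
  rw [n, ← mul_assoc, ← mul_assoc, h_x, mul_assoc _ (A.h c), h_y, ← mul_assoc, mul_assoc _ (A.h c), h_x, n,
    ← mul_assoc]
  simp [mul_comm]

theorem h_h (c d : Fˣ) : A.h c * A.h d * (A.h c)⁻¹ = A.h (c ^ 2 * d) * (A.h (c ^ 2))⁻¹ := by
  rw [mul_inv_eq_iff_eq_mul, h.eq_1 _ d, ← mul_assoc, h_n, mul_assoc, h_n, h.eq_1 _ (_ * _), h.eq_1 _ (_ ^ _),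
    mul_neg_one, ← n_inv]
  group

theorem y_eq (c : Fˣ) : A.y c = A.x (c : F)⁻¹ * A.n (-c⁻¹) * A.x (c : F)⁻¹ := by
  simp [n, mul_assoc, add_x, ← mul_assoc (A.x _) (A.x _)]

theorem n_eq' (c : Fˣ) : A.n c = A.y (-(c : F)⁻¹) * A.x c * A.y (-(c : F)⁻¹) := by
  have := A.n_x c (-c)
  rw [n.eq_1 _ c, mul_assoc, add_x, add_neg_cancel, x_zero, mul_one, ← n,
    show -(c : F)⁻¹ ^ 2 * -c = (c : F)⁻¹ by field_simp] at this
  rw [mul_assoc, this, ← y_inv, inv_mul_cancel_left]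

theorem h_mul_of_add {t u : Fˣ} (e : (t : F) + u = 1) : A.h t * A.h u = A.h (t * u) := by
  have e' : (t : F) = 1 - u := by rw [← e]; ring
  have h1 : A.n (-1) * A.n u = A.y (-u) * A.x (t / u) * A.y 1 * A.x (-t) := by
    rw [n.eq_1 _ u, ← mul_assoc, ← mul_assoc, n_x, mul_assoc _ (A.n _), n_y, n.eq_1 _ (-1)]
    simp only [mul_assoc, ← mul_assoc (A.x _) (A.x _), add_x, e']
    simp [add_comm, sub_eq_add_neg, add_div]
  have h2 : A.n t * A.y 1 * A.x (-t) = A.x (t * u) * A.y (-(t : F)⁻¹) := by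
    rw [n_y, n.eq_1 _ t]
    simp only [mul_assoc, ← mul_assoc (A.x _) (A.x _), add_x]
    simp [e']; congr 1; ring
  have h3 : A.y (-((t * u : Fˣ) : F)⁻¹) * A.x (t * u) = A.n (t * u) * A.y ((t * u : Fˣ) : F)⁻¹ := by
    rw [n_eq', mul_assoc _ (A.y _), add_y]; simp
  rw [h, h, h, ← mul_assoc, mul_left_inj, mul_assoc, h1, ← mul_assoc, ← mul_assoc, ← mul_assoc, n_y, mul_assoc _ (A.n _),
    n_x, ← mul_assoc, mul_assoc _ (A.n _), mul_assoc _ (_ * _), h2, ← mul_assoc, mul_assoc _ (A.y _),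
    show -(t : F)⁻¹ ^ 2 * (t / u) = -((t * u : Fˣ) : F)⁻¹ by simp; field_simp, h3, mul_assoc, mul_assoc, add_y, n_y]
  rw [← mul_assoc, add_x, show -(t : F) ^ 2 * -u + -((t * u : Fˣ) : F) ^ 2 * (((t * u : Fˣ) : F)⁻¹ + -(t : F)⁻¹) = 0 by
    push_cast; field_simp; linear_combination (t : F) * (u : F) * e, x_zero, one_mul]

theorem exists_nonsq [Finite F] (h2 : ringChar F ≠ 2) : ∃ a b : Fˣ, (a : F) + b = 1 ∧ ¬ IsSquare a ∧ ¬ IsSquare b := by
  classical
  haveI := Fintype.ofFinite F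
  have hu : ∀ a : Fˣ, IsSquare a → IsSquare (a : F) := by rintro _ ⟨c, rfl⟩; exact ⟨c, rfl⟩
  by_contra hn
  push Not at hn
  have key : ∀ a : F, ¬ IsSquare a → quadraticChar F (1 - a) = 1 := fun a ha => by
    have h0 : a ≠ 0 := by rintro rfl; simp at ha
    have h1 : 1 - a ≠ 0 := by intro e; rw [sub_eq_zero] at e; simp [← e] at ha
    exact (quadraticChar_one_iff_isSquare h1).2 (hu _ (hn (Units.mk0 _ h0) (Units.mk0 _ h1) (by simp) fun ⟨c, hc⟩ =>
      ha ⟨c, congrArg Units.val hc⟩))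
  obtain ⟨a, ha⟩ := FiniteField.exists_nonsquare h2
  have h0 : a ≠ 0 := by rintro rfl; simp at ha
  have h1 := key a ha
  have h3 := key a⁻¹ (by simpa using ha)
  have h4 := quadraticChar_neg_one_iff_not_isSquare.2 ha
  have h5 : quadraticChar F (-1) = -1 := by
    rw [show 1 - a⁻¹ = -1 * (1 - a) * a * (a⁻¹) ^ 2 by field_simp; ring, map_mul, map_mul, map_mul, h1, h4,
      quadraticChar_sq_one' (inv_ne_zero h0)] at h3
    omega
  have h6 : ∀ n : ℕ, IsSquare (n : F) := fun n => by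
    induction n with
    | zero => simp
    | succ n ih =>
      by_cases e : (n : F) = 0
      · simp [e]
      have := key (-n) (quadraticChar_neg_one_iff_not_isSquare.1 (by
        rw [← neg_one_mul, map_mul, h5, (quadraticChar_one_iff_isSquare e).2 ih, mul_one]))
      rw [sub_neg_eq_add, add_comm, ← Nat.cast_add_one] at this
      exact (quadraticChar_one_iff_isSquare fun e => by simp [e] at this).1 this
  have := h6 (ringChar F - 1)
  rw [Nat.cast_sub (CharP.char_is_prime F _).pos, CharP.cast_eq_zero, Nat.cast_one, zero_sub] at this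
  exact quadraticChar_neg_one_iff_not_isSquare.1 h5 this

theorem h_mul_of_finite [Finite F] (hc : ∀ t u, ∀ g ∈ Set.range A.h, Commute (A.h t * A.h u * (A.h (t * u))⁻¹) g)
    (t u : Fˣ) : A.h t * A.h u = A.h (t * u) := by
  set f : Fˣ → Fˣ → G := fun t u => A.h t * A.h u * (A.h (t * u))⁻¹ with hf
  have ha : ∀ t u v, f t (u ^ 2 * v) = f t (u ^ 2) * f t v := fun t u v => by
    have e : f t v = A.h u * f t v * (A.h u)⁻¹ := by rw [← (hc t v _ ⟨u, rfl⟩).eq, mul_inv_cancel_right]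
    rw [e, show A.h u * f t v * (A.h u)⁻¹ = (A.h u * A.h t * (A.h u)⁻¹) * (A.h u * A.h v * (A.h u)⁻¹) *
      (A.h u * A.h (t * v) * (A.h u)⁻¹)⁻¹ by simp only [hf]; group, h_h, h_h, h_h]
    simp only [hf, mul_comm (u ^ 2) t, mul_left_comm (u ^ 2) t]
    group
  obtain ⟨g, hg⟩ := IsCyclic.exists_monoid_generator (α := Fˣ)
  have hcomm : ∀ t u, Commute (A.h t) (A.h u) := by
    have : ∀ s, (∀ u, Commute (A.h u) s → Commute (A.h (g * u)) s) → ∀ t, Commute (A.h t) s := fun s hs t => by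
      obtain ⟨n, rfl⟩ := hg t
      induction n with
      | zero => simp [h_one]
      | succ n ih => simpa only [pow_succ'] using hs _ ih
    have e : ∀ u, A.h (g * u) = (f g u)⁻¹ * (A.h g * A.h u) := fun u => by simp only [hf]; group
    refine fun t u => this _ (fun v hv => ?_) t
    rw [e]
    refine (hc _ _ _ ⟨u, rfl⟩).inv_left.mul_left (Commute.mul_left (Commute.symm (this _ (fun w hw => ?_) u)) hv)
    rw [e]
    exact (hc _ _ _ ⟨g, rfl⟩).inv_left.mul_left ((Commute.refl _).mul_left hw)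
  have hs : ∀ t u, f t u = f u t := fun t u => by simp only [hf, (hcomm t u).eq, mul_comm t]
  have hb : ∀ t u v, f t (u ^ 2 * v) = f t v := fun t u v => by
    have := A.h_h u t
    rw [(hcomm u t).eq, mul_inv_cancel_right] at this
    rw [ha, mul_eq_right]
    simp only [hf]
    rw [this, mul_comm t]; group
  have h1 : ∀ t u, IsSquare u → f t u = 1 := by
    rintro t _ ⟨u, rfl⟩
    rw [← sq, ← mul_one (u ^ 2), hb]; simp [hf, h_one]
  rw [← mul_inv_eq_one]
  change f t u = 1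
  by_cases hu : IsSquare u
  · exact h1 _ _ hu
  by_cases ht : IsSquare t
  · rw [hs, h1 _ _ ht]
  have hq : ∀ a b : Fˣ, ¬ IsSquare a → ¬ IsSquare b → ∃ c, a = c ^ 2 * b := by
    intro a b ha hb
    obtain ⟨n, rfl⟩ := hg a
    obtain ⟨m, rfl⟩ := hg b
    obtain ⟨n, rfl⟩ := Nat.not_even_iff_odd.1 fun h => ha (h.isSquare_pow g)
    obtain ⟨m, rfl⟩ := Nat.not_even_iff_odd.1 fun h => hb (h.isSquare_pow g)
    exact ⟨g ^ n / g ^ m, by simp only [div_eq_mul_inv]; group⟩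
  obtain ⟨a, b, e, h2, h3⟩ := exists_nonsq (F := F) fun h => hu (by
    obtain ⟨c, hc⟩ := FiniteField.isSquare_of_char_two h (u : F)
    exact ⟨Units.mk0 c (by rintro rfl; simp at hc), Units.ext hc⟩)
  obtain ⟨c, rfl⟩ := hq t a ht h2
  obtain ⟨d, rfl⟩ := hq u b hu h3
  rw [hb, hs, hb, hs]
  simp [hf, A.h_mul_of_add e]

open Matrix in
theorem exists_hom (hm : ∀ t u, A.h t * A.h u = A.h (t * u)) :
    ∃ φ : SpecialLinearGroup (Fin 2) F →* G, ∀ (g : SpecialLinearGroup (Fin 2) F) (t : F),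
      ((g : Matrix (Fin 2) (Fin 2) F) = !![1, t; 0, 1] → φ g = A.x t) ∧
      ((g : Matrix (Fin 2) (Fin 2) F) = !![1, 0; t, 1] → φ g = A.y t) := by
  classical
  have hd : ∀ g : SpecialLinearGroup (Fin 2) F, g 0 0 * g 1 1 - g 0 1 * g 1 0 = 1 := fun g => by
    have := g.det_coe; rwa [det_fin_two] at this
  obtain ⟨N, hN⟩ : ∃ N : F → G, ∀ c : Fˣ, N c = A.n c := ⟨fun c => A.x c * A.y (-c⁻¹) * A.x c, fun _ => rfl⟩
  obtain ⟨ψ, hψ, hψ'⟩ : ∃ ψ : F → F → F → F → G, (∀ (a : Fˣ) b d, ψ a b 0 d = A.h a * A.x (b / a)) ∧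
      ∀ a b (c : Fˣ) d, ψ a b c d = A.x (a / c) * A.n (-c⁻¹) * A.x (d / c) :=
    ⟨fun a b c d => if c = 0 then N a * A.n (-1) * A.x (b / a) else A.x (a / c) * N (-c⁻¹) * A.x (d / c),
      fun a b d => by simp [hN, h], fun a b c d => by simp [← hN]⟩
  let φ : SpecialLinearGroup (Fin 2) F → G := fun g => ψ (g 0 0) (g 0 1) (g 1 0) (g 1 1)
  obtain ⟨X, eX⟩ : ∃ X : F → SpecialLinearGroup (Fin 2) F, ∀ t, (X t : Matrix _ _ F) = !![1, t; 0, 1] :=
    ⟨fun t => ⟨!![1, t; 0, 1], by simp⟩, fun _ => rfl⟩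
  obtain ⟨Y, eY⟩ : ∃ X : F → SpecialLinearGroup (Fin 2) F, ∀ t, (X t : Matrix _ _ F) = !![1, 0; t, 1] :=
    ⟨fun t => ⟨!![1, 0; t, 1], by simp⟩, fun _ => rfl⟩
  obtain ⟨w, ew⟩ : ∃ X : SpecialLinearGroup (Fin 2) F, (X : Matrix _ _ F) = !![0, 1; -1, 0] :=
    ⟨⟨!![0, 1; -1, 0], by simp⟩, rfl⟩
  have em : ∀ (g g' : SpecialLinearGroup (Fin 2) F) i j, (g * g') i j = g i 0 * g' 0 j + g i 1 * g' 1 j :=
    fun g g' i j => by simp [Matrix.mul_apply]
  have hX : ∀ t, φ (X t) = A.x t := fun t => by simpa [φ, eX, h_one] using hψ 1 t 1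
  have hw : φ w = A.n 1 := by simpa [φ, ew] using hψ' 0 1 (-1) 0
  have h1 : ∀ g t, φ (g * X t) = φ g * A.x t := fun g t => by
    have hd := hd g
    simp only [φ, em, eX]
    generalize g 0 0 = a, g 0 1 = b, g 1 0 = c, g 1 1 = d at hd
    rcases eq_or_ne c 0 with rfl | hc
    · lift a to Fˣ using IsUnit.of_mul_eq_one d (by simpa using hd)
      simp [hψ, mul_assoc, add_x, add_div, add_comm]
    · lift c to Fˣ using hc.isUnit
      simp [hψ', mul_assoc, add_x, add_div, add_comm]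
  have hn : ∀ c d, A.h c * A.n d = A.n (c * d) := fun c d => by rw [n_eq, ← mul_assoc, hm, ← n_eq]
  have hnn : ∀ c, A.n (-c) * A.n 1 = A.h c := fun c => by
    have : A.n (-1) * A.n 1 = 1 := by rw [← n_inv, inv_mul_cancel]
    rw [← mul_neg_one c, ← hn, mul_assoc, this, mul_one]
  have h2 : ∀ g, φ (g * w) = φ g * A.n 1 := fun g => by
    have hd := hd g
    simp only [φ, em, ew]
    generalize g 0 0 = a, g 0 1 = b, g 1 0 = c, g 1 1 = d at hd
    rcases eq_or_ne c 0 with rfl | hc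
    · lift a to Fˣ using IsUnit.of_mul_eq_one d (by simpa using hd)
      obtain rfl : d = ((a⁻¹ : Fˣ) : F) := by simpa using eq_inv_of_mul_eq_one_right (by simpa using hd)
      have := hψ' (-b) a (-a⁻¹) 0
      simp at this
      simp [this, hψ, h_x, mul_assoc, hn]
      congr 1; field_simp
    lift c to Fˣ using hc.isUnit
    rcases eq_or_ne d 0 with rfl | hd'
    · obtain rfl : b = -((c⁻¹ : Fˣ) : F) := by
        rw [← neg_eq_iff_eq_neg]; simpa using eq_inv_of_mul_eq_one_left (by simpa using hd)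
      have := hψ c⁻¹ a c
      simp at this
      simp [this, hψ', h_x, mul_assoc, hnn]
      congr 1; field_simp
    lift d to Fˣ using hd'.isUnit
    have := hψ' (-b) a (-d) c
    have e := A.y_eq (-(d / c))
    simp at this e
    have e2 : A.x (d / c) * A.n 1 = A.n 1 * A.y (-(d / c)) := by simp [n_y]
    simp only [hψ', mul_assoc, e2]
    simp only [← mul_assoc (A.n _) (A.n _), hnn]
    simp [this, e, ← mul_assoc, h_x, mul_assoc _ (A.h _), hn, add_x]
    congr 2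
    · congr 1; field_simp; linear_combination -hd
    · congr 1; ext; simp; field_simp
    · rw [div_neg]
  let M : Submonoid (SpecialLinearGroup (Fin 2) F) :=
    { carrier := {g' | ∀ g, φ (g * g') = φ g * φ g'}
      one_mem' := fun g => by simpa [φ, h_one] using hψ 1 0 1
      mul_mem' := fun {a b} ha hb g => by rw [← mul_assoc, hb, ha, hb, mul_assoc] }
  have m1 : ∀ t, X t ∈ M := fun t g => by rw [h1, hX]
  have m2 : w ∈ M := fun g => by rw [h2, hw]
  have e3 : ∀ t, Y t = w * X (-t) * w * w * w := fun t => by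
    ext i j; fin_cases i <;> fin_cases j <;> simp [eX, eY, ew]
  have m3 : ∀ t, Y t ∈ M := fun t => e3 t ▸ mul_mem (mul_mem (mul_mem (mul_mem m2 (m1 _)) m2) m2) m2
  have m4 : ∀ g : SpecialLinearGroup (Fin 2) F, g 1 0 ≠ 0 → g ∈ M := fun g hg => by
    have : g = X ((g 0 0 - 1) / g 1 0) * Y (g 1 0) * X ((g 1 1 - 1) / g 1 0) := by
      have := hd g
      ext i j; fin_cases i <;> fin_cases j <;> simp [eX, eY] <;> field_simp
      all_goals first | ring1 | linear_combination -this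
    exact this ▸ mul_mem (mul_mem (m1 _) (m3 _)) (m1 _)
  have m5 : ∀ g, g ∈ M := fun g => by
    by_cases hg : g 1 0 = 0
    · have : g = g * w * w * w * w := by
        ext i j; fin_cases i <;> fin_cases j <;> simp [ew, Matrix.mul_apply]
      rw [this]
      refine mul_mem (mul_mem (mul_mem (m4 _ fun e => ?_) m2) m2) m2
      have := hd g
      simp [ew, Matrix.mul_apply] at e
      simp [e, hg] at this
    · exact m4 g hg
  refine ⟨MonoidHom.mk' φ fun a b => m5 b a, fun g t => ⟨fun e => ?_, fun e => ?_⟩⟩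
  · rw [show g = X t from Subtype.ext (e.trans (eX t).symm)]; exact hX t
  · rw [show g = Y t from Subtype.ext (e.trans (eY t).symm), e3]
    show φ _ = _
    have e4 := hnn (-1)
    have e5 : A.h (-1) * A.h (-1) = 1 := by simp [hm, h_one]
    rw [neg_neg] at e4
    rw [h2, h2, h2, h1, hw, n_x, mul_assoc (A.y _), e4, mul_assoc, mul_assoc, e4, e5]
    simp

end Rk1

open Matrix in
theorem sl2_eq_top {F : Type*} [Field F] {K : Subgroup (SpecialLinearGroup (Fin 2) F)}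
    (h : ∀ (g : SpecialLinearGroup (Fin 2) F) (t : F),
      (g : Matrix (Fin 2) (Fin 2) F) = !![1, t; 0, 1] ∨ (g : Matrix (Fin 2) (Fin 2) F) = !![1, 0; t, 1] → g ∈ K) :
    K = ⊤ := by
  obtain ⟨X, eX⟩ : ∃ X : F → SpecialLinearGroup (Fin 2) F, ∀ t, (X t : Matrix _ _ F) = !![1, t; 0, 1] :=
    ⟨fun t => ⟨!![1, t; 0, 1], by simp⟩, fun _ => rfl⟩
  obtain ⟨Y, eY⟩ : ∃ X : F → SpecialLinearGroup (Fin 2) F, ∀ t, (X t : Matrix _ _ F) = !![1, 0; t, 1] :=
    ⟨fun t => ⟨!![1, 0; t, 1], by simp⟩, fun _ => rfl⟩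
  have hd : ∀ g : SpecialLinearGroup (Fin 2) F, g 0 0 * g 1 1 - g 0 1 * g 1 0 = 1 := fun g => by
    have := g.det_coe; rwa [det_fin_two] at this
  have m4 : ∀ g : SpecialLinearGroup (Fin 2) F, g 1 0 ≠ 0 → g ∈ K := fun g hg => by
    have : g = X ((g 0 0 - 1) / g 1 0) * Y (g 1 0) * X ((g 1 1 - 1) / g 1 0) := by
      have := hd g
      ext i j; fin_cases i <;> fin_cases j <;> simp [eX, eY] <;> field_simp
      all_goals first | ring1 | linear_combination -this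
    exact this ▸ mul_mem (mul_mem (h _ _ (.inl (eX _))) (h _ _ (.inr (eY _)))) (h _ _ (.inl (eX _)))
  refine eq_top_iff.2 fun g _ => ?_
  by_cases hg : g 1 0 = 0
  · refine (K.mul_mem_cancel_left (h (Y 1) 1 (.inr (eY _)))).1 (m4 _ fun e => ?_)
    have := hd g
    simp [eY, Matrix.mul_apply, Matrix.vecMul, dotProduct, hg] at e
    simp [e, hg] at this
  · exact m4 g hg

variable {I R : Type} [Fintype I] [DecidableEq I] [Fintype R] [DecidableEq R]

namespace St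
variable {Φ : CD I R} {F : Type*} [Field F] {G : Type*} [Group G] (S : St Φ F G)

theorem n_mul_x (r : R) (c : Fˣ) (t : F) : S.n r c * S.x r t = S.x (Φ.neg r) (-(c : F)⁻¹ ^ 2 * t) * S.n r c := by
  obtain ⟨w, i, rfl⟩ := RS.exists_smul_sim (Φ := Φ.toRS) r
  obtain ⟨m, -, χ, h1, h2⟩ := exists_of_W (S := S) w
  have e := n_conj (S := S) i ((χ (Φ.sim i))⁻¹ * c) (Φ.sim i) ((χ (Φ.sim i))⁻¹ * t)
  have e1 : m * S.n (Φ.sim i) ((χ (Φ.sim i))⁻¹ * c) * m⁻¹ = S.n (w • Φ.sim i) c := by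
    rw [n, show ∀ a b c : G, m * (a * b * c) * m⁻¹ = m * a * m⁻¹ * (m * b * m⁻¹) * (m * c * m⁻¹) by intros; group,
      h2, h2, h1, RS.smul_neg', n]
    simp [mul_comm, mul_left_comm]
  have e2 := h2 (Φ.sim i) ((χ (Φ.sim i))⁻¹ * t)
  have e3 := h2 (Φ.rf i (Φ.sim i)) (Φ.η i (Φ.sim i) * (((χ (Φ.sim i))⁻¹ * c) ^ (-Φ.A i (Φ.sim i)) : Fˣ) *
    ((χ (Φ.sim i))⁻¹ * t))
  rw [← e, Φ.rf_sim, h1, RS.smul_neg', Φ.η_sim, Φ.A_self] at e3
  rw [Units.mul_inv_cancel_left] at e2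
  rw [← mul_inv_eq_iff_eq_mul, ← e1, ← e2]
  convert e3 using 1
  · group
  · congr 1; simp [zpow_two]; field_simp

/-- the rank one subgroup of a root -/
def rk1 (r : R) : Rk1 F G := ⟨S.x r, S.x (Φ.neg r), S.add r, S.add _, S.n_mul_x r⟩

theorem hMul_of_finite [Finite F] : S.HMul := fun i => (S.rk1 (Φ.sim i)).h_mul_of_finite fun t u _ ⟨v, hv⟩ => by
  refine IsTor.commute (S := S) ?_ (hv ▸ H_le_Gx (h_sim_mem i v))
  have := ((isTor_h_sim (S := S) i t).mul (isTor_h_sim i u)).mul (isTor_h_sim i (t * u)).inv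
  rwa [show _ * (fun j => (t * u) ^ Φ.A i (Φ.sim j))⁻¹ = 1 by ext j; simp [mul_zpow]] at this

end St

end Cfsg.Agent.Chev
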