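import Cfsg.Agent.Lib.Chev.Tits
import Cfsg.Agent.Lib.Chev.Cent
import Cfsg.Agent.Lib.Chev.SL2
import Cfsg.Agent.Lib.Char.BrauerApp

/-! The Steinberg character of a Chevalley group. -/

set_option autoImplicit false
set_option linter.unusedSectionVars false

namespace Cfsg.Agent.Chev
open Cfsg.Lie Cfsg.Agent.Char Finset
variable {I R : Type} [Fintype I] [DecidableEq I] [Fintype R] [DecidableEq R]

namespace St
variable {Φ : CD I R} {F : Type*} [Field F] {G : Type*} [Group G] {S : St Φ F G} (hG : S.Gx = ⊤)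

variable (S) in
/-- `g` lies in the Bruhat cell of `w` -/
def Cell (g : G) (w : Φ.W) : Prop := ∃ b ∈ S.B, ∃ m ∈ S.N, ∃ b' ∈ S.B, S.Acts m w ∧ g = b * m * b'

theorem Cell.unique {g : G} {w w' : Φ.W} (h : S.Cell g w) (h' : S.Cell g w') : w = w' := by
  obtain ⟨_, h1, _, h2, _, h3, h4, rfl⟩ := h
  obtain ⟨_, h1', _, h2', _, h3', h4', e⟩ := h'
  exact bruhat_unique' h2 h2' h4 h4' h1 h3 h1' h3' e

theorem Cell.mul {g b b' : G} {w : Φ.W} (h : S.Cell g w) (hb : b ∈ S.B) (hb' : b' ∈ S.B) : S.Cell (b * g * b') w := by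
  obtain ⟨_, h1, _, h2, _, h3, h4, rfl⟩ := h
  exact ⟨_, mul_mem hb h1, _, h2, _, mul_mem h3 hb', h4, by group⟩

theorem Acts.cell {m : G} {w : Φ.W} (h : S.Acts m w) (hm : m ∈ S.N) : S.Cell m w := ⟨1, one_mem _, m, hm, 1, one_mem _, h, by simp⟩

include hG in
theorem exists_cell (g : G) : ∃ w, S.Cell g w := by
  obtain ⟨b, h1, m, h2, w, h3, u, h4, e⟩ := bruhat (hG.ge (Subgroup.mem_top g))
  exact ⟨w, b, h1, m, h2, u, U_le_B (Uw_le_U w h4), h3, e⟩

theorem choose_eq {g : G} {w : Φ.W} : (exists_cell hG g).choose = w ↔ S.Cell g w :=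
  ⟨fun h => h ▸ (exists_cell hG g).choose_spec, (exists_cell hG g).choose_spec.unique⟩

/-- the Tits system of a Chevalley group -/
noncomputable def tits : Tits Φ.s G where
  ig := Φ.invGen
  ex := Φ.exchange
  B := S.B
  δ g := (exists_cell hG g).choose
  δ_eq_one := (choose_eq hG).trans ⟨by
    rintro ⟨_, h1, _, h2, _, h3, h4, rfl⟩
    exact mul_mem (mul_mem h1 (H_le_B (mem_H_of_acts h2 h4))) h3,
    fun h => by simpa using (acts_one.cell (one_mem _)).mul h (one_mem _)⟩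
  δ_left hb g := (choose_eq hG).2 (by simpa using (exists_cell hG g).choose_spec.mul hb (one_mem _))
  δ_inv g := (choose_eq hG).2 (by
    obtain ⟨_, h1, _, h2, _, h3, h4, e⟩ := (exists_cell hG g).choose_spec
    exact ⟨_, inv_mem h3, _, inv_mem h2, _, inv_mem h1, h4.inv, by rw [← inv_inj, inv_inv]; exact e.trans (by group)⟩)
  δ_eq {g g'} e := by
    obtain ⟨b, h1, m, h2, c, h3, h4, rfl⟩ := (choose_eq hG).1 e
    obtain ⟨b', h1', m', h2', c', h3', h4', e⟩ := (exists_cell hG g').choose_spec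
    exact ⟨_, mul_mem h1' (inv_mem h1), _, mul_mem (inv_mem h3) (mul_mem (H_le_B (inv_mul_mem_H h2 h2' h4 h4')) h3'),
      e.trans (by group)⟩
  surj w := by
    obtain ⟨m, h1, h2⟩ := exists_of_W (S := S) w
    exact ⟨m, (choose_eq hG).2 (h2.cell h1)⟩
  mul {i g} e h := by
    obtain ⟨b, h1, m, h2, c, h3, h4, rfl⟩ := (choose_eq hG).1 e
    obtain ⟨b', h1', m', h2', c', h3', h4', e⟩ := (exists_cell hG h).choose_spec
    generalize (exists_cell hG h).choose = w at *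
    subst e
    have h5 := H_le_B (inv_mul_mem_H (n_sim_mem i 1) h2 (acts_n i 1) h4)
    have h6 : b * m * c * (b' * m' * c') = b * (S.n (Φ.sim i) 1 * ((S.n (Φ.sim i) 1)⁻¹ * m * c * b') * m') * c' := by group
    rw [choose_eq hG, choose_eq hG, h6]
    rcases n_mul_B_mul i 1 h4' (mul_mem (mul_mem h5 h3) h1') with ⟨_, a1, _, a2, e⟩ | ⟨a0, _, a1, _, a2, e⟩ <;> rw [e]
    · exact .inl (((((acts_n i 1).mul h4').cell (mul_mem (n_sim_mem i 1) h2')).mul a1 a2).mul h1 h3')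
    · refine .inr ⟨((h4'.cell h2').mul a1 a2).mul h1 h3', ?_⟩
      have := Φ.invGen.len_simple_mul Φ.exchange i w
      rw [RS.pos_inv_iff] at a0
      omega

theorem tits_δ {g : G} {w : Φ.W} : (tits hG).δ g = w ↔ S.Cell g w := choose_eq hG

theorem tits_P (J : Set I) : (tits hG).P J = S.PJ J := by
  ext g
  rw [mem_PJ_iff]
  refine ⟨fun h => ?_, ?_⟩
  · obtain ⟨b, h1, m, h2, c, h3, h4, e⟩ := (tits_δ hG).1 (rfl (a := (tits hG).δ g))
    exact ⟨b, h1, m, ⟨h2, _, h, h4⟩, c, h3, e⟩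
  · rintro ⟨b, h1, m, ⟨h2, w, h, h4⟩, c, h3, e⟩
    rwa [Tits.mem_P, (tits_δ hG).2 ⟨b, h1, m, h2, c, h3, h4, e⟩]

theorem mem_B_conj {m : G} (hm : m ∈ S.N) {w : Φ.W} (hw : S.Acts m⁻¹ w) (g : G) :
    g ∈ S.Ux {r | Φ.Pos r ∧ Φ.Pos (w • r)} ⊔ S.H ↔ g ∈ S.B ∧ m⁻¹ * g * m ∈ S.B := by
  have h0 : ∀ u ∈ S.Ux {r | Φ.Pos r ∧ Φ.Pos (w • r)}, m⁻¹ * u * m ∈ S.B := fun u hu => by
    simpa using U_le_B (hw.conj_mem (fun _ h => h.2) hu)
  have h1 : ∀ u ∈ S.H, m⁻¹ * u * m ∈ S.B := fun u hu => by simpa using H_le_B (conj_mem_H (inv_mem hm) hu)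
  rw [mem_Ux_sup_H]
  refine ⟨?_, fun ⟨h₀, h'⟩ => ?_⟩
  · rintro ⟨u, hu, h, hh, rfl⟩
    exact ⟨mul_mem (U_le_B (Ux_mono (fun _ h => h.1) hu)) (H_le_B hh), by simpa [mul_assoc] using mul_mem (h0 u hu) (h1 h hh)⟩
  obtain ⟨u, hu, h, hh, rfl⟩ := mem_B_iff.1 h₀
  obtain ⟨u, h2, v, h3, rfl⟩ := exists_Uw w hu
  have := eq_one_of_mem_B_V (by simpa [mul_assoc] using mul_mem (mul_mem (inv_mem (h0 u h2)) h') (inv_mem (h1 h hh))) (hw.conj_Uw h3)
  exact ⟨u, h2, h, hh, by rw [conj_eq_one_iff.1 this, mul_one]⟩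

theorem w0_iff {J : Set I} {w : Φ.W} :
    w ∈ Φ.WJ J ∧ (∀ j ∈ J, ¬ len Φ.s w < len Φ.s (w * Φ.s j)) ↔ w = Φ.w0 J := by
  simp only [← RS.pos_iff]
  exact ⟨fun h => RS.eq_w0 h.1 h.2, by rintro rfl; exact ⟨RS.w0_mem J, fun j hj => RS.w0_neg (Φ.pos_sim j) (RS.inJ_sim.2 hj)⟩⟩

section Fin
variable [Fintype G]
open Classical

theorem stJ_B (J : Finset I) {b : G} (hb : b ∈ S.B) :
    (tits hG).stJ J b = #{y | y ∈ S.B ∧ y⁻¹ * b * y ∈ S.UJ J ⊔ S.H} / Nat.card (S.UJ J ⊔ S.H : Subgroup G) := by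
  obtain ⟨m, h1, h2⟩ := exists_of_W (S := S) (Φ.w0 J)
  refine ((tits hG).stJ_B J hb).trans (.trans ?_ ((tits hG).card_cell_fix (m := m) hb fun g => ?_))
  swap
  · refine .trans ?_ (mem_B_conj h1 (RS.w0_inv (Φ := Φ.toRS) J ▸ h2.inv) g)
    rw [UJ]
    congr! 5 with r
    exact and_congr_right fun h => ⟨fun h' => (RS.pos_smul_iff_of_not_inJ (RS.w0_mem _) h').2 h, fun h' h'' => RS.w0_neg h h'' h'⟩
  rw [(tits_δ hG).2 (h2.cell h1)]
  congr! 4 with x
  rw [← w0_iff, and_right_comm, and_assoc]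
  rfl

theorem isIrr_stein : IsIrrCharacter G (tits hG).stein :=
  (tits hG).isIrr_stein (fun w => by rw [← w0_iff (J := Set.univ)]; simp [RS.WJ_univ]) (RS.w0_inv _)

theorem UJ_univ : S.UJ Set.univ = ⊥ := by rw [UJ, ← Ux_empty (S := S)]; congr 1; ext; simp [RS.InJ]

theorem stein_B (b : S.B) : (tits hG).stein b = fixedPointCharacter (S.H.subgroupOf S.B) b := by
  rw [Tits.stein_eq, stJ_B hG _ b.2, Tits.fixedPointCharacter_eq, coe_univ, UJ_univ, bot_sup_eq,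
    Nat.card_congr (Subgroup.subgroupOfEquivOfLe H_le_B).toEquiv]
  congr 2
  exact (card_bij (fun x _ => x.1) (by simp [Subgroup.mem_subgroupOf]) (by simp) (by simp +contextual [Subgroup.mem_subgroupOf])).symm

theorem card_Ux_sup_H {f : I → ℤ} {A : Set R} (hA : Φ.Unip f A) :
    Nat.card (S.Ux A ⊔ S.H : Subgroup G) = Nat.card (S.Ux A) * Nat.card S.H := by
  rw [← Nat.card_prod]
  refine (Nat.card_congr (.ofBijective (fun x => ⟨x.1 * x.2, mem_Ux_sup_H.2 ⟨_, x.1.2, _, x.2.2, rfl⟩⟩) ⟨?_, ?_⟩)).symm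
  · rintro ⟨u, h⟩ ⟨u', h'⟩ e
    have e' : (u' : G)⁻¹ * u = h' * h⁻¹ := by rw [inv_mul_eq_iff_eq_mul, ← mul_assoc, ← Subtype.mk.inj e]; simp
    have := eq_one_of_mem_H hA (mul_mem (inv_mem u'.2) u.2) (e' ▸ (h' * h⁻¹).2)
    exact Prod.ext (Subtype.ext (inv_mul_eq_one.1 this).symm) (Subtype.ext (mul_inv_eq_one.1 (e'.symm.trans this)).symm)
  · rintro ⟨g, hg⟩
    obtain ⟨u, hu, h, hh, rfl⟩ := mem_Ux_sup_H.1 hg
    exact ⟨⟨⟨u, hu⟩, h, hh⟩, rfl⟩

theorem unip_UJ (J : Set I) : Φ.Unip 1 {r | Φ.Pos r ∧ ¬ Φ.InJ J r} :=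
  RS.unip_pos.subset (by simpa only [← fJ_pos_iff] using (RS.unip_fn _).closed) fun _ h => h.1

theorem stJ_U (J : Finset I) {u : G} (hu : u ∈ S.U) :
    (tits hG).stJ J u = if u ∈ S.UJ J then (Nat.card S.U / Nat.card (S.UJ J) : ℂ) else 0 := by
  have h1 : ∀ y ∈ S.B, y⁻¹ * u * y ∈ S.UJ J ⊔ S.H ↔ u ∈ S.UJ J := fun y hy => by
    have h2 : y ∈ S.PJ J := le_sup_left (a := S.B) hy
    refine ⟨fun h => ?_, fun h => le_sup_left (a := S.UJ J) (by simpa using conj_UJ (inv_mem h2) h)⟩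
    obtain ⟨v, hv, k, hk, e⟩ := mem_Ux_sup_H.1 h
    obtain rfl := eq_one_of_mem_H RS.unip_pos (by
      simpa [e] using mul_mem (inv_mem (Ux_mono (fun _ h => h.1) hv)) (conj_U (inv_mem hy) hu)) hk
    simpa [← mul_one v ▸ e, mul_assoc] using conj_UJ h2 hv
  rw [stJ_B hG J (U_le_B hu), filter_congr fun y _ => and_congr_right (h1 y), UJ, card_Ux_sup_H (unip_UJ _)]
  split_ifs with h
  · simp only [h, and_true]
    rw [← Fintype.card_subtype, ← Nat.card_eq_fintype_card, card_B, Nat.cast_mul, Nat.cast_mul, mul_div_mul_right _ _ (card_ne_zero' _)]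
  · simp [h]

theorem stein_one : (tits hG).stein 1 = Nat.card S.U := by
  simp [Tits.stein_eq, stJ_U hG _ (one_mem _), UJ_univ]

variable [Finite F] (p : ℕ) [Fact p.Prime] [CharP F p]

theorem stJ_pow (J : Finset I) {g : G} {n : ℕ} (hg : g ^ p ^ n = 1) :
    (tits hG).stJ J g = if g ∈ S.UJ J then (Nat.card S.U / Nat.card (S.UJ J) : ℂ) else 0 := by
  by_cases h : g ∈ S.PJ J
  · obtain ⟨k, hk, e⟩ := exists_conj_mem_U p S.hMul_of_finite h hg
    rw [← (tits hG).stJ_conj J (a := k⁻¹) (tits_P hG _ ▸ inv_mem hk), inv_inv, stJ_U hG J e]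
    exact if_congr ⟨fun h => by simpa [mul_assoc] using conj_UJ (inv_mem hk) h, conj_UJ hk⟩ rfl rfl
  · rw [(tits hG).stJ_eq_zero J (tits_P hG _ ▸ h), if_neg fun h' => h (UJ_sup_LJ (S := S) J ▸ le_sup_left (a := S.UJ J) h')]

include hG in
theorem card_unipotent : Nat.card {g : G // ∃ k, orderOf g = p ^ k} = Nat.card S.U ^ 2 := by
  have h0 : ∀ g : G, (∃ k, orderOf g = p ^ k) ↔ ∃ n, g ^ p ^ n = 1 := fun g =>
    ⟨fun ⟨k, h⟩ => ⟨k, h ▸ pow_orderOf_eq_one g⟩, fun ⟨_, h⟩ =>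
      ((Nat.dvd_prime_pow Fact.out).1 (orderOf_dvd_of_pow_eq_one h)).imp fun _ => And.right⟩
  have h1 : ∀ (J : Finset I) (y : G), ∑ g with ∃ n, g ^ p ^ n = 1, (tits hG).stJ J (y⁻¹ * g * y) = Nat.card S.U := fun J y => by
    rw [sum_bijective (t := {g | ∃ n, g ^ p ^ n = 1}) (g := (tits hG).stJ J) _ (MulAut.conj y⁻¹).bijective
      (by simp [← map_pow, -MulAut.conj_apply, -map_inv]) (by simp),
      sum_congr rfl fun g hg => stJ_pow hG p J (mem_filter.1 hg).2.choose_spec, ← sum_filter, filter_filter,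
      filter_congr (p := fun a => (∃ n, a ^ p ^ n = 1) ∧ a ∈ S.UJ J) (q := (· ∈ S.UJ J)) fun g _ => and_iff_right_of_imp fun h =>
        (isPGroup_Ux p (unip_UJ _) ⟨g, h⟩).imp fun _ e => congrArg Subtype.val e,
      sum_const, ← Fintype.card_subtype, ← Nat.card_eq_fintype_card, nsmul_eq_mul, mul_div_cancel₀ _ (card_ne_zero' _)]
  have h2 := sum_congr rfl fun g (_ : g ∈ ({g | ∃ n, g ^ p ^ n = 1} : Finset G)) => (tits hG).sum_sum_stJ g
  rw [sum_comm] at h2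
  simp only [← mul_sum, ← sum_div, sum_comm (t := univ), h1] at h2
  have h3 := stein_one hG
  simp only [Tits.stein, Tits.fixedPointCharacter_eq, mul_one, inv_mul_cancel, one_mem, filter_true] at h3
  rw [← Nat.cast_inj (R := ℂ), ← mul_left_inj' (pow_ne_zero (Fintype.card I) (neg_ne_zero.2 one_ne_zero)), Nat.card_eq_fintype_card,
    Fintype.card_subtype, filter_congr fun g _ => h0 g, ← nsmul_eq_mul, ← sum_const, ← h2, Nat.cast_pow, sq]
  nth_rw 2 [← h3]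
  rw [sum_mul, sum_mul]
  refine sum_congr rfl fun J _ => ?_
  rw [← card_add_card_compl J, pow_add, sum_const, nsmul_eq_mul]
  obtain h | h := neg_one_pow_eq_or ℂ J.card <;> rw [h] <;> ring

include hG in
theorem card_U_eq : Nat.card S.U = p ^ (Nat.card G).factorization p := by
  have := not_dvd_relIndex p S.hMul_of_finite Set.univ
  rw [PJ_univ, hG, Subgroup.relIndex_top_right] at this
  exact ((isPGroup_Ux p RS.unip_pos).toSylow this).card_eq_multiplicity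

theorem stein_eq_zero {g : G} (hg : p ∣ orderOf g) : (tits hG).stein g = 0 :=
  (isIrr_stein hG).eq_zero_of_defect_zero Fact.out (Nat.pow_succ_factorization_not_dvd Nat.card_pos.ne' Fact.out) (stein_one hG)
    (card_U_eq hG p).symm.dvd hg

end Fin
end St

theorem Checked.stein_eq {D : ChevalleyDatum} {c : Cert} (h : Checked D c) (F : Type*) [Field F] :
    D.steinbergCharacter F = (St.tits (h.adj_Gx (K := F))).stein := by
  ext g
  refine (sum_bij (fun J _ => J.map Fin.valEmbedding) (fun J _ => by simp [subset_iff]) (by simp) (fun J hJ => ?_) fun J _ => ?_).symm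
  · exact ⟨_, mem_univ _, Finset.map_valEmbedding_attachFin (by simpa [subset_iff] using hJ)⟩
  rw [card_map, St.tits_P, ChevalleyDatum.parabolicIn, h.PJ_eq, Checked.eq_subgroupOf' (St.map_PJ h.adj_x _)]
  congr 4
  ext
  simp [Fin.val_inj]

end Cfsg.Agent.Chev
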