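import Cfsg.Agent.Lib.Chev.Hecke
import Cfsg.Agent.Lib.Chev.StChar

/-! Tits' deformation argument: the number of constituents of `1_B^G`. -/

set_option autoImplicit false
set_option linter.unusedSectionVars false

namespace Cfsg.Agent.Chev
open Finset Blk MonoidAlgebra Polynomial Module
open Cfsg.Agent.Char hiding cj cj_mul om

section Pol
variable {V V' : Type*} [AddCommGroup V] [Module ℂ V] [AddCommGroup V'] [Module ℂ V']

/-- polynomial families of vectors -/
def PV (v : ℂ → V) : Prop := ∀ φ : V →ₗ[ℂ] ℂ, ∃ p : ℂ[X], ∀ t, φ (v t) = p.eval t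

theorem PV.const (v : V) : PV fun _ => v := fun φ => ⟨C (φ v), by simp⟩

theorem PV.map {v : ℂ → V} (h : PV v) (f : V →ₗ[ℂ] V') : PV fun t => f (v t) := fun φ => h (φ ∘ₗ f)

theorem PV.add {v w : ℂ → V} (h : PV v) (h' : PV w) : PV fun t => v t + w t := fun φ =>
  let ⟨p, hp⟩ := h φ
  let ⟨q, hq⟩ := h' φ
  ⟨p + q, by simp [hp, hq]⟩

theorem PV.smul {c : ℂ → ℂ} {v : ℂ → V} (h : PV c) (h' : PV v) : PV fun t => c t • v t := fun φ =>
  let ⟨p, hp⟩ := h LinearMap.id
  let ⟨q, hq⟩ := h' φ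
  ⟨p * q, by simpa [hq] using fun t => .inl (hp t)⟩

theorem PV.pow (n : ℕ) : PV fun t => t ^ n := fun φ => ⟨C (φ 1) * X ^ n, fun t => by
  rw [eval_mul, eval_C, eval_pow, eval_X, mul_comm, ← smul_eq_mul, ← φ.map_smul, smul_eq_mul, mul_one]⟩

theorem PV.sum {α : Type*} (s : Finset α) {v : α → ℂ → V} (h : ∀ a, PV (v a)) : PV fun t => ∑ a ∈ s, v a t := fun φ => by
  choose p hp using fun a => h a φ
  exact ⟨∑ a ∈ s, p a, by simp [hp, eval_finsetSum]⟩

theorem finite_rank_lt [Module.Finite ℂ V'] {f : ℂ → V →ₗ[ℂ] V'} (hf : ∀ a, PV fun t => f t a) (t₀ : ℂ) :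
    {t | finrank ℂ (f t).range < finrank ℂ (f t₀).range}.Finite := by
  let b := finBasis ℂ (f t₀).range
  choose a ha using fun k => (b k).2
  obtain ⟨P, hP⟩ := (f t₀).range.subtype.exists_leftInverse_of_injective (Submodule.ker_subtype _)
  choose N hN using fun k l => hf (a k) (b.coord l ∘ₗ P)
  have h1 : ∀ t, (Matrix.of N).det.eval t = (Matrix.of fun k l => b.coord l (P (f t (a k)))).det := fun t => by
    rw [← coe_evalRingHom, RingHom.map_det]
    congr 1
    ext k l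
    exact (hN ..).symm
  refine ((Matrix.of N).det.finite_setOfPred_isRoot fun e => ?_).subset fun t ht => by_contra fun h => (Set.mem_ofPred_eq ▸ ht :).not_ge ?_
  · have : (Matrix.of fun k l => b.coord l (P (f t₀ (a k)))) = 1 := by
      ext k l
      simp [ha, show P (b k) = b k from LinearMap.congr_fun hP _, Matrix.one_apply, Finsupp.single_apply]
    simpa [e] using (h1 t₀).trans (congrArg _ this)
  have h2 : LinearIndependent ℂ fun k => (⟨f t (a k), _, rfl⟩ : (f t).range) :=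
    .of_comp (LinearMap.pi (fun l => b.coord l) ∘ₗ P ∘ₗ (f t).range.subtype) (Matrix.linearIndependent_rows_of_det_ne_zero (h1 t ▸ h))
  simpa using h2.fintype_card_le_finrank

theorem rank_const {V'' : Type*} [AddCommGroup V''] [Module ℂ V''] [Module.Finite ℂ V'] [Module.Finite ℂ V''] {f : ℂ → V →ₗ[ℂ] V'}
    {g : ℂ → V' →ₗ[ℂ] V''} (hf : ∀ a, PV fun t => f t a) (hg : ∀ a, PV fun t => g t a) (h : {t | (f t).range = (g t).ker}.Infinite) {t t' : ℂ}
    (e : (f t).range = (g t).ker) (e' : (f t').range = (g t').ker) : finrank ℂ (f t).range = finrank ℂ (f t').range := by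
  obtain ⟨x, a, b⟩ := (h.sdiff (((finite_rank_lt hf t).union (finite_rank_lt hf t')).union
    ((finite_rank_lt hg t).union (finite_rank_lt hg t')))).nonempty
  have := (g x).finrank_range_add_finrank_ker
  have := (g t).finrank_range_add_finrank_ker
  have := (g t').finrank_range_add_finrank_ker
  simp only [Set.mem_union, Set.mem_ofPred_eq, not_or, not_lt] at a b
  rw [a, e, e'] at b
  rw [e, e']
  omega

end Pol

section Cox
variable {ι W : Type*} [Group W] [Fintype W] [DecidableEq W] {s : ι → W} (h : InvGen s)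

/-- the multiplication of the Hecke algebra -/
noncomputable def InvGen.hM (t : ℂ) : (W → ℂ) →ₗ[ℂ] Module.End ℂ (W → ℂ) :=
  ∑ w, (LinearMap.proj w).smulRight (wp (hL s fun _ => t) (h.exists_red w).choose)

/-- the Higman map -/
noncomputable def InvGen.hΦ (t : ℂ) : Module.End ℂ (W → ℂ) :=
  ∑ w, t ^ (univ.sup (len s) - len s w) • ((h.hM t).flip (Pi.single w⁻¹ 1) ∘ₗ h.hM t (Pi.single w 1))

/-- the commutator map -/
noncomputable def InvGen.hA (t : ℂ) : (W → ℂ) →ₗ[ℂ] W → W → ℂ :=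
  LinearMap.pi fun w => (h.hM t).flip (Pi.single w 1) - h.hM t (Pi.single w 1)

theorem InvGen.pv_hM {a b : ℂ → W → ℂ} (ha : PV a) (hb : PV b) : PV fun t => h.hM t (a t) (b t) := by
  have h1 : ∀ ω : List ι, PV fun t => wp (hL s fun _ => t) ω (b t) := fun ω => by
    induction ω with
    | nil => exact hb
    | cons i ω ih =>
      convert (ih.map (hL s 0 i)).add ((PV.pow 1).smul (ih.map (hL s 1 i - hL s 0 i))) using 2 with t
      ext v
      simp only [wp_cons, Module.End.mul_apply, hL_apply, Pi.add_apply, Pi.smul_apply, LinearMap.sub_apply, Pi.sub_apply]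
      split_ifs <;> (simp; try ring)
  simpa [InvGen.hM] using PV.sum univ fun w => (ha.map (LinearMap.proj w)).smul (h1 _)

theorem InvGen.pv_hΦ (a : W → ℂ) : PV fun t => h.hΦ t a := by
  simpa [InvGen.hΦ] using PV.sum univ fun w => (PV.pow _).smul (h.pv_hM (h.pv_hM (.const _) (.const a)) (.const _))

theorem InvGen.pv_hA (a : W → ℂ) : PV fun t => h.hA t a := by
  have e : ∀ t, h.hA t a = ∑ w, LinearMap.single ℂ (fun _ : W => W → ℂ) w (h.hM t a (Pi.single w 1) + (-1 : ℂ) • h.hM t (Pi.single w 1) a) :=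
    fun t => .trans (by ext w v; simp [InvGen.hA, sub_eq_add_neg]) (univ_sum_single _).symm
  simp only [e]
  exact PV.sum univ fun w => ((h.pv_hM (.const a) (.const _)).add ((PV.const (-1)).smul (h.pv_hM (.const _) (.const a)))).map _

end Cox

section Idem
variable {G : Type*} [Group G] [Fintype G] {e : ℂ[G]} (he : IsIdempotentElem e)
include he

theorem ch_idem_mul {χ : G → ℂ} (hχ : IsCharacter G χ) (h : ch χ e = 0) (x : ℂ[G]) : ch χ (e * x) = 0 := by
  obtain ⟨n, ρ, rfl⟩ := hχ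
  rw [ch_character] at h ⊢
  rw [map_mul, LinearMap.IsIdempotentElem.eq_zero_of_trace_eq_zero (he.map _) h, zero_mul, map_zero]

theorem central_mul_idem {c c' : ℂ[G]} (hc : c ∈ Z ℂ (⊤ : Subgroup G)) (hc' : c' ∈ Z ℂ (⊤ : Subgroup G))
    (h : ∀ χ : IrrCharacter G, ch χ e ≠ 0 → om χ c = om χ c') : c * e = c' * e := eq_of_forall_ch fun χ g => by
  rw [mul_assoc, mul_assoc, ch_central_mul χ.2 hc, ch_central_mul χ.2 hc']
  by_cases a : ch χ e = 0
  · simp [ch_idem_mul he χ.2.isCharacter a]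
  · rw [h χ a]

omit he in
theorem sum_cj_mem (x : ℂ[G]) : ∑ g, cj g x ∈ Z ℂ (⊤ : Subgroup G) := mem_Z.2 ⟨mem_sup_top _, mem_inv.2 fun a _ => by
  simp only [map_sum, ← Blk.cj_mul]
  exact Fintype.sum_equiv (Equiv.mulLeft a) _ _ fun _ => rfl⟩

open Classical in
theorem exists_inv_sum_cj : ∃ c ∈ Z ℂ (⊤ : Subgroup G), c * (∑ g, cj g e) * e = e := by
  have h := sum_mem fun (χ : IrrCharacter G) (_ : χ ∈ univ) => Subalgebra.smul_mem _ (fC_mem {χ}) (om χ (∑ g, cj g e))⁻¹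
  refine ⟨_, h, (central_mul_idem he (mul_mem h (sum_cj_mem e)) (one_mem _) fun χ a => ?_).trans (one_mul e)⟩
  rw [om_mul χ.2 h, om_one χ.2, om_sum]
  simp only [om_smul, om_fC, Set.mem_singleton_iff, mul_ite, mul_one, mul_zero, sum_ite_eq, mem_univ, if_true]
  refine inv_mul_cancel₀ ?_
  simp [om, ch_cj χ.2.isClassFunction, a, χ.2.apply_one_ne_zero]

theorem sum_cj_mul {x : ℂ[G]} (hx : e * x * e = x) :
    (∑ g, cj g x) * e = ∑ g, e * single g 1 * e * x * (e * single g⁻¹ 1 * e) := by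
  rw [← he.eq, ← mul_assoc, (Z_top_comm (sum_cj_mem x) e).eq, he.eq, mul_sum, sum_mul]
  refine sum_congr rfl fun g _ => ?_
  conv_lhs => rw [cj_eq, ← hx]
  simp only [mul_assoc]

open Classical in
theorem finrank_central_mul {M : Submodule ℂ ℂ[G]} (h : ∀ y, y ∈ M ↔ ∃ c ∈ Z ℂ (⊤ : Subgroup G), c * e = y) :
    finrank ℂ M = Nat.card {χ : IrrCharacter G // ch χ e ≠ 0} := by
  have h1 : LinearIndependent ℂ fun χ : {χ : IrrCharacter G // ch χ e ≠ 0} => fC {χ.1} * e := Fintype.linearIndependent_iff.2 fun a b χ => by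
    have := congrArg (ch χ.1) b
    rw [map_sum, sum_eq_single χ (fun ψ _ c => by rw [map_smul, ch_fC_mul_of_notMem fun d => c (Subtype.ext d.symm), smul_zero]) (by simp),
      map_smul, ch_fC_mul_of_mem (Set.mem_singleton _)] at this
    simpa [χ.2] using this
  rw [Nat.card_eq_fintype_card, ← finrank_span_eq_card h1, le_antisymm (Submodule.span_le.2 ?_) fun y hy => ?_]
  · rintro _ ⟨χ, rfl⟩
    exact (h _).2 ⟨_, fC_mem _, rfl⟩
  obtain ⟨c, hc, rfl⟩ := (h y).1 hy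
  rw [central_mul_idem he hc (sum_mem fun (χ : {χ : IrrCharacter G // ch χ e ≠ 0}) (_ : χ ∈ univ) =>
    Subalgebra.smul_mem _ (fC_mem {χ.1}) (om χ.1 c)) fun χ a => ?_, sum_mul]
  · exact sum_mem fun χ _ => smul_mul_assoc (om χ.1 c) (fC {χ.1}) e ▸ Submodule.smul_mem _ _ (Submodule.subset_span ⟨χ, rfl⟩)
  rw [om_sum, sum_eq_single ⟨χ, a⟩ (fun ψ _ c => by rw [om_smul, om_fC_of_notMem fun d => c (Subtype.ext d.symm), mul_zero]) (by simp),
    om_smul, om_fC_of_mem (Set.mem_singleton _), mul_one]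

end Idem

namespace Tits
variable {ι W G : Type*} [Group W] [Fintype W] {s : ι → W} [Group G] [Fintype G] (T : Tits s G) {t : ℂ} (hq : T.q = fun _ => t)
open Classical
include hq

theorem ψ_hM (a b : W → ℂ) : T.ψ (T.ig.hM t a b) = T.ψ a * T.ψ b := by
  conv_rhs => rw [← univ_sum_single a]
  simp only [InvGen.hM, LinearMap.sum_apply, map_sum, sum_mul, LinearMap.smulRight_apply, LinearMap.proj_apply, LinearMap.smul_apply, map_smul]
  refine sum_congr rfl fun w _ => ?_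
  obtain ⟨h1, h2⟩ := (T.ig.exists_red w).choose_spec
  rw [← hq, T.wp_mem, T.ig.hL_single T.ex _ _ h1, h2, ← smul_mul_assoc, ← map_smul, ← Pi.single_smul, smul_eq_mul, mul_one]

theorem ψ_mul_one (a : W → ℂ) : T.ψ a * T.ψ (Pi.single 1 1) = T.ψ a := by
  rw [← T.ψ_hM hq]
  conv_rhs => rw [← univ_sum_single a]
  simp only [InvGen.hM, LinearMap.sum_apply, LinearMap.smulRight_apply, LinearMap.proj_apply, LinearMap.smul_apply]
  refine congrArg _ (sum_congr rfl fun w _ => ?_)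
  obtain ⟨h1, h2⟩ := (T.ig.exists_red w).choose_spec
  rw [T.ig.hL_single T.ex _ _ h1, h2, ← Pi.single_smul, smul_eq_mul, mul_one]

theorem card_δ (w : W) : (#{g | T.δ g = w} : ℂ) = t ^ len s w * Nat.card T.B := by
  obtain ⟨ω, h1, rfl⟩ := T.ig.exists_red w
  have e0 : ∀ (ω : List ι), wp (hL s T.q) ω 1 = t ^ ω.length • 1 := fun ω => by
    induction ω with
    | nil => simp
    | cons i ω ih => rw [wp_cons, Module.End.mul_apply, ih, map_smul, hL_one, hq, smul_smul, List.length_cons, pow_succ]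
  have := congrArg (·.coeff 1) (T.wp_mem ω 1)
  simp only [e0, T.ig.hL_single T.ex _ _ h1, coeff_mul_left, coeff_ψ, Pi.single_apply, ite_div, ite_mul, zero_div, zero_mul, ← sum_filter] at this
  rw [h1]
  simp [-Nat.card_eq_fintype_card] at this
  field_simp [card_ne_zero' T.B] at this
  exact this.symm

theorem ψ_single (g : G) : T.ψ (Pi.single (T.δ g) 1) = t ^ len s (T.δ g) • (T.ψ (Pi.single 1 1) * single g 1 * T.ψ (Pi.single 1 1)) := by
  rw [← T.ψ_one_mul, ← T.ψ_mul_one hq (Pi.single (T.δ g) 1), ← mul_assoc, eq_sum_single (T.ψ (Pi.single (T.δ g) 1)), mul_sum, sum_mul]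
  simp only [coeff_ψ, Pi.single_apply, ite_div, ite_smul, zero_div, zero_smul, mul_ite, ite_mul, mul_zero, zero_mul, ← sum_filter,
    mul_smul_comm, smul_mul_assoc]
  rw [sum_congr rfl (g := fun _ => _) fun x hx => ?_, sum_const, ← Nat.cast_smul_eq_nsmul ℂ, smul_smul, T.card_δ hq, mul_one_div,
    mul_div_cancel_right₀ _ (card_ne_zero' _)]
  obtain ⟨b, hb, b', hb', rfl⟩ := T.δ_eq (mem_filter.1 hx).2.symm
  rw [show single (b * g * b') (1 : ℂ) = single b 1 * (single g 1 * single b' 1) by simp [mul_assoc], ← mul_assoc, ← mul_assoc, mul_assoc,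
    show T.ψ (Pi.single 1 1) * single b 1 = T.ψ (Pi.single 1 1) from ext' fun z => by simp [coeff_ψ, T.δ_right (inv_mem hb)],
    show single b' 1 * T.ψ (Pi.single 1 1) = T.ψ (Pi.single 1 1) from ext' fun z => by simp [coeff_ψ, T.δ_left (inv_mem hb')]]

variable (ht : t ≠ 0)
include ht

theorem exists_ψ {y : ℂ[G]} (hy : T.ψ (Pi.single 1 1) * y * T.ψ (Pi.single 1 1) = y) : ∃ a, T.ψ a = y := by
  rw [← hy, eq_sum_single y, mul_sum, sum_mul]
  refine sum_mem (S := T.ψ.range) fun g _ => ⟨(y.coeff g / t ^ len s (T.δ g)) • Pi.single (T.δ g) 1, ?_⟩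
  rw [map_smul, T.ψ_single hq, smul_smul, div_mul_cancel₀ _ (pow_ne_zero _ ht), mul_smul_comm, smul_mul_assoc]

theorem ψ_hΦ (a : W → ℂ) :
    T.ψ (T.ig.hΦ t a) = (t ^ univ.sup (len s) / Nat.card T.B) • ((∑ g, cj g (T.ψ a)) * T.ψ (Pi.single 1 1)) := by
  rw [sum_cj_mul (T.ψ_one_mul _) (by rw [ψ_one_mul, T.ψ_mul_one hq]), ← sum_fiberwise _ T.δ, smul_sum]
  simp only [InvGen.hΦ, LinearMap.sum_apply, map_sum, LinearMap.smul_apply, map_smul, LinearMap.comp_apply, LinearMap.flip_apply, T.ψ_hM hq]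
  refine sum_congr rfl fun w _ => ?_
  rw [sum_congr rfl (g := fun _ => (t ^ len s w * t ^ len s w)⁻¹ • (T.ψ (Pi.single w 1) * T.ψ a * T.ψ (Pi.single w⁻¹ 1))) fun g hg => ?_,
    sum_const, ← Nat.cast_smul_eq_nsmul ℂ, smul_smul, smul_smul, T.card_δ hq, pow_sub₀ _ ht (le_sup (mem_univ w))]
  · congr 1
    field_simp [card_ne_zero' T.B]
  obtain rfl := (mem_filter.1 hg).2
  rw [← T.δ_inv, T.ψ_single hq, T.ψ_single hq, T.δ_inv, T.ig.len_inv, smul_mul_assoc, smul_mul_smul_comm, smul_smul,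
    inv_mul_cancel₀ (by simp [ht]), one_smul]

theorem mem_range_hΦ (y : ℂ[G]) : y ∈ (T.ig.hΦ t).range.map T.ψ ↔ ∃ c ∈ Z ℂ (⊤ : Subgroup G), c * T.ψ (Pi.single 1 1) = y := by
  refine ⟨by rintro ⟨_, ⟨a, rfl⟩, rfl⟩; exact ⟨_, Subalgebra.smul_mem _ (sum_cj_mem _) _, by rw [T.ψ_hΦ hq ht, smul_mul_assoc]⟩, ?_⟩
  rintro ⟨c, hc, rfl⟩
  obtain ⟨d, hd, e⟩ := exists_inv_sum_cj (T.ψ_one_mul (Pi.single 1 1))
  obtain ⟨a, ha⟩ := T.exists_ψ hq ht (y := c * d * T.ψ (Pi.single 1 1)) (by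
    rw [← mul_assoc, ← (Z_top_comm (mul_mem hc hd) _).eq, mul_assoc, mul_assoc, ψ_one_mul, ψ_one_mul])
  refine ⟨_, ⟨(Nat.card T.B / t ^ univ.sup (len s)) • a, rfl⟩, ?_⟩
  rw [map_smul, map_smul, T.ψ_hΦ hq ht, ha, smul_smul]
  simp only [map_mul, mem_inv.1 (mem_Z.1 hc).2 _ (Subgroup.mem_top _), mem_inv.1 (mem_Z.1 hd).2 _ (Subgroup.mem_top _), ← mul_sum]
  rw [mul_assoc c, mul_assoc c, e]
  simp [ht]

theorem range_hΦ : (T.ig.hΦ t).range = (T.ig.hA t).ker := by
  ext a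
  have h1 : a ∈ (T.ig.hA t).ker ↔ ∀ w, T.ψ a * T.ψ (Pi.single w 1) = T.ψ (Pi.single w 1) * T.ψ a := by
    simp [InvGen.hA, funext_iff (f := LinearMap.pi _ _), sub_eq_zero, ← T.ψ_hM hq, T.ψ_inj.eq_iff]
  rw [h1, ← Submodule.comap_map_eq_of_injective T.ψ_inj (T.ig.hΦ t).range, Submodule.mem_comap, T.mem_range_hΦ hq ht]
  refine ⟨fun ⟨c, hc, e⟩ w => by rw [← e, mul_assoc, ψ_one_mul, ← mul_assoc, ← (Z_top_comm hc _).eq, mul_assoc, T.ψ_mul_one hq], fun h => ?_⟩
  obtain ⟨d, hd, e⟩ := exists_inv_sum_cj (T.ψ_one_mul (Pi.single 1 1))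
  refine ⟨_, mul_mem hd (sum_cj_mem (T.ψ a)), ?_⟩
  rw [mul_assoc, sum_cj_mul (T.ψ_one_mul _) (by rw [ψ_one_mul, ψ_one_mul])] at e
  rw [mul_assoc, sum_cj_mul (T.ψ_one_mul _) (by rw [ψ_one_mul, T.ψ_mul_one hq])]
  conv_rhs => rw [← T.ψ_mul_one hq a, ← e, ← mul_assoc, ← (Z_top_comm hd _).eq, mul_assoc, mul_sum]
  refine congrArg _ (sum_congr rfl fun g _ => ?_)
  have := h (T.δ g)
  rw [T.ψ_single hq, mul_smul_comm, smul_mul_assoc, smul_right_inj (pow_ne_zero _ ht)] at this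
  rw [← this, mul_assoc _ (T.ψ _) (T.ψ _), ψ_one_mul]
  simp only [mul_assoc]

theorem finrank_hΦ : finrank ℂ (T.ig.hΦ t).range =
    Nat.card {χ : IrrCharacter G // ∃ φ, IsCharacter G φ ∧ fixedPointCharacter T.B = χ + φ} := by
  rw [(Submodule.equivMapOfInjective _ T.ψ_inj _).finrank_eq, finrank_central_mul (T.ψ_one_mul _) (T.mem_range_hΦ hq ht)]
  refine Nat.card_congr (Equiv.subtypeEquivRight fun χ => ?_)
  have h0 : IsCharacter G (fixedPointCharacter T.B) := isCharacter_perm (G := G) (G ⧸ T.B)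
  have h1 : classInner (fixedPointCharacter T.B) χ = ch χ (T.ψ (Pi.single 1 1)) := by
    rw [h0.classInner_comm χ.2.isCharacter, show fixedPointCharacter T.B = indFun T.B fun _ => 1 from
      funext fun g => (indFun_one_eq_card_fixedBy_quotient ..).symm, frobenius_right _ _ χ.2.isClassFunction, classInner_one_right, ch_eq_sum]
    simp only [coeff_ψ, Pi.single_apply, T.δ_eq_one, ite_div, ite_mul, zero_div, zero_mul, ← sum_filter, ← mul_sum, one_div]
    rw [sum_subtype (p := (· ∈ T.B)) _ (by simp)]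
  rw [← h1]
  refine ⟨fun h => ⟨_, h0.sub_irr χ.2 h, by simp⟩, fun ⟨φ, a, b⟩ => ?_⟩
  obtain ⟨n, hn⟩ := a.classInner_eq_nat χ.2.isCharacter
  rw [b, classInner_add_left, χ.2.classInner_self, hn]
  norm_cast
  omega

end Tits

/-- the thin Tits system -/
def InvGen.thin {ι W : Type*} [Group W] {s : ι → W} (h : InvGen s) (hx : Exchange s) : Tits s W where
  ig := h
  ex := hx
  B := ⊥
  δ := id
  δ_eq_one := .rfl
  δ_left := by simp
  δ_inv _ := rfl
  δ_eq e := ⟨1, rfl, 1, rfl, by simpa using e.symm⟩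
  surj := Function.surjective_id
  mul e _ := .inl (e ▸ rfl)

open Classical in
theorem Tits.card_constituents {ι W G : Type*} [Group W] [Finite W] {s : ι → W} [Group G] [Fintype G] (T : Tits s G) {t : ℂ}
    (hq : T.q = fun _ => t) (ht : t ≠ 0) (h : ∀ n : ℕ, ∃ p : ℕ, n + 1 ≤ p ∧ ∃ (G : Type) (_ : Group G) (_ : Fintype G) (T : Tits s G), T.q = fun _ => (p : ℂ)) :
    Nat.card {χ : IrrCharacter G // ∃ φ, IsCharacter G φ ∧ fixedPointCharacter T.B = χ + φ} = Nat.card (ConjClasses W) := by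
  have := Fintype.ofFinite W
  have h1 : (T.ig.thin T.ex).q = fun _ => 1 := funext fun i => by
    simpa [Tits.q, InvGen.thin] using card_eq_one.2 ⟨s i, Finset.ext fun _ => mem_filter.trans (by simp)⟩
  rw [← T.finrank_hΦ hq ht, rank_const T.ig.pv_hΦ T.ig.pv_hA ?_ (T.range_hΦ hq ht) ((T.ig.thin T.ex).range_hΦ h1 one_ne_zero),
    (Submodule.equivMapOfInjective _ (T.ig.thin T.ex).ψ_inj _).finrank_eq,
    finrank_central_mul ((T.ig.thin T.ex).ψ_one_mul _) ((T.ig.thin T.ex).mem_range_hΦ h1 one_ne_zero), ← card_irr_eq_card_conjClasses]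
  · refine Nat.card_congr (Equiv.subtypeUnivEquiv fun χ => ?_)
    simpa [ch_eq_sum, Tits.coeff_ψ, InvGen.thin, Pi.single_apply] using χ.2.apply_one_ne_zero
  refine fun a => Set.infinite_of_forall_exists_gt (fun n => ?_) (a.preimage (Nat.cast_injective (R := ℂ)).injOn)
  obtain ⟨p, a, G, _, _, T, b⟩ := h n
  exact ⟨p, T.range_hΦ b (by norm_cast; omega), a⟩

section St
open Cfsg.Lie
variable {I R : Type} [Fintype I] [DecidableEq I] [Fintype R] [DecidableEq R]

theorem St.tits_q {Φ : CD I R} {F : Type*} [Field F] {G : Type*} [Group G] [Fintype G] {S : St Φ F G} (hG : S.Gx = ⊤) :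
    (St.tits hG).q = fun _ => (Nat.card F : ℂ) := funext fun i => by
  classical
  obtain ⟨m, h1, h2⟩ := St.exists_of_W (S := S) (Φ.s i)
  have e : Nat.card (S.B × S.Uw (Φ.s i)) = Nat.card {g // (St.tits hG).δ g = Φ.s i} := by
    refine Nat.card_eq_of_bijective (fun p => ⟨p.1 * m * p.2, (St.tits_δ hG).2 ((h2.cell h1).mul p.1.2 (St.U_le_B (St.Uw_le_U _ p.2.2)))⟩)
      ⟨fun p p' e => ?_, fun g => ?_⟩
    · obtain ⟨a, b⟩ := St.normal_form_unique h2 p.1.2 p'.1.2 p.2.2 p'.2.2 (congrArg Subtype.val e)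
      exact Prod.ext (Subtype.ext a) (Subtype.ext b)
    · obtain ⟨b, a1, m', a2, w, a3, u, a4, e⟩ := St.bruhat (hG.ge (Subgroup.mem_top g.1))
      obtain rfl := ((St.tits_δ hG).1 g.2).unique ⟨b, a1, m', a2, u, St.U_le_B (St.Uw_le_U w a4), a3, e⟩
      refine ⟨⟨⟨b * (m' * m⁻¹), mul_mem a1 (St.H_le_B (St.mem_H_of_acts (mul_mem a2 (inv_mem h1)) (by simpa using a3.mul h2.inv)))⟩, u, a4⟩,
        Subtype.ext ?_⟩
      simp [e, mul_assoc]
  rw [Nat.card_prod, St.card_Uw, Φ.invGen.len_simple Φ.exchange, pow_one, eq_comm, Nat.card_eq_fintype_card, Fintype.card_subtype] at e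
  rw [Tits.q, div_eq_iff (card_ne_zero' _), mul_comm]
  norm_cast
  convert e
  rfl

theorem Checked.card_constituents {D : ChevalleyDatum} {c : Cert} (h : Checked D c) (F : Type*) [Field F] [Fintype F] {M : Type*} [Group M]
    (e : h.toRS.W ≃* M) : Nat.card {χ : IrrCharacter (D.group F) // ∃ φ, IsCharacter (D.group F) φ ∧
      fixedPointCharacter ((D.borelSubgroup F).subgroupOf (D.group F)) = χ + φ} = Nat.card (ConjClasses M) := by
  have := Fintype.ofFinite (D.group F)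
  rw [← h.adj_B]
  refine ((St.tits (h.adj_Gx (K := F))).card_constituents (St.tits_q _) (by simp) fun n => ?_).trans (Nat.card_congr ?_)
  · obtain ⟨p, a, b⟩ := (n + 1).exists_infinite_primes
    have := Fact.mk b
    have := Fintype.ofFinite (D.group (ZMod p))
    exact ⟨p, a, _, _, this, _, (St.tits_q (h.adj_Gx (K := ZMod p))).trans (by simp)⟩
  exact Quotient.congr e.toEquiv fun a b => ⟨e.toMonoidHom.map_isConj, fun h =>
    e.symm_apply_apply a ▸ e.symm_apply_apply b ▸ e.symm.toMonoidHom.map_isConj h⟩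

end St

end Cfsg.Agent.Chev
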