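import Cfsg.Agent.Lib.Chev.Stein

set_option autoImplicit false
set_option linter.unusedSectionVars false

/-! Certificates for homomorphisms between Chevalley groups given on root elements. -/

namespace Cfsg.Agent.Chev

open Cfsg.Lie

noncomputable def embCheck (n B T T' wi ei : ℕ) : Bool :=
  force B fun B => force T fun T => force T' fun T' => force wi fun wi => force ei fun ei =>
    allLt n fun r => force (look T (Nat.mul B 256) r) fun row1 => force (look wi 8 r) fun wr =>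
      force (look T' (Nat.mul B 256) wr) fun row2 => force (look ei 1 r) fun er =>
        allLt n fun s => force (look row1 B (Nat.succ s)) (sc3 B wi ei er row2 s)

theorem embCheck_spec {n B T T' wi ei : ℕ} (h : embCheck n B T T' wi ei = true) {r s : ℕ} (hr : r < n)
    (hs : s < n) : ceP B T' (look wi 8 r) (look wi 8 s) =
      trL (look wi 8) (etaP ei) (etaP ei r) (etaP ei s) (ceP B T r s) := by
  simp only [embCheck, force_eq, allLt_iff, sc3, sc4, lbeq_iff, trLr_eq] at h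
  exact h r hr s hs

theorem ceP_length {B : ℕ} (hB : B ≤ 22) (T r s : ℕ) : (ceP B T r s).length ≤ 2 := by
  unfold ceP
  have : ∀ T k, look T B k < 4194304 := fun T k =>
    (Nat.mod_lt _ (Nat.pow_pos two_pos)).trans_le (Nat.pow_le_pow_right two_pos hB)
  generalize hc : look (look T (Nat.mul B 256) r) B (Nat.succ s) = c
  have h1 : Nat.div c 4194304 = 0 := Nat.div_eq_of_lt (hc ▸ this _ _)
  unfold dec
  rw [h1]
  cases c with
  | zero => simp
  | succ c => cases Nat.div (c + 1) 2048 <;> simp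

theorem etaP_sq (ei r : ℕ) : etaP ei r * etaP ei r = 1 := by
  rcases sg_cases (look ei 1 r) with h | h <;> simp [etaP, h]

/-- basic checks on a map of roots -/
noncomputable def mapB (n n' : ℕ) (π π' : ℕ → ℕ) : Bool :=
  allLt n fun r => band (Nat.blt (π r) n') <| band (Nat.beq (π' (π r)) r) <|
    Nat.beq (π (ngP n r)) (ngP n' (π r))

def redL (p : ℕ) (L : List (ℕ × ℤ × ℕ × ℕ)) : List (ℕ × ℤ × ℕ × ℕ) :=
  (L.map fun c => (c.1, c.2.1 % (p : ℤ), c.2.2)).filter fun c => c.2.1 != 0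

noncomputable def twB (D : ChevalleyDatum) (p : ℕ) (π e : ℕ → ℕ) : Bool :=
  allLt D.nroots fun r => allLt D.nroots fun s => bor (Nat.beq s r) <| bor (Nat.beq s (ngP D.nroots r)) <|
    band ((redL p ((D.commTerms r s).map fun c =>
        (π c.1, (c.2.1 * (-1) ^ c.2.2.1) ^ e c.1, c.2.2.1 * e c.1, c.2.2.2 * e c.1))).isPerm
      (redL p ((D.commTerms (π r) (π s)).map fun c =>
        (c.1, c.2.1 * (-1) ^ c.2.2.1, c.2.2.1 * e r, c.2.2.2 * e s)))) <|
    (redL p (D.commTerms (π r) (π s))).all fun a => (redL p (D.commTerms (π r) (π s))).all fun b =>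
      bor (Nat.beq b.1 a.1) <| band (b.1 != ngP D.nroots a.1) (redL p (D.commTerms a.1 b.1)).isEmpty

section
variable {D : ChevalleyDatum} {K : Type*} [Field K] {G : Type*} [Group G]

/-- root elements indexed by natural numbers -/
def xN (y : Fin D.nroots → K → G) (r : ℕ) (t : K) : G := if h : r < D.nroots then y ⟨r, h⟩ t else 1

theorem xN_fin (y : Fin D.nroots → K → G) (r : Fin D.nroots) : xN y r = y r := by
  ext t; simp [xN]

theorem xN_lt (y : Fin D.nroots → K → G) {r : ℕ} (hr : r < D.nroots) : xN y r = y ⟨r, hr⟩ :=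
  xN_fin y ⟨r, hr⟩

/-- evaluation of a list of terms -/
def evT (x : ℕ → K → G) (t u : K) (L : List (ℕ × ℤ × ℕ × ℕ)) : List G :=
  L.map fun c => x c.1 ((c.2.1 : K) * t ^ c.2.2.1 * u ^ c.2.2.2)

theorem evT_redL {x : ℕ → K → G} (hx : ∀ r, x r 0 = 1) (p : ℕ) [CharP K p] (t u : K)
    (L : List (ℕ × ℤ × ℕ × ℕ)) : (evT x t u (redL p L)).prod = (evT x t u L).prod := by
  induction L with
  | nil => rfl
  | cons a L ih =>
    have e : ((a.2.1 % p : ℤ) : K) = a.2.1 := (CharP.intCast_eq_intCast_mod K p).symm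
    simp only [redL, evT, List.map_cons, List.filter_cons, List.prod_cons] at ih ⊢
    split_ifs with h
    · simp [ih, e]
    · have : a.2.1 % p = 0 := by simpa using h
      rw [ih, ← e, this]; simp [hx]

end

namespace Checked
variable {D : ChevalleyDatum} {c : Cert} (h : Checked D c) {K : Type*} [Field K] {G : Type*} [Group G]

theorem rel_of {x : ℕ → K → G} (h1 : ∀ r < D.nroots, ∀ t u, x r t * x r u = x r (t + u))
    (h2 : ∀ r < D.nroots, ∀ s < D.nroots, ∀ t u, s ≠ r → s ≠ ngP D.nroots r →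
      x s u * x r t = x r t * x s u * (evT x (-t) u (D.commTerms r s)).prod) :
    h.toCD.Rel fun r t => x r t := by
  refine ⟨fun r => h1 r r.2, fun r s t u e1 e2 => ?_⟩
  rw [h.prod_ct x, h2 r r.2 s s.2 t u (fun e => e1 (Fin.ext e))
    (fun e => e2 (Fin.ext (e.trans (h.neg_eq r.2).symm)))]
  simp [evT, ChevalleyDatum.commWord, Function.comp_def]

theorem xN_comm {y : Fin D.nroots → K → G} (hy : h.toCD.Rel y) {r s : ℕ} (hr : r < D.nroots)
    (hs : s < D.nroots) (t u : K) (e1 : s ≠ r) (e2 : s ≠ ngP D.nroots r) :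
    xN y s u * xN y r t = xN y r t * xN y s u * (evT (xN y) (-t) u (D.commTerms r s)).prod := by
  have := hy.comm ⟨r, hr⟩ ⟨s, hs⟩ t u (fun e => e1 (congrArg Fin.val e))
    (fun e => e2 ((congrArg Fin.val e).trans (h.neg_eq hr)))
  have e := h.prod_ct (xN y) ⟨r, hr⟩ ⟨s, hs⟩ t u
  simp only [xN_fin] at e
  rw [xN_lt y hr, xN_lt y hs, this, e]
  simp [evT, ChevalleyDatum.commWord, Function.comp_def]

theorem xN_add {y : Fin D.nroots → K → G} (hy : h.toCD.Rel y) (r : ℕ) (t u : K) :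
    xN y r t * xN y r u = xN y r (t + u) := by
  unfold xN; split_ifs <;> simp [hy.add]

theorem xN_zero {y : Fin D.nroots → K → G} (hy : h.toCD.Rel y) (r : ℕ) : xN y r 0 = 1 := by
  have := h.xN_add hy r 0 0
  rw [add_zero] at this
  exact mul_eq_left.1 this

omit h in
theorem mapB_spec {n n' : ℕ} {π π' : ℕ → ℕ} (hπ : mapB n n' π π' = true) :
    (∀ r < n, π r < n') ∧ (∀ r < n, ∀ s < n, π r = π s → r = s) ∧ ∀ r < n, π (ngP n r) = ngP n' (π r) := by
  simp only [mapB, allLt_iff, band_iff, Nat.blt_eq, Nat.beq_eq] at hπ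
  exact ⟨fun r hr => (hπ r hr).1, fun r hr s hs e => by rw [← (hπ r hr).2.1, e, (hπ s hs).2.1],
    fun r hr => (hπ r hr).2.2⟩

include h in
theorem ngP_lt {r : ℕ} (hr : r < D.nroots) : ngP D.nroots r < D.nroots := h.neg_eq hr ▸ h.neg_lt hr

theorem rel_of_ct {D' : ChevalleyDatum} {c' : Cert} (h' : Checked D' c') {y : Fin D'.nroots → K → G}
    (hy : h'.toCD.Rel y) {π π' : ℕ → ℕ} (hπ : mapB D.nroots D'.nroots π π' = true) {ε : ℕ → ℤ}
    (hε : ∀ r, ε r * ε r = 1)
    (hc : ∀ r < D.nroots, ∀ s < D.nroots, D'.commTerms (π r) (π s) = trC π ε (ε r) (ε s) (D.commTerms r s)) :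
    h.toCD.Rel fun r t => xN y (π r) ((ε r : K) * t) := by
  obtain ⟨h1, h2, h3⟩ := mapB_spec hπ
  refine h.rel_of (x := fun r t => xN y (π r) ((ε r : K) * t))
    (fun r _ t u => by rw [h'.xN_add hy, mul_add]) fun r hr s hs t u e1 e2 => ?_
  rw [h'.xN_comm hy (h1 r hr) (h1 s hs) _ _ (fun e => e1 (h2 _ hs _ hr e))
    (fun e => e2 (h2 _ hs _ (h.ngP_lt hr) (e.trans (h3 r hr).symm))), hc r hr s hs]
  congr 2
  simp only [evT, trC, List.map_map]
  refine List.map_congr_left fun q _ => ?_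
  have e : ∀ r k, (ε r : K) ^ k * (ε r : K) ^ k = 1 := fun r k => by
    rw [← mul_pow, ← Int.cast_mul, hε]; simp
  simp only [Function.comp_apply, neg_mul_eq_mul_neg, mul_pow]
  congr 1
  push_cast
  linear_combination ((q.2.1 : K) * ε q.1 * (-t) ^ q.2.2.1 * u ^ q.2.2.2 * (ε s : K) ^ q.2.2.2 *
    (ε s : K) ^ q.2.2.2) * e r q.2.2.1 + ((q.2.1 : K) * ε q.1 * (-t) ^ q.2.2.1 * u ^ q.2.2.2) * e s q.2.2.2

theorem rel_of_emb {D' : ChevalleyDatum} {c' : Cert} (h' : Checked D' c') {y : Fin D'.nroots → K → G}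
    (hy : h'.toCD.Rel y) {wi ei : ℕ} {π' : ℕ → ℕ} (hπ : mapB D.nroots D'.nroots (look wi 8) π' = true)
    (hB : c'.B = c.B) (hB' : c.B ≤ 22) (he : embCheck D.nroots c.B c.T c'.T wi ei = true) :
    h.toCD.Rel fun r t => xN y (look wi 8 r) ((etaP ei r : K) * t) := by
  have key : ∀ r < D.nroots, ∀ s < D.nroots, D'.chainEntry (look wi 8 r) (look wi 8 s) =
      trL (look wi 8) (etaP ei) (etaP ei r) (etaP ei s) (D.chainEntry r s) := fun r hr s hs => by
    rw [h'.ce_eq ((mapB_spec hπ).1 r hr) ((mapB_spec hπ).1 s hs), h.ce_eq hr hs, Cert.ce, hB]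
    exact embCheck_spec he hr hs
  refine h.rel_of_ct h' hy hπ (etaP_sq ei) fun r hr s hs => commTerms_transfer (key r hr s hs) (key s hs r hr)
    ?_ ?_
  · rw [h.ce_eq hr hs]; exact ceP_length hB' _ _ _
  · rw [h.ce_eq hs hr]; exact ceP_length hB' _ _ _

theorem commute_of_redL {y : Fin D.nroots → K → G} (hy : h.toCD.Rel y) (p : ℕ) [CharP K p] {a b : ℕ}
    (ha : a < D.nroots) (hb : b < D.nroots)
    (e : b = a ∨ b ≠ ngP D.nroots a ∧ redL p (D.commTerms a b) = []) (t u : K) :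
    Commute (xN y a t) (xN y b u) := by
  by_cases e1 : b = a
  · rw [e1, Commute, SemiconjBy, h.xN_add hy, h.xN_add hy, add_comm]
  · have e2 := e.resolve_left e1
    have := h.xN_comm hy ha hb t u e1 e2.1
    rw [← evT_redL (h.xN_zero hy) p, e2.2] at this
    simpa [evT, commute_iff_eq] using this.symm

theorem rel_of_tw {y : Fin D.nroots → K → G} (hy : h.toCD.Rel y) (p : ℕ) [Fact p.Prime] [CharP K p]
    {π π' e : ℕ → ℕ} (hπ : mapB D.nroots D.nroots π π' = true) (he : ∀ r < D.nroots, e r = 1 ∨ e r = p)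
    (hc : twB D p π e = true) : h.toCD.Rel fun r t => xN y (π r) (t ^ e r) := by
  obtain ⟨h1, h2, h3⟩ := mapB_spec hπ
  refine h.rel_of (x := fun r t => xN y (π r) (t ^ e r)) (fun r hr t u => ?_) fun r hr s hs t u e1 e2 => ?_
  · rw [h.xN_add hy]
    rcases he r hr with e | e <;> simp [e, add_pow_char]
  rw [h.xN_comm hy (h1 r hr) (h1 s hs) _ _ (fun e => e1 (h2 _ hs _ hr e))
    (fun e => e2 (h2 _ hs _ (h.ngP_lt hr) (e.trans (h3 r hr).symm)))]
  congr 1
  simp only [twB, allLt_iff, bor_iff, band_iff, Nat.beq_eq, List.isPerm_iff, List.all_eq_true, bne_iff_ne,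
    List.isEmpty_iff] at hc
  obtain ⟨c1, c2⟩ := ((hc r hr s hs).resolve_left e1).resolve_left e2
  have a1 : evT (fun r t => xN y (π r) (t ^ e r)) (-t) u (D.commTerms r s) = evT (xN y) t u
      ((D.commTerms r s).map fun c =>
        (π c.1, (c.2.1 * (-1) ^ c.2.2.1) ^ e c.1, c.2.2.1 * e c.1, c.2.2.2 * e c.1)) := by
    simp only [evT, List.map_map]
    refine List.map_congr_left fun q _ => ?_
    simp only [Function.comp_apply]
    congr 1
    rw [neg_eq_neg_one_mul t]
    push_cast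
    ring
  have a2 : evT (xN y) (-t ^ e r) (u ^ e s) (D.commTerms (π r) (π s)) = evT (xN y) t u
      ((D.commTerms (π r) (π s)).map fun c =>
        (c.1, c.2.1 * (-1) ^ c.2.2.1, c.2.2.1 * e r, c.2.2.2 * e s)) := by
    simp only [evT, List.map_map]
    refine List.map_congr_left fun q _ => ?_
    simp only [Function.comp_apply]
    congr 1
    rw [neg_eq_neg_one_mul (t ^ e r)]
    push_cast
    ring
  rw [a1, a2, ← evT_redL (h.xN_zero hy) p, ← evT_redL (h.xN_zero hy) p t u (List.map _ _)]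
  refine (c1.symm.map _).prod_eq' (List.pairwise_of_forall_mem_list ?_)
  have key : ∀ g ∈ evT (xN y) t u (redL p ((D.commTerms (π r) (π s)).map fun c =>
        (c.1, c.2.1 * (-1) ^ c.2.2.1, c.2.2.1 * e r, c.2.2.2 * e s))),
      ∃ a ∈ redL p (D.commTerms (π r) (π s)), a.1 < D.nroots ∧ ∃ v, g = xN y a.1 v := by
    intro g hg
    simp only [evT, redL, List.mem_map, List.mem_filter, bne_iff_ne] at hg ⊢
    obtain ⟨_, ⟨⟨_, ⟨q, hq, rfl⟩, rfl⟩, h4⟩, rfl⟩ := hg
    refine ⟨_, ⟨⟨q, hq, rfl⟩, fun e => h4 ?_⟩, (h.commTerms_spec (h1 r hr) (h1 s hs) hq).1, _, rfl⟩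
    exact Int.emod_eq_zero_of_dvd ((Int.dvd_of_emod_eq_zero e).mul_right _)
  intro g hg g' hg'
  obtain ⟨a, ha, ha', v, rfl⟩ := key g hg
  obtain ⟨b, hb, hb', v', rfl⟩ := key g' hg'
  exact h.commute_of_redL hy p ha' hb' (c2 a ha b hb) _ _

end Checked

end Cfsg.Agent.Chev
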