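import Cfsg.Agent.Lib.Chev.Emb

set_option autoImplicit false
set_option maxRecDepth 100000

/-! Embeddings and graph symmetries of the tabulated data. -/

namespace Cfsg.Agent.Chev

open Cfsg.Lie

/-- a node map given by a list -/
def nodeMap {l l' : ℕ} (L : List ℕ) (h : ∀ i : Fin l, L.getD i 0 < l') (i : Fin l) : Fin l' := ⟨L.getD i 0, h i⟩

theorem Checked.simMap {D D' : ChevalleyDatum} {c c' : Cert} (h : Checked D c) (h' : Checked D' c')
    {K : Type*} [Field K] {G : Type*} [Group G] (S : St h'.toCD K G) {π : ℕ → ℕ} {ε : ℕ → ℤ}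
    {ν : Fin D.rank → Fin D'.rank}
    (e : ∀ i : Fin D.rank, π (D.simple i) = D'.simple (ν i) ∧ π (D.neg (D.simple i)) = D'.neg (D'.simple (ν i)) ∧
      ε (D.simple i) = 1 ∧ ε (D.neg (D.simple i)) = 1) :
    St.SimMap h.toCD (fun r t => xN S.x (π r) ((ε r : K) * t)) S ν fun _ => RingHom.id K := by
  intro i t
  obtain ⟨h1, h2, h3, h4⟩ := e i
  constructor
  · show xN S.x (π (D.simple i)) ((ε (D.simple i) : K) * t) = _
    rw [h1, h3, xN_lt _ (h'.sim_lt (ν i).2)]; simp; rfl
  · show xN S.x (π (D.neg (D.simple i))) ((ε (D.neg (D.simple i)) : K) * t) = _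
    rw [h2, h4, xN_lt _ (h'.neg_lt (h'.sim_lt (ν i).2))]; simp; rfl

def wE6E7 : ℕ := 0x7773706e6d6a686765646361605f5e5d5a585755545351504f4e4c4b4a494746454342403d3b3a383736343332312f2e2d2c2a2928262523201f1e1d1c1a1918161513100f0d0a06
def vE6E7 : ℕ := 0x4700000046000045004443000042004140003f3e3d003c3b3a3938000037003635003433320031302f2e002d2c2b2a00292827002625002400002300222100201f1e001d1c1b1a001918171600151413001211001000000f0e0d0c0b000a0908000706000500000403000200000100000000000000000000
def eE6E7 : ℕ := 0x0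
def nE6E7 : Fin chevE6.rank → Fin chevE7.rank := nodeMap [0, 1, 2, 3, 4, 5] (by decide +kernel)

theorem map_E6E7 : mapB chevE6.nroots chevE7.nroots (look wE6E7 8) (look vE6E7 8) = true := by decide +kernel

theorem rel_E6E7 {K : Type*} [Field K] {G : Type*} [Group G] {y : Fin chevE7.nroots → K → G}
    (hy : checkedE7.toCD.Rel y) :
    checkedE6.toCD.Rel fun r t => xN y (look wE6E7 8 r) ((etaP eE6E7 r : K) * t) :=
  checkedE6.rel_of_emb checkedE7 hy map_E6E7 rfl (by decide) (by decide +kernel)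

theorem sim_E6E7 {K : Type*} [Field K] {G : Type*} [Group G] (S : St checkedE7.toCD K G) :
    St.SimMap checkedE6.toCD (fun r t => xN S.x (look wE6E7 8 r) ((etaP eE6E7 r : K) * t)) S nE6E7
      fun _ => RingHom.id K :=
  checkedE6.simMap checkedE7 S (by decide +kernel)

theorem hT_inj_E6 {K : Type*} [Field K] : Function.Injective (checkedE6.uni_hMul (K := K)).hT := by
  obtain ⟨φ, hφ⟩ := checkedE6.uni_lift' (St.hMul_of_inj checkedE7.st_inj) (rel_E6E7 (checkedE7.st K).rel)
    (sim_E6E7 _)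
  have h : St.SimMap checkedE6.toCD (fun r t => φ ((checkedE6.uni K).x r t)) (checkedE7.st K) nE6E7
      fun _ => RingHom.id K := by simpa only [hφ] using sim_E6E7 _
  exact h.hT_inj _ _ (fun _ => rfl) (M' := lmat [[-2, 1, -1, 0, 0, 0], [-4, 2, -2, 0, 0, 0], [-5, 2, -2, 0, 0, 0], [-8, 3, -4, 0, 0, 0], [-7, 2, -4, -1, 0, 0], [-6, 1, -4, -2, -1, 0], [-5, 0, -4, -3, -2, -1]]) (by decide +kernel)

def wE7E8 : ℕ := 0xe2dbd6d2cfcdccc8c5c3c2bfbdbcbab9b8b5b3b2b0afaeacabaaa9a7a6a5a4a3a29f9d9c9a99989695949391908f8e8d8b8a89888785848382807f7e7c7b7976747371706f6d6c6b6a68676665646261605f5e5c5b5a595756555352504d4c4b4a49484645444341403f3d3c3a3736353332302d2c2a272322201d19140d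
def vE7E8 : ℕ := 0x7d0000000000007c000000007b0000007a00007900787700000076000075007473000072007170006f6e6d00006c006b6a006968670066656463006261605f5e5d00005c005b5a005958570056555453005251504f4e004d4c4b4a49004847464500444342004140003f00003e003d3c003b3a390038373635003433323130002f2e2d2c2b002a2928270026252400232200210000201f1e1d1c1b001a1918170016151400131200110000100f0e000d0c000b00000a090008000007000000060500040000030000000200000000010000000000000000000000000000000000000000
def eE7E8 : ℕ := 0x0
def nE7E8 : Fin chevE7.rank → Fin chevE8.rank := nodeMap [0, 1, 2, 3, 4, 5, 6] (by decide +kernel)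

theorem map_E7E8 : mapB chevE7.nroots chevE8.nroots (look wE7E8 8) (look vE7E8 8) = true := by decide +kernel

theorem rel_E7E8 {K : Type*} [Field K] {G : Type*} [Group G] {y : Fin chevE8.nroots → K → G}
    (hy : checkedE8.toCD.Rel y) :
    checkedE7.toCD.Rel fun r t => xN y (look wE7E8 8 r) ((etaP eE7E8 r : K) * t) :=
  checkedE7.rel_of_emb checkedE8 hy map_E7E8 rfl (by decide) (by decide +kernel)

theorem sim_E7E8 {K : Type*} [Field K] {G : Type*} [Group G] (S : St checkedE8.toCD K G) :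
    St.SimMap checkedE7.toCD (fun r t => xN S.x (look wE7E8 8 r) ((etaP eE7E8 r : K) * t)) S nE7E8
      fun _ => RingHom.id K :=
  checkedE7.simMap checkedE8 S (by decide +kernel)

theorem hT_inj_E7 {K : Type*} [Field K] : Function.Injective (checkedE7.uni_hMul (K := K)).hT := by
  obtain ⟨φ, hφ⟩ := checkedE7.uni_lift' (St.hMul_of_inj checkedE8.st_inj) (rel_E7E8 (checkedE8.st K).rel)
    (sim_E7E8 _)
  have h : St.SimMap checkedE7.toCD (fun r t => φ ((checkedE7.uni K).x r t)) (checkedE8.st K) nE7E8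
      fun _ => RingHom.id K := by simpa only [hφ] using sim_E7E8 _
  exact h.hT_inj _ _ (fun _ => rfl) (M' := lmat [[-2, 1, -1, 0, 0, 0, 0], [-4, 2, -2, 0, 0, 0, 0], [-5, 2, -2, 0, 0, 0, 0], [-8, 3, -4, 0, 0, 0, 0], [-7, 2, -4, -1, 0, 0, 0], [-6, 1, -4, -2, -1, 0, 0], [-5, 0, -4, -3, -2, -1, 0], [-4, -1, -4, -4, -3, -2, -1]]) (by decide +kernel)

def wD4E6 : ℕ := 0x353332302f2e2c2b28272a25221d201f1c1b191817151412
def vD4E6 : ℕ := 0x17001615001413120011100d000f0e000c00000b000908000a0706000504030002010000000000000000000000000000000000000000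
def eD4E6 : ℕ := 0x300c0
def nD4E6 : Fin chevD4.rank → Fin chevE6.rank := nodeMap [1, 3, 2, 4] (by decide +kernel)

theorem map_D4E6 : mapB chevD4.nroots chevE6.nroots (look wD4E6 8) (look vD4E6 8) = true := by decide +kernel

theorem rel_D4E6 {K : Type*} [Field K] {G : Type*} [Group G] {y : Fin chevE6.nroots → K → G}
    (hy : checkedE6.toCD.Rel y) :
    checkedD4.toCD.Rel fun r t => xN y (look wD4E6 8 r) ((etaP eD4E6 r : K) * t) :=
  checkedD4.rel_of_emb checkedE6 hy map_D4E6 rfl (by decide) (by decide +kernel)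

theorem sim_D4E6 {K : Type*} [Field K] {G : Type*} [Group G] (S : St checkedE6.toCD K G) :
    St.SimMap checkedD4.toCD (fun r t => xN S.x (look wD4E6 8 r) ((etaP eD4E6 r : K) * t)) S nD4E6
      fun _ => RingHom.id K :=
  checkedD4.simMap checkedE6 S (by decide +kernel)

theorem hT_inj_D4 {K : Type*} [Field K] : Function.Injective (checkedD4.uni_hMul (K := K)).hT := by
  obtain ⟨φ, hφ⟩ := checkedD4.uni_lift' (St.hMul_of_inj checkedE6.st_inj) (rel_D4E6 (checkedE6.st K).rel)
    (sim_D4E6 _)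
  have h : St.SimMap checkedD4.toCD (fun r t => φ ((checkedD4.uni K).x r t)) (checkedE6.st K) nD4E6
      fun _ => RingHom.id K := by simpa only [hφ] using sim_D4E6 _
  exact h.hT_inj _ _ (fun _ => rfl) (M' := lmat [[-3, -2, -1, 0], [0, 0, 0, 0], [-2, -1, 0, 0], [-1, 0, 0, 0], [0, 0, 0, 0], [1, 0, 0, -1]]) (by decide +kernel)

def wB2F4 : ℕ := 0x1e1c1b1916141311
def vB2F4 : ℕ := 0x7000605000400000300020100000000000000000000000000000000000000
def eB2F4 : ℕ := 0x0
def nB2F4 : Fin chevB2.rank → Fin chevF4.rank := nodeMap [1, 2] (by decide +kernel)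

theorem map_B2F4 : mapB chevB2.nroots chevF4.nroots (look wB2F4 8) (look vB2F4 8) = true := by decide +kernel

theorem rel_B2F4 {K : Type*} [Field K] {G : Type*} [Group G] {y : Fin chevF4.nroots → K → G}
    (hy : checkedF4.toCD.Rel y) :
    checkedB2.toCD.Rel fun r t => xN y (look wB2F4 8 r) ((etaP eB2F4 r : K) * t) :=
  checkedB2.rel_of_emb checkedF4 hy map_B2F4 rfl (by decide) (by decide +kernel)

theorem sim_B2F4 {K : Type*} [Field K] {G : Type*} [Group G] (S : St checkedF4.toCD K G) :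
    St.SimMap checkedB2.toCD (fun r t => xN S.x (look wB2F4 8 r) ((etaP eB2F4 r : K) * t)) S nB2F4
      fun _ => RingHom.id K :=
  checkedB2.simMap checkedF4 S (by decide +kernel)

theorem hT_inj_B2 {K : Type*} [Field K] : Function.Injective (checkedB2.uni_hMul (K := K)).hT := by
  obtain ⟨φ, hφ⟩ := checkedB2.uni_lift' (St.hMul_of_inj checkedF4.st_inj) (rel_B2F4 (checkedF4.st K).rel)
    (sim_B2F4 _)
  have h : St.SimMap checkedB2.toCD (fun r t => φ ((checkedB2.uni K).x r t)) (checkedF4.st K) nB2F4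
      fun _ => RingHom.id K := by simpa only [hφ] using sim_B2F4 _
  exact h.hT_inj _ _ (fun _ => rfl) (M' := lmat [[-1, -2], [0, -1], [0, 0], [0, 0]]) (by decide +kernel)

def wgE6 : ℕ := 0x47464542374441363f34313c2d2926244340353e33303d322f2e3b2c28253a2b27392a380f1d0e201c0d221f1b0c1918150a17140912070423211e1a0b1613081106031005020100
def vgE6 : ℕ := 0x47464542374441363f34313c2d2926244340353e33303d322f2e3b2c28253a2b27392a380f1d0e201c0d221f1b0c1918150a17140912070423211e1a0b1613081106031005020100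
def egE6 : ℕ := 0x96ad22942944b5690
def ngE6 : Fin chevE6.rank → Fin chevE6.rank := nodeMap [5, 1, 4, 3, 2, 0] (by decide +kernel)

theorem map_gE6 : mapB chevE6.nroots chevE6.nroots (look wgE6 8) (look vgE6 8) = true := by decide +kernel

theorem rel_gE6 {K : Type*} [Field K] {G : Type*} [Group G] {y : Fin chevE6.nroots → K → G}
    (hy : checkedE6.toCD.Rel y) :
    checkedE6.toCD.Rel fun r t => xN y (look wgE6 8 r) ((etaP egE6 r : K) * t) :=
  checkedE6.rel_of_emb checkedE6 hy map_gE6 rfl (by decide) (by decide +kernel)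

theorem sim_gE6 {K : Type*} [Field K] {G : Type*} [Group G] (S : St checkedE6.toCD K G) :
    St.SimMap checkedE6.toCD (fun r t => xN S.x (look wgE6 8 r) ((etaP egE6 r : K) * t)) S ngE6
      fun _ => RingHom.id K :=
  checkedE6.simMap checkedE6 S (by decide +kernel)

def wgD4a : ℕ := 0x17161115100d140f130e0c12050b090408030a0702060100
def vgD4a : ℕ := 0x171614110f0c1513100e120d0a05090704020b0806030100
def egD4a : ℕ := 0x2a8154
def ngD4a : Fin chevD4.rank → Fin chevD4.rank := nodeMap [2, 1, 3, 0] (by decide +kernel)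

theorem map_gD4a : mapB chevD4.nroots chevD4.nroots (look wgD4a 8) (look vgD4a 8) = true := by decide +kernel

theorem rel_gD4a {K : Type*} [Field K] {G : Type*} [Group G] {y : Fin chevD4.nroots → K → G}
    (hy : checkedD4.toCD.Rel y) :
    checkedD4.toCD.Rel fun r t => xN y (look wgD4a 8 r) ((etaP egD4a r : K) * t) :=
  checkedD4.rel_of_emb checkedD4 hy map_gD4a rfl (by decide) (by decide +kernel)

theorem sim_gD4a {K : Type*} [Field K] {G : Type*} [Group G] (S : St checkedD4.toCD K G) :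
    St.SimMap checkedD4.toCD (fun r t => xN S.x (look wgD4a 8 r) ((etaP egD4a r : K) * t)) S ngD4a
      fun _ => RingHom.id K :=
  checkedD4.simMap checkedD4 S (by decide +kernel)

def wgD4b : ℕ := 0x171614110f0c1513100e120d0a05090704020b0806030100
def vgD4b : ℕ := 0x17161115100d140f130e0c12050b090408030a0702060100
def egD4b : ℕ := 0x1b00d8
def ngD4b : Fin chevD4.rank → Fin chevD4.rank := nodeMap [3, 1, 0, 2] (by decide +kernel)

theorem map_gD4b : mapB chevD4.nroots chevD4.nroots (look wgD4b 8) (look vgD4b 8) = true := by decide +kernel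

theorem rel_gD4b {K : Type*} [Field K] {G : Type*} [Group G] {y : Fin chevD4.nroots → K → G}
    (hy : checkedD4.toCD.Rel y) :
    checkedD4.toCD.Rel fun r t => xN y (look wgD4b 8 r) ((etaP egD4b r : K) * t) :=
  checkedD4.rel_of_emb checkedD4 hy map_gD4b rfl (by decide) (by decide +kernel)

theorem sim_gD4b {K : Type*} [Field K] {G : Type*} [Group G] (S : St checkedD4.toCD K G) :
    St.SimMap checkedD4.toCD (fun r t => xN S.x (look wgD4b 8 r) ((etaP egD4b r : K) * t)) S ngD4b
      fun _ => RingHom.id K :=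
  checkedD4.simMap checkedD4 S (by decide +kernel)

def wgD4c : ℕ := 0x171614151312110f100e0c0d0a0b09070806050402030100
def vgD4c : ℕ := 0x171614151312110f100e0c0d0a0b09070806050402030100
def egD4c : ℕ := 0x0
def ngD4c : Fin chevD4.rank → Fin chevD4.rank := nodeMap [0, 1, 3, 2] (by decide +kernel)

theorem map_gD4c : mapB chevD4.nroots chevD4.nroots (look wgD4c 8) (look vgD4c 8) = true := by decide +kernel

theorem rel_gD4c {K : Type*} [Field K] {G : Type*} [Group G] {y : Fin chevD4.nroots → K → G}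
    (hy : checkedD4.toCD.Rel y) :
    checkedD4.toCD.Rel fun r t => xN y (look wgD4c 8 r) ((etaP egD4c r : K) * t) :=
  checkedD4.rel_of_emb checkedD4 hy map_gD4c rfl (by decide) (by decide +kernel)

theorem sim_gD4c {K : Type*} [Field K] {G : Type*} [Group G] (S : St checkedD4.toCD K G) :
    St.SimMap checkedD4.toCD (fun r t => xN S.x (look wgD4c 8 r) ((etaP egD4c r : K) * t)) S ngD4c
      fun _ => RingHom.id K :=
  checkedD4.simMap checkedD4 S (by decide +kernel)

theorem hT_inj_G2 {K : Type*} [Field K] {G : Type*} [Group G] {S : St checkedG2.toCD K G} (hm : S.HMul) :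
    Function.Injective hm.hT := fun a b e =>
  zmap_inj cm_inv_G2 ((hm.isTor_hT a).unique (e ▸ hm.isTor_hT b))

theorem hT_inj_F4 {K : Type*} [Field K] {G : Type*} [Group G] {S : St checkedF4.toCD K G} (hm : S.HMul) :
    Function.Injective hm.hT := fun a b e =>
  zmap_inj cm_inv_F4 ((hm.isTor_hT a).unique (e ▸ hm.isTor_hT b))

theorem hT_inj_E8 {K : Type*} [Field K] {G : Type*} [Group G] {S : St checkedE8.toCD K G} (hm : S.HMul) :
    Function.Injective hm.hT := fun a b e =>
  zmap_inj cm_inv_E8 ((hm.isTor_hT a).unique (e ▸ hm.isTor_hT b))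

def wxB2 : ℕ := 0x607040502030001
def exB2 : ℕ := 0x6969
def nxB2 : Fin chevB2.rank → Fin chevB2.rank := nodeMap [1, 0] (by decide +kernel)

theorem map_xB2 : mapB chevB2.nroots chevB2.nroots (look wxB2 8) (look wxB2 8) = true := by decide +kernel

theorem exp_xB2 : ∀ r < chevB2.nroots, (look exB2 2 r = 1 ∨ look exB2 2 r = 2) ∧
    look exB2 2 r * look exB2 2 (look wxB2 8 r) = 2 := by decide +kernel

theorem rel_xB2 {K : Type*} [Field K] [CharP K 2] {G : Type*} [Group G] {y : Fin chevB2.nroots → K → G}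
    (hy : checkedB2.toCD.Rel y) :
    checkedB2.toCD.Rel fun r t => xN y (look wxB2 8 r) (t ^ look exB2 2 r) :=
  checkedB2.rel_of_tw hy 2 map_xB2 (fun r hr => (exp_xB2 r hr).1) (by decide +kernel)

def wxF4 : ℕ := 0x2c28272f26241d2e2d2b202a1f1a1825231c291e19221b210e140d161106130c0a171510050f040201120b0900080703
def exF4 : ℕ := 0x5656aaa95a9556a56aaa9595
def nxF4 : Fin chevF4.rank → Fin chevF4.rank := nodeMap [3, 2, 1, 0] (by decide +kernel)

theorem map_xF4 : mapB chevF4.nroots chevF4.nroots (look wxF4 8) (look wxF4 8) = true := by decide +kernel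

theorem exp_xF4 : ∀ r < chevF4.nroots, (look exF4 2 r = 1 ∨ look exF4 2 r = 2) ∧
    look exF4 2 r * look exF4 2 (look wxF4 8 r) = 2 := by decide +kernel

theorem rel_xF4 {K : Type*} [Field K] [CharP K 2] {G : Type*} [Group G] {y : Fin chevF4.nroots → K → G}
    (hy : checkedF4.toCD.Rel y) :
    checkedF4.toCD.Rel fun r t => xN y (look wxF4 8 r) (t ^ look exF4 2 r) :=
  checkedF4.rel_of_tw hy 2 map_xF4 (fun r hr => (exp_xF4 r hr).1) (by decide +kernel)

def wxG2 : ℕ := 0x9080b0a0607040501000302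
def exG2 : ℕ := 0x5fd7f5
def nxG2 : Fin chevG2.rank → Fin chevG2.rank := nodeMap [1, 0] (by decide +kernel)

theorem map_xG2 : mapB chevG2.nroots chevG2.nroots (look wxG2 8) (look wxG2 8) = true := by decide +kernel

theorem exp_xG2 : ∀ r < chevG2.nroots, (look exG2 2 r = 1 ∨ look exG2 2 r = 3) ∧
    look exG2 2 r * look exG2 2 (look wxG2 8 r) = 3 := by decide +kernel

theorem rel_xG2 {K : Type*} [Field K] [CharP K 3] {G : Type*} [Group G] {y : Fin chevG2.nroots → K → G}
    (hy : checkedG2.toCD.Rel y) :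
    checkedG2.toCD.Rel fun r t => xN y (look wxG2 8 r) (t ^ look exG2 2 r) :=
  checkedG2.rel_of_tw hy 3 map_xG2 (fun r hr => (exp_xG2 r hr).1) (by decide +kernel)

theorem rel_negG2 {K : Type*} [Field K] {G : Type*} [Group G] {y : Fin chevG2.nroots → K → G}
    (hy : checkedG2.toCD.Rel y) :
    checkedG2.toCD.Rel fun r t => xN y (ngP 12 r) (((-1 : ℤ) : K) * t) :=
  checkedG2.rel_of_ct checkedG2 hy (π' := ngP 12) (by decide +kernel) (ε := fun _ => -1) (fun _ => rfl) <| by
    have : allLt 12 (fun r => allLt 12 fun s => chevG2.commTerms (ngP 12 r) (ngP 12 s) ==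
      trC (ngP 12) (fun _ => -1) (-1) (-1) (chevG2.commTerms r s)) = true := by decide +kernel
    simp only [allLt_iff, beq_iff_eq] at this
    exact this

end Cfsg.Agent.Chev
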