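import Cfsg.Agent.Lib.Chev.QR3

set_option autoImplicit false
set_option linter.unusedSectionVars false
set_option linter.style.haveILetI false

/-! Root systems from Euclidean data. -/

namespace Cfsg.Agent.Chev

variable {I R : Type} [Fintype I] [DecidableEq I] [Fintype R] [DecidableEq R]

theorem RS.conj_of_pair {Φ : RS I R} {r s : R} (h : Φ.ln r = Φ.ln s) (h1 : Φ.pair r s = -1) : ∃ w : Φ.W, w • r = s := by
  obtain ⟨w, hw⟩ := RS.exists_refl (Φ := Φ) r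
  obtain ⟨w', hw'⟩ := RS.exists_refl (Φ := Φ) s
  have h2 : Φ.pair s r = -1 := by
    have := Φ.ln_pair_symm r s
    have := Φ.ln_pos s
    rw [h, h1] at *
    nlinarith
  have h3 : Φ.rv (w' • r) = Φ.rv r + Φ.rv s := by rw [hw', h2]; simp
  exact ⟨w * w', Φ.rv_inj (by rw [mul_smul, hw, RS.pair_add h3, h3, h1, Φ.pair_same]; simp)⟩

theorem RS.good_of_conn {Φ : RS I R} (hc : Φ.Conn) (i₀ : I)
    (hs : ∀ r s, 0 < Φ.pair r s → r ≠ s → Φ.pair r s = 1 ∨ Φ.pair s r = 1)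
    (ht : ∀ i j, Φ.ln (Φ.sim i) = Φ.ln (Φ.sim j) → ∃ w : Φ.W, w • Φ.sim i = Φ.sim j) : Φ.Good := by
  refine ⟨hc, ⟨i₀⟩, fun i j => or_iff_not_imp_left.2 fun hj => ?_, fun r s e => ?_, hs⟩
  · obtain ⟨r, a, b⟩ := Finset.exists_max_image {r | 0 < Φ.rv r i ∧ Φ.rv r j = 0} Φ.ht ⟨Φ.sim i, by simp [Φ.rv_sim, hj]⟩
    simp only [Finset.mem_filter, Finset.mem_univ, true_and] at a b
    have c := RS.pos_of_pos a.1
    obtain ⟨k, d, l, f, g⟩ := hc {k | Φ.rv r k ≠ 0} ⟨i, a.1.ne'⟩ ⟨j, by simp [a.2]⟩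
    replace f : Φ.rv r l = 0 := by simpa using f
    have h1 : Φ.A l r < 0 := by
      have h2 : ∀ x, Φ.rv r x * Φ.A l (Φ.sim x) ≤ 0 := fun x => by
        by_cases e : l = x
        · simp [← e, f]
        · exact mul_nonpos_of_nonneg_of_nonpos (c x) (RS.A_nonpos e)
      rw [Φ.A_eq, ← Finset.sum_const_zero (s := (Finset.univ : Finset I))]
      exact Finset.sum_lt_sum (fun x _ => h2 x) ⟨k, Finset.mem_univ _, (h2 k).lt_of_ne
        (mul_ne_zero d fun e => g (RS.A_eq_zero_symm e))⟩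
    have h3 : l ≠ i := by rintro rfl; exact a.1.ne' f
    obtain rfl : l = j := by_contra fun e => by
      have := b (Φ.rf l r) (by simp [Φ.rv_rf, a, Ne.symm h3, Ne.symm e])
      rw [Φ.ht_rf] at this
      omega
    have h4 : Φ.sim l ≠ Φ.neg r := fun e => Φ.not_pos_neg_sim l (by rwa [e, Φ.neg_neg])
    rcases hs _ _ (by rw [Φ.pair_neg_right, Φ.pair_sim]; omega) h4 with e | e
    · rw [Φ.pair_neg_right, Φ.pair_sim] at e
      exact ⟨r, Φ.rf l r, a.1, by simp [Φ.rv_rf, a, Ne.symm h3], by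
        rw [Φ.rv_rf, Φ.rv_sim, show Φ.A l r = -1 by omega, Pi.single_neg, sub_neg_eq_add]⟩
    · obtain ⟨w, hw⟩ := RS.exists_refl (Φ := Φ) r
      rw [Φ.pair_neg_left] at e
      have h5 : Φ.rv (w • Φ.sim l) = Φ.rv r + Φ.rv (Φ.sim l) := by rw [hw, show Φ.pair r (Φ.sim l) = -1 by omega]; simp [add_comm]
      exact ⟨r, _, a.1, by simp [h5, Φ.rv_sim, a, Ne.symm h3], h5⟩
  · obtain ⟨w, i, rfl⟩ := RS.exists_smul_sim (Φ := Φ) r
    obtain ⟨w', j, rfl⟩ := RS.exists_smul_sim (Φ := Φ) s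
    obtain ⟨u, hu⟩ := ht i j (by simpa [RS.ln_smul] using e)
    exact ⟨w' * u * w⁻¹, by simp [mul_smul, hu]⟩

/-- a root system given by integral vectors -/
structure Euc (I R E : Type) [Fintype I] [Fintype E] where
  v : R → E → ℤ
  sim : I → R
  inj : Function.Injective v
  ne : ∀ r, v r ≠ 0
  neg : ∀ r, ∃ s, v s = - v r
  rf : ∀ i r, ∃ s, ∃ a : ℤ, a * (v (sim i) ⬝ᵥ v (sim i)) = 2 * (v (sim i) ⬝ᵥ v r) ∧ v s = v r - a • v (sim i)
  co : ∀ r, ∃ c : I → ℤ, v r = ∑ i, c i • v (sim i) ∧ ((∀ i, 0 ≤ c i) ∨ ∀ i, c i ≤ 0) ∧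
    ∀ i, v r ⬝ᵥ v r ∣ v (sim i) ⬝ᵥ v (sim i) * c i
  ind : LinearIndependent ℤ fun i => v (sim i)

namespace Euc
variable {E : Type} [Fintype E] (X : Euc I R E)

/-- from simple root coordinates to Euclidean coordinates -/
def Λ : (I → ℤ) →ₗ[ℤ] (E → ℤ) := Fintype.linearCombination ℤ fun i => X.v (X.sim i)

theorem Λ_apply (c : I → ℤ) : X.Λ c = ∑ i, c i • X.v (X.sim i) := rfl
theorem Λ_inj : Function.Injective X.Λ := X.ind.fintypeLinearCombination_injective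
theorem Λ_single (i : I) (a : ℤ) : X.Λ (Pi.single i a) = a • X.v (X.sim i) := by simp [Λ]
theorem _root_.Cfsg.Agent.Chev.dot_nonneg (v : E → ℤ) : 0 ≤ v ⬝ᵥ v := Finset.sum_nonneg fun _ _ => mul_self_nonneg _
theorem dot_pos (r : R) : 0 < X.v r ⬝ᵥ X.v r := (dot_nonneg _).lt_of_ne' (mt dotProduct_self_eq_zero.1 (X.ne r))
theorem Λ_dot (c : I → ℤ) (w : E → ℤ) : X.Λ c ⬝ᵥ w = ∑ i, c i * (X.v (X.sim i) ⬝ᵥ w) := by
  simp only [Λ_apply, sum_dotProduct, smul_dotProduct, smul_eq_mul]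

theorem exists_rs : ∃ Φ : RS I R, Φ.sim = X.sim ∧ (∀ r, X.Λ (Φ.rv r) = X.v r) ∧ (∀ r, Φ.ln r = X.v r ⬝ᵥ X.v r) ∧
    ∀ i r, Φ.A i r * (X.v (X.sim i) ⬝ᵥ X.v (X.sim i)) = 2 * (X.v (X.sim i) ⬝ᵥ X.v r) := by
  choose rv h1 h6 h2 using X.co
  choose cv h2 using h2
  choose ng h7 using X.neg
  choose rf A h3 h8 using X.rf
  replace h1 : ∀ r, X.Λ (rv r) = X.v r := fun r => (h1 r).symm
  have h4 : ∀ r, rv (ng r) = - rv r := fun r => X.Λ_inj (by rw [map_neg, h1, h1, h7])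
  have h5 : ∀ i, rv (X.sim i) = Pi.single i 1 := fun i => X.Λ_inj (by rw [h1, Λ_single, one_smul])
  exact ⟨{
    rv := rv, cv := cv, A := A, ln r := X.v r ⬝ᵥ X.v r, neg := ng, sim := X.sim, rf := rf
    rv_inj r s h := X.inj (by rw [← h1, ← h1, h])
    rv_neg := h4
    cv_neg r := funext fun i => mul_left_cancel₀ (X.dot_pos r).ne' (by
      have := h2 (ng r) i
      rw [h7, neg_dotProduct_neg] at this
      rw [← this, Pi.neg_apply, mul_neg, ← h2, h4, Pi.neg_apply, mul_neg])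
    rv_sim := h5
    cv_sim i := funext fun j => mul_left_cancel₀ (X.dot_pos (X.sim i)).ne' (by
      rw [← h2, h5]
      by_cases e : j = i <;> simp [e])
    A_eq i r := mul_right_cancel₀ (X.dot_pos (X.sim i)).ne' (by
      simp only [Finset.sum_mul, mul_assoc, h3]
      rw [dotProduct_comm, ← h1 r, Λ_dot, Finset.mul_sum]
      exact Finset.sum_congr rfl fun j _ => by rw [dotProduct_comm]; ring)
    rv_rf i r := X.Λ_inj (by rw [map_sub, h1, h1, Λ_single, h8])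
    ln_rf i r := by
      simp only [h8, sub_dotProduct, dotProduct_sub, smul_dotProduct, dotProduct_smul, smul_eq_mul]
      rw [dotProduct_comm (X.v r) (X.v (X.sim i))]
      linear_combination A i r * h3 i r
    pos_or_neg := h6
    ln_pos := X.dot_pos
    ln_cv r i := (h2 r i).symm
    symm i j := by rw [mul_comm, h3, mul_comm (_ ⬝ᵥ _), h3, dotProduct_comm]
    pair_self r := mul_left_cancel₀ (X.dot_pos r).ne' (by
      simp only [Finset.mul_sum, ← mul_assoc, ← h2]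
      conv_rhs => enter [1, 1]; rw [← h1 r]
      rw [Λ_dot, Finset.sum_mul]
      exact Finset.sum_congr rfl fun j _ => by linear_combination rv r j * h3 j r) }, rfl, h1, fun _ => rfl, h3⟩

/-- the root system -/
noncomputable def rs : RS I R := X.exists_rs.choose

theorem Λ_rv (r : R) : X.Λ (X.rs.rv r) = X.v r := X.exists_rs.choose_spec.2.1 r
theorem rv_eq {r : R} {c : I → ℤ} (h : X.v r = ∑ i, c i • X.v (X.sim i)) : X.rs.rv r = c := X.Λ_inj (by rw [Λ_rv, h]; rfl)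
theorem sim_eq (i : I) : X.rs.sim i = X.sim i := congrFun X.exists_rs.choose_spec.1 i
theorem ln_eq (r : R) : X.rs.ln r = X.v r ⬝ᵥ X.v r := X.exists_rs.choose_spec.2.2.1 r
theorem v_neg (r : R) : X.v (X.rs.neg r) = - X.v r := by rw [← Λ_rv, X.rs.rv_neg, map_neg, Λ_rv]
theorem neg_eq {r s : R} (h : X.v s = - X.v r) : X.rs.neg r = s := X.inj (by rw [v_neg, h])
theorem add_iff {k r s : R} : X.rs.rv k = X.rs.rv r + X.rs.rv s ↔ X.v k = X.v r + X.v s := by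
  rw [← X.Λ_inj.eq_iff, map_add, Λ_rv, Λ_rv, Λ_rv]
theorem two_iff {k r s : R} : X.rs.rv k = 2 • X.rs.rv r + X.rs.rv s ↔ X.v k = 2 • X.v r + X.v s := by
  rw [← X.Λ_inj.eq_iff, map_add, map_nsmul, Λ_rv, Λ_rv, Λ_rv]
theorem pair_mul (r s : R) : X.v r ⬝ᵥ X.v r * X.rs.pair r s = 2 * (X.v r ⬝ᵥ X.v s) := by
  rw [← ln_eq, X.rs.ln_pair]
  have : ∀ i, X.rs.ln (X.rs.sim i) * X.rs.A i s = 2 * (X.v (X.sim i) ⬝ᵥ X.v s) := fun i => by
    rw [ln_eq, sim_eq, mul_comm]; exact X.exists_rs.choose_spec.2.2.2 i s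
  rw [← X.Λ_rv r, Λ_dot]
  simp [this, Finset.mul_sum, mul_left_comm]
theorem pair_eq {r s : R} {a : ℤ} (h : X.v r ⬝ᵥ X.v r * a = 2 * (X.v r ⬝ᵥ X.v s)) : X.rs.pair r s = a :=
  mul_left_cancel₀ (X.dot_pos r).ne' ((X.pair_mul r s).trans h.symm)

theorem str (r s : R) (h : 0 < X.rs.pair r s) (e : r ≠ s) : X.rs.pair r s = 1 ∨ X.rs.pair s r = 1 := by
  by_contra! a
  have h1 := X.pair_mul r s
  have h2 := X.pair_mul s r
  have h3 := X.dot_pos r
  have h4 := X.dot_pos s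
  have h5 := (dot_nonneg (X.v r - X.v s)).lt_of_ne' (mt dotProduct_self_eq_zero.1 (sub_ne_zero.2 (X.inj.ne e)))
  simp only [sub_dotProduct, dotProduct_sub, dotProduct_comm (X.v s) (X.v r)] at h5 h2
  have h6 : 0 < X.rs.pair s r := by nlinarith
  have h7 : 2 ≤ X.rs.pair r s := by omega
  have h8 : 2 ≤ X.rs.pair s r := by omega
  nlinarith

theorem bd (h : ∀ r s, X.v s ⬝ᵥ X.v s ≤ 2 * (X.v r ⬝ᵥ X.v r)) (r s : R) : X.rs.pair r s ≤ 2 := by
  by_contra! a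
  have h1 := X.pair_mul r s
  have h3 := X.dot_pos r
  have h5 := dot_nonneg (X.v s + X.v s - X.v r - X.v r - X.v r)
  simp only [sub_dotProduct, dotProduct_sub, add_dotProduct, dotProduct_add, dotProduct_comm (X.v s) (X.v r)] at h5
  have := h r s
  nlinarith

end Euc

end Cfsg.Agent.Chev
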