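import Cfsg.Agent.Lib.Chev.Hecke

/-! The theorem of Feit and Higman. -/

set_option autoImplicit false
set_option linter.unusedSectionVars false

namespace Cfsg.Agent.Chev
open Cfsg.Agent.Char Finset Blk MonoidAlgebra Polynomial

open Classical in
theorem Tits.feit_higman {ι W G : Type*} [Group W] {s : ι → W} [Group G] [Fintype G] (T : Tits s G) {i j : ι} (hne : s i ≠ s j)
    (hW : orderOf (s i * s j) ≠ 0) (h : ∀ i, ∃ g g', T.δ g = s i ∧ T.δ g' = s i ∧ g⁻¹ * g' ∉ T.B) :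
    orderOf (s i * s j) ∈ ({2, 3, 4, 6, 8} : Set ℕ) := by
  obtain ⟨f, hf⟩ : ∃ f : ι → T.Hk, ∀ k, f k = hL s T.q k := ⟨fun k => ⟨_, T.hL_mem k⟩, fun _ => rfl⟩
  obtain ⟨τ, hτ⟩ : ∃ τ : T.Hk →ₗ[ℂ] ℂ, ∀ x, τ x = x.1 (Pi.single 1 1) 1 :=
    ⟨⟨⟨fun x => x.1 (Pi.single 1 1) 1, fun _ _ => rfl⟩, fun _ _ => rfl⟩, fun _ => rfl⟩
  have h0 : ∀ ω, (wp f ω : T.Hk) = wp (hL s T.q) ω := fun ω => by induction ω <;> simp [*]
  have e0 : ∀ (ω : List ι), wp (hL s T.q) ω 1 = wp T.q ω • 1 := fun ω => by induction ω <;> simp [*, hL_one, smul_smul, mul_comm]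
  obtain ⟨u, hu, -, hu'⟩ := T.exists_q i
  obtain ⟨v, hv, -, hv'⟩ := T.exists_q j
  have a1 : ∀ k, f k * f k = (T.q k - 1) • f k + T.q k • 1 := fun k => Subtype.ext (by simpa [hf] using T.ig.hL_sq T.ex _ k)
  have a2 : ∀ (x : T.Hk) (c : ℂ) (r : ℚ), x * x = c • x → τ x = r → r ≠ 0 → ∃ r' : ℚ, c = r' :=
    (fun x c r a b => T.exists_rat x.2 (congrArg Subtype.val a) (hτ x ▸ b))
  have a3 : ∀ ω ω', wp f ω = wp f ω' → wp T.q ω = wp T.q ω' := (fun ω ω' e => by simpa [h0, e0] using congrArg (fun x : T.Hk => x.1 1 1) e)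
  have a4 : ∀ ω ω', Red s ω → Red s ω' → wp s ω * wp s ω' ≠ 1 → τ (wp f ω * wp f ω') = 0 := fun ω ω' a b c => by
    have := T.coeff_one_mul c
    rw [← T.ig.hL_single T.ex T.q ω a, ← T.ig.hL_single T.ex T.q ω' b, ← T.wp_mem, T.coeff_ψ, T.δ_one] at this
    simpa [h0, hτ] using this
  have a5 : ∀ ω ω', Red s ω → Red s ω' → wp s ω = wp s ω' → wp f ω = wp f ω' :=
    (fun ω ω' a b c => Subtype.ext (T.Hk_ext (wp f _).2 (wp f _).2 (by
      rw [h0, h0, T.ig.hL_single T.ex _ _ a, T.ig.hL_single T.ex _ _ b, c])))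
  have := @InvGen.fh_abs ι W T.Hk _ s T.ig T.ex _ _ f T.q τ
  exact this a1 (by simp [hτ]) a2 a3 a4 a5 hne hW hu hv (hu' (h i)) (hv' (h j))

open BN in
/-- the Tits system of a `BN`-pair -/
noncomputable def BN.tits {G : Type*} [Group G] (P : BNPair G) : Tits (s P) G where
  ig := invGen P
  ex := exchange P
  B := P.B
  δ g := (exists_mem_C P g).choose
  δ_eq_one := ⟨fun e => mem_C_one.1 (e ▸ (exists_mem_C P _).choose_spec), fun h => eq_of_mem_C (exists_mem_C P _).choose_spec (mem_C_one.2 h)⟩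
  δ_left hb g := eq_of_mem_C (exists_mem_C P _).choose_spec (mul_mem_C hb (exists_mem_C P g).choose_spec)
  δ_inv g := eq_of_mem_C (exists_mem_C P _).choose_spec (inv_mem_C (exists_mem_C P g).choose_spec)
  δ_eq {g g'} e := by
    obtain ⟨n, h1, b, h2, c, h3, h4⟩ := (exists_mem_C P g).choose_spec
    obtain ⟨b', h2', c', h3', h4'⟩ := (mem_C_iff n (h1.trans e)).1 (exists_mem_C P g').choose_spec
    exact ⟨_, mul_mem h2' (inv_mem h2), _, mul_mem (inv_mem h3) h3', by rw [h4', h4]; group⟩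
  surj w := by
    obtain ⟨n, rfl⟩ := pr_surj P w
    exact ⟨n, eq_of_mem_C (exists_mem_C P _).choose_spec (mem_C_self n)⟩
  mul {i g} e h := by
    have h1 := e ▸ (exists_mem_C P g).choose_spec
    have h2 := (exists_mem_C P h).choose_spec
    have h3 := fun w => eq_of_mem_C (w' := w) (exists_mem_C P (g * h)).choose_spec
    rcases (invGen P).len_simple_mul (exchange P) i (exists_mem_C P h).choose with a | a
    · exact .inl (h3 _ (mul_mem_C_of_lt (by omega) h1 h2))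
    · exact (mul_mem_C_union h1 h2).imp (h3 _) fun b => ⟨h3 _ b, by omega⟩

open BN in
theorem BN.feit_higman {G : Type*} [Group G] [Finite G] (P : BNPair G) (h2 : P.rank = 2) :
    ((P.B ⊓ P.N).subgroupOf P.N).index ∈ ({4, 6, 8, 12, 16} : Set ℕ) := by
  have := Fintype.ofFinite G
  obtain ⟨i, j, h1, h3⟩ := Nat.card_eq_two_iff.1 h2
  have h4 := (tits P).feit_higman ((s_inj P).ne h1) (orderOf_pos _).ne' fun i => by
    obtain ⟨b, a1, a2⟩ := exists_sq_mem_C i
    have a3 := fun g (h : g ∈ C P (s P i)) => eq_of_mem_C (exists_mem_C P g).choose_spec h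
    refine ⟨_, _, a3 _ ((invGen P).inv i ▸ inv_mem_C (mem_C_mul (simple_mem_C i) a1)), a3 _ (simple_mem_C i), fun h => ?_⟩
    exact s_ne_one P i (eq_of_mem_C a2 (mem_C_one.2 (by simpa [tits] using h)))
  rw [Subgroup.index, (invGen P).card_eq (exchange P) (i := i) (j := j) fun k => by simpa using h3.ge (Set.mem_univ k)]
  simp only [Set.mem_insert_iff, Set.mem_singleton_iff] at h4 ⊢
  omega

end Cfsg.Agent.Chev
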