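import Cfsg.Agent.Lib.Chev.Tits
import Cfsg.Agent.Lib.Chev.BN
import Cfsg.Agent.Lib.Block.Lift
import Mathlib.NumberTheory.Niven

/-! Hecke algebras of Tits systems and the theorem of Feit and Higman. -/

set_option autoImplicit false
set_option linter.unusedSectionVars false

namespace Cfsg.Agent.Chev
open Cfsg.Agent.Char Finset Blk MonoidAlgebra Polynomial

section Cox
variable {ι W : Type*} [Group W] {s : ι → W}

variable (s) in
open Classical in
/-- the generators of the Hecke algebra in the regular representation -/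
noncomputable def hL (q : ι → ℂ) (i : ι) : Module.End ℂ (W → ℂ) where
  toFun a v := if len s v < len s (s i * v) then q i * a (s i * v) else a (s i * v) + (q i - 1) * a v
  map_add' a b := by ext v; simp only [Pi.add_apply]; split_ifs <;> ring
  map_smul' c a := by ext v; simp only [Pi.smul_apply, smul_eq_mul, RingHom.id_apply]; split_ifs <;> ring

theorem hL_apply (q : ι → ℂ) (i : ι) (a : W → ℂ) (v : W) : hL s q i a v =
    if len s v < len s (s i * v) then q i * a (s i * v) else a (s i * v) + (q i - 1) * a v := rfl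

theorem hL_one (q : ι → ℂ) (i : ι) : hL s q i 1 = q i • 1 := by
  ext v; rw [hL_apply]; split_ifs <;> simp

variable (h : InvGen s) (hx : Exchange s)
include h hx

theorem InvGen.hL_sq (q : ι → ℂ) (i : ι) : hL s q i * hL s q i = (q i - 1) • hL s q i + q i • 1 := by
  ext1 a
  ext v
  have := h.len_simple_mul hx i v
  simp only [Module.End.mul_apply, hL_apply, h.cancel_left, LinearMap.add_apply, LinearMap.smul_apply, Pi.add_apply, Pi.smul_apply,
    smul_eq_mul, Module.End.one_apply]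
  split_ifs <;> first | omega | ring

theorem InvGen.hL_single [DecidableEq W] (q : ι → ℂ) (ω : List ι) (hr : Red s ω) :
    wp (hL s q) ω (Pi.single 1 1) = Pi.single (wp s ω) 1 := by
  induction ω with
  | nil => rfl
  | cons i ω ih =>
    have h1 := h.red_tail hr
    rw [wp_cons, Module.End.mul_apply, ih h1]
    ext v
    have := h.len_simple_mul hx i v
    rw [Red, wp_cons, List.length_cons, ← h1] at hr
    simp only [hL_apply, Pi.single_apply, wp_cons, ← eq_inv_mul_iff_mul_eq, h.inv]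
    split_ifs <;> simp_all [h.cancel_left]

theorem InvGen.red_alt (k : ℕ) (i j : ι) (hk : k ≤ orderOf (s i * s j)) : Red s (alt i j k) := by
  have h0 : ∀ k (i j : ι) l, l < k → Red s ((alt i j k).eraseIdx l) → l = 0 ∨ l + 1 = k := fun k => by
    induction k with
    | zero => simp
    | succ k ih =>
      rintro i j (_ | l) h1 h2
      · simp
      rcases ih j i l (by omega) (h.red_tail h2) with rfl | h3
      · obtain _ | _ | k := k
        iterate 2 omega
        have := len_wp_le s (alt j i k)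
        simp [Red, alt, h.cancel_left] at h2 this
        omega
      · omega
  induction k generalizing i j with
  | zero => exact red_nil s
  | succ k ih =>
    have h1 := ih j i (by rw [← orderOf_inv, mul_inv_rev, h.inv, h.inv]; omega)
    have h2 := h.len_simple_mul hx i (wp s (alt j i k))
    rw [h1, length_alt] at h2
    rcases h2 with h2 | h2
    · simpa [Red, alt] using h2
    obtain ⟨l, h3, h4⟩ := hx i _ h1 (by simp; omega)
    rw [length_alt] at h3
    obtain ⟨k, rfl⟩ : ∃ k', k = k' + 1 := ⟨k - 1, by omega⟩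
    rcases h0 _ j i l h3 (by rw [Red, ← h4, List.length_eraseIdx_of_lt (by simpa using h3)]; simp; omega) with rfl | h5
    · simp [alt, ← mul_assoc] at h4
      simp [h4] at hk
    obtain rfl : l = k := by omega
    rw [← List.dropLast_eq_eraseIdx (by simp), dropLast_alt] at h4
    refine absurd ?_ (pow_ne_one_of_lt_orderOf (x := s i * s j) l.succ_ne_zero hk)
    rw [← wp_alt_mul_inv s h.sq, mul_inv_eq_one, alt, wp_cons, ← h4, h.cancel_left]

theorem InvGen.card_eq {i j : ι} (hij : ∀ k, k = i ∨ k = j) : Nat.card W = 2 * orderOf (s i * s j) := by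
  obtain ⟨φ, hφ⟩ := h.exists_hom hx (fun _ => (-1 : ℤˣ)) (by simp) (by simp)
  rw [← Nat.card_zpowers, ← (Subgroup.zpowers (s i * s j)).index_mul_card, Subgroup.index_eq_two_iff.2 ⟨s i, fun b => ?_⟩]
  have h1 : s i ∉ Subgroup.zpowers (s i * s j) := fun ⟨k, e⟩ => by simpa [hφ] using congrArg φ e
  have h2 : b * s i ∈ Subgroup.zpowers (s i * s j) ∨ b ∈ Subgroup.zpowers (s i * s j) := by
    refine h.induction_right (p := fun b => b * s i ∈ Subgroup.zpowers (s i * s j) ∨ b ∈ Subgroup.zpowers (s i * s j))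
      (.inr (one_mem _)) (fun k w _ a => ?_) b
    rcases hij k with rfl | rfl
    · rw [h.cancel_right]; exact a.symm
    · exact a.elim (fun a => .inr (by simpa [← mul_assoc, h.cancel_right] using mul_mem a (Subgroup.mem_zpowers _)))
        fun a => .inl (by simpa [← mul_assoc, h.inv] using mul_mem a (inv_mem (Subgroup.mem_zpowers _)))
  exact h2.elim (fun a => .inl ⟨a, fun c => h1 (by simpa using mul_mem (inv_mem c) a)⟩)
    fun a => .inr ⟨a, fun c => h1 (by simpa using mul_mem (inv_mem a) c)⟩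

end Cox

namespace Tits
variable {ι W G : Type*} [Group W] {s : ι → W} [Group G] [Fintype G] (T : Tits s G)
open Classical

/-- the parameters -/
noncomputable def q (i : ι) : ℂ := #{g | T.δ g = s i} / Nat.card T.B

/-- the embedding of the Hecke algebra into the group algebra -/
noncomputable def ψ : (W → ℂ) →ₗ[ℂ] ℂ[G] where
  toFun a := ofFun fun g => a (T.δ g) / Nat.card T.B
  map_add' a b := ext' fun g => by simp [add_div]
  map_smul' c a := ext' fun g => by simp [mul_div_assoc]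

theorem coeff_ψ (a : W → ℂ) (g : G) : (T.ψ a).coeff g = a (T.δ g) / Nat.card T.B := coeff_ofFun ..

theorem ψ_inj : Function.Injective T.ψ := fun a b e => funext fun w => by
  obtain ⟨g, rfl⟩ := T.surj w
  simpa [coeff_ψ] using congrArg (·.coeff g) e

theorem card_B : #{g | g ∈ T.B} = Nat.card T.B := by simpa using card_coset T.B 1

theorem ψ_one_mul (a : W → ℂ) : T.ψ (Pi.single 1 1) * T.ψ a = T.ψ a := ext' fun z => by
  simp only [coeff_mul_left, coeff_ψ, Pi.single_apply, T.δ_eq_one, ite_div, ite_mul, zero_div, zero_mul, ← sum_filter]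
  rw [sum_congr rfl fun x hx => by rw [T.δ_left (inv_mem (mem_filter.1 hx).2)], sum_const, card_B, nsmul_eq_mul]
  field_simp [card_ne_zero' T.B]

theorem ψ_hL (i : ι) (a : W → ℂ) : T.ψ (hL s T.q i a) = T.ψ (Pi.single (s i) 1) * T.ψ a := ext' fun z => by
  have h0 := card_ne_zero' T.B
  have h1 : ∀ g, T.δ g = s i → T.δ g⁻¹ = s i := fun g e => by rw [T.δ_inv, e, T.ig.inv]
  simp only [coeff_mul_left, coeff_ψ, Pi.single_apply, ite_div, ite_mul, zero_div, zero_mul, ← sum_filter, hL_apply, q]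
  split_ifs with h
  · rw [sum_congr rfl fun x hx => by rw [T.mul_of_lt (h1 _ (mem_filter.1 hx).2) h], sum_const, nsmul_eq_mul]
    ring
  have h2 := T.ig.len_simple_mul T.ex i (T.δ z)
  obtain ⟨g, z, e1, e2, rfl⟩ := T.exists_split (w := s i) (v := s i * T.δ z) (g := z) (fun a b ha hb => hb ▸ T.mul_of_lt ha (by
    rw [hb, T.ig.cancel_left]; omega)) (T.ig.cancel_left ..).symm
  have h3 : ∀ x, T.δ x = s i → T.δ (x⁻¹ * (g * z)) = if g⁻¹ * x ∈ T.B then s i * T.δ (g * z) else T.δ (g * z) := fun x hx => by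
    split_ifs with c
    · rw [← mul_assoc, T.δ_left (by simpa using inv_mem c), e2]
    · rcases T.mul (h1 x hx) g with e | ⟨e, -⟩
      · exact absurd (by simpa using inv_mem (T.δ_eq_one.1 (e.trans (by rw [e1, T.ig.sq])))) c
      · rw [← mul_assoc, T.mul_of_lt (e.trans e1) (by rw [e2, T.ig.cancel_left]; omega), e2, T.ig.cancel_left]
  have h4 : {x ∈ ({x | T.δ x = s i} : Finset G) | g⁻¹ * x ∈ T.B} = ({x | g⁻¹ * x ∈ T.B} : Finset G) := by
    ext x
    simpa using fun h => by rw [← e1, ← T.δ_right h g]; simp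
  have h5 := congrArg (Nat.cast : ℕ → ℂ) (card_filter_add_card_filter_not (s := {x | T.δ x = s i}) fun x => g⁻¹ * x ∈ T.B)
  rw [sum_congr rfl fun x hx => by rw [h3 _ (mem_filter.1 hx).2, apply_ite a, ite_div, mul_ite], sum_ite, sum_const, sum_const, ← h5, h4,
    card_coset]
  simp only [nsmul_eq_mul, Nat.cast_add]
  field_simp
  ring

/-- the Hecke algebra -/
def Hk : Subalgebra ℂ (Module.End ℂ (W → ℂ)) where
  carrier := {x | ∀ a, T.ψ (x a) = T.ψ (x (Pi.single 1 1)) * T.ψ a}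
  mul_mem' {x y} hx hy a := by rw [Module.End.mul_apply, Module.End.mul_apply, hx, hy, hx (y _), mul_assoc]
  add_mem' {x y} hx hy a := by simp only [LinearMap.add_apply, map_add, add_mul, ← hx a, ← hy a]
  algebraMap_mem' c a := by simp [ψ_one_mul]

theorem hL_mem (i : ι) : hL s T.q i ∈ T.Hk := fun a => by
  have := T.ig.hL_single T.ex T.q [i] (by simpa [Red] using T.ig.len_simple T.ex i)
  simp only [wp_singleton] at this
  rw [this, ψ_hL]

theorem wp_mem (ω : List ι) : wp (hL s T.q) ω ∈ T.Hk := list_prod_mem (by simp [hL_mem])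

theorem Hk_ext {x y : Module.End ℂ (W → ℂ)} (hx : x ∈ T.Hk) (hy : y ∈ T.Hk) (e : x (Pi.single 1 1) = y (Pi.single 1 1)) : x = y :=
  LinearMap.ext fun a => T.ψ_inj (by rw [hx, hy, e])

theorem coeff_one_mul {w v : W} (h : w * v ≠ 1) : (T.ψ (Pi.single w 1) * T.ψ (Pi.single v 1)).coeff 1 = 0 := by
  rw [coeff_mul_left]
  refine sum_eq_zero fun g _ => ?_
  simp only [coeff_ψ, Pi.single_apply, mul_one, T.δ_inv]
  split_ifs with a b <;> simp_all [inv_eq_iff_mul_eq_one]

theorem exists_rat {x : Module.End ℂ (W → ℂ)} (hx : x ∈ T.Hk) {c : ℂ} (h : x * x = c • x) {r : ℚ} (hr : x (Pi.single 1 1) 1 = r)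
    (h0 : r ≠ 0) : ∃ r' : ℚ, c = r' := by
  rcases eq_or_ne c 0 with rfl | hc
  · exact ⟨0, by simp⟩
  obtain ⟨n, hn⟩ := exists_nat_ch_idem (isCharacter_regChar (G := G)) (e := c⁻¹ • T.ψ (x (Pi.single 1 1))) (by
    rw [IsIdempotentElem, smul_mul_smul_comm, ← hx, ← Module.End.mul_apply, h]; simp [smul_smul, hc])
  simp [ch_eq_sum, regChar, coeff_ψ, T.δ_one, hr] at hn
  have : (n : ℂ) ≠ 0 := by simp [← hn, hc, h0]
  exact ⟨r / Fintype.card T.B * Fintype.card G / n, by simp [← hn, hc, h0, this, eq_div_iff]⟩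

theorem exists_q (i : ι) : ∃ n : ℕ, T.q i = n ∧ 1 ≤ n ∧ ((∃ g g', T.δ g = s i ∧ T.δ g' = s i ∧ g⁻¹ * g' ∉ T.B) → 2 ≤ n) := by
  have h1 := card_mul_eq_card_mul (s := ({g | T.δ g = s i} : Finset G)) (t := ({c | T.δ c.out = s i} : Finset (G ⧸ T.B))) (m := 1)
    (n := Nat.card T.B) (fun (g : G) c => c = (g : G ⧸ T.B)) (fun g hg => ?_) fun c hc => ?_
  · have h2 : ∀ g, T.δ g = s i → (g : G ⧸ T.B) ∈ ({c : G ⧸ T.B | T.δ c.out = s i} : Finset _) := fun g hg => by
      obtain ⟨b, e⟩ := QuotientGroup.mk_out_eq_mul T.B g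
      simp [e, T.δ_right b.2, hg]
    refine ⟨_, by rw [q, ← mul_one #_, h1, Nat.cast_mul, mul_div_cancel_right₀ _ (card_ne_zero' _)], ?_, fun ⟨g, g', a, b, c⟩ =>
      one_lt_card.2 ⟨_, h2 g a, _, h2 g' b, fun e => c (QuotientGroup.eq.1 e)⟩⟩
    obtain ⟨g, hg⟩ := T.surj (s i)
    exact card_pos.2 ⟨_, h2 g hg⟩
  · obtain ⟨b, e⟩ := QuotientGroup.mk_out_eq_mul T.B g
    simp_all [bipartiteAbove, filter_eq', T.δ_right b.2]
  · rw [← card_coset _ c.out]
    congr 1
    ext g
    simp only [mem_bipartiteBelow, mem_filter, mem_univ, true_and, ← QuotientGroup.eq, QuotientGroup.out_eq', and_iff_right_iff_imp] at hc ⊢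
    rintro rfl
    obtain ⟨b, e⟩ := QuotientGroup.mk_out_eq_mul T.B g
    rwa [e, T.δ_right b.2] at hc

end Tits

section FH

/-- Chebyshev polynomials -/
noncomputable def chU (q : ℂ) : ℕ → ℂ[X]
  | 0 => 0
  | 1 => 1
  | k + 2 => X * chU q (k + 1) - C q * chU q k

/-- the Christoffel-Darboux kernel -/
noncomputable def chK (q x : ℂ) : ℕ → ℂ[X]
  | 0 => 0
  | k + 1 => C q * chK q x k + C ((chU q (k + 1)).eval x) * chU q (k + 1)

theorem chK_mul (q x : ℂ) (k : ℕ) :
    (X - C x) * chK q x k = C ((chU q k).eval x) * chU q (k + 1) - C ((chU q (k + 1)).eval x) * chU q k := by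
  induction k with
  | zero => simp [chK, chU]
  | succ k ih => simp only [chK, chU, eval_sub, eval_mul, eval_X, eval_C, map_sub, map_mul]; linear_combination C q * ih

theorem chU_eval (a b : ℂ) (k : ℕ) : (chU (a * b) k).eval (a + b) * (a - b) = a ^ k - b ^ k := by
  induction k using Nat.twoStepInduction with
  | zero => simp [chU]
  | one => simp [chU]
  | more k h1 h2 => simp only [chU, eval_sub, eval_mul, eval_X, eval_C]; linear_combination (a + b) * h2 - a * b * h1

theorem chK_eval (a b : ℂ) (k : ℕ) : (chK (a * b) (a + b) k).eval (a + b) * (a - b) ^ 3 =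
    a ^ (2 * k + 1) - b ^ (2 * k + 1) - (2 * k + 1) * (a * b) ^ k * (a - b) := by
  induction k with
  | zero => simp [chK]
  | succ k ih =>
    have := chU_eval a b (k + 1)
    simp only [chK, eval_add, eval_mul, eval_C, Nat.cast_succ]
    linear_combination a * b * ih + (a - b) * ((chU (a * b) (k + 1)).eval (a + b) * (a - b) + a ^ (k + 1) - b ^ (k + 1)) * this

variable {R : Type*} [Ring R] [Algebra ℂ R]

theorem pow_eq_chU {x M : R} {q : ℂ} (h : M * M = x * M - q • 1) (hc : Commute x M) (k : ℕ) :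
    M ^ (k + 1) = aeval x (chU q (k + 1)) * M - q • aeval x (chU q k) := by
  induction k with
  | zero => simp [chU]
  | succ k ih =>
    have h1 : Commute x (aeval x (chU q (k + 1))) := by simpa using (Commute.all X (chU q (k + 1))).map (aeval x)
    rw [pow_succ, ih, sub_mul, mul_assoc, h, chU]
    simp [mul_sub, sub_mul, ← mul_assoc, h1.eq, ← Algebra.smul_def]
    abel

theorem commute_aeval {x y : R} (h : Commute x y) (p : ℂ[X]) : Commute (aeval x p) y := by
  induction p using Polynomial.induction_on' with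
  | add p q a b => simpa using a.add_left b
  | monomial n c => simpa [aeval_monomial] using (Algebra.commute_algebraMap_left c y).mul_left (h.pow_left n)

theorem aeval_mul_of_eig {x y : R} {c : ℂ} (h : x * y = c • y) (p : ℂ[X]) : aeval x p * y = p.eval c • y := by
  have : ∀ n : ℕ, x ^ n * y = c ^ n • y := fun n => by
    induction n with
    | zero => simp
    | succ n ih => rw [pow_succ, mul_assoc, h, mul_smul_comm, ih, smul_smul, pow_succ']
  induction p using Polynomial.induction_on' with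
  | add p q a b => simp [add_mul, add_smul, a, b]
  | monomial n d => simp [aeval_monomial, mul_assoc, this, ← Algebra.smul_def, smul_smul]

variable {A B : R} {s t : ℂ}

/-- the central element of the dihedral Hecke algebra -/
def heX (A B : R) (s t : ℂ) : R := A * B + B * A - (t - 1) • A - (s - 1) • B + ((s - 1) * (t - 1)) • 1

theorem heX_symm : heX B A t s = heX A B s t := by simp only [heX]; module

variable (hA : A * A = (s - 1) • A + s • 1) (hB : B * B = (t - 1) • B + t • 1)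
include hA hB

theorem heX_spec : Commute (heX A B s t) A ∧ A * B * (A * B) = heX A B s t * (A * B) - (s * t) • 1 ∧
    A * B * A = heX A B s t * A - s • B + (s * (t - 1)) • 1 ∧
    (A * B - B * A) * (A * B - B * A) = aeval (heX A B s t) (X ^ 2 - C ((s - 1) * (t - 1)) * X - C ((s * t + 1) * (s + t))) := by
  have h1 : ∀ y, A * (A * y) = (s - 1) • (A * y) + s • y := fun y => by rw [← mul_assoc, hA]; simp [add_mul]
  have h2 : ∀ y, B * (B * y) = (t - 1) • (B * y) + t • y := fun y => by rw [← mul_assoc, hB]; simp [add_mul]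
  refine ⟨(?_ : _ = _), ?_, ?_, ?_⟩ <;>
    simp only [map_sub, map_mul (aeval _), aeval_X, aeval_C, Algebra.algebraMap_eq_smul_one, sq, heX, mul_add, add_mul, mul_sub,
      sub_mul, smul_mul_assoc, mul_smul_comm, mul_assoc, h1, h2, hA, hB, mul_one, one_mul] <;> module

theorem pow_sub_pow (k : ℕ) : (A * B) ^ k - (B * A) ^ k = aeval (heX A B s t) (chU (s * t) k) * (A * B - B * A) := by
  obtain ⟨a1, a2, -⟩ := heX_spec hA hB
  obtain ⟨b1, b2, -⟩ := heX_spec hB hA
  rw [heX_symm] at b1 b2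
  obtain _ | k := k
  · simp [chU]
  rw [pow_eq_chU a2 (a1.mul_right b1), pow_eq_chU (mul_comm s t ▸ b2) (b1.mul_right a1), mul_sub]
  abel

theorem fh_rat (τ : R →ₗ[ℂ] ℂ) (hτ : ∀ (x : R) (c : ℂ) (r : ℚ), x * x = c • x → τ x = r → r ≠ 0 → ∃ r' : ℚ, c = r') {q : ℚ} (hq : s * t = q)
    (h0 : q ≠ 0) {N : ℕ} (h1 : ∀ k ≤ N, τ ((A * B - B * A) * ((A * B) ^ (k + 1) - (B * A) ^ (k + 1))) = if k = 0 then -2 * (s * t) else 0)
    {a b : ℂ} (h2 : a * b = s * t) (h3 : a ≠ b) {m : ℕ} (hm : m ≠ 0)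
    (h4 : a ^ (2 * N + 3) - b ^ (2 * N + 3) = (2 * N + 3 - m) * (a * b) ^ (N + 1) * (a - b))
    (h5 : aeval (heX A B s t) (C ((chU (s * t) (N + 1)).eval (a + b)) * chU (s * t) (N + 2) -
      C ((chU (s * t) (N + 2)).eval (a + b)) * chU (s * t) (N + 1)) * (A * B - B * A) = 0) :
    ∃ r : ℚ, (a + b) ^ 2 - 4 * (s * t) = r * ((a + b) ^ 2 - (s - 1) * (t - 1) * (a + b) - (s * t + 1) * (s + t)) ∨
      (a + b) ^ 2 - (s - 1) * (t - 1) * (a + b) - (s * t + 1) * (s + t) = 0 := by
  obtain ⟨a1, -, -, a2⟩ := heX_spec hA hB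
  obtain ⟨b1, -⟩ := heX_spec hB hA
  rw [heX_symm] at b1
  have c1 := (a1.mul_right b1).sub_right (b1.mul_right a1)
  set x := heX A B s t
  set D := A * B - B * A
  have c2 : ∀ k ≤ N + 1, τ (D * (aeval x (chK (s * t) (a + b) k) * D)) = if k = 0 then 0 else -2 * (s * t) ^ k := fun k hk => by
    induction k with
    | zero => simp [chK]
    | succ k ih =>
      simp only [chK, ← smul_eq_C_mul, map_add, add_mul, mul_add, smul_mul_assoc, mul_smul_comm, map_smul, ih (by omega)]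
      rw [← pow_sub_pow hA hB, h1 k (by omega)]
      obtain _ | k := k <;> simp [chU, pow_succ']
      ring
  rw [← chK_mul, map_mul, map_sub, aeval_X, aeval_C, mul_assoc, sub_mul, sub_eq_zero, ← Algebra.smul_def] at h5
  obtain ⟨r, hr⟩ := hτ (D * (aeval x (chK (s * t) (a + b) (N + 1)) * D)) _ (-2 * q ^ (N + 1)) (by
    nth_rw 1 [(commute_aeval c1 _).eq, ← mul_assoc D, a2, ← map_mul]
    exact aeval_mul_of_eig (by rw [← mul_assoc, c1.eq, mul_assoc, h5, mul_smul_comm]) _) (by rw [c2 _ le_rfl]; simp [hq]) (by simp [h0])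
  have c3 := chK_eval a b (N + 1)
  simp only [eval_mul, eval_sub, eval_pow, eval_X, eval_C] at hr
  rw [show 2 * (N + 1) + 1 = 2 * N + 3 by ring, h4, h2] at c3
  refine ⟨-m * q ^ (N + 1) / r, (eq_or_ne r 0).symm.imp (fun h => ?_) fun h => ?_⟩
  · have : (r : ℂ) ≠ 0 := by simpa
    push_cast
    rw [div_mul_eq_mul_div, eq_div_iff this, ← hr, ← hq, ← mul_left_inj' (sub_ne_zero.2 h3)]
    push_cast at c3
    linear_combination ((a + b) ^ 2 - (s - 1) * (t - 1) * (a + b) - (s * t + 1) * (s + t)) * (c3 +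
      4 * (a - b) * (chK (s * t) (a + b) (N + 1)).eval (a + b) * h2)
  · refine (mul_eq_zero.1 (hr.trans (by simp [h]))).resolve_right fun e => ?_
    rw [e, hq] at c3
    push_cast at c3
    have : (m : ℂ) * q ^ (N + 1) * (a - b) = 0 := by linear_combination c3
    simp [hm, h0, sub_ne_zero.2 h3] at this

theorem braid_odd (e : s = t) {N : ℕ} (h : (A * B) ^ (N + 1) * A = (B * A) ^ (N + 1) * B) :
    aeval (heX A B s t) (chU (s * t) (N + 2) + C s * chU (s * t) (N + 1)) * (A * B - B * A) = 0 := by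
  subst e
  obtain ⟨a1, a2, a3, -⟩ := heX_spec hA hB
  obtain ⟨b1, b2, b3, -⟩ := heX_spec hB hA
  rw [heX_symm] at b1 b2 b3
  have c : aeval (heX A B s s) (chU (s * s) (N + 2) + C s * chU (s * s) (N + 1)) * (A - B) = 0 := by
    rw [pow_eq_chU a2 (a1.mul_right b1), pow_eq_chU b2 (b1.mul_right a1), sub_mul, sub_mul, mul_assoc _ (A * B), mul_assoc _ (B * A), a3, b3,
      ← sub_eq_zero] at h
    rw [← h, chU, mul_comm X]
    simp only [← smul_eq_C_mul, map_add, map_sub, map_mul, map_smul, aeval_X, mul_add, mul_sub, add_mul, sub_mul, smul_mul_assoc,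
      mul_smul_comm, mul_assoc]
    module
  rw [show A * B - B * A = (A - B) * B - B * (A - B) by noncomm_ring, mul_sub, ← mul_assoc, c, ← mul_assoc, (commute_aeval b1 _).eq,
    mul_assoc, c]
  simp

end FH

theorem rat_odd {u : ℕ} (hu : 2 ≤ u) {x : ℂ} (h0 : x ^ 2 - 4 * (u * u) ≠ 0)
    (h : ∃ r : ℚ, x ^ 2 - 4 * (u * u) = r * (x ^ 2 - (u - 1) * (u - 1) * x - (u * u + 1) * (u + u)) ∨
      x ^ 2 - (u - 1) * (u - 1) * x - (u * u + 1) * (u + u) = 0) : ∃ r : ℚ, x = r := by
  have h1 : x + 2 * u ≠ 0 := fun e => h0 (by linear_combination (x - 2 * u) * e)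
  have h2 : (u : ℂ) - 1 ≠ 0 := by rw [sub_ne_zero]; norm_cast; omega
  obtain ⟨r, h | h⟩ := h
  · have h3 : x - 2 * u = r * (x - u * u - 1) := mul_right_cancel₀ h1 (by linear_combination h)
    have h4 : (1 - r : ℂ) ≠ 0 := fun e => h2 (pow_eq_zero_iff two_ne_zero |>.1 (by linear_combination h3 - (x - u * u - 1) * e))
    exact ⟨(2 * u - r * (u * u + 1)) / (1 - r), by push_cast; rw [eq_div_iff h4]; linear_combination h3⟩
  · exact ⟨u * u + 1, mul_right_cancel₀ h1 (by push_cast; linear_combination h)⟩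

theorem rat_even {u v : ℕ} (hu : 2 ≤ u) (hv : 2 ≤ v) {x : ℂ} (h : x ^ 2 - 4 * (u * v) ≠ 0 ∧
    ∃ r : ℚ, x ^ 2 - 4 * (u * v) = r * (x ^ 2 - (u - 1) * (v - 1) * x - (u * v + 1) * (u + v)) ∨
      x ^ 2 - (u - 1) * (v - 1) * x - (u * v + 1) * (u + v) = 0)
    (h' : ∃ r : ℚ, (-x) ^ 2 - 4 * (u * v) = r * ((-x) ^ 2 - (u - 1) * (v - 1) * -x - (u * v + 1) * (u + v)) ∨
      (-x) ^ 2 - (u - 1) * (v - 1) * -x - (u * v + 1) * (u + v) = 0) : ∃ r : ℚ, x = r := by
  have h1 : ∀ x : ℂ, x ^ 2 - (u - 1) * (v - 1) * x - (u * v + 1) * (u + v) = 0 → ∃ r : ℚ, x = r := fun x e =>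
    (mul_eq_zero.1 (show (x - (u * v + 1 : ℚ)) * (x - (-(u + v) : ℚ)) = 0 by push_cast; linear_combination e)).elim
      (fun e => ⟨_, sub_eq_zero.1 e⟩) fun e => ⟨_, sub_eq_zero.1 e⟩
  obtain ⟨h0, r, h | h⟩ := h
  swap
  · exact h1 x h
  obtain ⟨r', h' | h'⟩ := h'
  swap
  · exact (h1 _ h').elim fun r e => ⟨-r, by simp [← e]⟩
  obtain ⟨u, rfl⟩ := Nat.exists_eq_add_of_le' hu
  obtain ⟨v, rfl⟩ := Nat.exists_eq_add_of_le' hv
  have h2 : (r : ℂ) ≠ 0 := fun e => h0 (by simpa [e] using h)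
  have h3 : (r' : ℂ) ≠ 0 := fun e => h0 (by simpa [e] using h')
  have h4 : ((u + 2) * (v + 1) ^ 2 + (v + 2) * (u + 1) ^ 2 : ℂ) ≠ 0 := by norm_cast; positivity
  have h5 : ((u + 1) * (v + 1) : ℂ) ≠ 0 := by norm_cast
  push_cast at h h'
  have h6 : (r + r' - 2 * r * r' : ℂ) ≠ 0 := fun e => mul_ne_zero (mul_ne_zero (mul_ne_zero two_ne_zero h2) h3) h4
    (by linear_combination r' * h + r * h' - (x ^ 2 - 4 * ((u + 2) * (v + 2))) * e)
  obtain ⟨y, hy⟩ : ∃ y : ℚ, x ^ 2 = y := ⟨(4 * ((u + 2) * (v + 2)) * (r + r') - 2 * r * r' * (((u + 2) * (v + 2) + 1) * (u + v + 4))) /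
    (r + r' - 2 * r * r'), by push_cast; rw [eq_div_iff h6]; linear_combination r' * h + r * h'⟩
  exact ⟨(r * (y - ((u + 2) * (v + 2) + 1) * (u + v + 4)) - y + 4 * ((u + 2) * (v + 2))) / (r * ((u + 1) * (v + 1))), by
    push_cast; rw [eq_div_iff (mul_ne_zero h2 h5), ← hy]; linear_combination h⟩

open Real in
theorem cos_trick (σ : ℝ) (hσ : σ ≠ 0) (k m : ℕ) (hk : 0 < k) (hm : 2 * k < m) : ∃ a b : ℂ, a * b = σ ^ 2 ∧ a ≠ b ∧
    a + b = (2 * σ * cos ((2 * k / m : ℚ) * π) : ℝ) ∧ ∃ ξ : ℂ, ξ ^ m = 1 ∧ a = σ * ξ ∧ b * ξ = σ := by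
  have h0 : (0 : ℝ) < m := by exact_mod_cast (by omega)
  refine ⟨σ * Complex.exp (((2 * k / m : ℚ) * π : ℝ) * Complex.I), σ * Complex.exp (-((2 * k / m : ℚ) * π : ℝ) * Complex.I), ?_, fun e => ?_, ?_,
    _, ?_, rfl, ?_⟩
  · rw [mul_mul_mul_comm, ← Complex.exp_add]; simp [sq]
  · have := congrArg Complex.im (mul_left_cancel₀ (by simpa) e)
    rw [← Complex.ofReal_neg, Complex.exp_ofReal_mul_I_im, Complex.exp_ofReal_mul_I_im, sin_neg] at this
    refine (sin_pos_of_pos_of_lt_pi (x := (2 * k / m : ℚ) * π) (by push_cast; positivity) (mul_lt_of_lt_one_left pi_pos ?_)).ne'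
      (by linarith)
    push_cast
    rw [div_lt_one h0]; exact_mod_cast hm
  · rw [← mul_add, ← Complex.two_cos]; push_cast; ring
  · rw [← Complex.exp_nat_mul, ← Complex.exp_nat_mul_two_pi_mul_I k]
    congr 1
    have : (m : ℂ) ≠ 0 := by exact_mod_cast h0.ne'
    push_cast; field_simp
  · rw [mul_assoc, ← Complex.exp_add]; simp

open Real in
theorem niven_nat {m : ℕ} (hm : 2 ≤ m) (h : ∃ q : ℚ, cos ((2 / m : ℚ) * π) = q) : m = 2 ∨ m = 3 ∨ m = 4 ∨ m = 6 := by
  have e0 : (0 : ℚ) < m := by positivity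
  have e3 := niven_angle_div_pi_eq (r := 2 / m) h ⟨by positivity, by rw [div_le_one e0]; exact_mod_cast hm⟩
  simp only [Set.mem_insert_iff, Set.mem_singleton_iff, div_eq_iff e0.ne'] at e3
  rcases e3 with e | e | e | e | e
  · simp at e
  · exact .inr (.inr (.inr (by exact_mod_cast (show (m : ℚ) = 6 by linarith))))
  · exact .inr (.inr (.inl (by exact_mod_cast (show (m : ℚ) = 4 by linarith))))
  · exact .inr (.inl (by exact_mod_cast (show (m : ℚ) = 3 by linarith)))
  · exact .inl (by exact_mod_cast (show (m : ℚ) = 2 by linarith))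

open Real in
theorem InvGen.fh_abs {ι W R : Type*} [Group W] {s : ι → W} (ig : InvGen s) (ex : Exchange s) [Ring R] [Algebra ℂ R] (f : ι → R) (q : ι → ℂ)
    (τ : R →ₗ[ℂ] ℂ) (hf : ∀ k, f k * f k = (q k - 1) • f k + q k • 1) (hτ : τ 1 = 1)
    (hr : ∀ (x : R) (c : ℂ) (r : ℚ), x * x = c • x → τ x = r → r ≠ 0 → ∃ r' : ℚ, c = r')
    (h0 : ∀ ω ω', wp f ω = wp f ω' → wp q ω = wp q ω')
    (h1 : ∀ ω ω', Red s ω → Red s ω' → wp s ω * wp s ω' ≠ 1 → τ (wp f ω * wp f ω') = 0)
    (h2 : ∀ ω ω', Red s ω → Red s ω' → wp s ω = wp s ω' → wp f ω = wp f ω') {i j : ι} (hne : s i ≠ s j) (hW : orderOf (s i * s j) ≠ 0)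
    {u v : ℕ} (hu : q i = u) (hv : q j = v) (hu' : 2 ≤ u) (hv' : 2 ≤ v) : orderOf (s i * s j) ∈ ({2, 3, 4, 6, 8} : Set ℕ) := by
  have hs : orderOf (s j * s i) = orderOf (s i * s j) := by rw [← orderOf_inv, mul_inv_rev, ig.inv, ig.inv]
  replace h2 := h2 _ _ (ig.red_alt ex _ _ _ le_rfl) (ig.red_alt ex _ _ _ hs.ge)
    (mul_inv_eq_one.1 ((wp_alt_mul_inv s ig.sq ..).trans (pow_orderOf_eq_one _)))
  have h3 : ∀ i j k, 3 ≤ orderOf (s i * s j) → 2 * (k + 1) ≤ orderOf (s i * s j) →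
      τ (f i * f j * (f i * f j) ^ (k + 1)) = 0 ∧ τ (f j * f i * (f i * f j) ^ (k + 1)) = if k = 0 then q i * q j else 0 := fun i j k a b => by
    have hs : orderOf (s j * s i) = orderOf (s i * s j) := by rw [← orderOf_inv, mul_inv_rev, ig.inv, ig.inv]
    have c1 := ig.red_alt ex (2 * 1) i j (by omega)
    have c2 := h1 _ _ (ig.red_alt ex (2 * 1) j i (by omega)) (ig.red_alt ex _ i j b)
    have c3 := h1 _ _ c1 (ig.red_alt ex _ i j b)
    have c4 := h1 _ _ (ig.red_alt ex 1 j i (by omega)) c1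
    have c5 := h1 _ _ (ig.red_alt ex 1 j i (by omega)) (red_nil s)
    simp only [wp_alt_two_mul, pow_one, ← pow_succ'] at c2 c3 c4
    refine ⟨by rw [← pow_succ']; exact c3 (pow_ne_one_of_lt_orderOf (by omega) (by omega)), ?_⟩
    split_ifs with e
    · simp only [alt, wp_singleton, wp_nil, mul_one, ← mul_assoc] at c4 c5
      rw [e, zero_add, pow_one, ← mul_assoc, mul_assoc (f j), hf]
      simp only [mul_add, add_mul, mul_smul_comm, smul_mul_assoc, mul_one, hf, map_add, map_smul, c5 (ig.simple_ne_one ex j),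
        c4 fun e => ig.simple_ne_one ex i (conj_eq_one_iff.1 (by rwa [ig.inv j]))]
      simp [hτ]
    · exact c2 (by simpa [pow_succ', ← mul_assoc, ig.cancel_right, ig.sq] using pow_ne_one_of_lt_orderOf e (by omega))
  have key := fun (N : ℕ) (hN : 2 * N + 3 ≤ orderOf (s i * s j)) => @fh_rat _ _ _ _ _ _ _ (hf i) (hf j) τ
    hr (u * v) (by simp [hu, hv]) (by positivity) N fun k hk => by
      rw [mul_sub, sub_mul, sub_mul, map_sub, map_sub, map_sub, (h3 i j k (by omega) (by omega)).1, (h3 i j k (by omega) (by omega)).2,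
        (h3 j i k (by omega) (by omega)).1, (h3 j i k (by omega) (by omega)).2]
      split_ifs <;> ring
  have hm1 : orderOf (s i * s j) ≠ 1 := fun e => hne (by rw [← ig.inv j, eq_inv_iff_mul_eq_one, ← orderOf_eq_one_iff, e])
  generalize orderOf (s i * s j) = m at *
  rw [hu, hv] at key
  obtain ⟨n, rfl | rfl⟩ := m.even_or_odd'
  · obtain _ | _ | N := n
    · omega
    · simp
    have e0 : (0 : ℝ) < u * v := by positivity
    have e1 : ∀ σ : ℝ, σ ^ 2 = u * v → ∀ k, 0 < k → k < N + 2 → ∀ x : ℂ, x = (2 * σ * cos ((2 * k / (2 * (N + 2) : ℕ) : ℚ) * π) : ℝ) →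
        x ^ 2 - 4 * (u * v) ≠ 0 ∧ ∃ r : ℚ, x ^ 2 - 4 * (u * v) = r * (x ^ 2 - (u - 1) * (v - 1) * x - (u * v + 1) * (u + v)) ∨
          x ^ 2 - (u - 1) * (v - 1) * x - (u * v + 1) * (u + v) = 0 := fun σ hσ k a b x hx => by
      obtain ⟨a, b, c1, c2, c3, ξ, c4, c5, c6⟩ := cos_trick σ (by rintro rfl; linarith) k (2 * (N + 2)) a (by omega)
      have c7 : a * b = u * v := by rw [c1]; exact_mod_cast hσ
      have c8 : a ^ (N + 2) = b ^ (N + 2) := by rw [c5, ← c6, mul_assoc, mul_pow, ← pow_two ξ, ← pow_mul, c4, mul_one]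
      rw [hx, ← c3]
      refine ⟨fun e => c2 (sub_eq_zero.1 (pow_eq_zero_iff two_ne_zero |>.1 (by linear_combination e - 4 * c7))),
        key N (by omega) c7 c2 hW (by push_cast; linear_combination (a ^ (N + 1) + b ^ (N + 1)) * c8) ?_⟩
      have c9 := chU_eval a b (N + 2)
      rw [c8, sub_self, c7, mul_eq_zero_iff_right (sub_ne_zero.2 c2)] at c9
      rw [c9, map_zero, zero_mul, sub_zero, map_mul, mul_assoc, ← hu, ← hv, ← pow_sub_pow (hf i) (hf j), ← wp_alt_two_mul, ← wp_alt_two_mul,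
        h2, sub_self, mul_zero]
    have e2 : ∀ k, 0 < k → k < N + 2 → ∃ r : ℚ, 2 * √(u * v) * cos ((2 * k / (2 * (N + 2) : ℕ) : ℚ) * π) = r := fun k a b => by
      obtain ⟨r, hr⟩ := rat_even hu' hv' (e1 √(u * v) (sq_sqrt e0.le) k a b _ rfl) (e1 (-√(u * v)) (by rw [neg_sq, sq_sqrt e0.le]) k a b _
        (by push_cast; ring)).2
      exact ⟨r, by exact_mod_cast hr⟩
    obtain ⟨r, hr⟩ := e2 1 one_pos (by omega)
    have e3 := niven_nat (m := N + 2) (by omega) ⟨r ^ 2 / (2 * (u * v)) - 1, by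
      rw [show ((2 / (N + 2 : ℕ) : ℚ) : ℝ) * π = 2 * ((2 * (1 : ℕ) / (2 * (N + 2) : ℕ) : ℚ) * π) by push_cast; field_simp, cos_two_mul]
      push_cast at hr ⊢
      rw [← hr, mul_pow, mul_pow, sq_sqrt e0.le]
      field_simp⟩
    simp only [Set.mem_insert_iff, Set.mem_singleton_iff]
    rcases (show N = 4 ∨ N < 3 by omega) with rfl | e4
    · obtain ⟨r', hr'⟩ := e2 2 two_pos (by omega)
      rw [show ((2 * (2 : ℕ) / (2 * (4 + 2) : ℕ) : ℚ) : ℝ) * π = π / 3 by push_cast; ring, cos_pi_div_three] at hr'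
      refine absurd ⟨r / (2 * r'), ?_⟩ (irrational_cos_rat_mul_pi (r := 2 * (1 : ℕ) / (2 * (4 + 2) : ℕ)) (by norm_num))
      have := sqrt_ne_zero'.2 e0
      rw [Rat.cast_div, Rat.cast_mul, ← hr, ← hr']
      field_simp
      norm_num [mul_comm]
    · omega
  obtain _ | N := n
  · omega
  have e1 := h0 _ _ h2
  simp only [alt_add _ _ _ 1, wp_append, wp_alt_two_mul, show ∀ i j : ι, alt i j 1 = [i] from fun _ _ => rfl, wp_singleton, mul_comm (q j)] at e1 h2
  rw [hu, hv] at e1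
  obtain rfl : u = v := by simpa [show u ≠ 0 by omega, show v ≠ 0 by omega] using e1
  obtain ⟨a, b, c1, c2, c3, ξ, c4, c5, c6⟩ := cos_trick u (by positivity) 1 (2 * (N + 1) + 1) one_pos (by omega)
  have c7 : a * b = u * u := by simp [c1, pow_two]
  have c8 : a ^ (2 * N + 3) = b ^ (2 * N + 3) := by
    rw [c5, ← c6, mul_assoc, mul_pow, mul_pow, show 2 * N + 3 = 2 * (N + 1) + 1 by ring, c4, one_mul, mul_one]
  obtain ⟨r, hr⟩ := rat_odd hu' (fun e => c2 (sub_eq_zero.1 (pow_eq_zero_iff two_ne_zero |>.1 (by linear_combination e - 4 * c7))))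
    (key N (by omega) c7 c2 hW (by simp [c8]; left; left; ring) (by
      have c9 : (chU (u * u) (N + 2)).eval (a + b) = -u * (chU (u * u) (N + 1)).eval (a + b) := by
        rw [← mul_left_inj' (sub_ne_zero.2 c2), mul_assoc, ← c7, chU_eval, chU_eval, c5]
        simp only [Complex.ofReal_natCast] at c6 ⊢
        rw [← c6]
        linear_combination b ^ (N + 2) * (ξ + 1) * c4
      have := braid_odd (hf i) (hf j) (hu.trans hv.symm) h2
      rw [hu, hv] at this
      rw [c9, map_mul, map_neg, neg_mul, neg_mul, sub_neg_eq_add, mul_assoc (C _), mul_left_comm (C (u : ℂ)), ← mul_add, map_mul, mul_assoc, this, mul_zero]))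
  have e3 := niven_nat (m := 2 * (N + 1) + 1) (by omega) ⟨r / (2 * u), by
    rw [Rat.cast_div r, eq_div_iff (by positivity), ← Complex.ofReal_inj, Complex.ofReal_ratCast, ← hr, c3]; push_cast; ring_nf⟩
  simp only [Set.mem_insert_iff, Set.mem_singleton_iff]
  omega

end Cfsg.Agent.Chev
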