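import Cfsg.Agent.Lib.Chev.More

set_option autoImplicit false
set_option linter.unusedSectionVars false

/-! Involutions in simply laced groups of characteristic two are products of commuting root elements. -/

namespace Cfsg.Agent.Chev
open Cfsg.Lie
open scoped commutatorElement

variable {I R : Type} [Fintype I] [DecidableEq I] [Fintype R] [DecidableEq R]

/-- simply laced systems -/
structure RS.Lac (Φ : RS I R) : Prop where
  good : Φ.Good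
  ln : ∀ r s, Φ.ln r = Φ.ln s

theorem RS.pair_sum {Φ : RS I R} {k a b : R} (h : Φ.rv k = Φ.rv a + Φ.rv b) (r : R) :
    Φ.pair r k = Φ.pair r a + Φ.pair r b := by rw [← Φ.pl_rv, h, map_add, Φ.pl_rv, Φ.pl_rv]

theorem RS.ht_sum {Φ : RS I R} {k a b : R} (h : Φ.rv k = Φ.rv a + Φ.rv b) : Φ.ht k = Φ.ht a + Φ.ht b := by
  simp only [RS.ht, h, Pi.add_apply, Finset.sum_add_distrib]

theorem RS.peel {Φ : RS I R} {P : Set R} {p : Set R → Prop} (h0 : p ∅)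
    (h1 : ∀ T ⊆ P, (∀ s ∈ T, ∀ k ∈ P, Φ.ht s < Φ.ht k → k ∈ T) → ∀ s ∈ T, (∀ k ∈ T, Φ.ht s ≤ Φ.ht k) → p (T \ {s}) → p T) : p P := by
  suffices ∀ n, ∀ T ⊆ P, (∀ s ∈ T, ∀ k ∈ P, Φ.ht s < Φ.ht k → k ∈ T) → T.ncard = n → p T from this _ P subset_rfl (fun _ _ _ a _ => a) rfl
  intro n
  induction n using Nat.strong_induction_on with | _ n ih =>
  intro T a b c
  rcases T.eq_empty_or_nonempty with rfl | d
  · exact h0
  obtain ⟨s, e, f⟩ := Set.exists_min_image T Φ.ht T.toFinite d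
  refine h1 T a b s e f (ih _ (c ▸ Set.ncard_sdiff_singleton_lt_of_mem e) _ (Set.sdiff_subset.trans a) (fun s' i k j l => ⟨b s' i.1 k j l, ?_⟩) rfl)
  rintro rfl
  exact (f s' i.1).not_gt l

namespace RS.Lac
variable {Φ : RS I R} (h : Φ.Lac)
include h

theorem symm (r s : R) : Φ.pair r s = Φ.pair s r := by
  have := Φ.ln_pair_symm r s
  rw [h.ln s r] at this
  exact mul_left_cancel₀ (Φ.ln_pos r).ne' this

theorem le_one {r s : R} (e : r ≠ s) : Φ.pair r s ≤ 1 := by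
  by_contra a
  have := h.good.str r s (by omega) e
  have := h.symm r s
  omega

theorem ge {r s : R} (e : s ≠ Φ.neg r) : -1 ≤ Φ.pair r s := by
  have := h.le_one (r := Φ.neg r) (s := s) e.symm
  rw [pair_neg_left] at this; omega

theorem comb {k r s : R} (c : Φ.Comb k r s) (e : s ≠ Φ.neg r) : Φ.pair r s = -1 ∧ Φ.rv k = Φ.rv r + Φ.rv s := by
  obtain ⟨i, j, hi, hj, c⟩ := c
  have a : ∀ b, Φ.pair b k = i * Φ.pair b r + j * Φ.pair b s := fun b => by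
    rw [← Φ.pl_rv, c, map_add, map_smul, map_smul, Φ.pl_rv, Φ.pl_rv]; rfl
  have a1 := a k
  rw [h.symm k r, h.symm k s, a r, a s, Φ.pair_same, Φ.pair_same, Φ.pair_same, h.symm s r] at a1
  have a2 := h.ge e
  have hi' : (1 : ℤ) ≤ i := by exact_mod_cast hi
  have hj' : (1 : ℤ) ≤ j := by exact_mod_cast hj
  have a3 : (0 : ℤ) ≤ (i * j) * (Φ.pair r s + 1) := mul_nonneg (by positivity) (by omega)
  have a4 : (i : ℤ) = 1 := by nlinarith [sq_nonneg ((i : ℤ) - 2 * j), sq_nonneg ((j : ℤ) - 1), sq_nonneg (2 * (j : ℤ) - i)]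
  have a5 : (j : ℤ) = 1 := by nlinarith
  rw [a4, a5] at a1 c
  exact ⟨by omega, by simpa using c⟩

theorem closed {A : Set R} (hp : ∀ r ∈ A, Φ.Pos r) (hc : ∀ r ∈ A, ∀ s ∈ A, ∀ k, Φ.rv k = Φ.rv r + Φ.rv s → k ∈ A) : Φ.Closed A :=
  fun r hr s hs k c => hc r hr s hs k (h.comb c fun e => (hp r hr).not_neg (e ▸ hp s hs)).2

end RS.Lac

namespace St
variable {Φ : CD I R} {F : Type*} [Field F] {G : Type*} [Group G] {S : St Φ F G}

theorem acts_refl' (k : R) (c : Fˣ) : ∃ w, S.Acts (S.n k c) w ∧ ∀ s, Φ.rv (w • s) = Φ.rv s - Φ.pair k s • Φ.rv k := by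
  obtain ⟨w, i, rfl⟩ := RS.exists_smul_sim (Φ := Φ.toRS) k
  obtain ⟨m, -, hm⟩ := exists_of_W (S := S) w
  obtain ⟨χ, h⟩ := hm.conj_n (Φ.sim i)
  exact ⟨_, by simpa [h] using (hm.mul (acts_n i (χ⁻¹ * c))).mul hm.inv, RS.rv_conj w i⟩

variable (h : Φ.Lac)
include h

theorem lac_commute {r s : R} (e : 0 ≤ Φ.pair r s) (t u : F) : Commute (S.x r t) (S.x s u) := by
  have a : s ≠ Φ.neg r := by rintro rfl; rw [RS.pair_neg_right, RS.pair_same] at e; omega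
  exact (commute_x a (fun k c => by have := (h.comb c a).1; omega) t u).symm

theorem lac_comm {r s k : R} (e : Φ.rv k = Φ.rv r + Φ.rv s) :
    ∃ N : F, N ≠ 0 ∧ ∀ t u, S.x s u * S.x r t = S.x r t * S.x s u * S.x k (N * t * u) := by
  have a : s ≠ Φ.neg r := by rintro rfl; exact Φ.rv_ne_zero k (by simp [e, Φ.rv_neg])
  have p := (h.comb ⟨1, 1, one_pos, one_pos, by simpa using e⟩ a).1
  have b : s ≠ r := by rintro rfl; rw [RS.pair_same] at p; omega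
  have c : ∀ L : List (R × ℤ × ℕ × ℕ), (∀ c ∈ L, c ∈ Φ.ct r s) → ∃ N : F, ∀ t u : F,
      (L.map fun c => S.x c.1 ((c.2.1 : F) * (-t) ^ c.2.2.1 * u ^ c.2.2.2)).prod = S.x k (N * t * u) := by
    intro L
    induction L with
    | nil => exact fun _ => ⟨0, by simp⟩
    | cons c L ih =>
      intro d
      obtain ⟨N, hN⟩ := ih fun c' hc => d c' (List.mem_cons_of_mem _ hc)
      obtain ⟨d1, d2, d3⟩ := Φ.ct_rv r s c (d c List.mem_cons_self)
      have d4 := (h.comb ⟨_, _, d1, d2, d3⟩ a).2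
      have d5 : ∀ b, Φ.pair b c.1 = c.2.2.1 * Φ.pair b r + c.2.2.2 * Φ.pair b s := fun b => by
        rw [← Φ.pl_rv, d3, map_add, map_smul, map_smul, Φ.pl_rv, Φ.pl_rv]; rfl
      have d6 := d5 r
      have d7 := d5 s
      rw [RS.pair_sum d4, RS.pair_same] at d6 d7
      rw [h.symm s r] at d7
      rw [p] at d6 d7
      have d8 : c.2.2.1 = 1 := by omega
      have d9 : c.2.2.2 = 1 := by omega
      refine ⟨N - c.2.1, fun t u => ?_⟩
      rw [List.map_cons, List.prod_cons, hN, d8, d9, Φ.rv_inj (d4.trans e.symm), S.add]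
      congr 1; ring
  obtain ⟨N, hN⟩ := c _ fun _ => id
  refine ⟨N, fun z => ?_, fun t u => by rw [S.comm r s t u b a, hN]⟩
  have c1 : ∀ t, Commute (S.x r t) (S.x s 1) := fun t => by
    have := S.comm r s t 1 b a
    rw [hN, z] at this
    simpa [commute_iff_eq] using this.symm
  have c2 : ∀ t, Commute (S.x (Φ.neg r) t) (S.x s 1) := fun t => lac_commute h (by rw [RS.pair_neg_left]; omega) t 1
  obtain ⟨w, ⟨χ, -, hw⟩, hw'⟩ := acts_refl' (S := S) r 1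
  have c3 : Commute (S.n r 1) (S.x s 1) := ((c1 _).mul_left (c2 _)).mul_left (c1 _)
  have c4 := hw s 1
  rw [c3.eq, mul_inv_cancel_right] at c4
  have c5 := hw' s
  rw [← eq_of_x_eq one_ne_zero c4, p] at c5
  exact Φ.rv_ne_zero r (by simpa using c5)

theorem lac_conj {r s : R} {C : Set R} (a : s ≠ Φ.neg r) (hs : s ∈ C) (hk : ∀ k, Φ.pair r s = -1 → Φ.rv k = Φ.rv r + Φ.rv s → k ∈ C) (t u : F) :
    S.x r t * S.x s u * (S.x r t)⁻¹ ∈ S.Ux C := by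
  have := comm_mem (S := S) (A := C) a (fun k c => hk k (h.comb c a).1 (h.comb c a).2) t u
  rw [← Subgroup.inv_mem_iff, commutatorElement_inv, commutatorElement_def] at this
  simpa using mul_mem this (x_mem hs u)

section
variable {A : Set R} (hp : ∀ s ∈ A, Φ.Pos s) (hc : ∀ r ∈ A, ∀ s ∈ A, ∀ k, Φ.rv k = Φ.rv r + Φ.rv s → k ∈ A)
  (hd : ∀ r ∈ A, ∀ s ∈ A, ∀ k, Φ.Pos k → Φ.rv s = Φ.rv k + Φ.rv r → k ∈ A) {r : R} (hr : r ∈ A) {t : F} (ht : t ≠ 0)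
include hp hc hr ht

omit hc hr ht in
theorem lac_split {B : Set R} (hB : B ⊆ A) (b : ∀ r ∈ B, ∀ s ∈ B, ∀ k, Φ.rv k = Φ.rv r + Φ.rv s → k ∈ B) {s : R} (hs : s ∈ B) {v : G}
    (hv : v ∈ S.Ux B) : ∃ c, ∃ v' ∈ S.Ux (B \ {s}), v = S.x s c * v' := by
  obtain ⟨c, v', a, e⟩ := exists_eq_P_mul (L := [s]) (RS.unip_pos.subset (h.closed (fun k m => hp k (hB m)) b) fun k m => hp k (hB m))
    (by simp) (by simpa) hv
  exact ⟨c s, v', Ux_mono (fun k m => by simpa using m) a, by simpa using e⟩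

include hd in
theorem lac_kill {v : G} (hv : v ∈ S.Ux {s ∈ A | Φ.ht r ≤ Φ.ht s ∧ s ≠ r}) :
    ∃ g ∈ S.Ux A, ∃ v' ∈ S.Ux {s ∈ A | Φ.ht r ≤ Φ.ht s ∧ Φ.pair r s ≤ 0}, g * (S.x r t * v) * g⁻¹ = S.x r t * v' := by
  have key := RS.peel (Φ := Φ.toRS) (P := {s ∈ A | Φ.ht r ≤ Φ.ht s ∧ Φ.pair r s = 1})
    (p := fun T => ∀ v ∈ S.Ux ({s ∈ A | Φ.ht r ≤ Φ.ht s ∧ Φ.pair r s ≤ 0} ∪ T), ∃ g ∈ S.Ux A,
      ∃ v' ∈ S.Ux {s ∈ A | Φ.ht r ≤ Φ.ht s ∧ Φ.pair r s ≤ 0}, g * (S.x r t * v) * g⁻¹ = S.x r t * v')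
    (fun v a => ⟨1, one_mem _, v, by simpa using a, by simp⟩) ?_
  · refine key v (Ux_mono (fun s a => ?_) hv)
    have := h.le_one a.2.2.symm
    by_cases b : Φ.pair r s = 1
    · exact Or.inr ⟨a.1, a.2.1, b⟩
    · exact Or.inl ⟨a.1, a.2.1, by omega⟩
  intro T T1 T2 s hs T3 ih v hv
  obtain ⟨s1, s2, s3⟩ := T1 hs
  have B1 : ∀ k ∈ {s ∈ A | Φ.ht r ≤ Φ.ht s ∧ Φ.pair r s ≤ 0} ∪ T, k ∈ A ∧ Φ.ht r ≤ Φ.ht k ∧ Φ.pair r k ≤ 1 ∧ (Φ.pair r k = 1 → k ∈ T) := by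
    rintro k (a | a)
    · exact ⟨a.1, a.2.1, by have := a.2.2; omega, by have := a.2.2; omega⟩
    · exact ⟨(T1 a).1, (T1 a).2.1, (T1 a).2.2.le, fun _ => a⟩
  obtain ⟨c, v', a, rfl⟩ := lac_split h hp (fun k m => (B1 k m).1) (fun a a' b b' k e => by
    obtain ⟨a1, a2, a3, a4⟩ := B1 a a'
    obtain ⟨b1, b2, b3, b4⟩ := B1 b b'
    have e1 := RS.pair_sum e r
    have e2 := RS.ht_sum e
    have e3 := (hp a a1).ht_pos
    have e4 := (hp b b1).ht_pos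
    have e5 := hc a a1 b b1 k e
    have e6 := h.le_one (r := r) (s := k) (by rintro rfl; omega)
    by_cases f : Φ.pair r k = 1
    · by_cases g : Φ.pair r a = 1
      · exact Or.inr (T2 a (a4 g) k ⟨e5, by omega, f⟩ (by omega))
      · exact Or.inr (T2 b (b4 (by omega)) k ⟨e5, by omega, f⟩ (by omega))
    · exact Or.inl ⟨e5, by omega, by omega⟩) (Or.inr hs) hv
  obtain ⟨k, hk⟩ := h.good.exists_sub (r := r) (s := s) (by omega) (by rintro rfl; rw [RS.pair_same] at s3; omega)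
  have k1 := RS.ht_sum hk
  have k2 : Φ.Pos k := by
    by_contra z
    have := (RS.pos_neg_iff.2 z).ht_pos
    rw [RS.ht_neg] at this; omega
  have k3 := hd r hr s s1 k k2 hk
  have k4 := RS.pair_sum hk r
  have k5 := RS.pair_sum hk k
  rw [RS.pair_same] at k4 k5
  rw [h.symm k r] at k5
  obtain ⟨N, N1, N2⟩ := lac_comm (S := S) h (hk.trans (add_comm _ _))
  obtain ⟨g, g1, v'', g2, g3⟩ := ih (S.x k (-c / (N * t)) * v' * (S.x k (-c / (N * t)))⁻¹) (conj_mem_of_gen (fun b b' u => by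
    obtain ⟨b1, b2, b3, b4⟩ := B1 b b'.1
    refine lac_conj h (fun z => k2.not_neg (z ▸ hp b b1)) (b'.1.imp id fun z => ⟨z, b'.2⟩) (fun m _ m2 => Or.inl ⟨hc k k3 b b1 m m2, ?_, ?_⟩) _ _
    · have := RS.ht_sum m2; have := k2.ht_pos; omega
    · have := RS.pair_sum m2 r; omega) a)
  refine ⟨g * S.x k (-c / (N * t)), mul_mem g1 (x_mem k3 _), v'', g2, ?_⟩
  have e1 : S.x k (-c / (N * t)) * (S.x r t * S.x s c) = S.x r t * S.x k (-c / (N * t)) := by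
    rw [← mul_assoc, N2, mul_assoc, S.add, mul_div_cancel₀ _ (mul_ne_zero N1 ht)]; simp
  rw [← g3, ← mul_assoc (S.x r t), ← mul_assoc (S.x r t), ← mul_assoc (S.x r t), ← e1]
  group

theorem lac_sq [CharP F 2] {v : G} (hv : v ∈ S.Ux {s ∈ A | Φ.ht r ≤ Φ.ht s ∧ Φ.pair r s ≤ 0}) (e : S.x r t * v * (S.x r t * v) = 1) :
    v ∈ S.Ux {s ∈ A | Φ.pair r s = 0} := by
  have key := RS.peel (Φ := Φ.toRS) (P := {s ∈ A | Φ.pair r s = -1})
    (p := fun T => v ∈ S.Ux ({s ∈ A | Φ.pair r s = 0} ∪ T) → v ∈ S.Ux {s ∈ A | Φ.pair r s = 0}) (by simp) ?_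
  · refine key (Ux_mono (fun s a => ?_) hv)
    have := h.ge (r := r) (s := s) fun z => (hp r hr).not_neg (z ▸ hp s a.1)
    by_cases b : Φ.pair r s = 0
    · exact Or.inl ⟨a.1, b⟩
    · exact Or.inr ⟨a.1, by have := a.2.2; omega⟩
  intro T T1 T2 s hs T3 ih hv
  obtain ⟨s1, s2⟩ := T1 hs
  obtain ⟨k, hk⟩ := h.good.exists_sub (r := Φ.neg r) (s := s) (by rw [RS.pair_neg_left]; omega) (fun z => (hp r hr).not_neg (z ▸ hp s s1))
  replace hk : Φ.rv k = Φ.rv r + Φ.rv s := by simp [hk, Φ.rv_neg]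
  have k1 := RS.ht_sum hk
  have k2 := RS.pair_sum hk r
  rw [RS.pair_same] at k2
  have cl : ∀ D : R → Prop, (∀ a, D a → Φ.ht r ≤ Φ.ht a) → (∀ a b, D a → Φ.ht a < Φ.ht b → D b) →
      ∀ a ∈ {a ∈ A | Φ.pair r a = 0 ∨ Φ.pair r a = -1 ∧ a ∈ T ∨ Φ.pair r a = 1 ∧ D a},
      ∀ b ∈ {a ∈ A | Φ.pair r a = 0 ∨ Φ.pair r a = -1 ∧ a ∈ T ∨ Φ.pair r a = 1 ∧ D a}, ∀ m, Φ.rv m = Φ.rv a + Φ.rv b →
        m ∈ {a ∈ A | Φ.pair r a = 0 ∨ Φ.pair r a = -1 ∧ a ∈ T ∨ Φ.pair r a = 1 ∧ D a} := by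
    intro D D1 D2 a ⟨a1, a2⟩ b ⟨b1, b2⟩ m f
    have e1 := RS.pair_sum f r
    have e2 := RS.ht_sum f
    have e3 := (hp a a1).ht_pos
    have e4 := (hp b b1).ht_pos
    have e5 := hc a a1 b b1 m f
    have e6 := h.ge (r := r) (s := m) fun z => (hp r hr).not_neg (z ▸ hp m e5)
    refine ⟨e5, ?_⟩
    rcases a2 with a2 | ⟨a2, a3⟩ | ⟨a2, a3⟩ <;> rcases b2 with b2 | ⟨b2, b3⟩ | ⟨b2, b3⟩
    · exact Or.inl (by omega)
    · exact Or.inr (Or.inl ⟨by omega, T2 b b3 m ⟨e5, by omega⟩ (by omega)⟩)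
    · exact Or.inr (Or.inr ⟨by omega, D2 b m b3 (by omega)⟩)
    · exact Or.inr (Or.inl ⟨by omega, T2 a a3 m ⟨e5, by omega⟩ (by omega)⟩)
    · omega
    · exact Or.inl (by omega)
    · exact Or.inr (Or.inr ⟨by omega, D2 a m a3 (by omega)⟩)
    · exact Or.inl (by omega)
    · have := D1 a a3
      have := h.le_one (r := r) (s := m) (by rintro rfl; omega)
      omega
  obtain ⟨c, v', a, rfl⟩ := lac_split (S := S) h hp (fun k m => m.1) (cl (fun _ => False) (by simp) (by simp)) (s := s) ⟨s1, Or.inr (Or.inl ⟨s2, hs⟩)⟩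
    (Ux_mono (by rintro b (b' | b'); exacts [⟨b'.1, Or.inl b'.2⟩, ⟨(T1 b').1, Or.inr (Or.inl ⟨(T1 b').2, b'⟩)⟩]) hv)
  obtain ⟨N, N1, N2⟩ := lac_comm (S := S) h hk
  have s3 := (hp s s1).ht_pos
  have c1 := h.closed (fun k m => hp k m.1) (cl (fun a => Φ.ht k ≤ Φ.ht a ∧ a ≠ k) (fun a b => by omega)
    fun a b d f => ⟨by omega, by rintro rfl; omega⟩)
  have c2 : ∀ b ∈ {a ∈ A | Φ.pair r a = 0 ∨ Φ.pair r a = -1 ∧ a ∈ T ∨ Φ.pair r a = 1 ∧ False}, b ∈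
      {a ∈ A | Φ.pair r a = 0 ∨ Φ.pair r a = -1 ∧ a ∈ T ∨ Φ.pair r a = 1 ∧ Φ.ht k ≤ Φ.ht a ∧ a ≠ k} :=
    fun b b' => ⟨b'.1, b'.2.imp id (Or.imp id fun z => z.2.elim)⟩
  have c3 := conj_mem_of_gen (a := (S.x r t)⁻¹) (fun b b' u => by
    rw [x_inv]
    refine lac_conj h (fun z => (hp r hr).not_neg (z ▸ hp b b'.1.1)) (c2 b b'.1) (fun m m1 m2 => ⟨hc r hr b b'.1.1 m m2, Or.inr (Or.inr ⟨?_, ?_, ?_⟩)⟩) _ _
    · rw [RS.pair_sum m2, RS.pair_same]; omega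
    · have := RS.ht_sum m2
      have := T3 b (by rcases b'.1.2 with z | z | z; exacts [by omega, z.2, z.2.elim])
      omega
    · rintro rfl
      exact b'.2 (Φ.rv_inj (add_left_cancel (m2.symm.trans hk)))) a
  have c4 := x_mem (S := S) (c2 s ⟨s1, Or.inr (Or.inl ⟨s2, hs⟩)⟩) c
  have c5 := Ux_mono (fun b b' => c2 b b'.1) a
  have e1 : S.x k (N * t * c) = (S.x s c)⁻¹ * (S.x s c * v')⁻¹ * ((S.x r t)⁻¹ * v' * (S.x r t)⁻¹⁻¹)⁻¹ := by
    have e2 : S.x r t * S.x r t = 1 := by rw [S.add, CharTwo.add_self_eq_zero, x_zero]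
    have e3 : (S.x s c * v')⁻¹ = (S.x r t)⁻¹ * (S.x s c * v') * S.x r t := by
      rw [inv_eq_of_mul_eq_one_right e2]
      exact inv_eq_of_mul_eq_one_left (by rw [← e]; group)
    rw [e3, (inv_mul_eq_iff_eq_mul.2 (N2 t c)).symm]
    group
  have c6 := eq_zero_of_P_mem (S := S) (L := [k]) (t := fun _ => N * t * c) RS.unip_pos c1 (fun b m => hp b m.1) (by simp)
    (by simpa using hp k (hc r hr s s1 k hk)) (by simpa [e1] using mul_mem (mul_mem (inv_mem c4) (inv_mem (mul_mem c4 c5))) (inv_mem c3))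
    (r := k) (by simp) (by rintro ⟨-, z | z | z⟩; exacts [by omega, by omega, z.2.2 rfl])
  obtain rfl : c = 0 := by simpa [N1, ht] using c6
  rw [x_zero, one_mul] at ih ⊢
  refine ih (Ux_mono (fun b b' => ?_) a)
  rcases b'.1.2 with z | z | z
  exacts [Or.inl ⟨b'.1.1, z⟩, Or.inr ⟨z.2, b'.2⟩, z.2.elim]

omit hr ht in
include hd in
theorem lac_step [CharP F 2] {u : G} (hu : u ∈ S.Ux A) (e : u * u = 1) : u = 1 ∨ ∃ r ∈ A, ∃ t ≠ 0, ∃ g ∈ S.Ux A,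
    ∃ v ∈ S.Ux {s ∈ A | Φ.pair r s = 0}, v * v = 1 ∧ g * u * g⁻¹ = S.x r t * v := by
  refine RS.peel (Φ := Φ.toRS) (P := A) (p := fun T => u ∈ S.Ux T → _) (by simp +contextual [Ux_empty]) ?_ hu
  intro T T1 T2 r hr T3 ih hu
  obtain ⟨t, v, a, rfl⟩ := lac_split h hp T1 (fun a a' b b' k f => T2 a a' k (hc a (T1 a') b (T1 b') k f)
    (by have := RS.ht_sum f; have := (hp b (T1 b')).ht_pos; omega)) hr hu
  by_cases ht : t = 0
  · exact ih (by simpa [ht] using a)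
  obtain ⟨g, g1, v', g2, g3⟩ := lac_kill h hp hc hd (T1 hr) ht (v := v) (Ux_mono (fun b b' => And.intro (T1 b'.1) ⟨T3 b b'.1, b'.2⟩) a)
  have e1 : S.x r t * v' * (S.x r t * v') = 1 := by rw [← g3, conj_mul, e]; simp
  have g4 := lac_sq h hp hc (T1 hr) ht g2 e1
  refine Or.inr ⟨r, T1 hr, t, ht, g, g1, v', g4, ?_, g3⟩
  have c : Commute v' (S.x r t) := by
    simpa using commute_P (L := [r]) (fun a a' b b' t u => by
      obtain rfl : b = r := by simpa using b'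
      exact (lac_commute h a'.2.ge u t).symm) g4 fun _ => t
  rwa [c.mul_mul_mul_comm, S.add, CharTwo.add_self_eq_zero, x_zero, one_mul] at e1

end

theorem lac_orth [CharP F 2] {A : Set R} (hp : ∀ s ∈ A, Φ.Pos s) (hc : ∀ r ∈ A, ∀ s ∈ A, ∀ k, Φ.rv k = Φ.rv r + Φ.rv s → k ∈ A)
    (hd : ∀ r ∈ A, ∀ s ∈ A, ∀ k, Φ.Pos k → Φ.rv s = Φ.rv k + Φ.rv r → k ∈ A) {u : G} (hu : u ∈ S.Ux A) (e : u * u = 1) :
    ∃ g ∈ S.Ux A, ∃ (L : List R) (t : R → F), (L.Pairwise fun a b => Φ.pair a b = 0) ∧ (∀ r ∈ L, r ∈ A ∧ t r ≠ 0) ∧ g * u * g⁻¹ = S.P L t := by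
  induction' hn : A.ncard using Nat.strong_induction_on with n ih generalizing A u
  obtain rfl | ⟨r, hr, t, ht, g, g1, v, g2, g3, g4⟩ := lac_step h hp hc hd hu e
  · exact ⟨1, one_mem _, [], 0, by simp⟩
  obtain ⟨g', a1, L, t', a2, a3, a4⟩ := ih (A := {s ∈ A | Φ.pair r s = 0}) _ (hn ▸ Set.ncard_lt_ncard (t := A) ⟨fun _ a => a.1, fun a => by
    have := (a hr).2; rw [RS.pair_same] at this; omega⟩) (fun s a => hp s a.1)
    (fun a a' b b' k f => ⟨hc a a'.1 b b'.1 k f, by rw [RS.pair_sum f, a'.2, b'.2, add_zero]⟩)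
    (fun a a' b b' k f f' => ⟨hd a a'.1 b b'.1 k f f', by have := RS.pair_sum f' r; have := a'.2; have := b'.2; omega⟩) g2 g3 rfl
  have c : Commute g' (S.x r t) := by
    simpa using commute_P (L := [r]) (fun a a' b b' t u => by
      obtain rfl : b = r := by simpa using b'
      exact (lac_commute h a'.2.ge u t).symm) a1 fun _ => t
  have d : ∀ s ∈ L, s ≠ r := by rintro s a rfl; have := (a3 s a).1.2; rw [RS.pair_same] at this; omega
  refine ⟨g' * g, mul_mem (Ux_mono (fun _ a => a.1) a1) g1, r :: L, Function.update t' r t, List.pairwise_cons.2 ⟨fun s a => (a3 s a).1.2, a2⟩,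
    List.forall_mem_cons.2 ⟨⟨hr, by simpa⟩, fun s a => ⟨(a3 s a).1.1, by simpa [d s a] using (a3 s a).2⟩⟩, ?_⟩
  rw [P_cons, Function.update_self, P_congr (t' := t') fun s a => by simp [d s a], ← a4, mul_inv_rev, mul_assoc g', mul_assoc g', ← mul_assoc (g * u), g4,
    ← mul_assoc, ← mul_assoc, c.eq]
  group

theorem P_perm {L L' : List R} (o : L.Pairwise fun a b => Φ.pair a b = 0) (e : L.Perm L') (t : R → F) : S.P L t = S.P L' t :=
  (e.map _).prod_eq' (List.pairwise_map.2 (o.imp fun a => lac_commute h a.ge _ _))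

omit h in
theorem P_scale [CharP F 2] [Finite F] (h : Φ.Lac) {L : List R} (o : L.Pairwise fun a b => Φ.pair a b = 0) {t : R → F} (e : ∀ r ∈ L, t r ≠ 0) :
    ∃ g, (∀ k, (∀ r ∈ L, Φ.pair r k = 0) → ∀ u, Commute g (S.x k u)) ∧ g * S.P L t * g⁻¹ = S.P L 1 := by
  induction L with
  | nil => exact ⟨1, by simp⟩
  | cons r L ih =>
    obtain ⟨o1, o2⟩ := List.pairwise_cons.1 o
    obtain ⟨e1, e2⟩ := List.forall_mem_cons.1 e
    obtain ⟨g, g1, g2⟩ := ih o2 e2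
    obtain ⟨c, hc⟩ := FiniteField.isSquare_of_char_two (ringChar.eq F 2) (t r)⁻¹
    have c0 : c ≠ 0 := by rintro rfl; simp [e1] at hc
    have c1 : ∀ k, Φ.pair r k = 0 → ∀ u, Commute (S.h r (Units.mk0 c c0)) (S.x k u) := fun k a u => by
      have := h_conj_x (S := S) r (Units.mk0 c c0) k u
      rw [a] at this
      exact mul_inv_eq_iff_eq_mul.1 (by simpa using this)
    have c2 : Commute (S.h r (Units.mk0 c c0)) (S.P L 1) := Commute.list_prod_right _ _ (by simpa using fun k a => c1 k (o1 k a) 1)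
    have c3 := h_conj_x (S := S) r (Units.mk0 c c0) r (t r)
    rw [RS.pair_same, show ((Units.mk0 c c0 ^ (2 : ℤ) : Fˣ) : F) = c * c by simp [zpow_ofNat, sq], ← hc, inv_mul_cancel₀ e1] at c3
    refine ⟨S.h r (Units.mk0 c c0) * g, fun k a u => (c1 k (a r (by simp)) u).mul_left (g1 k (fun s b => a s (by simp [b])) u), ?_⟩
    calc _ = S.h r (Units.mk0 c c0) * (g * S.x r (t r) * S.P L t * g⁻¹) * (S.h r (Units.mk0 c c0))⁻¹ := by rw [P_cons]; group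
      _ = S.h r (Units.mk0 c c0) * S.x r (t r) * (S.h r (Units.mk0 c c0))⁻¹ * (S.h r (Units.mk0 c c0) * S.P L 1 * (S.h r (Units.mk0 c c0))⁻¹) := by
        rw [(g1 r (fun s a => (h.symm s r).trans (o1 s a)) _).eq, ← g2]; group
      _ = _ := by rw [c3, c2.eq]; simp

theorem P_smul [CharP F 2] [Finite F] {L : List R} (o : L.Pairwise fun a b => Φ.pair a b = 0) (w : Φ.W) :
    IsConj (S.P L 1) (S.P (L.map (w • ·)) 1) := by
  obtain ⟨m, -, χ, -, hm⟩ := exists_of_W (S := S) w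
  obtain ⟨g, -, e⟩ := P_scale (S := S) h (L := L.map (w • ·)) (List.pairwise_map.2 (o.imp fun a => by rwa [RS.pair_smul]))
    (t := fun k => χ (w⁻¹ • k)) (by simp)
  refine isConj_iff.2 ⟨g * m, ?_⟩
  rw [← e, show S.P (L.map (w • ·)) (fun k => χ (w⁻¹ • k)) = m * S.P L 1 * m⁻¹ from ?_]
  · group
  clear e o
  induction L with
  | nil => simp
  | cons r L ih => rw [List.map_cons, P_cons, P_cons, ih, inv_smul_smul, ← mul_one (χ r : F), ← hm]; simp [mul_assoc]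

theorem lac_invol [CharP F 2] [Finite F] (hm : S.HMul) (hG : S.Gx = ⊤) {g : G} (e : g * g = 1) :
    ∃ L : List R, (L.Pairwise fun a b => Φ.pair a b = 0) ∧ IsConj g (S.P L 1) := by
  obtain ⟨k, -, a⟩ := exists_conj_mem_U 2 hm (J := Set.univ) (g := g) (by rw [PJ_univ, hG]; trivial) (n := 1) (by simpa [sq])
  obtain ⟨g', -, L, t, b, c, d⟩ := lac_orth h (A := {r | Φ.Pos r}) (fun _ => id) (fun r a s b k c i => by
    rw [c]; exact add_nonneg (a i) (b i)) (fun _ _ _ _ _ a _ => a) a (by rw [conj_mul, e]; simp)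
  obtain ⟨g'', -, f⟩ := P_scale (S := S) h b fun r a => (c r a).2
  exact ⟨L, b, isConj_iff.2 ⟨g'' * g' * k, by rw [← f, ← d]; group⟩⟩

/-- the root `s` can be dropped -/
def Fus (S : St Φ F G) (L : List R) (s : R) : Prop :=
  ∀ M, ((L ++ s :: M).Pairwise fun a b => Φ.pair a b = 0) → IsConj (S.P (L ++ s :: M) 1) (S.P (L ++ M) 1)

theorem fus_of [CharP F 2] [Finite F] {Q : List R} {s₀ : R} {g : G} (h1 : ∀ k, (∀ r ∈ s₀ :: Q, Φ.pair r k = 0) → Commute g (S.x k 1))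
    (h2 : g * S.P (s₀ :: Q) 1 * g⁻¹ = S.P Q 1) {L L₁ : List R} {s : R} {w : Φ.W} (e : (L.map (w • ·)).Perm (Q ++ L₁) ∧ w • s = s₀) : S.Fus L s := by
  intro M o
  have o' : (L ++ M).Pairwise fun a b => Φ.pair a b = 0 := o.sublist (by simp)
  have m : ∀ {L : List R}, (L.Pairwise fun a b => Φ.pair a b = 0) → (L.map (w • ·)).Pairwise fun a b => Φ.pair a b = 0 := fun o =>
    List.pairwise_map.2 (o.imp fun a => by rwa [RS.pair_smul])
  have p1 : ((L ++ s :: M).map (w • ·)).Perm ((s₀ :: Q) ++ (L₁ ++ M.map (w • ·))) := by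
    rw [List.map_append, List.map_cons, e.2, List.cons_append, ← List.append_assoc]
    exact List.perm_middle.trans ((e.1.append_right _).cons _)
  have p2 : ((L ++ M).map (w • ·)).Perm (Q ++ (L₁ ++ M.map (w • ·))) := by
    rw [List.map_append, ← List.append_assoc]; exact e.1.append_right _
  have o1 := (p1.pairwise_iff fun a => (h.symm _ _).trans a).1 (m o)
  refine (P_smul h o w).trans (.trans ?_ (P_smul h o' w).symm)
  rw [P_perm h (m o) p1, P_perm h (m o') p2, P_append, P_append Q]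
  have c : Commute g (S.P (L₁ ++ M.map (w • ·)) 1) := Commute.list_prod_right _ _ (by
    simpa only [List.forall_mem_map, Pi.one_apply] using fun k a => h1 k fun r b => (List.pairwise_append.1 o1).2.2 r b k a)
  exact isConj_iff.2 ⟨g, by rw [← h2, mul_assoc _ g⁻¹, c.inv_left.eq]; group⟩

theorem lac_classify [CharP F 2] [Finite F] {T : List (List R)}
    (hT : ∀ L ∈ T, ∃ B : List R, (∀ b ∈ B, Φ.Pos b ∧ ∀ r ∈ L, Φ.pair r b = 0) ∧ ∀ s, (∀ r ∈ L, Φ.pair r s = 0) → (∀ b ∈ B, 0 ≤ Φ.pair b s) →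
      (∃ L' ∈ T, ∃ w : Φ.W, ((L ++ [s]).map (w • ·)).Perm L') ∨ S.Fus L s) (M : List R) :
    ∀ L ∈ T, ((L ++ M).Pairwise fun a b => Φ.pair a b = 0) → ∃ L' ∈ T, IsConj (S.P (L ++ M) 1) (S.P L' 1) := by
  induction' hn : M.length with n ih generalizing M
  · obtain rfl := List.length_eq_zero_iff.1 hn
    exact fun L a _ => ⟨L, a, by rw [List.append_nil]⟩
  obtain ⟨s, M, rfl⟩ := List.exists_cons_of_length_eq_add_one hn
  intro L a o
  obtain ⟨B, b1, b2⟩ := hT L a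
  have m : ∀ (w : Φ.W) {L : List R}, (L.Pairwise fun a b => Φ.pair a b = 0) → (L.map (w • ·)).Pairwise fun a b => Φ.pair a b = 0 := fun w _ o =>
    List.pairwise_map.2 (o.imp fun a => by rwa [RS.pair_smul])
  obtain ⟨w, w1, w2⟩ := Set.exists_max_image {w : Φ.W | ∀ r ∈ L, w • r = r} (fun w => Φ.ht (w • s)) (Set.toFinite _) ⟨1, by simp⟩
  have c1 : (L ++ s :: M).map (w • ·) = L ++ w • s :: M.map (w • ·) := by
    rw [List.map_append, List.map_congr_left w1]; simp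
  have c2 := P_smul (S := S) h o w
  have c3 := m w o
  rw [c1] at c2 c3
  obtain ⟨L', d1, w', d2⟩ | d := b2 (w • s) (fun r a => (List.pairwise_append.1 c3).2.2 r a _ (by simp)) fun b a => by
    obtain ⟨v, hv⟩ := RS.exists_refl (Φ := Φ.toRS) b
    have := w2 (v * w) fun r a' => by
      rw [mul_smul, w1 r a']
      exact Φ.rv_inj (by rw [hv, h.symm, (b1 b a).2 r a']; simp)
    have e : Φ.ht (v • w • s) = Φ.ht (w • s) - Φ.pair b (w • s) * Φ.ht b := by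
      simp [RS.ht, hv, Finset.mul_sum]
    simp only [mul_smul, e] at this
    have := (b1 b a).1.ht_pos
    nlinarith
  · have p : ((L ++ w • s :: M.map (w • ·)).map (w' • ·)).Perm (L' ++ (M.map (w • ·)).map (w' • ·)) := by
      rw [List.append_cons, List.map_append]; exact d2.append_right _
    obtain ⟨L'', e1, e2⟩ := ih _ (by simpa using hn) L' d1 ((p.pairwise_iff fun a => (h.symm _ _).trans a).1 (m w' c3))
    exact ⟨L'', e1, (c2.trans (P_smul h c3 w')).trans (by rwa [P_perm h (m w' c3) p])⟩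
  · obtain ⟨L'', e1, e2⟩ := ih (M.map (w • ·)) (by simpa using hn) L a (c3.sublist (by simp))
    exact ⟨L'', e1, (c2.trans (d _ c3)).trans e2⟩

omit h in
theorem above_of_conj (hG : S.Gx = ⊤) {L L' : List R} (h1 : ∀ r ∈ L, Φ.Pos r) (h2 : L.Nodup ∧ ∀ a ∈ L, ∀ b ∈ L, (∀ i, Φ.rv a i ≤ Φ.rv b i) → b = a)
    (h3 : ∀ r ∈ L', Φ.Pos r) (e : IsConj (S.P L 1) (S.P L' 1)) : ∃ w : Φ.W, ∀ r ∈ L, ∃ k ∈ L', ∀ i, Φ.rv k i ≤ Φ.rv (w • r) i := by
  obtain ⟨g, e⟩ := isConj_iff.1 e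
  obtain ⟨u, a1, m, -, w, a2, u', a3, rfl⟩ := bruhat' (S := S) (g := g) (hG ▸ trivial)
  replace a3 : u' ∈ S.U := Ux_mono (fun _ a => a.1) a3
  have n : ∀ A : Set R, (∀ r ∈ A, Φ.Pos r) → (∀ r, Φ.Pos r → ∀ s ∈ A, ∀ k, Φ.Comb k r s → k ∈ A) → ∀ u ∈ S.U, ∀ v ∈ S.Ux A, u * v * u⁻¹ ∈ S.Ux A :=
    fun A a b u c v d => conj_Ux_mem (fun r r' s s' => ⟨fun z => RS.Pos.not_neg r' (z ▸ a s s'), b r r' s s'⟩) c d
  have t1 : ∀ r ∈ {r | ∃ k ∈ L', ∀ i, Φ.rv k i ≤ Φ.rv r i}, Φ.Pos r := fun r ⟨k, a, b⟩ i => (h3 k a i).trans (b i)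
  have t2 : ∀ r, Φ.Pos r → ∀ s ∈ {r | ∃ k ∈ L', ∀ i, Φ.rv k i ≤ Φ.rv r i}, ∀ k, Φ.Comb k r s → k ∈ {r | ∃ k ∈ L', ∀ i, Φ.rv k i ≤ Φ.rv r i} :=
    fun r a s ⟨k, b, c⟩ j d => ⟨k, b, (d.abv a (t1 s ⟨k, b, c⟩) c).1⟩
  have v1 : ∀ r ∈ {r | ∃ k ∈ L, r ∈ Φ.Abv k}, Φ.Pos r := fun r ⟨k, a, b⟩ => RS.Abv.pos (h1 k a) b
  have v2 : ∀ r, Φ.Pos r → ∀ s ∈ {r | ∃ k ∈ L, r ∈ Φ.Abv k}, ∀ k, Φ.Comb k r s → k ∈ {r | ∃ k ∈ L, r ∈ Φ.Abv k} :=
    fun r a s ⟨k, b, c⟩ j d => ⟨k, b, d.abv a (RS.Abv.pos (h1 k b) c) c.1⟩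
  have b : ∀ M : List R, M ⊆ L → ∃ v ∈ S.Ux {r | ∃ k ∈ L, r ∈ Φ.Abv k}, u' * S.P M 1 * u'⁻¹ = S.P M 1 * v := by
    intro M
    induction M with
    | nil => exact fun _ => ⟨1, one_mem _, by simp⟩
    | cons r M ih =>
      intro a
      obtain ⟨v, b, c⟩ := ih (List.subset_of_cons_subset a)
      obtain ⟨v', b', c'⟩ := conj_x_U (h1 r (a (by simp))) 1 a3
      refine ⟨_, mul_mem (n _ v1 v2 (S.P M 1)⁻¹ (inv_mem (P_mem (fun k z => h1 k (a (by simp [z]))) _)) v' (Ux_mono (fun k z => Exists.intro r ⟨a (by simp), z⟩) b')) b, ?_⟩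
      rw [P_cons, ← conj_mul, Pi.one_apply, c, c']
      group
  obtain ⟨v, b1, b2⟩ := b L (List.Subset.refl _)
  obtain ⟨M, m1, m2⟩ := exists_list {r | ∃ k ∈ L, r ∈ Φ.Abv k}
  obtain ⟨t, rfl⟩ := exists_P (RS.unip_pos.subset (fun r a => v2 r (v1 r a)) v1) m1 m2 b1
  have d : ∀ r ∈ M, r ∉ L := fun r a b => by
    obtain ⟨k, c, d⟩ := (m2 r).1 a
    exact d.2 (h2.2 k c r b d.1)
  refine ⟨w, fun r a => smul_mem_of_conj (fun r a => t2 r (t1 r a)) t1 a2 (L := L ++ M) (t := fun k => if k ∈ L then 1 else t k) ?_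
    (by simpa [or_imp, forall_and] using ⟨h1, fun r a => v1 r ((m2 r).1 a)⟩) ?_ (by simp [a]) (by simp [a])⟩
  · exact List.nodup_append.2 ⟨h2.1, m1, fun a b c e f => d c e (f ▸ b)⟩
  rw [P_append, P_congr (t' := 1) fun k z => by simp [z], P_congr (L := M) (t' := t) fun k z => by simp [d k z], ← b2]
  convert n _ t1 t2 u⁻¹ (inv_mem a1) _ (P_mem (L := L') (fun k z => Exists.intro k ⟨z, fun _ => le_rfl⟩) 1) using 1
  rw [← e]
  group

end St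
end Cfsg.Agent.Chev
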