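import Cfsg.Agent.Lib.Chev.Inv9

set_option autoImplicit false
set_option linter.unusedSectionVars false

/-! Orders of minimal parabolic subgroups of twisted groups. -/

namespace Cfsg.Agent.Chev
open Cfsg.Lie Checked

theorem St.Tw.Sub.card_Pk {I R : Type} [Fintype I] [DecidableEq I] [Fintype R] [DecidableEq R] {Φ : CD I R} {F : Type*} [Field F] {G : Type*} [Group G] {S : St Φ F G}
    {T : S.Tw} {K : Type} {o : T.ρ.Orb K} {Γ : Type*} [Group Γ] [Finite Γ] {ι : Γ →* G} (hX : T.Sub o ι.range) (hι : Function.Injective ι) (k : K) :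
    Nat.card ((S.PJ (o.J k)).comap ι) = Nat.card (S.B.comap ι) * (Nat.card ((S.Uw (Φ.w0 (o.J k))).comap ι) + 1) := by
  rw [← Finite.card_option, ← Nat.card_prod]
  symm
  have a := hX.acts_t k
  have m := hX.nw_mem (o.t k)
  have m' := (hX.nw_mem_PJ hι (k := k)).2 rfl
  generalize hX.nw (o.t k) = n at a m m'
  obtain ⟨i, hi⟩ := o.exists_mem k
  have z : ∀ b b' : S.B.comap ι, ∀ u : (S.Uw (Φ.w0 (o.J k))).comap ι, b.1 ≠ b'.1 * n * u.1 := fun b b' u e =>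
    RS.w0_ne_one hi (bruhat_unique' m (one_mem _) a acts_one b'.2 (U_le_B (Uw_le_U _ u.2)) b.2 (one_mem _) (by simpa using congrArg ι e.symm))
  refine Nat.card_eq_of_bijective (fun p => p.2.elim ⟨p.1, (le_sup_left : S.B ≤ _) p.1.2⟩ fun u => ⟨p.1 * n * u, by
    rw [Subgroup.mem_comap, map_mul, map_mul]
    exact mul_mem (mul_mem (Subgroup.mem_sup_left p.1.2) m') (Subgroup.mem_sup_left (U_le_B (Uw_le_U _ u.2)))⟩) ⟨?_, ?_⟩
  · rintro ⟨b, _ | u⟩ ⟨b', _ | u'⟩ e <;> replace e := congrArg Subtype.val e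
    · rw [show b = b' from Subtype.ext e]
    · exact (z _ _ _ e).elim
    · exact (z _ _ _ e.symm).elim
    obtain ⟨h1, h2⟩ := normal_form_unique a b.2 b'.2 u.2 u'.2 (by simpa using congrArg ι e)
    rw [Subtype.ext (hι h1), Subtype.ext (hι h2)]
  rintro ⟨g, hg⟩
  obtain ⟨w, h⟩ := hX.bruhat' hι g
  obtain ⟨b, h1, u, h2, e⟩ := h _ (hX.nw_mem w) (hX.nw_acts w)
  obtain ⟨c, h3, l, ⟨h4, v, h5, h6⟩, c', h7, e'⟩ := mem_PJ_iff.1 hg
  obtain rfl := bruhat_unique' (hX.nw_mem w) h4 (hX.nw_acts w) h6 h1 (U_le_B (Uw_le_U _ h2)) h3 h7 (by rw [← e', e]; simp)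
  rcases o.eq_of_mem w.2 h5 with j | j
  · obtain ⟨b, h1, u, h2, rfl⟩ := h 1 (by simp) (by simpa [j] using acts_one)
    exact ⟨(⟨_, by simpa using mul_mem h1 (U_le_B (Uw_le_U _ h2))⟩, none), rfl⟩
  · obtain ⟨b, h1, u, h2, rfl⟩ := h n m (j ▸ a)
    exact ⟨(⟨b, h1⟩, some ⟨u, j ▸ h2⟩), rfl⟩

theorem cent_2F4 {K : Type*} [Field K] [Fintype K] [CharP K 2] {θ : K →+* K} {e : ℕ} (hf : ∀ t, θ t = t ^ e) (hθ : ∀ t, θ (θ t) ^ 2 = t)
    {a b : chevF4.genSubgroup K (f4Words K e)} (ha : orderOf a = 2) (h : Commute a b) :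
    ∃ n ∈ [1, 2], orderOf b ∣ Fintype.card K ^ 12 * (Fintype.card K - 1) ^ 2 * (Fintype.card K ^ n + 1) := by
  have hι := checkedF4.inc_inj (f4Words K e)
  have hX := sub_2F4 hf hθ
  have c : ∀ (k : Fin 2) (g : chevF4.genSubgroup K (f4Words K e)), checkedF4.inc (f4Words K e) (g * b * g⁻¹) ∈ (checkedF4.adj K).PJ (orbF4.J k) →
      orderOf b ∣ Fintype.card K ^ 12 * (Fintype.card K - 1) ^ 2 * (Fintype.card K ^ (k.val + 1) + 1) := fun k g z => by
    rw [← card_U_2F4 hf hθ, ← card_H_2F4 hf hθ, ← hX.card_B hι, ← hX.card_Uw_sq hι (card_UL_2F4 hf hθ) (orbF4.t k).2 (n := k.val + 1) (by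
      show (checkedF4.toCD.invSet (checkedF4.toCD.w0 _)).card = _
      rw [w0_2F4]; clear z; revert k; decide +kernel), ← (MulAut.conj g).orderOf_eq b]
    exact (hX.card_Pk hι k) ▸ Subgroup.orderOf_dvd_natCard _ z
  obtain z | ⟨y, i, _, ⟨g, rfl⟩, j⟩ := (inv_2F4 hf hθ).2.1 _ ⟨a, rfl⟩ (by rw [← map_mul, ← sq, ← ha, pow_orderOf_eq_one, map_one])
  · simp [show a = 1 from hι (z.trans (map_one _).symm)] at ha
  have d : checkedF4.inc (f4Words K e) (g * b * g⁻¹) * y * (checkedF4.inc (f4Words K e) (g * b * g⁻¹))⁻¹ = y := by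
    rw [mul_inv_eq_iff_eq_mul, ← j]
    simpa [mul_assoc] using (h.map (checkedF4.inc (f4Words K e))).symm.left_comm _
  obtain rfl | rfl : y = _ ∨ y = _ := by simpa only [yF4, List.drop_succ_cons, List.drop_zero, List.mem_cons, List.not_mem_nil, or_false] using i
  · exact ⟨2, by simp, c 1 g (by
      convert cent3_F4 checkedF4.adj_Gx d
      exact Set.ext (by simp only [RS.Sym.Orb.J, orbF4, Set.mem_ofPred_eq]; decide +kernel))⟩
  · exact ⟨1, by simp, c 0 g (by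
      convert cent4_F4 checkedF4.adj_Gx d
      exact Set.ext (by simp only [RS.Sym.Orb.J, orbF4, Set.mem_ofPred_eq]; decide +kernel))⟩

end Cfsg.Agent.Chev
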