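import Cfsg.Agent.Lib.Chev.SBN2
import Cfsg.Agent.Lib.Chev.BT
import Cfsg.Agent.Lib.Chev.AutChev

set_option autoImplicit false
set_option linter.unusedSectionVars false
set_option linter.style.haveILetI false

/-! Twisted groups have split `BN`-pairs with the Borel–Tits property. -/

namespace Cfsg.Agent.Chev
open BN
open Blk hiding pr

theorem exists_stable_radical {G : Type*} [Group G] [Finite G] {p : ℕ} [Fact p.Prime] {σ : G →* G} (hσ : Function.Bijective σ)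
    {D : Subgroup G} (hD : IsPGroup p D) (h : D.map σ ≤ D) : ∃ X : Subgroup G, D ≤ X ∧ IsPGroup p X ∧ X.map σ = X ∧ No D ≤ No X ∧
      ∀ Y : Subgroup G, IsPGroup p Y → X ≤ Y → No X ≤ No Y → Y ≤ X := by
  obtain ⟨X, ⟨h1, h2, h3, h4⟩, h5⟩ := wellFounded_gt.has_min {X : Subgroup G | D ≤ X ∧ IsPGroup p X ∧ X.map σ ≤ X ∧ No D ≤ No X}
    ⟨D, le_rfl, hD, h, le_rfl⟩
  have h6 : X.map σ = X := Subgroup.eq_of_le_of_card_ge h3 (Subgroup.card_map_of_injective hσ.1).ge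
  have h7 : (No X).map σ = No X := by rw [Subgroup.map_normalizer_eq_of_bijective _ hσ, h6]
  let Z := sSup {Q : Subgroup G | IsPGroup p Q ∧ Q ≤ No X ∧ No X ≤ No Q}
  have h8 : X ≤ Z := le_sSup ⟨h2, Subgroup.le_normalizer, le_rfl⟩
  obtain ⟨P⟩ : Nonempty (Sylow p (No X)) := inferInstance
  have h9 : Z ≤ X := ((h8.lt_or_eq.resolve_left (h5 Z ⟨h1.trans h8, (P.2.map (No X).subtype).to_le (sSup_le fun Q ⟨a, b, c⟩ => ?_),
    Subgroup.map_le_iff_le_comap.2 (sSup_le fun Q ⟨a, b, c⟩ => Subgroup.map_le_iff_le_comap.1 (le_sSup ⟨a.map _, h7 ▸ Subgroup.map_mono b, ?_⟩)),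
    h4.trans (Subgroup.le_normalizer_iff.2 fun n hn => ?_)⟩))).ge
  · refine ⟨X, h1, h2, h6, h4, fun Y a b c => ?_⟩
    have d : Y ⊓ No X ≤ X := (le_sSup ⟨a.to_inf_left, inf_le_right,
      (le_inf c Subgroup.le_normalizer).trans Subgroup.inf_normalizer_le_normalizer_inf⟩ : _ ≤ Z).trans h9
    haveI := a.isNilpotent
    rw [← Subgroup.subgroupOf_eq_top]
    refine normalizerCondition_iff_only_full_group_self_normalizing.1 Group.normalizerCondition_of_isNilpotent _ ?_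
    rw [← Subgroup.subgroupOf_normalizer_eq b]
    exact le_antisymm (fun y hy => d ⟨y.2, hy⟩) fun y hy => Subgroup.le_normalizer hy
  · haveI : (Q.comap (No X).subtype).Normal := Subgroup.normal_subgroupOf_of_le_normalizer c
    rw [← Subgroup.map_subgroupOf_eq_of_le b]
    exact Subgroup.map_mono (IsPGroup.le_sylow_of_normal a.comap_subtype P)
  · exact h7.ge.trans ((Subgroup.map_mono c).trans (Subgroup.le_normalizer_map _))
  · exact sSup_le (a := Z.comap (MulAut.conj n).toMonoidHom) fun Q a y hy =>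
      le_sSup (s := {Q : Subgroup G | IsPGroup p Q ∧ Q ≤ No X ∧ No X ≤ No Q}) a ((Subgroup.mem_normalizer_iff.1 (a.2.2 hn) y).1 hy)

variable {I R : Type} [Fintype I] [DecidableEq I] [Fintype R] [DecidableEq R]

theorem RS.InJ.disj {Φ : RS I R} {J K : Set I} (h : ∀ i ∈ J, i ∉ K) {r : R} (h1 : Φ.InJ J r) : ¬ Φ.InJ K r := fun h2 =>
  Φ.rv_ne_zero r (funext fun i => by_contra fun e => h i (by_contra fun a => e (h1 i a)) (by_contra fun a => e (h2 i a)))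

namespace St
variable {Φ : CD I R} {F : Type*} [Field F] {G : Type*} [Group G] {S : St Φ F G}

theorem eq_one_of_mem_PJ {J : Set I} {g : G} (h : g ∈ S.PJ J) (h' : g ∈ S.Ux {r | ¬ Φ.Pos r ∧ ¬ Φ.InJ J r}) : g = 1 := by
  refine eq_one_of_raise (f' := fJ J) (RS.unip_fn (-fJ J)) (Ux_mono (fun r hr => ?_) h') (fun r hr => by
    rw [Set.mem_ofPred_eq, RS.fn_neg_left] at hr; omega) (raise_sup_H (fun r hr => ?_) (PJ_eq (S := S) J ▸ h))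
  · have := (fJ_pos_iff (Φ := Φ)).2 ⟨RS.pos_neg_iff.2 hr.1, mt RS.inJ_neg_iff.1 hr.2⟩
    rwa [RS.fn_neg, ← RS.fn_neg_left] at this
  · by_cases e : Φ.InJ J r
    exacts [(fJ_eq_zero e).ge, (fJ_pos_iff.2 ⟨hr.resolve_right e, e⟩).le]

theorem co_eq_zero {A : Set R} {i : I} (hA : ∀ r ∈ A, Φ.Pos r ∧ r ≠ Φ.sim i) {u : G} (hu : u ∈ S.Ux A) : S.co i u = 0 :=
  Ux_induction (p := fun u => S.co i u = 0) (co_one i) (fun r hr t g hg ih => by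
    rw [co_mul i (Ux_mono (fun r a => (hA r a).1) hg) (x_mem_U (hA r hr).1 t), ih, co_x, if_neg (hA r hr).2, add_zero]) hu

theorem co_conj_mul {v h : G} (hv : v ∈ S.U) (hh : h ∈ S.H) {a : I → Fˣ} (ha : S.IsTor h a) (i : I) {u : G} (hu : u ∈ S.U) :
    S.co i (v * h * u * (v * h)⁻¹) = a i * S.co i u := by
  have := conj_H_Ux hh hu
  rw [show v * h * u * (v * h)⁻¹ = v * (h * u * h⁻¹) * v⁻¹ by group, co_mul i (mul_mem hv this) (inv_mem hv), co_mul i hv this, co_inv i hv,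
    co_conj ha hh i hu]
  ring

theorem exists_UL_UJ (J : Set I) {u : G} (hu : u ∈ S.U) : ∃ a ∈ S.UL J, ∃ c ∈ S.UJ J, u = a * c :=
  exists_mul RS.unip_pos (fun r => by simp only [Set.mem_ofPred_eq]; tauto) hu

theorem co_UJ {J : Set I} {i : I} (hi : i ∈ J) {u : G} (hu : u ∈ S.UJ J) : S.co i u = 0 :=
  co_eq_zero (fun r hr => ⟨hr.1, fun e => hr.2 (e ▸ RS.inJ_sim.2 hi)⟩) hu

theorem co_of_conj {J K : Set I} (h : ∀ i ∈ J, i ∉ K) {m z : G} (hm : m ∈ S.N) (ha : S.Acts m (Φ.w0 J)) (hz : z ∈ S.U)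
    (e : m * z * m⁻¹ ∈ S.PJ K) {i : I} (hi : i ∈ J) : S.co i z = 0 := by
  obtain ⟨a, h1, c, h2, rfl⟩ := exists_UL_UJ J hz
  have h3 : m * c * m⁻¹ ∈ S.PJ K := Subgroup.mem_sup_left (U_le_B (Ux_mono (fun _ a => a.1)
    (conj_UJ (Subgroup.mem_sup_right ⟨hm, _, RS.w0_mem J, ha⟩) h2)))
  have h4 := eq_one_of_mem_PJ (g := m * a * m⁻¹) (by simpa [mul_assoc] using mul_mem e (inv_mem h3))
    (ha.conj_mem (fun r hr => by exact ⟨RS.w0_neg hr.1 hr.2, (hr.2.smul (RS.w0_mem J)).disj h⟩) h1)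
  rw [show a = 1 by simpa using h4, one_mul, co_UJ hi h2]

theorem Tw.bijective [Finite F] [Finite G] (hG : S.Gx = ⊤) (T : S.Tw) : Function.Bijective T.σ := by
  refine (Finite.surjective_iff_bijective).1 (MonoidHom.range_eq_top.1 (eq_top_iff.2 (hG.ge.trans ?_)))
  refine (Ux_mono fun r _ i hi => absurd trivial hi).trans (UxJ_le (J := Set.univ) fun j _ t => ?_)
  obtain ⟨j, rfl⟩ := T.ρ.ρI.surjective j
  obtain ⟨t, rfl⟩ := Finite.surjective_of_injective (T.f j).injective t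
  exact ⟨⟨_, (T.simMap j t).1⟩, _, (T.simMap j t).2⟩

namespace Tw.Sub
variable {T : S.Tw} {K : Type} {o : T.ρ.Orb K} {Γ : Type*} [Group Γ] {ι : Γ →* G} (hX : T.Sub o ι.range)
include hX

theorem exists_fix {J : Set I} (hJ : T.ρ.Stable J) {g : G} (hg : g ∈ S.Gx) (h : g⁻¹ * T.σ g ∈ S.PJ J) : ∃ k, g⁻¹ * ι k ∈ S.PJ J := by
  obtain ⟨b, hb, m, hm, w, hw, u, hu, e⟩ := St.bruhat (inv_mem hg)
  obtain ⟨v, hv, h1⟩ := RS.exists_min_coset J w⁻¹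
  obtain ⟨n, h2, h3⟩ := exists_of_W (S := S) v
  have h4 := hw.inv.mul h3
  replace hu := Uw_le_U _ hu
  have h5 : g⁻¹ * (u⁻¹ * (m⁻¹ * n)) ∈ S.PJ J := by
    simpa [e, mul_assoc, PJ] using Subgroup.mul_mem_sup hb (show n ∈ S.NJ J from ⟨h2, v, hv, h3⟩)
  replace h2 := mul_mem (inv_mem hm) h2
  generalize m⁻¹ * n = n, w⁻¹ * v = w at h1 h2 h4 h5
  replace hu := inv_mem hu
  generalize u⁻¹ = u at hu h5
  have h0 : ∀ x ∈ S.PJ J, T.σ x ∈ S.PJ J := fun x hx => by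
    obtain ⟨b, hb, m, ⟨hm, w, hw, a⟩, b', hb', rfl⟩ := mem_PJ_iff.1 hx
    rw [map_mul, map_mul]
    exact mem_PJ_iff.2 ⟨_, T.map_B hb, _, ⟨(T.map_N hm a).1, _, RS.Sym.cj_mem hJ hw, (T.map_N hm a).2⟩, _, T.map_B hb', rfl⟩
  have h6 : ∀ x, g⁻¹ * x ∈ S.PJ J → (T.σ x)⁻¹ * x ∈ S.PJ J := fun x hx => by
    simpa [mul_assoc] using mul_mem (mul_mem (inv_mem (h0 _ hx)) (inv_mem h)) hx
  have h7 : w ∈ T.ρ.W1 := by
    obtain ⟨b, hb, m, hm, b', hb', e⟩ := mem_PJ_iff.1 (h6 _ h5)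
    obtain ⟨m', ⟨a1, v, a2, a3⟩, b₁, a4, b₂, a5, f⟩ := mul_cell hm (inv_mem h2) hb'
    obtain ⟨a6, a7⟩ := T.map_N h2 h4
    have a8 := bruhat_unique' (inv_mem a6) (mul_mem a1 (inv_mem h2)) a7.inv (a3.mul h4.inv) (one_mem _)
      (inv_mem (U_le_B (T.map_U hu))) (mul_mem hb a4) (mul_mem a5 (inv_mem (U_le_B hu))) (by
        calc _ = (T.σ (u * n))⁻¹ * (u * n) * n⁻¹ * u⁻¹ := by simp [mul_assoc]
          _ = b * (m * b' * n⁻¹) * u⁻¹ := by rw [e]; group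
          _ = _ := by rw [f]; group)
    replace a8 : T.ρ.cj w = w * v⁻¹ := by rw [← inv_inj, a8]; simp
    rw [RS.Sym.mem_W1, a8, RS.min_coset_unique h1 (inv_mem a2) fun k hk => ?_, mul_one]
    obtain ⟨k, rfl⟩ := T.ρ.ρI.surjective k
    rw [← a8, ← T.ρ.sim, T.ρ.cj_smul, T.ρ.pos_iff]
    exact h1 k ((hJ k).1 hk)
  obtain ⟨_, ⟨m, rfl⟩, a1, a2⟩ := hX.exists_of_W1 h7
  obtain ⟨u₁, a3, u₂, a4, a5⟩ := exists_Uw w⁻¹ (inv_mem hu)
  have a6 : g⁻¹ * (u₂⁻¹ * ι m) ∈ S.PJ J := by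
    have := mul_mem (mul_mem h5 (Subgroup.mem_sup_left (H_le_B (inv_mul_mem_H h2 a1 h4 a2))))
      (Subgroup.mem_sup_left (U_le_B (a2.conj_mem' (fun r hr => hr.2) a3)))
    rwa [show g⁻¹ * (u * n) * (n⁻¹ * ι m) * ((ι m)⁻¹ * u₁ * ι m) = g⁻¹ * (u⁻¹⁻¹ * u₁ * ι m) by group, a5,
      show (u₁ * u₂)⁻¹ * u₁ = u₂⁻¹ by group] at this
  have a7 := eq_one_of_mem_PJ (h6 _ a6) (by
    simpa [hX.fix _ ⟨m, rfl⟩, mul_assoc] using a2.conj_mem' (B := {r | ¬ Φ.Pos r ∧ ¬ Φ.InJ J r}) (fun r hr => ⟨hr.2, fun a =>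
      RS.Pos.not_neg hr.1 (by simpa [RS.smul_neg'] using RS.pos_smul_of_inJ h1 (RS.pos_neg_iff.2 hr.2) a.neg)⟩)
      (mul_mem (T.map_Uw (inv_mem h7) a4) (inv_mem a4)))
  obtain ⟨k, e⟩ := hX.mem_of_U (Uw_le_U _ a4) (by
    rw [map_mul, hX.fix _ ⟨m, rfl⟩, inv_mul_eq_one, mul_left_inj, map_inv, inv_inj] at a7; exact a7)
  exact ⟨k⁻¹ * m, by simpa [e] using a6⟩

omit hX in
theorem disj {J : Set I} (hJ : T.ρ.Stable J) {i : I} (hi : i ∉ J) : ∀ j ∈ o.J (o.κ i), j ∉ J := fun j hj h => hi <| by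
  obtain ⟨n, rfl⟩ := o.cyc j i hj
  clear hi hj
  induction n with
  | zero => exact h
  | succ n ih => rw [Function.iterate_succ_apply']; exact (hJ _).2 ih

theorem comap_ne_top {J : Set I} (hJ : T.ρ.Stable J) (h : J ≠ Set.univ) : (S.PJ J).comap ι ≠ ⊤ := fun e => by
  obtain ⟨i, hi⟩ := (Set.ne_univ_iff_exists_notMem J).1 h
  obtain ⟨_, ⟨v, rfl⟩, h1, h2⟩ := hX.VL (o.κ i)
  exact h2 (eq_one_of_mem_PJ (e.ge (Subgroup.mem_top v)) (Ux_mono (fun r hr => by exact ⟨hr.1, hr.2.disj (disj hJ hi)⟩) h1))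

/-- the nodes of a subgroup -/
def nd (M : Subgroup Γ) : Set I := {i | hX.nw (o.t (o.κ i)) ∈ M}

theorem nd_stable (M : Subgroup Γ) : T.ρ.Stable (hX.nd M) := fun j => by simp [nd, o.inv]

theorem nd_disj {M : Subgroup Γ} {k : K} (h : hX.nw (o.t k) ∉ M) : ∀ i ∈ o.J k, i ∉ hX.nd M := by rintro i rfl; exact h

variable (hι : Function.Injective ι)
include hι

theorem le_PJ {M : Subgroup Γ} (h : S.B.comap ι ≤ M) : M ≤ (S.PJ (hX.nd M)).comap ι := by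
  rw [eq_parabolic (P := hX.bn hι) M h]
  refine sup_le (fun b hb => Subgroup.mem_sup_left hb) ((Subgroup.closure_le _).2 ?_)
  rintro _ ⟨⟨k, rfl⟩, hk⟩
  refine Subgroup.mem_sup_right ⟨hX.nw_mem _, _, RS.WJ_mono ?_ (RS.w0_mem (o.J k)), hX.nw_acts (o.t k)⟩
  rintro i rfl
  exact mem_parabolic_of_mem ⟨⟨_, rfl⟩, hk⟩

theorem nd_ne {M : Subgroup Γ} (h : S.B.comap ι ≤ M) (h' : M ≠ ⊤) : hX.nd M ≠ Set.univ := fun e => h' <| by
  rw [eq_parabolic (P := hX.bn hι) M h, Set.inter_eq_left.2, parabolic_S]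
  rintro _ ⟨k, rfl⟩
  obtain ⟨i, rfl⟩ := o.surj k
  exact e.ge trivial

theorem exists_co {i : I} (h : ∃ u : Γ, ι u ∈ S.U ∧ S.co i (ι u) ≠ 0) : ∃ u : Γ, ι u ∈ S.UL (o.J (o.κ i)) ∧ S.co i (ι u) ≠ 0 := by
  obtain ⟨u, h1, h2⟩ := h
  obtain ⟨a, h3, c, h4, e⟩ := exists_UL_UJ (o.J (o.κ i)) h1
  have h5 : ∀ c ∈ S.UJ (o.J (o.κ i)), c ∈ S.U := fun c => Ux_mono (S := S) (fun _ a => a.1) (x := c)
  obtain ⟨a, rfl⟩ := hX.UL _ a h3 (fix_of_mul (σ := T.σ) (fun g a b => by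
      simpa using (UJ_inf_LJ (S := S) _).le ⟨b, Subgroup.mem_sup_left (Ux_mono (fun _ a => a.2) a)⟩) h3 (T.map_UL (o.stable _) h3) h4
    (T.map_Ux (fun r hr => by exact ⟨T.ρ.pos hr.1, mt (RS.Sym.inJ_iff (o.stable _)).1 hr.2⟩) h4) (e ▸ hX.fix _ ⟨u, rfl⟩)).1
  exact ⟨a, h3, by rwa [e, co_mul i (UL_le_U _ h3) (h5 c h4), co_UJ (o.mem_J i) h4, add_zero] at h2⟩

theorem rad (hc : Φ.Conn) (hco : ∀ i, ∃ u : Γ, ι u ∈ S.U ∧ S.co i (ι u) ≠ 0) {M : Subgroup Γ} (h : S.B.comap ι ≤ M) (h' : M ≠ ⊤) :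
    ∃ Q ≤ S.U.comap ι, M ≤ No Q ∧ M ⊓ Ce Q ≤ S.U.comap ι ⊔ Subgroup.center Γ := by
  have a0 : ∀ J, S.UJ J ≤ S.U := fun J => Ux_mono fun _ a => a.1
  have a1 : M ≤ No ((S.UJ (hX.nd M)).comap ι : Subgroup Γ) := Subgroup.le_normalizer_iff.2 fun g hg u hu => by
    simpa using conj_UJ (hX.le_PJ hι h hg) hu
  refine ⟨_, Subgroup.comap_mono (a0 _), a1, ?_⟩
  generalize e : M ⊓ Ce ((S.UJ (hX.nd M)).comap ι) = C
  have a2 : ∀ g ∈ M, ∀ c ∈ C, g * c * g⁻¹ ∈ C := fun g hg c hc => e.le ⟨M.mul_mem (M.mul_mem hg (e.ge hc).1) (M.inv_mem hg), fun y hy => by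
    have := (e.ge hc).2 _ ((Subgroup.mem_normalizer_iff''.1 (a1 hg) y).1 hy)
    calc _ = g * (g⁻¹ * y * g * c) * g⁻¹ := by group
      _ = _ := by rw [this]; group⟩
  have a3 : ∀ {k : K} {J : Set I}, (∀ i ∈ o.J k, i ∉ J) → S.UL (o.J k) ≤ S.UJ J := fun h => Ux_mono fun r a => ⟨a.1, a.2.disj h⟩
  have a4 := hX.le_PJ hι (M := C ⊔ S.B.comap ι) le_sup_right
  have a5 : ∀ k, hX.nw (o.t k) ∉ C ⊔ S.B.comap ι → ∀ i ∈ o.J k, ∀ c ∈ C, ∀ y, ι y ∈ S.UL (o.J k) →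
      S.co i (ι c * ι y * (ι c)⁻¹) = S.co i (ι y) := fun k hk i hi c hc y hy => by
    have b1 := a0 _ (conj_UJ (a4 (Subgroup.mem_sup_left hc)) (a3 (hX.nd_disj hk) hy))
    have b2 := UL_le_U _ hy
    rw [← sub_eq_zero, sub_eq_add_neg, ← co_inv i b2, ← co_mul i b1 (inv_mem b2)]
    by_cases b3 : hX.nw (o.t k) ∈ M
    · refine co_of_conj (hX.nd_disj hk) (hX.nw_mem _) (hX.nw_acts (o.t k)) (mul_mem b1 (inv_mem b2)) ?_ hi
      simpa [mul_assoc] using a4 (Subgroup.mem_sup_left (a2 _ b3 _ (mul_mem hc (a2 y (h (U_le_B b2)) _ (inv_mem hc)))))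
    · rw [← map_mul, ← (e.ge hc).2 y (a3 (hX.nd_disj b3) hy)]
      simp [co_one]
  have a6 : ∀ k, hX.nw (o.t k) ∉ C ⊔ S.B.comap ι := by
    by_contra! b0
    obtain ⟨i, hi⟩ := (Set.ne_univ_iff_exists_notMem _).1 (hX.nd_ne hι h h')
    obtain ⟨k, b1, l, b2, b3⟩ := o.conn hc {k | hX.nw (o.t k) ∈ C ⊔ S.B.comap ι} b0
      ⟨o.κ i, fun a => hi ((sup_le (e.ge.trans inf_le_left) h : _ ≤ M) a)⟩
    obtain ⟨c, b4, b, b5, b6⟩ := (mem_sup_iff_of_conj fun k hk => a2 k (h hk)).1 b1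
    have b7 : ∀ j ∈ o.J l, j ∉ o.J k := by rintro j rfl rfl; exact b2 b1
    have b8 : ∀ j ∈ o.J l, Φ.w0 (o.J k) • Φ.sim j = Φ.sim j := by
      rintro j rfl
      obtain ⟨y, c1, c2⟩ := hX.exists_co hι (hco j)
      obtain ⟨v, c3, g, c4, c5⟩ := mem_B_iff.1 (inv_mem (show ι b ∈ S.B from b5))
      obtain ⟨a, c6⟩ := exists_isTor c4
      have c7 := (hX.nw_acts (o.t k)).conj_mem (B := {r | ∃ s, (Φ.Pos s ∧ Φ.InJ (o.J (o.κ j)) s) ∧ Φ.w0 (o.J k) • s = r})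
        (fun r hr => ⟨r, hr, rfl⟩) c1
      have c8 : ∀ s, Φ.Pos s ∧ Φ.InJ (o.J (o.κ j)) s → Φ.Pos (Φ.w0 (o.J k) • s) := fun s a =>
        (RS.pos_smul_iff_of_not_inJ (RS.w0_mem _) (a.2.disj b7)).2 a.1
      rw [← a5 _ b2 j rfl _ (a2 _ (inv_mem (h b5)) c b4) y c1, show ι (b⁻¹ * c * b⁻¹⁻¹) * ι y * (ι (b⁻¹ * c * b⁻¹⁻¹))⁻¹ =
        (ι b)⁻¹ * (ι (c * b) * ι y * (ι (c * b))⁻¹) * (ι b)⁻¹⁻¹ by simp [mul_assoc], ← b6, c5,
        co_conj_mul c3 c4 c6 j (Ux_mono (by rintro _ ⟨s, a, rfl⟩; exact c8 s a) c7)] at c2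
      by_contra c9
      refine c2 (mul_eq_zero_of_right _ (co_eq_zero ?_ c7))
      rintro _ ⟨s, a, rfl⟩
      refine ⟨c8 s a, fun f => c9 (((Φ.rv_inj (funext fun x => ?_) : s = Φ.sim j) ▸ f :))⟩
      by_cases c10 : x ∈ o.J k
      · rw [a.2 x fun d => b7 x d c10, RS.inJ_sim.2 (o.mem_J j) x fun d => b7 x d c10]
      · rw [← f, RS.rv_smul_of_mem_WJ (RS.w0_mem _) s c10]
    refine b3 (Subtype.ext (RS.WJ_induction (p := fun w => Φ.w0 (o.J k) * w = w * Φ.w0 (o.J k)) (by simp)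
      (fun j hj w _ _ ih => ?_) (RS.w0_mem (o.J l))))
    rw [← mul_assoc, ih, mul_assoc, mul_assoc, RS.conj_of_smul_sim (b8 j hj)]
  intro g hg
  have a7 := a4 (Subgroup.mem_sup_left hg)
  rw [show hX.nd (C ⊔ S.B.comap ι) = ∅ from Set.eq_empty_of_forall_notMem fun i => a6 _, PJ_empty] at a7
  obtain ⟨_, b1, _, b2, ⟨u, rfl⟩, ⟨k, rfl⟩, b3⟩ := hX.split_B a7 ⟨g, rfl⟩
  obtain ⟨a, b4⟩ := exists_isTor b2
  obtain rfl : a = 1 := funext fun i => by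
    obtain ⟨y, c1, c2⟩ := hX.exists_co hι (hco i)
    have := a5 _ (a6 _) i rfl g hg y c1
    rw [b3, co_conj_mul b1 b2 b4 i (UL_le_U _ c1)] at this
    exact Units.ext (mul_left_eq_self₀.1 this |>.resolve_right c2)
  rw [show g = u * k from hι (by simpa using b3)]
  exact Subgroup.mul_mem_sup b1 (Subgroup.mem_center_iff.2 fun x => hι (by simpa using (b4.commute (hX.le ⟨x, rfl⟩)).symm.eq))

variable [Finite F] (p : ℕ) [Fact p.Prime] [CharP F p]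

/-- the split `BN`-pair -/
noncomputable def sbn₀ : SBN₀ p Γ where
  toBNPair := hX.bn hι
  U := S.U.comap ι
  n₀ := ⟨hX.nw ⟨_, RS.Sym.w0_mem T.ρ.stable_univ⟩, hX.nw_mem _⟩
  pU := (isPGroup_Ux p RS.unip_pos).comap_of_injective ι hι
  U_le := Subgroup.comap_mono U_le_B
  conj_U b hb u hu := by simpa using conj_U hb hu
  split b hb := by
    obtain ⟨_, b1, _, b2, ⟨u, rfl⟩, ⟨k, rfl⟩, b3⟩ := hX.split_B hb ⟨b, rfl⟩
    exact ⟨u, b1, k, ⟨H_le_B b2, H_le_N b2⟩, hι (by simpa using b3)⟩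
  pH h := not_dvd_card_H p S.hMul_of_finite (h.trans (by
    rw [← B_inf_N]; exact Subgroup.card_dvd_of_injective (ι.subgroupComap (S.B ⊓ S.N)) fun _ _ e => Subtype.ext (hι (congrArg Subtype.val e))))
  sat u hu h := hι (by
    simpa [mul_assoc, inv_mul_eq_one] using eq_one_of_mem_B_V (g := (ι _)⁻¹ * ι u * ι _) (by simpa using (show ι _ ∈ S.B from h)) ((hX.nw_acts _).conj_mem' (fun r hr => by
      rw [RS.w0_inv]; exact RS.w0_neg hr fun i hi => absurd trivial hi) hu))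

theorem bt [Finite G] (hG : S.Gx = ⊤) {D : Subgroup Γ} (hD : IsPGroup p D) (h : D ≠ ⊥) :
    ∃ g M, S.B.comap ι ≤ M ∧ M ≠ ⊤ ∧ No D ≤ cs g M := by
  have a0 := T.bijective hG
  obtain ⟨X, a1, a2, a3, a4, a5⟩ := exists_stable_radical a0 (hD.map ι) (by
    rintro _ ⟨_, ⟨x, hx, rfl⟩, rfl⟩; exact ⟨x, hx, (hX.fix _ ⟨x, rfl⟩).symm⟩)
  obtain ⟨g, -, J, a6, a7, a8⟩ := borel_tits' (S := S) p (hG ▸ le_top) a2 fun e =>
    h ((Subgroup.map_eq_bot_iff_of_injective _ hι).1 (eq_bot_iff.2 (e ▸ a1)))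
  rw [hG, inf_top_eq] at a7
  have a9 : cs g (S.PJ J) ≤ No (cs g (S.UJ J)) := cs_No g _ ▸ Subgroup.map_mono (Subgroup.le_normalizer_iff.2 fun _ a _ => conj_UJ a)
  have b0 := a7.antisymm (((a5 _ ((isPGroup_Ux p (RS.unip_pos.subset (by
    simpa only [← fJ_pos_iff] using (RS.unip_fn _).closed) fun _ a => a.1)).map _) a8 (a7.trans a9)).antisymm a8) ▸ a9)
  have b1 : ∀ x ∈ S.PJ J, g⁻¹ * T.σ g * T.σ x * (g⁻¹ * T.σ g)⁻¹ ∈ S.PJ J := fun x hx => by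
    have : T.σ (g * x * g⁻¹) ∈ No X := a3 ▸ Subgroup.le_normalizer_map T.σ ⟨_, b0.ge ⟨x, hx, rfl⟩, rfl⟩
    simpa [mul_assoc] using mem_cs.1 (b0.le this)
  have b2 : g⁻¹ * T.σ g ∈ S.PJ J := mem_of_conj_B_le (P := S.bn hG) _ le_sup_left fun b hb => by
    obtain ⟨c, hc, rfl⟩ := (Subgroup.eq_of_le_of_card_ge (Subgroup.map_le_iff_le_comap.2 fun _ => T.map_B)
      (Subgroup.card_map_of_injective a0.1).ge).ge hb
    exact b1 c (Subgroup.mem_sup_left hc)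
  have b3 : T.ρ.Stable J := fun j => (Set.Finite.injOn_iff_bijOn_of_mapsTo J.toFinite (fun j hj => by_contra fun a => by
    have := mul_mem (mul_mem (inv_mem b2) (b1 _ (x_mem_PJ (.inr (RS.inJ_sim.2 hj).neg) 1))) b2
    rw [show ∀ a b : G, a⁻¹ * (a * b * a⁻¹) * a = b from fun a b => by group, show T.σ _ = _ from (T.simMap j 1).2] at this
    exact one_ne_zero ((T.f j).injective ((x_eq_one_iff.1 (eq_one_of_mem_PJ this (x_mem (by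
      exact ⟨Φ.not_pos_neg_sim _, mt (RS.inJ_neg_iff.trans RS.inJ_sim).1 a⟩) _))).trans (map_zero _).symm)))).1
      T.ρ.ρI.injective.injOn |> fun a => ⟨fun c => by
        obtain ⟨k, d, e⟩ := a.surjOn c
        exact T.ρ.ρI.injective e ▸ d, fun c => a.mapsTo c⟩
  obtain ⟨k, b4⟩ := hX.exists_fix b3 (hG ▸ Subgroup.mem_top g) b2
  refine ⟨k, (S.PJ J).comap ι, fun b hb => Subgroup.mem_sup_left hb, hX.comap_ne_top b3 a6, fun n hn => mem_cs.2 ?_⟩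
  simpa [mul_assoc] using mul_mem (mul_mem (inv_mem b4) (mem_cs.1 (a7 (a4 (Subgroup.le_normalizer_map ι ⟨n, hn, rfl⟩))))) b4

/-- the split `BN`-pair -/
noncomputable def sbn [Finite G] (hG : S.Gx = ⊤) (hc : Φ.Conn) (hco : ∀ i, ∃ u : Γ, ι u ∈ S.U ∧ S.co i (ι u) ≠ 0) : SBN p Γ where
  toSBN₀ := hX.sbn₀ hι p
  bt _ := hX.bt hι p hG
  rad _ := hX.rad hι hc hco

end Tw.Sub

/-- the split `BN`-pair -/
noncomputable def sbn [Finite F] (p : ℕ) [Fact p.Prime] [CharP F p] [Finite G] (hG : S.Gx = ⊤) (hc : Φ.Conn) : SBN p G :=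
  (sub_one hG).sbn Function.injective_id p hG hc fun i => ⟨S.x (Φ.sim i) 1, x_mem_U (Φ.pos_sim i) 1, by simp [co_x]⟩

end St

end Cfsg.Agent.Chev
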