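import Cfsg.Agent.Lib.Chev.Inv8
import Cfsg.Agent.Lib.Chev.TwSBN

set_option autoImplicit false
set_option linter.unusedSectionVars false
set_option maxRecDepth 100000

/-! Diagonal twists of subgroups defined over the field with two elements. -/

namespace Cfsg.Agent.Chev
open Cfsg.Lie Checked

section
variable {I R : Type} [Fintype I] [DecidableEq I] [Fintype R] [DecidableEq R] {Φ : CD I R} {K : Type*} [Field K] {G G₀ : Type*} [Group G] [Group G₀]
  {S : St Φ K G} {S₀ : St Φ (ZMod 2) G₀} {c : ZMod 2 →+* K} {a : I → Kˣ} {β : G₀ →* G} (hβ : ∀ r t, β (S₀.x r t) = S.x r (RS.chi a (Φ.rv r) * c t))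
include hβ

theorem St.tw_Ux {A : Set R} {u : G₀} (h : u ∈ S₀.Ux A) : β u ∈ S.Ux A :=
  (St.Ux_le (K := (S.Ux A).comap β)).2 (fun r e t => by rw [Subgroup.mem_comap, hβ]; exact St.x_mem e _) h

theorem St.tw_co (i : I) {u : G₀} (h : u ∈ S₀.U) : S.co i (β u) = a i * c (S₀.co i u) := by
  refine St.Ux_induction (p := fun u => S.co i (β u) = a i * c (S₀.co i u)) (by simp [St.co_one]) (fun r e t u d ih => ?_) h
  rw [map_mul, St.co_mul _ (St.tw_Ux hβ d) (St.tw_Ux hβ (St.x_mem_U e _)), St.co_mul i d (St.x_mem_U e _), ih, hβ, St.co_x, St.co_x]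
  by_cases z : r = Φ.sim i
  · simp [z, Φ.rv_sim, RS.chi_single, mul_add]
  · simp [z]

theorem St.tor_of_conj (hG : S.Gx = ⊤) {L : List R} (h1 : ∀ r ∈ L, Φ.Pos r) (h2 : L.Nodup ∧ ∀ a ∈ L, ∀ b ∈ L, (∀ i, Φ.rv a i ≤ Φ.rv b i) → b = a)
    (h3 : ∀ i, Φ.sim i ∈ L) {g : G} {u : G₀} (hu : u ∈ S₀.U) (e : g * S.P L 1 * g⁻¹ = β u) : ∃ h ∈ S.H, S.IsTor h a := by
  obtain ⟨w, b, d⟩ := St.conj_anti hG h1 h2 (T := {r | Φ.Pos r}) (fun _ a _ b _ c => c.pos a b) (fun _ => id)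
    (fun v z => mul_mem (mul_mem z (St.tw_Ux hβ hu)) (inv_mem z)) e
  obtain rfl := RS.eq_one_of_pos fun i => b _ (h3 i)
  obtain ⟨v, b1, h, b2, rfl⟩ := St.mem_B_iff.1 (St.PJ_empty (S := S) ▸ d _ (one_mem _))
  obtain ⟨a', b3⟩ := St.exists_isTor b2
  refine ⟨h, b2, (funext fun i => Units.ext ?_ : a' = a) ▸ b3⟩
  have := St.co_conj_mul b1 b2 b3 i (St.P_mem h1 1)
  rw [e, St.tw_co hβ i hu, St.co_P i h2.1 h1, if_pos (h3 i), Pi.one_apply, mul_one] at this
  obtain z | z : S₀.co i u = 0 ∨ S₀.co i u = 1 := by generalize S₀.co i u = t; revert t; decide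
  · simp [z, eq_comm] at this
  · simpa [z] using this.symm

end

theorem three_F4 {K : Type*} [Field K] [Fintype K] (hK : Fintype.card K = 2 ^ 2) : ∃ A : Fin 3 → chevF4.group (ZMod 2) →* chevE6.group K,
    (∀ i, Function.Injective (A i) ∧ (A i).range ≤ (checkedE6.inc (e6Words K 2)).range) ∧ ∀ i j g, (∀ y, ∃ z, g * A i y * g⁻¹ = A j z) → i = j := by
  haveI : CharP K 2 := charP_of_card_eq_prime_pow hK
  obtain ⟨f, hf⟩ := exists_frob Nat.prime_two.isPrimePow hK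
  have hX := sub_2E6 hf hK
  obtain ⟨σ, hσ⟩ := graph_E6 (ZMod 2)
  obtain ⟨φ, h1, h2, h3⟩ := fix_E6 (ZMod 2) hσ
  have k3 : ∀ x : Kˣ, x ^ 3 = 1 := fun x => by
    classical
    simpa [Fintype.card_units, hK] using pow_card_eq_one (x := x)
  obtain ⟨ω, hω⟩ : ∃ ω : Kˣ, ω ≠ 1 := by
    classical
    exact Fintype.exists_ne_of_one_lt_card (by simp [Fintype.card_units, hK]) 1
  let c := ZMod.castHom (dvd_refl 2) K
  let a : Fin 3 → Fin chevE6.rank → Kˣ := fun m i => ω ^ (m.1 * [1, 0, 0, 0, 0, 2].getD i 0)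
  let β := fun a => (checkedE6.diagAut a).toMonoidHom.comp (checkedE6.fieldHom c)
  have hβ : ∀ a r t, β a ((checkedE6.adj _).x r t) = (checkedE6.adj K).x r (RS.chi a (checkedE6.toCD.rv r) * c t) := fun a r t => by
    simp [β, fieldHom_x, diagAut_x]
  have iβ : ∀ a, Function.Injective (β a) := fun a => (checkedE6.diagAut a).injective.comp (checkedE6.fieldHom_inj c)
  have hU : ∀ u ∈ (checkedF4.adj (ZMod 2)).U, φ u ∈ (checkedE6.adj _).U := fun u a => (St.Ux_le (K := (checkedE6.adj _).U.comap φ)).2 (fun r b t => by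
    rw [Subgroup.mem_comap, h1]; exact checkedE6.fy_mem _ (by revert r; simp only [Set.mem_ofPred_eq]; decide +kernel) t) a
  refine ⟨fun m => (β (a m)).comp φ, fun m => ⟨(iβ _).comp h2, ?_⟩, fun i j g e => ?_⟩
  · have e : (twE6 f).σ.comp (β (a m)) = (β (a m)).comp σ := St.hom_ext checkedE6.adj_Gx fun r t => by
      have : ∀ r i, checkedE6.toCD.rv (symE6.ρ r) (symE6.ρI i) = checkedE6.toCD.rv r i := by decide +kernel
      have z : ∀ i, (a m (symE6.ρI i) : K) = f (a m i) := fun i => by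
        obtain ⟨n, d⟩ : ∃ n : Fin 3, 2 * (m.1 * [1, 0, 0, 0, 0, 2].getD i 0) = m.1 * [1, 0, 0, 0, 0, 2].getD (symE6.ρI i) 0 + 3 * n.1 := by revert m i; decide +kernel
        rw [hf, ← Units.val_pow_eq_pow_val, ← pow_mul, mul_comm _ 2, d, pow_add, pow_mul ω 3, k3, one_pow, mul_one]
      rw [MonoidHom.comp_apply, hβ, MonoidHom.comp_apply, σ_E6, hσ, hβ, eta_two, one_mul, map_mul, RS.chi, RS.chi,
        ← Equiv.prod_comp symE6.ρI fun i => a m i ^ checkedE6.toCD.rv (symE6.ρ r) i, ← RingHom.comp_apply f c, Subsingleton.elim (f.comp c) c]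
      simp [this, z]
    rw [MonoidHom.range_eq_map, ← checkedF4.adj_Gx, Subgroup.map_le_iff_le_comap]
    refine St.Ux_le.2 fun r _ t => ?_
    have d : (twE6 f).σ (β (a m) (φ ((checkedF4.adj _).x r t))) = β (a m) (φ ((checkedF4.adj _).x r t)) :=
      (DFunLike.congr_fun e _).trans (congrArg (β (a m)) (h3.le ⟨_, rfl⟩))
    by_cases b : checkedF4.toCD.Pos r
    · exact hX.mem_of_U (St.tw_Ux (hβ _) (hU _ (St.x_mem_U b t))) d
    · exact hX.mem_of_V (St.tw_Ux (hβ _) (h1 r t ▸ checkedE6.fy_mem _ (by clear d; revert r; simp only [Set.mem_ofPred_eq]; decide +kernel) t)) d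
  let L := [56, 36, 46, 42, 37, 39].map e6r
  let S := checkedF4.adj (ZMod 2)
  obtain ⟨y, y1, y2⟩ : ∃ y ∈ S.U, φ y = (checkedE6.adj _).P L 1 := ⟨S.P ([33, 24, 27, 25].map f4r) 1, St.P_mem (show ∀ r ∈ [33, 24, 27, 25].map f4r, _ by decide +kernel) _, by
    simp only [S, List.map_cons, List.map_nil, St.P_cons, St.P_nil, map_mul, map_one, h1, show oF4 (f4r 33) = [(56, 1), (36, 1)] from rfl,
      show oF4 (f4r 24) = [(46, 1)] from rfl, show oF4 (f4r 27) = [(42, 1), (37, 1)] from rfl, show oF4 (f4r 25) = [(39, 1)] from rfl]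
    simp [fy, wd, mul_assoc, L]
    rfl⟩
  obtain ⟨z, e⟩ := e y
  obtain ⟨n, hn⟩ := St.isPGroup_Ux 2 RS.unip_pos ⟨y, y1⟩
  replace hn : z ^ 2 ^ n = 1 := ((iβ (a j)).comp h2) (show (β (a j)).comp φ _ = (β (a j)).comp φ _ by
    rw [map_pow, ← e, conj_pow, ← map_pow, show y ^ 2 ^ n = 1 from congrArg Subtype.val hn]; simp)
  obtain ⟨k, hk⟩ := (St.sbn (S := S) 2 checkedF4.adj_Gx conn_F4).toSBN₀.exists_conj_le (D := .zpowers z)
    (IsPGroup.of_card_dvd_pow (n := n) (by rw [Nat.card_zpowers]; exact orderOf_dvd_of_pow_eq_one hn))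
  have b : ∀ a a' x, checkedE6.diagAut a (β a' x) = β (a * a') x := fun a a' x => by simp [β]
  obtain ⟨h, b1, b2⟩ := St.tor_of_conj (hβ ((a i)⁻¹ * a j)) checkedE6.adj_Gx (L := L) (by decide +kernel) (by decide +kernel) (by decide +kernel) (hU _ (hk z (Subgroup.mem_zpowers z)))
    (g := checkedE6.diagAut (a i)⁻¹ (β (a j) (φ k) * g)) (by
      have : (checkedE6.adj K).P L 1 = checkedE6.diagAut (a i)⁻¹ (β (a i) (φ y)) := by
        rw [b, y2, inv_mul_cancel]; simp [L, hβ, RS.chi_one]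
      rw [this, ← b, ← map_inv, ← map_mul, ← map_mul, map_mul φ, map_mul φ, map_mul (β _), map_mul (β _), map_inv φ, map_inv (β _)]
      exact congrArg _ (by erw [← e]; simp [mul_assoc]))
  obtain ⟨d, rfl⟩ := checkedE6.hMul_adj.exists_hT b1
  have := congrArg (fun x => zmap Kˣ (lmat [[1], [0], [2], [0], [1], [2]] : Matrix (Fin chevE6.rank) (Fin 1) ℤ) x 0) (b2.unique (checkedE6.hMul_adj.isTor_hT d))
  simp only [← zmap_mul] at this
  have m : ∀ i, (checkedE6.toCD.cm * (lmat [[1], [0], [2], [0], [1], [2]] : Matrix (Fin chevE6.rank) (Fin 1) ℤ)) i 0 = (3 : ℕ) * [0, 0, 1, -1, 0, 1].getD i 0 := by decide +kernel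
  have m' : ∀ n, zmap Kˣ (lmat [[1], [0], [2], [0], [1], [2]] : Matrix (Fin chevE6.rank) (Fin 1) ℤ) (a n) 0 = ω ^ (5 * n.1) := fun n => by
    simp only [zmap_apply, a, ← zpow_natCast, ← zpow_mul, ← zpow_finsum]
    exact congrArg _ (by revert n; decide +kernel)
  rw [map_mul, map_inv, Pi.mul_apply, Pi.inv_apply, m', m', zmap_apply] at this
  simp only [m, zpow_mul, zpow_natCast, k3, one_zpow, Finset.prod_const_one, inv_mul_eq_one, pow_eq_pow_iff_modEq] at this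
  rw [@orderOf_eq_prime _ _ _ _ ⟨Nat.prime_three⟩ (k3 ω) hω] at this
  revert this
  generalize i = i, j = j
  revert i j
  decide

end Cfsg.Agent.Chev
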