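import Cfsg.Agent.Lib.Chev.Inv1

set_option autoImplicit false
set_option linter.unusedSectionVars false

/-! Certificates for the classes of involutions. -/

namespace Cfsg.Agent.Chev
open Cfsg.Lie Checked

/-- a system of representatives of the classes of involutions -/
def InvReps {G : Type*} [Group G] (Y : List G) : Prop :=
  (∀ y ∈ Y, orderOf y = 2) ∧ (∀ g, orderOf g = 2 → ∃ y ∈ Y, IsConj g y) ∧ Y.Pairwise fun a b => ¬ IsConj a b

theorem InvReps.ncard {G : Type*} [Group G] {Y : List G} (h : InvReps Y) : (ConjClasses.mk '' {g : G | orderOf g = 2}).ncard = Y.length := by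
  classical
  have a : (Y.map ConjClasses.mk).Nodup := List.pairwise_map.2 (h.2.2.imp fun a b => a (ConjClasses.mk_eq_mk_iff_isConj.1 b))
  rw [← List.length_map ConjClasses.mk, ← List.toFinset_card_of_nodup a, ← Set.ncard_coe_finset]
  congr 1
  ext c
  simp only [Set.mem_image, Set.mem_ofPred_eq, List.coe_toFinset, List.mem_map]
  exact ⟨fun ⟨g, b, e⟩ => let ⟨y, d, f⟩ := h.2.1 g b; ⟨y, d, (ConjClasses.mk_eq_mk_iff_isConj.2 f).symm.trans e⟩, fun ⟨y, b, e⟩ => ⟨y, h.1 y b, e⟩⟩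

theorem InvReps.mat {n F : Type*} [Fintype n] [DecidableEq n] [Field F] {H : Subgroup (GL n F)} {Y : List H} (h : InvReps Y) {M : List (Matrix n n F)}
    (e : Y.map (fun y : H => ((y : GL n F) : Matrix n n F)) = M) :
    (∀ y : GL n F, (y : Matrix n n F) ∈ M → y ∈ H ∧ orderOf y = 2) ∧
    (∀ g ∈ H, orderOf g = 2 → ∃ y ∈ H, (y : Matrix n n F) ∈ M ∧ ∃ h ∈ H, h * g * h⁻¹ = y) ∧
    (∀ y₁ ∈ H, ∀ y₂ ∈ H, (y₁ : Matrix n n F) ∈ M → (y₂ : Matrix n n F) ∈ M → (∃ h ∈ H, h * y₁ * h⁻¹ = y₂) → (y₁ : Matrix n n F) = y₂) := by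
  subst e
  have a : ∀ y : GL n F, (y : Matrix n n F) ∈ Y.map (fun y : H => ((y : GL n F) : Matrix n n F)) ↔ ∃ z ∈ Y, (z : GL n F) = y := fun y => by
    simp [Units.ext_iff]
  simp only [a]
  refine ⟨?_, fun g b c => ?_, ?_⟩
  · rintro _ ⟨z, b, rfl⟩
    exact ⟨z.2, (Subgroup.orderOf_coe z).trans (h.1 z b)⟩
  · obtain ⟨y, d, f⟩ := h.2.1 ⟨g, b⟩ ((Subgroup.orderOf_coe _).symm.trans c)
    obtain ⟨k, f⟩ := isConj_iff.1 f
    exact ⟨y, y.2, ⟨y, d, rfl⟩, k, k.2, congrArg Subtype.val f⟩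
  · rintro _ - _ - ⟨y, b, rfl⟩ ⟨z, c, rfl⟩ ⟨k, d, f⟩
    by_contra i
    haveI : Std.Symm fun a b : H => ¬ IsConj a b := ⟨fun _ _ a b => a b.symm⟩
    exact h.2.2.forall b c (by rintro rfl; exact i rfl) (isConj_iff.2 ⟨⟨k, d⟩, Subtype.ext f⟩)

variable {I R : Type} [Fintype I] [DecidableEq I] [Fintype R] [DecidableEq R]

namespace RS
variable (Φ : RS I R)

/-- the pairing, in a form that is quick to evaluate -/
def fp (r s : R) : ℤ := ∑ i, Φ.rv r i * (Φ.rv s i - Φ.rv (Φ.rf i s) i)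

/-- no `n` orthogonal roots -/
def noOrt : ℕ → List R → Bool
  | 0, _ => false
  | n + 1, A => A.all fun x => noOrt n (A.filter fun y => Φ.fp x y = 0)

variable {Φ}
theorem Lac.fp_eq (h : Φ.Lac) : Φ.fp = Φ.pair := by
  ext r s
  refine Finset.sum_congr rfl fun i _ => ?_
  have := Φ.ln_cv r i
  rw [h.ln (Φ.sim i) r] at this
  simp [mul_left_cancel₀ (Φ.ln_pos r).ne' this, Φ.rv_rf]

theorem noOrt_spec {M : List R} (o : M.Pairwise fun a b => Φ.fp a b = 0) {A : List R} (a : ∀ r ∈ M, r ∈ A) : Φ.noOrt M.length A ≠ true := by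
  induction M generalizing A with
  | nil => simp [noOrt]
  | cons r M ih =>
    obtain ⟨o1, o2⟩ := List.pairwise_cons.1 o
    exact fun e => ih o2 (fun k b => by simp [a k (by simp [b]), o1 k b]) (List.all_eq_true.1 e r (a r (by simp)))

variable (Φ)
/-- the certificate that every orthogonal system reduces to one in the list -/
def ChkA (Q : List R) (s₀ : R) (C : List (List R × List R × List (R × List I × List R) × List (R × List I × List R))) : Prop :=
  ∀ c ∈ C, (∀ b ∈ c.2.1, Φ.Pos b ∧ ∀ r ∈ c.1, Φ.fp r b = 0) ∧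
    (∀ s, (∀ r ∈ c.1, Φ.fp r s = 0) → (∀ b ∈ c.2.1, 0 ≤ Φ.fp b s) → s ∈ c.2.2.1.map (·.1) ∨ s ∈ c.2.2.2.map (·.1)) ∧
    (∀ d ∈ c.2.2.1, d.2.2 ∈ C.map (·.1) ∧ ((c.1 ++ [d.1]).map (wp Φ.s d.2.1 • ·)).Perm d.2.2) ∧
    ∀ d ∈ c.2.2.2, (c.1.map (wp Φ.s d.2.1 • ·)).Perm (Q ++ d.2.2) ∧ wp Φ.s d.2.1 • d.1 = s₀

instance instDecChkA (Q : List R) (s₀ : R) (C : List (List R × List R × List (R × List I × List R) × List (R × List I × List R))) :
    Decidable (Φ.ChkA Q s₀ C) := by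
  unfold ChkA
  refine @List.decidableBAll _ _ (fun c => @instDecidableAnd _ _ ?_ (@instDecidableAnd _ _ ?_ (@instDecidableAnd _ _ ?_ ?_))) _ <;> infer_instance

/-- the certificate that the systems in the list are distinguished -/
def ChkB (δ : R) (T : List (List R × List R)) : Prop :=
  (∀ p ∈ T, p.1 ≠ [] ∧ (p.1.Pairwise fun a b => Φ.fp a b = 0) ∧ (∀ r ∈ p.1, Φ.Pos r) ∧ (∀ a ∈ p.1, ∀ b ∈ p.1, (∀ i, Φ.rv a i ≤ Φ.rv b i) → b = a) ∧
    ∀ r, (∃ k ∈ p.1, ∀ i, Φ.rv k i ≤ Φ.rv r i) → r ∈ p.2) ∧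
  T.Pairwise fun p p' => ((∀ r ∈ p.2, 1 ≤ Φ.fp δ r) ∧ ∀ k, ∃ r ∈ p'.1, Φ.fp k r ≤ 0) ∨ Φ.noOrt p'.1.length p.2 = true

instance instDecChkB (δ : R) (T : List (List R × List R)) : Decidable (Φ.ChkB δ T) := by unfold ChkB; infer_instance

/-- the conjugating word commutes with the orthogonal roots -/
def ChkC (Q L : List R) : Prop := ∀ k, (∀ r ∈ Q, Φ.fp r k = 0) → ∀ p ∈ L, Φ.fp p k = 0

instance instDecChkC (Q L : List R) : Decidable (Φ.ChkC Q L) := by unfold ChkC; infer_instance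

end RS

theorem St.invReps {Φ : CD I R} {F : Type*} [Field F] {G : Type*} [Group G] {S : St Φ F G} (h : Φ.Lac) [CharP F 2] [Finite F] (hm : S.HMul) (hG : S.Gx = ⊤)
    {Q L : List R} {s₀ δ : R} {C T} (h1 : Φ.ChkA Q s₀ C) (h2 : Φ.ChkB δ T) (h3 : Φ.ChkC (s₀ :: Q) L) (h4 : S.P (L ++ s₀ :: Q) 1 = S.P (Q ++ L) 1)
    (h5 : C.map (·.1) = [] :: T.map (·.1)) : InvReps (T.map fun p => S.P p.1 1) := by
  simp only [RS.ChkA, RS.ChkB, RS.ChkC, h.fp_eq] at h1 h2 h3
  have nd : ∀ p ∈ T, p.1.Nodup := fun p a => (h2.1 p a).2.1.imp fun b => by rintro rfl; simp [RS.pair_same] at b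
  refine ⟨List.forall_mem_map.2 fun p a => ?_, fun g a => ?_, List.pairwise_map.2 (h2.2.imp_of_mem fun {p p'} a a' b c => ?_)⟩
  · obtain ⟨b, c, d, -⟩ := h2.1 p a
    refine orderOf_eq_prime ?_ fun e => ?_
    · generalize p.1 = M at c
      induction M with
      | nil => simp
      | cons r M ih =>
        obtain ⟨c1, c2⟩ := List.pairwise_cons.1 c
        rw [P_cons, Commute.mul_pow (b := S.P M 1) (Commute.list_prod_right _ _ (List.forall_mem_map.2 fun k z => lac_commute h (c1 k z).ge _ _)), ih c2, sq, S.add,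
          CharTwo.add_self_eq_zero, x_zero, one_mul]
    · obtain ⟨r, f⟩ := List.exists_mem_of_ne_nil _ b
      simpa using P_inj RS.unip_pos (nd p a) d (e.trans (P_zero (t := 0) (by simp)).symm) r f
  · obtain ⟨M, b, c⟩ := lac_invol h hm hG (g := g) (by rw [← sq, ← a, pow_orderOf_eq_one])
    obtain ⟨L', d, e⟩ := lac_classify (S := S) h (T := C.map (·.1)) (List.forall_mem_map.2 fun c z => ⟨c.2.1, (h1 c z).1, fun s f i => by
      obtain ⟨-, j1, j2, j3⟩ := h1 c z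
      refine (j1 s f i).imp (fun j => ?_) fun j => ?_ <;> obtain ⟨d, j', rfl⟩ := List.mem_map.1 j
      · exact ⟨_, (j2 d j').1, _, (j2 d j').2⟩
      · exact fus_of h (g := S.P L 1) (fun k z => Commute.list_prod_left _ _ (List.forall_mem_map.2 fun p y => lac_commute h (h3 k z p y).ge _ _))
          (by rw [← P_append, h4, P_append, mul_inv_cancel_right]) (j3 d j')⟩) M [] (by simp [h5]) b
    rw [h5] at d
    rcases List.mem_cons.1 d with rfl | d
    · simp [isConj_one_left.1 (c.trans e)] at a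
    · obtain ⟨p, d', rfl⟩ := List.mem_map.1 d
      exact ⟨_, List.mem_map_of_mem d', c.trans e⟩
  · obtain ⟨w, e⟩ := above_of_conj hG (h2.1 p' a').2.2.1 ⟨nd p' a', (h2.1 p' a').2.2.2.1⟩ (h2.1 p a).2.2.1 c.symm
    replace e := fun r z => (h2.1 p a).2.2.2.2 _ (e r z)
    rcases b with b | b
    · obtain ⟨r, d, f⟩ := b.2 (w⁻¹ • δ)
      have := b.1 _ (e r d)
      rw [← RS.pair_smul w, smul_inv_smul] at f
      omega
    · exact RS.noOrt_spec (M := p'.1.map (w • ·)) (List.pairwise_map.2 ((h2.1 p' a').2.1.imp fun z => by rwa [h.fp_eq, RS.pair_smul]))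
        (List.forall_mem_map.2 e) (by simpa using b)

theorem Checked.P_eq {D : ChevalleyDatum} {c : Cert} {h : Checked D c} {K : Type*} [Field K] [CharP K 2] {G : Type*} [Group G] (S : St h.toCD K G)
    (L L' : List (Fin D.nroots)) (e : Col.same D 2 id 40 (L.map fun r => (r.1, [(1, [])])) (L'.map fun r => (r.1, [(1, [])])) = true) : S.P L 1 = S.P L' 1 := by
  simpa [wd, Col.ev, Col.mpev, Col.mev, Function.comp_def, xN_fin, St.P] using h.wd_eq_of_same S.rel 2 [] id 40 _ _ e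

end Cfsg.Agent.Chev
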