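import Cfsg.Agent.Lib.Chev.Inv2

set_option autoImplicit false
set_option maxRecDepth 100000

/-! The classes of involutions of the groups of type `E` in characteristic two. -/

namespace Cfsg.Agent.Chev
open Cfsg.Lie

theorem lac_E6 : ∀ r, checkedE6.toRS.ln r = 1 := by decide +kernel
theorem lac_E7 : ∀ r, checkedE7.toRS.ln r = 1 := by decide +kernel
theorem lac_E8 : ∀ r, checkedE8.toRS.ln r = 1 := by decide +kernel

def cE6 : List (List (Fin chevE6.nroots) × List (Fin chevE6.nroots) × List (Fin chevE6.nroots × List (Fin chevE6.rank) × List (Fin chevE6.nroots)) × List (Fin chevE6.nroots × List (Fin chevE6.rank) × List (Fin chevE6.nroots))) :=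
  ([([], [36, 37, 39, 42, 46, 56], [(71, [], [71])], []), ([71], [36, 37, 39, 42, 56], [(60, [4, 3, 1], [68, 66])], []), ([68, 66], [39, 44, 46], [(53, [2, 0], [55, 65, 67])], []), ([55, 65, 67], [46], [], [(46, [3, 4, 5, 0, 2, 1, 3, 4, 3, 0, 2, 1, 3], [])])] : List (List (Fin 72) × List (Fin 72) × List (Fin 72 × List (Fin 6) × List (Fin 72)) × List (Fin 72 × List (Fin 6) × List (Fin 72))))
def tE6 : List (List (Fin chevE6.nroots) × List (Fin chevE6.nroots)) := ([([71], [71]), ([68, 66], [66, 68, 69, 70, 71]), ([55, 65, 67], [55, 65, 66, 67, 68, 69, 70, 71])] : List (List (Fin 72) × List (Fin 72)))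
def qE6 : List (Fin chevE6.nroots) × List (Fin chevE6.nroots) × Fin chevE6.nroots × Fin chevE6.nroots := (([46, 42, 37], [40, 42, 43, 47], 53, 71) : List (Fin 72) × List (Fin 72) × Fin 72 × Fin 72)

theorem reps_E6 (F : Type*) [Field F] [Finite F] [CharP F 2] : InvReps (tE6.map fun p => (checkedE6.adj F).P p.1 1) :=
  St.invReps ⟨good_E6, fun r s => (lac_E6 r).trans (lac_E6 s).symm⟩ checkedE6.hMul_adj checkedE6.adj_Gx (Q := qE6.1) (L := qE6.2.1)
    (s₀ := qE6.2.2.1) (δ := qE6.2.2.2) (C := cE6) (by decide +kernel) (by decide +kernel) (by decide +kernel)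
    (Checked.P_eq _ _ _ (by decide +kernel)) rfl

def cE7 : List (List (Fin chevE7.nroots) × List (Fin chevE7.nroots) × List (Fin chevE7.nroots × List (Fin chevE7.rank) × List (Fin chevE7.nroots)) × List (Fin chevE7.nroots × List (Fin chevE7.rank) × List (Fin chevE7.nroots))) :=
  ([([], [63, 64, 66, 69, 73, 78, 93], [(125, [], [125])], []), ([125], [63, 64, 66, 69, 73, 78], [(92, [1, 3, 2, 0], [118, 121])], []), ([118, 121], [63, 69, 73, 80, 93], [(63, [2, 3, 0, 2, 1, 3, 4, 5], [92, 107, 111]), (109, [1, 3, 4, 5], [114, 116, 119])], []), ([114, 116, 119], [66, 71, 82, 93], [(66, [6, 5, 2, 3, 0, 2, 1, 3], [92, 107, 111, 119]), (71, [6, 2, 3, 0, 2, 1], [92, 107, 111, 119]), (82, [2, 3, 0, 2], [92, 107, 111, 119])], [(93, [3, 4, 5, 6, 0, 2, 1, 3, 4, 5, 3, 0, 2, 1, 3, 4, 3, 2, 1, 3, 0, 2], [])]), ([92, 107, 111], [69, 75, 78, 97], [(119, [], [92, 107, 111, 119])], []), ([92, 107, 111, 119], [69, 75, 97], [], [(69, [3, 4, 5, 6,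 0, 2, 1, 3, 4, 5, 3, 0, 2, 1, 3, 4, 3, 1], [125]), (75, [3, 4, 5, 6, 0, 2, 1, 3, 4, 5, 3, 4, 0, 2, 1, 3, 2, 1], [125]), (97, [3, 4, 5, 6, 4, 5, 0, 2, 1, 3, 4, 0, 2, 1, 3, 2, 1, 0], [125])])] : List (List (Fin 126) × List (Fin 126) × List (Fin 126 × List (Fin 7) × List (Fin 126)) × List (Fin 126 × List (Fin 7) × List (Fin 126))))
def tE7 : List (List (Fin chevE7.nroots) × List (Fin chevE7.nroots)) := ([([125], [125]), ([118, 121], [118, 121, 122, 123, 124, 125]), ([114, 116, 119], [114, 116, 117, 118, 119, 120, 121, 122, 123, 124, 125]), ([92, 107, 111], [92, 107, 108, 111, 113, 114, 116, 117, 118, 120, 121, 122, 123, 124, 125]), ([92, 107, 111, 119], [92, 107, 108, 111, 113, 114, 116, 117, 118, 119, 120, 121, 122, 123, 124, 125])] : List (List (Fin 126) × List (Fin 126)))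
def qE7 : List (Fin chevE7.nroots) × List (Fin chevE7.nroots) × Fin chevE7.nroots × Fin chevE7.nroots := (([78, 73, 66], [70, 73, 74, 79], 87, 125) : List (Fin 126) × List (Fin 126) × Fin 126 × Fin 126)

theorem reps_E7 (F : Type*) [Field F] [Finite F] [CharP F 2] : InvReps (tE7.map fun p => (checkedE7.adj F).P p.1 1) :=
  St.invReps ⟨good_E7, fun r s => (lac_E7 r).trans (lac_E7 s).symm⟩ checkedE7.hMul_adj checkedE7.adj_Gx (Q := qE7.1) (L := qE7.2.1)
    (s₀ := qE7.2.2.1) (δ := qE7.2.2.2) (C := cE7) (by decide +kernel) (by decide +kernel) (by decide +kernel)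
    (Checked.P_eq _ _ _ (by decide +kernel)) rfl

def cE8 : List (List (Fin chevE8.nroots) × List (Fin chevE8.nroots) × List (Fin chevE8.nroots × List (Fin chevE8.rank) × List (Fin chevE8.nroots)) × List (Fin chevE8.nroots × List (Fin chevE8.rank) × List (Fin chevE8.nroots))) :=
  ([([], [120, 121, 123, 126, 130, 135, 141, 162], [(239, [], [239])], []), ([239], [121, 123, 126, 130, 135, 141, 162], [(226, [1, 3, 4, 5, 6, 7], [232, 233])], []), ([232, 233], [120, 121, 123, 126, 130, 147], [(161, [4, 5, 3, 4, 1, 3, 2, 0], [228, 222, 218])], []), ([228, 222, 218], [120, 130, 137, 141, 166], [(204, [6, 7, 3, 4, 5, 6], [226, 220, 213, 216])], [(120, [5, 6, 7, 3, 4, 5, 6, 0, 2, 3, 4, 5, 1, 3, 4, 2, 3, 0, 2, 1, 3, 4, 5, 6, 7, 6, 4, 5, 1, 3, 4, 2, 3, 0, 2, 1, 3, 4, 5, 6], [])]), ([226, 220, 213, 216], [126, 132, 139, 168], [], [(126, [3, 4, 5, 6, 7, 0, 2, 1, 3, 4, 5, 6, 3, 0, 2, 1, 3, 4, 5, 3, 4, 2, 3, 0, 2, 1, 3, 4, 2, 3, 0, 2, 1,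 3], [239]), (132, [3, 4, 5, 6, 7, 0, 2, 1, 3, 4, 5, 6, 3, 4, 5, 1, 3, 4, 2, 3, 0, 2, 1, 3, 4, 5, 1, 3, 4, 2, 3, 0, 2, 1], [239]), (139, [3, 4, 5, 6, 7, 4, 5, 6, 0, 2, 3, 4, 5, 1, 3, 4, 2, 3, 0, 2, 1, 3, 4, 5, 6, 4, 5, 1, 3, 4, 2, 3, 1, 0], [239]), (168, [5, 6, 7, 3, 4, 5, 6, 0, 2, 3, 4, 5, 1, 3, 4, 2, 3, 0, 2, 1, 3, 4, 5, 6, 7, 6, 4, 5, 1, 3, 4, 2, 3, 1], [239])])] : List (List (Fin 240) × List (Fin 240) × List (Fin 240 × List (Fin 8) × List (Fin 240)) × List (Fin 240 × List (Fin 8) × List (Fin 240))))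
def tE8 : List (List (Fin chevE8.nroots) × List (Fin chevE8.nroots)) := ([([239], [239]), ([232, 233], [232, 233, 234, 235, 236, 237, 238, 239]), ([228, 222, 218], [218, 222, 223, 224, 225, 228, 229, 230, 231, 232, 233, 234, 235, 236, 237, 238, 239]), ([226, 220, 213, 216], [213, 216, 217, 218, 220, 221, 222, 223, 224, 225, 226, 227, 228, 229, 230, 231, 232, 233, 234, 235, 236, 237, 238, 239])] : List (List (Fin 240) × List (Fin 240)))
def qE8 : List (Fin chevE8.nroots) × List (Fin chevE8.nroots) × Fin chevE8.nroots × Fin chevE8.nroots := (([141, 135, 126], [131, 135, 136, 142], 152, 239) : List (Fin 240) × List (Fin 240) × Fin 240 × Fin 240)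

theorem reps_E8 (F : Type*) [Field F] [Finite F] [CharP F 2] : InvReps (tE8.map fun p => (checkedE8.adj F).P p.1 1) :=
  St.invReps ⟨good_E8, fun r s => (lac_E8 r).trans (lac_E8 s).symm⟩ checkedE8.hMul_adj checkedE8.adj_Gx (Q := qE8.1) (L := qE8.2.1)
    (s₀ := qE8.2.2.1) (δ := qE8.2.2.2) (C := cE8) (by decide +kernel) (by decide +kernel) (by decide +kernel)
    (Checked.P_eq _ _ _ (by decide +kernel)) rfl

end Cfsg.Agent.Chev
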