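import Cfsg.Agent.Lib.Chev.Inv2
import Cfsg.Agent.Lib.Chev.TwSBN

set_option autoImplicit false
set_option linter.unusedSectionVars false

/-! Involutions of twisted groups: reduction to abelian unipotent subgroups. -/

namespace Cfsg.Agent.Chev
open Cfsg.Lie Checked
open scoped commutatorElement

/-- conjugacy under a subgroup -/
def Cj {G : Type*} [Group G] (X : Subgroup G) (a b : G) : Prop := ∃ k ∈ X, k * a * k⁻¹ = b

theorem Cj.refl {G : Type*} [Group G] (X : Subgroup G) (a : G) : Cj X a a := ⟨1, one_mem _, by simp⟩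
theorem Cj.symm {G : Type*} [Group G] {X : Subgroup G} {a b : G} (h : Cj X a b) : Cj X b a :=
  let ⟨k, c, e⟩ := h; ⟨k⁻¹, inv_mem c, by rw [← e]; group⟩
theorem Cj.trans {G : Type*} [Group G] {X : Subgroup G} {a b c : G} (h : Cj X a b) (h' : Cj X b c) : Cj X a c :=
  let ⟨k, d, e⟩ := h; let ⟨k', d', e'⟩ := h'; ⟨k' * k, mul_mem d' d, by rw [← e', ← e]; group⟩

variable {I R : Type} [Fintype I] [DecidableEq I] [Fintype R] [DecidableEq R]

namespace St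
variable {Φ : CD I R} {F : Type*} [Field F] {G : Type*} [Group G] {S : St Φ F G}

theorem conj_roots (hG : S.Gx = ⊤) {L : List R} (h1 : L.Nodup ∧ ∀ r ∈ L, Φ.Pos r) {M T : Set R} (h2 : Φ.Closed M) (h3 : ∀ r ∈ M, Φ.Pos r ∧ r ∉ L)
    (h4 : ∀ u ∈ S.U, ∃ v ∈ S.Ux M, u * S.P L 1 * u⁻¹ = S.P L 1 * v) (h5 : Φ.Closed T) (h6 : ∀ r ∈ T, Φ.Pos r) {y g : G}
    (h7 : ∀ u ∈ S.U, u * y * u⁻¹ ∈ S.Ux T) (e : g * S.P L 1 * g⁻¹ = y) : ∃ w : Φ.W, (∀ r ∈ L, w • r ∈ T) ∧ ∀ J, w ∈ Φ.WJ J → g ∈ S.PJ J := by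
  obtain ⟨u, a1, m, a0, w, a2, u', a3, rfl⟩ := bruhat' (S := S) (g := g) (hG ▸ trivial)
  replace a3 : u' ∈ S.U := Uw_le_U _ a3
  obtain ⟨v, b1, b2⟩ := h4 u' a3
  obtain ⟨N, m1, m2⟩ := exists_list M
  obtain ⟨t, rfl⟩ := exists_P (RS.unip_pos.subset h2 fun r a => (h3 r a).1) m1 m2 b1
  have d : ∀ r ∈ N, r ∉ L := fun r a => (h3 r ((m2 r).1 a)).2
  refine ⟨w, fun r a => smul_mem_of_conj h5 h6 a2 (L := L ++ N) (t := fun k => if k ∈ L then 1 else t k) ?_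
    (by simpa [or_imp, forall_and] using ⟨h1.2, fun r a => (h3 r ((m2 r).1 a)).1⟩) ?_ (by simp [a]) (by simp [a]),
    fun J a => mem_PJ_iff.2 ⟨u, U_le_B a1, m, ⟨a0, w, a, a2⟩, u', U_le_B a3, rfl⟩⟩
  · exact List.nodup_append.2 ⟨h1.1, m1, fun a b c e f => d c e (f ▸ b)⟩
  rw [P_append, P_congr (t' := 1) fun k z => by simp [z], P_congr (L := N) (t' := t) fun k z => by simp [d k z], ← b2]
  convert h7 u⁻¹ (inv_mem a1) using 1
  rw [← e]
  group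

theorem conj_up {A : Set R} (a : ∀ r ∈ A, Φ.Pos r) (b : ∀ r, Φ.Pos r → ∀ s ∈ A, ∀ k, Φ.Comb k r s → k ∈ A) : ∀ u ∈ S.U, ∀ v ∈ S.Ux A, u * v * u⁻¹ ∈ S.Ux A :=
  fun _ c _ d => conj_Ux_mem (fun r r' s s' => ⟨fun z => RS.Pos.not_neg r' (z ▸ a s s'), b r r' s s'⟩) c d

theorem conj_anti (hG : S.Gx = ⊤) {L : List R} (h1 : ∀ r ∈ L, Φ.Pos r) (h2 : L.Nodup ∧ ∀ a ∈ L, ∀ b ∈ L, (∀ i, Φ.rv a i ≤ Φ.rv b i) → b = a)
    {T : Set R} (h5 : Φ.Closed T) (h6 : ∀ r ∈ T, Φ.Pos r) {y g : G}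
    (h7 : ∀ u ∈ S.U, u * y * u⁻¹ ∈ S.Ux T) (e : g * S.P L 1 * g⁻¹ = y) : ∃ w : Φ.W, (∀ r ∈ L, w • r ∈ T) ∧ ∀ J, w ∈ Φ.WJ J → g ∈ S.PJ J := by
  have v1 : ∀ r ∈ {r | ∃ k ∈ L, r ∈ Φ.Abv k}, Φ.Pos r := fun r ⟨k, a, b⟩ => RS.Abv.pos (h1 k a) b
  have v2 : ∀ r, Φ.Pos r → ∀ s ∈ {r | ∃ k ∈ L, r ∈ Φ.Abv k}, ∀ k, Φ.Comb k r s → k ∈ {r | ∃ k ∈ L, r ∈ Φ.Abv k} :=
    fun r a s ⟨k, b, c⟩ j d => ⟨k, b, d.abv a (RS.Abv.pos (h1 k b) c) c.1⟩
  refine conj_roots hG ⟨h2.1, h1⟩ (fun r a => v2 r (v1 r a)) (fun r a => ⟨v1 r a, fun b => ?_⟩) (fun u a3 => ?_) h5 h6 h7 e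
  · obtain ⟨k, c, d⟩ := a
    exact d.2 (h2.2 k c r b d.1)
  suffices ∀ M : List R, M ⊆ L → ∃ v ∈ S.Ux {r | ∃ k ∈ L, r ∈ Φ.Abv k}, u * S.P M 1 * u⁻¹ = S.P M 1 * v from this L (List.Subset.refl _)
  intro M
  induction M with
  | nil => exact fun _ => ⟨1, one_mem _, by simp⟩
  | cons r M ih =>
    intro a
    obtain ⟨v, b, c⟩ := ih (List.subset_of_cons_subset a)
    obtain ⟨v', b', c'⟩ := conj_x_U (h1 r (a (by simp))) 1 a3
    refine ⟨_, mul_mem (conj_up v1 v2 (S.P M 1)⁻¹ (inv_mem (P_mem (fun k z => h1 k (a (by simp [z]))) _)) v'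
      (Ux_mono (fun k z => Exists.intro r ⟨a (by simp), z⟩) b')) b, ?_⟩
    rw [P_cons, ← conj_mul, Pi.one_apply, c, c']
    group

theorem cent_le_PJ (hG : S.Gx = ⊤) {L : List R} (h1 : ∀ r ∈ L, Φ.Pos r) (h2 : L.Nodup ∧ ∀ a ∈ L, ∀ b ∈ L, (∀ i, Φ.rv a i ≤ Φ.rv b i) → b = a) {J : Set I}
    (h3 : ∀ w : Φ.W, (∀ r ∈ L, ∃ k ∈ L, ∀ i, Φ.rv k i ≤ Φ.rv (w • r) i) → w ∈ Φ.WJ J) {g : G} (e : g * S.P L 1 * g⁻¹ = S.P L 1) : g ∈ S.PJ J := by
  have t1 : ∀ r ∈ {r | ∃ k ∈ L, ∀ i, Φ.rv k i ≤ Φ.rv r i}, Φ.Pos r := fun r ⟨k, a, b⟩ i => (h1 k a i).trans (b i)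
  have t2 : ∀ r, Φ.Pos r → ∀ s ∈ {r | ∃ k ∈ L, ∀ i, Φ.rv k i ≤ Φ.rv r i}, ∀ k, Φ.Comb k r s → k ∈ {r | ∃ k ∈ L, ∀ i, Φ.rv k i ≤ Φ.rv r i} :=
    fun r a s ⟨k, b, c⟩ j d => ⟨k, b, (d.abv a (t1 s ⟨k, b, c⟩) c).1⟩
  obtain ⟨w, a, b⟩ := conj_anti hG h1 h2 (fun r a => t2 r (t1 r a)) t1
    (fun u a => conj_up t1 t2 u a _ (P_mem (L := L) (fun k z => Exists.intro k ⟨z, fun _ => le_rfl⟩) 1)) e
  exact b J (h3 w a)

theorem Tw.Sub.reduce {T : S.Tw} {K : Type} {o : T.ρ.Orb K} {X : Subgroup G} (hX : T.Sub o X) (hG : S.Gx = ⊤) {J : Set I} (hJ : T.ρ.Stable J)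
    {W : Subgroup G} (hW : ∀ p ∈ S.PJ J, ∀ v ∈ W, p * v * p⁻¹ ∈ W) {y : G} (h1 : y ∈ W) (h2 : T.σ y = y) (h3 : ∀ g, g * y * g⁻¹ = y → g ∈ S.PJ J)
    {u : G} (hu : u ∈ X) (e : IsConj u y) : ∃ v ∈ W, Cj X u v := by
  obtain ⟨g, rfl⟩ := isConj_iff.1 e.symm
  obtain ⟨k, a⟩ := Tw.Sub.exists_fix (ι := X.subtype) (by simpa using hX) hJ (g := g) (hG ▸ trivial) (h3 _ (by
    have := hX.fix _ hu
    rw [map_mul, map_mul, map_inv, h2] at this
    rw [mul_inv_rev, inv_inv, mul_assoc, mul_assoc, ← mul_assoc y, ← mul_assoc (T.σ g), ← mul_assoc (T.σ g), this]; group))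
  exact ⟨_, hW _ (inv_mem a) y h1, k⁻¹, inv_mem k.2, by simp [mul_assoc]⟩

variable [CharP F 2] (h : Φ.Lac)
include h

theorem lac_comm2 {r s k : R} (e : Φ.rv k = Φ.rv r + Φ.rv s) (t u : F) : S.x s u * S.x r t = S.x r t * S.x s u * S.x k (t * u) := by
  obtain ⟨N, h1, h2⟩ := lac_comm (S := S) h e
  have a : s ≠ Φ.neg r := by rintro rfl; exact Φ.rv_ne_zero k (by simp [e, Φ.rv_neg])
  have b : s ≠ r := by rintro rfl; have := (h.comb ⟨1, 1, one_pos, one_pos, by simpa using e⟩ a).1; rw [RS.pair_same] at this; omega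
  have c : ∀ L : List (R × ℤ × ℕ × ℕ), (∀ c ∈ L, c ∈ Φ.ct r s) → ∃ n : ℤ,
      (L.map fun c => S.x c.1 ((c.2.1 : F) * (-1) ^ c.2.2.1 * 1 ^ c.2.2.2)).prod = S.x k n := by
    intro L
    induction L with
    | nil => exact fun _ => ⟨0, by simp⟩
    | cons c L ih =>
      intro d
      obtain ⟨N, hN⟩ := ih fun c' hc => d c' (List.mem_cons_of_mem _ hc)
      obtain ⟨d1, d2, d3⟩ := Φ.ct_rv r s c (d c List.mem_cons_self)
      refine ⟨c.2.1 * (-1) ^ c.2.2.1 + N, ?_⟩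
      rw [List.map_cons, List.prod_cons, hN, Φ.rv_inj ((h.comb ⟨_, _, d1, d2, d3⟩ a).2.trans e.symm), S.add]
      simp
  obtain ⟨n, hn⟩ := c _ fun _ => id
  have d := S.comm r s 1 1 b a
  rw [hn, h2, mul_right_inj, mul_one, mul_one] at d
  obtain rfl := x_inj d
  rw [h2, show (n : F) = 1 from ?_, one_mul]
  obtain ⟨m, rfl | rfl⟩ := Int.even_or_odd' n <;> simp_all [show (2 : F) = 0 from CharTwo.two_eq_zero]

theorem P_perm' {L L' : List R} (o : ∀ a ∈ L, ∀ b ∈ L, 0 ≤ Φ.pair a b) (e : L.Perm L') (t : R → F) : S.P L t = S.P L' t :=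
  (e.map _).prod_eq' (List.pairwise_map.2 (List.pairwise_of_forall_mem_list fun a b c d => lac_commute h (o a b c d) _ _))

theorem ab_closed {A : Set R} (o : ∀ a ∈ A, ∀ b ∈ A, 0 ≤ Φ.pair a b) : Φ.Closed A := fun r a s b k c => by
  have := o r a s b
  have := (h.comb c (by rintro rfl; rw [RS.pair_neg_right, RS.pair_same] at this; omega)).1
  omega

theorem ab_comm {A : Set R} (o : ∀ a ∈ A, ∀ b ∈ A, 0 ≤ Φ.pair a b) {u v : G} (hu : u ∈ S.Ux A) (hv : v ∈ S.Ux A) : Commute u v :=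
  (Ux_le (K := Subgroup.centralizer {v})).2 (fun r a t => Subgroup.mem_centralizer_singleton_iff.2
    (Subgroup.mem_centralizer_singleton_iff.1 ((Ux_le (K := Subgroup.centralizer {S.x r t})).2
      (fun s b t' => Subgroup.mem_centralizer_singleton_iff.2 (lac_commute h (o s b r a) _ _)) hv)).symm) hu |> Subgroup.mem_centralizer_singleton_iff.1

theorem ab_sq {A : Set R} (o : ∀ a ∈ A, ∀ b ∈ A, 0 ≤ Φ.pair a b) {u : G} (hu : u ∈ S.Ux A) : u * u = 1 :=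
  Ux_induction (p := fun y => y * y = 1) (one_mul _) (fun j j1 u y y1 y2 => by
    rw [(ab_comm h o (x_mem j1 u) y1).mul_mul_mul_comm, y2, S.add, CharTwo.add_self_eq_zero, x_zero, one_mul]) hu

variable {T : S.Tw} {f : F →+* F} (hσ : ∀ r t, T.σ (S.x r t) = S.x (T.ρ.ρ r) (f t))
include hσ

theorem σ_P {L : List R} (o : ∀ a ∈ L, ∀ b ∈ L, 0 ≤ Φ.pair a b) (n : L.Nodup) (s : ∀ r ∈ L, T.ρ.ρ r ∈ L) (t : R → F) :
    T.σ (S.P L t) = S.P L fun r => f (t (T.ρ.ρ⁻¹ r)) := by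
  have p : (L.map T.ρ.ρ).Perm L := (List.subperm_of_subset (n.map T.ρ.ρ.injective) (List.forall_mem_map.2 s)).perm_of_length_le (by simp)
  rw [P_perm' h o p.symm fun r => f (t (T.ρ.ρ⁻¹ r))]
  simp [P, map_list_prod, Function.comp_def, hσ]

theorem exists_P_fix {L : List R} (o : ∀ a ∈ L, ∀ b ∈ L, 0 ≤ Φ.pair a b) (n : L.Nodup) (p : ∀ r ∈ L, Φ.Pos r) (s : ∀ r ∈ L, T.ρ.ρ r ∈ L) {u : G}
    (hu : u ∈ S.Ux {r | r ∈ L}) (e : T.σ u = u) : ∃ t, u = S.P L t ∧ ∀ r ∈ L, t (T.ρ.ρ r) = f (t r) := by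
  obtain ⟨t, rfl⟩ := exists_P (RS.unip_pos.subset (ab_closed h o) p) n (fun _ => Iff.rfl) hu
  rw [σ_P h hσ o n s] at e
  exact ⟨t, rfl, fun r a => by simpa using (P_inj RS.unip_pos n p e _ (s r a)).symm⟩

variable {K : Type} {o : T.ρ.Orb K} {X : Subgroup G} (hX : T.Sub o X)
include hX

theorem P_mem_X {L : List R} (o : ∀ a ∈ L, ∀ b ∈ L, 0 ≤ Φ.pair a b) (n : L.Nodup) (s : ∀ r ∈ L, T.ρ.ρ r ∈ L) {t : R → F}
    (c : ∀ r ∈ L, t (T.ρ.ρ r) = f (t r)) : S.P L t ∈ X := by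
  have a : ∀ p : R → Bool, (∀ r, p (T.ρ.ρ r) = p r) → T.σ (S.P (L.filter p) t) = S.P (L.filter p) t := fun p b => by
    have s' : ∀ r ∈ L.filter p, T.ρ.ρ r ∈ L.filter p := fun r z => by simp_all
    have p' : ((L.filter p).map T.ρ.ρ).Perm (L.filter p) :=
      (List.subperm_of_subset ((n.filter p).map T.ρ.ρ.injective) (List.forall_mem_map.2 s')).perm_of_length_le (by simp)
    rw [σ_P h hσ (fun a b c d => o a (List.mem_of_mem_filter b) c (List.mem_of_mem_filter d)) (n.filter p) s']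
    refine P_congr fun r z => ?_
    obtain ⟨k, d, rfl⟩ := List.mem_map.1 (p'.symm.subset z)
    simp [c k (List.mem_of_mem_filter d)]
  rw [P_perm' h o (List.filter_append_perm (fun r => decide (Φ.Pos r)) L).symm, P_append]
  exact mul_mem (hX.mem_of_U (P_mem (by simp) _) (a _ (by simp [RS.Sym.pos_iff]))) (hX.mem_of_V (P_mem (by simp) _) (a _ (by simp [RS.Sym.pos_iff])))

theorem scale_X [Finite F] {L : List R} (o : L.Pairwise fun a b => Φ.pair a b = 0) (s : ∀ r ∈ L, T.ρ.ρ r ∈ L) {t : R → F}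
    (c : ∀ r ∈ L, t (T.ρ.ρ r) = f (t r)) (e : ∀ r ∈ L, t r ≠ 0) : Cj X (S.P L t) (S.P L 1) := by
  have n : L.Nodup := o.imp fun b => by rintro rfl; simp [RS.pair_same] at b
  haveI : Std.Symm fun a b => Φ.pair a b = 0 := ⟨fun _ _ z => (h.symm _ _).trans z⟩
  have o1 : ∀ a ∈ L, ∀ b ∈ L, 0 ≤ Φ.pair a b := fun a b c d => by
    by_cases z : a = c
    · simp [z, RS.pair_same]
    · exact (o.forall b d z).ge
  have nm : ∀ c : R → Fˣ, (∀ r ∈ L, (c (T.ρ.ρ r) : F) = f (c r)) → (L.map fun r => S.n r (c r)).prod ∈ X := fun c z => by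
    have m1 := P_mem_X h hσ hX o1 n s (t := fun r => c r) z
    have m2 := P_mem_X h hσ hX (L := L.map Φ.neg) (t := fun r => -(c (Φ.neg r) : F)⁻¹) (by simpa [RS.pair_neg_left, RS.pair_neg_right] using o1)
      (n.map fun _ _ => Φ.neg_inj) (List.forall_mem_map.2 fun r y => T.ρ.neg r ▸ List.mem_map_of_mem (s r y))
      (List.forall_mem_map.2 fun r y => by simp [T.ρ.neg, RS.neg_neg, z r y])
    simp only [St.n, P, List.map_map, Function.comp_def, RS.neg_neg] at m1 m2 ⊢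
    rw [prod_map_mul' (o.imp fun y => (lac_commute h y.ge _ _).mul_right (lac_commute h (by simp [RS.pair_neg_right, y]) _ _)),
      prod_map_mul' (o.imp fun y => lac_commute h (by simp [RS.pair_neg_left, y]) _ _)]
    exact mul_mem (mul_mem m1 m2) m1
  choose q hq using fun a : F => FiniteField.isSquare_of_char_two (ringChar.eq F 2) a⁻¹
  classical
  let c' : R → Fˣ := fun r => if z : q (t r) = 0 then 1 else Units.mk0 _ z
  have c1 : ∀ r ∈ L, (c' r : F) = q (t r) := fun r z => by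
    have : q (t r) ≠ 0 := fun y => by simpa [y, e r z] using hq (t r)
    simp [c', this]
  have cj : ∀ (M : List R) k u, (M.map fun r => S.h r (c' r)).prod * S.x k u * (M.map fun r => S.h r (c' r)).prod⁻¹ =
      S.x k (((M.map fun r => c' r ^ Φ.pair r k).prod : Fˣ) * u) := fun M k u => by
    induction M with
    | nil => simp
    | cons r M ih => rw [List.map_cons, List.prod_cons, List.map_cons, List.prod_cons, Units.val_mul, mul_assoc (_ : F), ← h_conj_x, ← ih]; group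
  refine ⟨(L.map fun r => S.h r (c' r)).prod, ?_, ?_⟩
  · simp only [St.h]
    have a : ∀ {r s}, Φ.pair r s = 0 → ∀ u d, Commute (S.x r u) (S.n s d) := fun y _ _ =>
      ((lac_commute h y.ge _ _).mul_right (lac_commute h (by simp [RS.pair_neg_right, y]) _ _)).mul_right (lac_commute h y.ge _ _)
    rw [prod_map_mul' (a := fun r => S.n r (c' r)) (b := fun r => S.n r (-1))
      (o.imp fun y => ((a y _ _).mul_left (a (by simpa [RS.pair_neg_left] using y) _ _)).mul_left (a y _ _))]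
    refine mul_mem (nm _ fun r z => ?_) (nm _ (by simp))
    rw [c1 r z, c1 _ (s r z), ← sub_eq_zero, ← sq_eq_zero_iff, CharTwo.sub_eq_add, CharTwo.add_sq, sq, sq, ← map_mul, ← hq, ← hq, c r z, map_inv₀,
      CharTwo.add_self_eq_zero]
  · have : ∀ M : List R, M ⊆ L → (L.map fun r => S.h r (c' r)).prod * S.P M t * (L.map fun r => S.h r (c' r)).prod⁻¹ = S.P M 1 := fun M z => by
      induction M with
      | nil => simp
      | cons r M ih =>
        have y := z List.mem_cons_self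
        rw [P_cons, P_cons, ← conj_mul, ih (List.subset_of_cons_subset z), cj, List.prod_map_eq_pow_single r _ fun a b d => by simp [o.forall d y b],
          List.count_eq_one_of_mem n y, RS.pair_same]
        simp [zpow_ofNat, sq, c1 r y, ← hq, e r y]
    exact this L (List.Subset.refl _)

theorem smul_X [Finite F] {L : List R} (o : L.Pairwise fun a b => Φ.pair a b = 0) (s : ∀ r ∈ L, T.ρ.ρ r ∈ L) {t : R → F}
    (c : ∀ r ∈ L, t (T.ρ.ρ r) = f (t r)) (e : ∀ r ∈ L, t r ≠ 0) {w : Φ.W} (hw : w ∈ T.ρ.W1) {L' : List R} (p : (L.map (w • ·)).Perm L') (p' : ∀ r ∈ L', Φ.Pos r) :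
    Cj X (S.P L t) (S.P L' 1) := by
  haveI : Std.Symm fun a b => Φ.pair a b = 0 := ⟨fun _ _ z => (h.symm _ _).trans z⟩
  have o1 : ∀ {L : List R}, (L.Pairwise fun a b => Φ.pair a b = 0) → ∀ a ∈ L, ∀ b ∈ L, 0 ≤ Φ.pair a b := fun o a b c d => by
    by_cases z : a = c
    · simp [z, RS.pair_same]
    · exact (o.forall b d z).ge
  have n : ∀ {L : List R}, (L.Pairwise fun a b => Φ.pair a b = 0) → L.Nodup := fun o => o.imp fun b => by rintro rfl; simp [RS.pair_same] at b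
  obtain ⟨m, m1, -, χ, -, hm⟩ := hX.exists_of_W1 hw
  have o2 : (L.map (w • ·)).Pairwise fun a b => Φ.pair a b = 0 := List.pairwise_map.2 (o.imp fun a => by rwa [RS.pair_smul])
  have o3 := (p.pairwise_iff fun a => (h.symm _ _).trans a).1 o2
  have s' : ∀ r ∈ L', T.ρ.ρ r ∈ L' := fun r z => by
    obtain ⟨k, d, rfl⟩ := List.mem_map.1 (p.symm.subset z)
    exact p.subset (RS.Sym.mem_W1_iff.1 hw k ▸ List.mem_map_of_mem (s k d))
  have a : m * S.P L t * m⁻¹ = S.P L' fun k => χ (w⁻¹ • k) * t (w⁻¹ • k) := by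
    rw [← P_perm h o2 p]
    clear e o c s p o2
    induction L with
    | nil => simp
    | cons r L ih => rw [List.map_cons, P_cons, P_cons, ← ih, inv_smul_smul, ← hm, conj_mul]
  obtain ⟨t', b, d⟩ := exists_P_fix h hσ (o1 o3) (n o3) p' s' (a ▸ P_mem (fun _ => id) _)
    (hX.fix _ (mul_mem (mul_mem m1 (P_mem_X h hσ hX (o1 o) (n o) s c)) (inv_mem m1)))
  refine Cj.trans ⟨m, m1, b⟩ (scale_X h hσ hX o3 s' d fun r z => ?_)
  rw [← P_inj RS.unip_pos (n o3) p' (a.symm.trans b) r z]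
  obtain ⟨k, d, rfl⟩ := List.mem_map.1 (p.symm.subset z)
  simp [e k d]

theorem kill_X (hρ : ∀ r i, Φ.rv (T.ρ.ρ r) (T.ρ.ρI i) = Φ.rv r i) {W : Set R} (o : ∀ a ∈ W, ∀ b ∈ W, 0 ≤ Φ.pair a b) (p : ∀ r ∈ W, Φ.Pos r)
    (s : ∀ r ∈ W, T.ρ.ρ r ∈ W) {r : R} (r1 : r ∈ W) (r2 : T.ρ.ρ r = r)
    (cl : ∀ a ∈ W, Φ.pair r a = 1 → ∀ b ∈ W, ∀ m, Φ.rv m + Φ.rv r = Φ.rv a + Φ.rv b → m ∈ W) {u : G} (hu : u ∈ S.Ux W) (e : T.σ u = u) :
    u ∈ S.Ux (W \ {r}) ∨ ∃ v ∈ S.Ux {k ∈ W | k = r ∨ Φ.pair r k = 0}, Cj X u v := by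
  obtain ⟨w, hw⟩ := RS.exists_refl (Φ := Φ.toRS) r
  obtain ⟨M, M1, M2⟩ := exists_list {k | ∃ a ∈ W, Φ.rv a = Φ.rv r + Φ.rv k}
  obtain ⟨Z, Z1, Z2⟩ := exists_list {k ∈ W | Φ.pair r k = 0}
  have m : ∀ k ∈ M, Φ.pair r k = -1 ∧ w • k ∈ W ∧ Φ.rv (w • k) = Φ.rv r + Φ.rv k ∧ Φ.pair r (w • k) = 1 := fun k z => by
    obtain ⟨a, b, c⟩ := (M2 k).1 z
    have d := (h.comb (k := a) (r := r) (s := k) ⟨1, 1, one_pos, one_pos, by simpa using c⟩ (by rintro rfl; exact Φ.rv_ne_zero a (by simp [c, Φ.rv_neg]))).1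
    obtain rfl : w • k = a := Φ.rv_inj (by rw [hw, d, c]; simp [add_comm])
    exact ⟨d, b, c, by rw [RS.pair_sum c, RS.pair_same, d]; rfl⟩
  have l : ∀ k, k ∈ r :: (M.map (w • ·) ++ Z) ↔ k ∈ W := fun k => by
    simp only [List.mem_cons, List.mem_append, List.mem_map, Z2]
    refine ⟨?_, fun a => ?_⟩
    · rintro (rfl | ⟨k, a, rfl⟩ | a)
      exacts [r1, (m k a).2.1, a.1]
    refine (em (k = r)).imp_right fun b => (em (Φ.pair r k = 0)).symm.imp (fun c => ?_) fun c => ⟨a, c⟩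
    obtain ⟨j, d⟩ := h.good.exists_sub (r := r) (s := k) (lt_of_le_of_ne (o r r1 k a) (Ne.symm c)) (Ne.symm b)
    have := (M2 j).2 ⟨k, a, d.trans (add_comm _ _)⟩
    exact ⟨j, this, Φ.rv_inj ((m j this).2.2.1.trans (d.trans (add_comm _ _)).symm)⟩
  have n : (r :: (M.map (w • ·) ++ Z)).Nodup := by
    refine List.nodup_cons.2 ⟨fun a => ?_, List.nodup_append.2 ⟨M1.map (MulAction.injective w), Z1, fun a b c d f => ?_⟩⟩
    · rcases List.mem_append.1 a with a | a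
      · obtain ⟨k, a, b⟩ := List.mem_map.1 a
        have := (m k a).2.2.2
        rw [b, RS.pair_same] at this; omega
      · have := ((Z2 r).1 a).2
        rw [RS.pair_same] at this; omega
    · obtain ⟨k, b', rfl⟩ := List.mem_map.1 b
      have := (m k b').2.2.2
      rw [f, ((Z2 c).1 d).2] at this; omega
  obtain ⟨t, rfl, c⟩ := exists_P_fix h hσ (fun a b c d => o a ((l a).1 b) c ((l c).1 d)) n (fun a b => p a ((l a).1 b))
    (fun a b => (l _).2 (s a ((l a).1 b))) (Ux_mono (fun a b => (l a).2 b) hu) e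
  have pm : S.P (M.map (w • ·) ++ Z) t ∈ S.Ux (W \ {r}) :=
    P_mem (fun k a => And.intro ((l k).1 (List.mem_cons_of_mem _ a)) (by rintro rfl; exact (List.nodup_cons.1 n).1 a)) t
  by_cases t0 : t r = 0
  · exact Or.inl (by simpa only [P_cons, t0, x_zero, one_mul] using pm)
  have ra : ∀ {a b k}, Φ.rv a = Φ.rv b + Φ.rv k → Φ.rv (T.ρ.ρ a) = Φ.rv (T.ρ.ρ b) + Φ.rv (T.ρ.ρ k) := fun z => funext fun i => by
    obtain ⟨i, rfl⟩ := T.ρ.ρI.surjective i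
    simp [hρ, z]
  have sM : ∀ k ∈ M, T.ρ.ρ k ∈ M := fun k a => (M2 _).2 ⟨_, s _ (m k a).2.1, r2 ▸ ra (m k a).2.2.1⟩
  have g1 := P_mem_X h hσ hX (L := M) (t := fun k => t (w • k) / t r) (fun a b c d => by
    have := o _ (m a b).2.1 _ (m c d).2.1; rwa [RS.pair_smul] at this) M1 sM fun k a => by
    rw [show w • T.ρ.ρ k = T.ρ.ρ (w • k) from Φ.rv_inj (by rw [(m _ (sM k a)).2.2.1, ra (m k a).2.2.1, r2]), c _ ((l _).2 (m k a).2.1), map_div₀,
      ← c r (by simp), r2]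
  have key : ∀ N ⊆ M, ∀ v ∈ S.Ux (W \ {r}), ∃ z ∈ S.Ux {k ∈ W | Φ.pair r k = 0}, S.P N (fun k => t (w • k) / t r) * (S.x r (t r) * v) *
      (S.P N fun k => t (w • k) / t r)⁻¹ = S.x r (t r) * v * S.P (N.map (w • ·)) t * z := by
    intro N
    induction N with
    | nil => exact fun _ v _ => ⟨1, one_mem _, by simp⟩
    | cons k N ih =>
      intro a v b
      obtain ⟨z, z1, z2⟩ := ih (List.subset_of_cons_subset a) v b
      obtain ⟨k1, k2, k3, k4⟩ := m k (a List.mem_cons_self)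
      have b1 : ∀ j ∈ N, w • j ∈ W \ {r} := fun j y => ⟨(m j (a (by simp [y]))).2.1, fun x => by
        have := (m j (a (by simp [y]))).2.2.2; rw [x, RS.pair_same] at this; omega⟩
      have b2 : v * S.P (N.map (w • ·)) t * z ∈ S.Ux (W \ {r}) := mul_mem (mul_mem b (P_mem (List.forall_mem_map.2 b1) _))
        (Ux_mono (fun j y => And.intro y.1 (by rintro rfl; have := y.2; rw [RS.pair_same] at this; omega)) z1)
      have b3 : ∀ y ∈ S.Ux (W \ {r}), ∃ z ∈ S.Ux {k ∈ W | Φ.pair r k = 0}, S.x k (t (w • k) / t r) * y * (S.x k (t (w • k) / t r))⁻¹ = y * z := by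
        intro y hy
        refine Ux_induction (p := fun y => ∃ z ∈ _, _ * y * _ = y * z) ⟨1, one_mem _, by simp⟩ (fun j j1 u y _ ⟨z, z1, z2⟩ => ⟨_, mul_mem z1
          (comm_mem (r := k) (s := j) ?_ (fun a a1 => ?_) (t (w • k) / t r) (-u)), ?_⟩) hy
        · rintro rfl
          have := o _ k2 _ j1.1
          rw [h.symm, RS.pair_sum k3, RS.pair_neg_left, RS.pair_neg_left, RS.pair_same, h.symm, k1] at this
          omega
        · have a2 := (h.comb a1 (by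
            rintro rfl
            have := o _ k2 _ j1.1
            rw [h.symm, RS.pair_sum k3, RS.pair_neg_left, RS.pair_neg_left, RS.pair_same, h.symm, k1] at this
            omega)).2
          have a3 := cl _ k2 k4 j j1.1 a (by rw [a2, k3]; abel)
          have := o r r1 a a3
          have := h.le_one (r := r) (s := j) (Ne.symm j1.2)
          have := RS.pair_sum a2 r
          exact ⟨a3, by omega⟩
        · rw [← conj_mul, z2, mul_assoc y (S.x j u), ← mul_assoc (S.x j u), (ab_comm h o (x_mem j1.1 u) (Ux_mono (fun _ a => a.1) z1)).eq, ← x_inv,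
            commutatorElement_def]
          simp only [mul_assoc, inv_inv, mul_inv_cancel_left]
      obtain ⟨z', z3, z4⟩ := b3 _ b2
      refine ⟨z * z', mul_mem z1 z3, ?_⟩
      have b4 : S.x k (t (w • k) / t r) * S.x r (t r) * (S.x k (t (w • k) / t r))⁻¹ = S.x r (t r) * S.x (w • k) (t (w • k)) := by
        rw [lac_comm2 h k3, mul_div_cancel₀ _ t0, mul_assoc (S.x r _), (lac_commute h (by rw [RS.pair_sum k3, RS.pair_same, h.symm, k1]; omega) _ _).eq]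
        simp only [mul_assoc, mul_inv_cancel, mul_one]
      calc _ = S.x k (t (w • k) / t r) * (S.x r (t r) * (v * S.P (N.map (w • ·)) t * z)) * (S.x k (t (w • k) / t r))⁻¹ := by
            rw [P_cons, ← mul_assoc (S.x r _), ← mul_assoc (S.x r _), ← z2]; simp only [mul_assoc, mul_inv_rev]
        _ = _ := by
          rw [← conj_mul, z4, b4, List.map_cons, P_cons, mul_assoc (S.x r _) v, ← mul_assoc v,
            (ab_comm h o (Ux_mono Set.sdiff_subset b) (x_mem k2 _)).eq]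
          simp only [mul_assoc]
  obtain ⟨z, z1, z2⟩ := key M (List.Subset.refl _) _ pm
  refine Or.inr ⟨_, ?_, _, g1, z2⟩
  have a1 : S.P (M.map (w • ·)) t ∈ S.Ux W := P_mem (List.forall_mem_map.2 fun k a => (m k a).2.1) t
  have a2 : S.P Z t ∈ S.Ux {k ∈ W | Φ.pair r k = 0} := P_mem (fun k a => (Z2 k).1 a) t
  have a3 : {k ∈ W | Φ.pair r k = 0} ⊆ {k ∈ W | k = r ∨ Φ.pair r k = 0} := fun _ a => ⟨a.1, Or.inr a.2⟩
  rw [P_append, (ab_comm h o a1 (Ux_mono (fun _ a => a.1) a2)).eq, mul_assoc (S.x r _), mul_assoc (S.P Z t), ab_sq h o a1, mul_one, mul_assoc]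
  exact mul_mem (x_mem (by exact ⟨r1, Or.inl rfl⟩) _) (Ux_mono a3 (mul_mem a2 z1))

end St
end Cfsg.Agent.Chev
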