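import Cfsg.Agent.Lib.Chev.Inv4

set_option autoImplicit false
set_option linter.unusedSectionVars false

/-! Certificates for the classes of involutions of twisted groups. -/

namespace Cfsg.Agent.Chev
open Cfsg.Lie Checked

/-- trivial, or conjugate to a member of the list -/
def Gd {G : Type*} [Group G] (X : Subgroup G) (Y : List G) (u : G) : Prop := u = 1 ∨ ∃ y ∈ Y, Cj X u y

theorem Gd.of {G : Type*} [Group G] {X : Subgroup G} {Y : List G} {u v : G} (h : Gd X Y v) (e : Cj X u v) : Gd X Y u :=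
  h.imp (fun a => by obtain ⟨k, -, e⟩ := e; simpa [a, mul_inv_eq_one] using e) fun ⟨y, a, b⟩ => ⟨y, a, e.trans b⟩

theorem invReps_of {Γ G : Type*} [Group Γ] [Group G] {ι : Γ →* G} (hι : Function.Injective ι) {Y : List Γ} (h1 : ∀ y ∈ Y, orderOf (ι y) = 2)
    (h2 : ∀ u ∈ ι.range, u * u = 1 → Gd ι.range (Y.map ι) u) (h3 : Y.Pairwise fun a b => ¬ IsConj a b) : InvReps Y := by
  refine ⟨fun y a => (orderOf_injective ι hι y).symm.trans (h1 y a), fun g a => ?_, h3⟩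
  obtain b | ⟨_, b, _, ⟨k, rfl⟩, e⟩ := h2 _ ⟨g, rfl⟩ (by rw [← map_mul, ← sq, ← a, pow_orderOf_eq_one, map_one])
  · simp [hι (b.trans (map_one ι).symm)] at a
  · obtain ⟨y, b', rfl⟩ := List.mem_map.1 b
    exact ⟨y, b', isConj_iff.2 ⟨k, hι (by simpa using e)⟩⟩

theorem ncard_of {Γ G : Type*} [Group Γ] [Group G] {ι : Γ →* G} (hι : Function.Injective ι) {Y : List G} (h1 : ∀ y ∈ Y, y ∈ ι.range ∧ orderOf y = 2)
    (h2 : ∀ u ∈ ι.range, u * u = 1 → Gd ι.range Y u) (h3 : Y.Pairwise fun a b => ¬ IsConj a b) :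
    (ConjClasses.mk '' {g : Γ | orderOf g = 2}).ncard = Y.length := by
  obtain ⟨Y, rfl⟩ : ∃ Y' : List Γ, Y'.map ι = Y := by
    clear h2 h3
    induction Y with
    | nil => exact ⟨[], rfl⟩
    | cons y Y ih =>
      obtain ⟨⟨⟨y, rfl⟩, -⟩, a⟩ := List.forall_mem_cons.1 h1
      obtain ⟨Y, rfl⟩ := ih a
      exact ⟨y :: Y, rfl⟩
  rw [List.length_map]
  exact (invReps_of hι (fun y a => (h1 _ (List.mem_map_of_mem a)).2) h2 ((List.pairwise_map.1 h3).imp fun a b => a (ι.map_isConj b))).ncard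

variable {I R : Type} [Fintype I] [DecidableEq I] [Fintype R] [DecidableEq R]

namespace RS
variable (Φ : RS I R)

theorem par_smul (w : Φ.W) {a b : R} (h : ∀ i, Even (Φ.A i a + Φ.A i b)) :
    (∀ i, Even (Φ.A i (w • a) + Φ.A i (w • b))) ∧ ∀ i, Even (Φ.rv (w • a) i + Φ.rv (w • b) i - Φ.rv a i - Φ.rv b i) := by
  induction w using W_induction with
  | h1 => simpa using h
  | h2 j w ih =>
    simp only [mul_smul, s_smul, A_rf, Φ.rv_rf]
    refine ⟨fun i => ?_, fun i => ?_⟩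
    · obtain ⟨x, hx⟩ := ih.1 i
      obtain ⟨y, hy⟩ := ih.1 j
      exact ⟨x - y * Φ.A i (Φ.sim j), by linear_combination hx - Φ.A i (Φ.sim j) * hy⟩
    · by_cases e : i = j
      · subst e
        obtain ⟨x, hx⟩ := ih.2 i
        obtain ⟨y, hy⟩ := ih.1 i
        exact ⟨x - y, by simp only [Pi.sub_apply, Pi.single_eq_same]; linear_combination hx - hy⟩
      · simpa [e] using ih.2 i

/-- all orthogonal systems have the given sum -/
def sumOrt : ℕ → List R → (I → ℤ) → Bool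
  | 0, _, v => ∀ i, v i = 0
  | n + 1, A, v => A.all fun x => sumOrt n (A.filter fun y => Φ.fp x y = 0) (v - Φ.rv x)

variable {Φ} in
theorem sumOrt_spec {M : List R} (o : M.Pairwise fun a b => Φ.fp a b = 0) {A : List R} (a : ∀ r ∈ M, r ∈ A) {v : I → ℤ}
    (e : Φ.sumOrt M.length A v = true) : (M.map Φ.rv).sum = v := by
  induction M generalizing A v with
  | nil => exact funext fun i => by simp_all [sumOrt]
  | cons r M ih =>
    obtain ⟨o1, o2⟩ := List.pairwise_cons.1 o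
    simp [ih o2 (fun k b => by simp [a k (by simp [b]), o1 k b]) (List.all_eq_true.1 e r (a r (by simp)))]

variable (ρ : R → R) (ρI : I → I)

/-- the class of the product determines a stable parabolic subgroup -/
def ChkR (L A : List R) (g : I → ℤ) (m : ℤ) (W : List R) : Prop :=
  (L.Pairwise fun a b => Φ.fp a b = 0) ∧ (∀ r ∈ L, Φ.Pos r ∧ ρ r ∈ L ∧ m ≤ Φ.fn g r) ∧ (∀ a ∈ L, ∀ b ∈ L, (∀ i, Φ.rv a i ≤ Φ.rv b i) → b = a) ∧
  (∀ i, 0 ≤ g i ∧ g (ρI i) = g i) ∧ 0 < m ∧ Φ.sumOrt L.length A (L.map Φ.rv).sum = true ∧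
  ∀ r, ((∃ k ∈ L, ∀ i, Φ.rv k i ≤ Φ.rv r i) → r ∈ A) ∧ (m ≤ Φ.fn g r → r ∈ W) ∧ (L.map (Φ.fp r)).sum = Φ.fn g r

instance instDecChkR (L A : List R) (g : I → ℤ) (m : ℤ) (W : List R) : Decidable (Φ.ChkR ρ ρI L A g m W) := by unfold ChkR; infer_instance

/-- words for fixed elements of the Weyl group -/
def ChkW (Kn : List (List R)) (C : List (List R × List I × List R)) : Prop :=
  ∀ c ∈ C, (∀ r, ρ (wp Φ.s c.2.1 • r) = wp Φ.s c.2.1 • ρ r) ∧ (c.1.map (wp Φ.s c.2.1 • ·)).Perm c.2.2 ∧ c.2.2 ∈ Kn ∧ ∀ r ∈ c.2.2, Φ.Pos r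

instance instDecChkW (Kn : List (List R)) (C : List (List R × List I × List R)) : Decidable (Φ.ChkW ρ Kn C) := by unfold ChkW; infer_instance

/-- a reduction tree -/
def chk (C Sp : List (List R)) (Fg : List R) : ℕ → List R → Bool
  | 0, _ => false
  | n + 1, W => decide (W ∈ Sp) || decide (W.Nodup ∧ ∀ r ∈ W, Φ.Pos r ∧ ρ r ∈ W) &&
    (decide ((W.Pairwise fun a b => Φ.fp a b = 0) ∧ ∀ O ∈ W.sublists, (∀ r ∈ O, ρ r ∈ O) → O = [] ∨ O ∈ C) ||
      decide (∀ a ∈ W, ∀ b ∈ W, 0 ≤ Φ.fp a b) && chk C Sp Fg n (W.filter fun r => r ∉ Fg ∨ ∀ k ∈ W, Φ.fp r k ≠ 1) &&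
      W.all fun r => decide (r ∉ Fg ∨ ∀ k ∈ W, Φ.fp r k ≠ 1) || decide (ρ r = r ∧ ∀ a ∈ W, Φ.fp r a = 1 → ∀ b ∈ W, Φ.fp a b < Φ.fp r b →
        ∃ m ∈ W, ∀ i, Φ.rv m i + Φ.rv r i = Φ.rv a i + Φ.rv b i) && chk C Sp Fg n (W.filter fun k => k = r ∨ Φ.fp r k = 0))

end RS

namespace St
variable {Φ : CD I R} {F : Type*} [Field F] {G : Type*} [Group G] {S : St Φ F G} [CharP F 2] [Finite F] (h : Φ.Lac)
include h

theorem inv_cover (hm : S.HMul) (hG : S.Gx = ⊤) {Q L : List R} {s₀ : R} {C} (h1 : Φ.ChkA Q s₀ C) (h3 : Φ.ChkC (s₀ :: Q) L)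
    (h4 : S.P (L ++ s₀ :: Q) 1 = S.P (Q ++ L) 1) (h5 : [] ∈ C.map (·.1)) {g : G} (a : g * g = 1) : ∃ L ∈ C.map (·.1), IsConj g (S.P L 1) := by
  simp only [RS.ChkA, RS.ChkC, h.fp_eq] at h1 h3
  obtain ⟨M, b, c⟩ := lac_invol h hm hG a
  obtain ⟨L', d, e⟩ := lac_classify (S := S) h (T := C.map (·.1)) (List.forall_mem_map.2 fun c z => ⟨c.2.1, (h1 c z).1, fun s f i => by
    obtain ⟨-, j1, j2, j3⟩ := h1 c z
    refine (j1 s f i).imp (fun j => ?_) fun j => ?_ <;> obtain ⟨d, j', rfl⟩ := List.mem_map.1 j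
    · exact ⟨_, (j2 d j').1, _, (j2 d j').2⟩
    · exact fus_of h (g := S.P L 1) (fun k z => Commute.list_prod_left _ _ (List.forall_mem_map.2 fun p y => lac_commute h (h3 k z p y).ge _ _))
        (by rw [← P_append, h4, P_append, mul_inv_cancel_right]) (j3 d j')⟩) M [] h5 b
  exact ⟨L', d, c.trans e⟩

theorem inv_sep (hG : S.Gx = ⊤) {δ : R} {T} (h2 : Φ.ChkB δ T) :
    (∀ y ∈ T.map fun p => S.P p.1 1, orderOf y = 2) ∧ (T.map fun p => S.P p.1 1).Pairwise fun a b => ¬ IsConj a b := by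
  simp only [RS.ChkB, h.fp_eq] at h2
  have nd : ∀ p ∈ T, p.1.Nodup := fun p a => (h2.1 p a).2.1.imp fun b => by rintro rfl; simp [RS.pair_same] at b
  refine ⟨List.forall_mem_map.2 fun p a => ?_, List.pairwise_map.2 (h2.2.imp_of_mem fun {p p'} a a' b c => ?_)⟩
  · obtain ⟨b, c, d, -⟩ := h2.1 p a
    haveI : Std.Symm fun a b => Φ.pair a b = 0 := ⟨fun _ _ z => (h.symm _ _).trans z⟩
    refine orderOf_eq_prime ((sq _).trans (ab_sq h (A := {r | r ∈ p.1}) (fun a b c' d => ?_) (P_mem (fun _ => id) _))) fun e => ?_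
    · by_cases z : a = c'
      · simp [z, RS.pair_same]
      · exact (c.forall b d z).ge
    · obtain ⟨r, f⟩ := List.exists_mem_of_ne_nil _ b
      simpa using P_inj RS.unip_pos (nd p a) d (e.trans (P_zero (t := 0) (by simp)).symm) r f
  · obtain ⟨w, e⟩ := above_of_conj hG (h2.1 p' a').2.2.1 ⟨nd p' a', (h2.1 p' a').2.2.2.1⟩ (h2.1 p a).2.2.1 c.symm
    replace e := fun r z => (h2.1 p a).2.2.2.2 _ (e r z)
    rcases b with b | b
    · obtain ⟨r, d, f⟩ := b.2 (w⁻¹ • δ)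
      have := b.1 _ (e r d)
      rw [← RS.pair_smul w, smul_inv_smul] at f
      omega
    · exact RS.noOrt_spec (M := p'.1.map (w • ·)) (List.pairwise_map.2 ((h2.1 p' a').2.1.imp fun z => by rwa [h.fp_eq, RS.pair_smul]))
        (List.forall_mem_map.2 e) (by simpa using b)

variable {T : S.Tw} {f : F →+* F} (hσ : ∀ r t, T.σ (S.x r t) = S.x (T.ρ.ρ r) (f t)) {K : Type} {o : T.ρ.Orb K} {X : Subgroup G} (hX : T.Sub o X) {Y : List G}
include hσ hX

theorem gd_red (hG : S.Gx = ⊤) {L A W : List R} {g : I → ℤ} {m : ℤ} (c : Φ.ChkR T.ρ.ρ T.ρ.ρI L A g m W)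
    (hW : ∀ u ∈ S.Ux {r | r ∈ W}, T.σ u = u → Gd X Y u) : S.P L 1 ∈ X ∧ ∀ u ∈ X, IsConj u (S.P L 1) → Gd X Y u := by
  obtain ⟨c1, c2, c3, c4, c5, c6, c7⟩ := c
  simp only [h.fp_eq] at c1 c7
  have n : L.Nodup := c1.imp fun b => by rintro rfl; simp [RS.pair_same] at b
  haveI : Std.Symm fun a b => Φ.pair a b = 0 := ⟨fun _ _ z => (h.symm _ _).trans z⟩
  have a := P_mem_X h hσ hX (L := L) (t := 1) (fun a b c' d => by
    by_cases z : a = c'
    · simp [z, RS.pair_same]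
    · exact (c1.forall b d z).ge) n (fun r z => (c2 r z).2.1) (by simp)
  refine ⟨a, fun u b e => ?_⟩
  have pl : ∀ k (M : List R), Φ.pl k (M.map Φ.rv).sum = (M.map (Φ.pair k)).sum := fun k M => by
    simp [map_list_sum, Function.comp_def, RS.pl_rv]
  have z1 : {r | Φ.Pos r ∨ Φ.InJ {i | g i = 0} r} ⊆ {r | 0 ≤ Φ.fn g r} := by
    rintro r (z | z)
    · exact Finset.sum_nonneg fun i _ => mul_nonneg (c4 i).1 (z i)
    · refine Finset.sum_nonneg (f := fun i => g i * Φ.rv r i) fun i _ => ?_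
      by_cases y : g i = 0
      · simp [y]
      · simp [z i y]
  have z2 : ∀ w : Φ.W, (∀ r ∈ L, ∃ k ∈ L, ∀ i, Φ.rv k i ≤ Φ.rv (w • r) i) → w ∈ Φ.WJ {i | g i = 0} := fun w z => RS.mem_WJ_of_pos fun k k1 k2 => by
    have s := RS.sumOrt_spec (M := L.map (w • ·)) (List.pairwise_map.2 (c1.imp fun z => by rwa [h.fp_eq, RS.pair_smul]))
      (List.forall_mem_map.2 fun r y => (c7 _).1 (z r y)) (by simpa using c6)
    have e1 : Φ.fn g (w • k) = Φ.fn g k := by
      rw [← (c7 _).2.2, ← (c7 _).2.2, ← pl, ← s, pl]; simp [Function.comp_def, RS.pair_smul]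
    obtain ⟨i, i1, i2⟩ : ∃ i, g i ≠ 0 ∧ Φ.rv k i ≠ 0 := by simpa [RS.InJ] using k2
    have e2 : 0 < Φ.fn g k := Finset.sum_pos' (fun i _ => mul_nonneg (c4 i).1 (k1 i)) ⟨i, Finset.mem_univ _, mul_pos ((c4 i).1.lt_of_ne' i1) ((k1 i).lt_of_ne' i2)⟩
    by_contra y
    have : Φ.fn g (w • k) ≤ 0 := Finset.sum_nonpos fun i _ => mul_nonpos_of_nonneg_of_nonpos (c4 i).1 (RS.not_pos_iff.1 y i)
    omega
  obtain ⟨_, v1, k, k1, rfl⟩ := hX.reduce hG (J := {i | g i = 0}) (fun i => by simp [(c4 i).2]) (W := S.Ux {r | m ≤ Φ.fn g r}) (fun p z v y => conj_Ux_fn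
    (sup_le_sup_right (Ux_mono z1) _ (PJ_eq (S := S) _ ▸ z)) c5 y) (P_mem (fun r z => (c2 r z).2.2) 1) (hX.fix _ a)
    (fun k => cent_le_PJ hG (fun r z => (c2 r z).1) ⟨n, c3⟩ z2) b e
  exact (hW _ (Ux_mono (fun r z => (c7 r).2.1 z) v1) (hX.fix _ (mul_mem (mul_mem k1 b) (inv_mem k1)))).of ⟨k, k1, rfl⟩

theorem gd_chk (hρ : ∀ r i, Φ.rv (T.ρ.ρ r) (T.ρ.ρI i) = Φ.rv r i) {Kn : List (List R)} (hK : ∀ L ∈ Kn, Gd X Y (S.P L 1)) {C} (hC : Φ.ChkW T.ρ.ρ Kn C)
    {Sp : List (List R)} (hS : ∀ W ∈ Sp, ∀ u ∈ S.Ux {r | r ∈ W}, T.σ u = u → Gd X Y u) {Fg : List R} (n : ℕ) (W : List R)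
    (e : Φ.chk T.ρ.ρ (C.map (·.1)) Sp Fg n W = true) : ∀ u ∈ S.Ux {r | r ∈ W}, T.σ u = u → Gd X Y u := by
  induction n generalizing W with
  | zero => simp [RS.chk] at e
  | succ n ih =>
    simp only [RS.chk, Bool.or_eq_true, Bool.and_eq_true, decide_eq_true_eq, List.all_eq_true, h.fp_eq] at e
    obtain e | ⟨⟨a1, a2⟩, ⟨b1, b2⟩ | ⟨⟨b1, b2⟩, b3⟩⟩ := e
    · exact hS W e
    · intro u c d
      classical
      haveI : Std.Symm fun a b => Φ.pair a b = 0 := ⟨fun _ _ z => (h.symm _ _).trans z⟩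
      obtain ⟨t, rfl, t1⟩ := exists_P_fix h hσ (fun a b c' d => by
        by_cases z : a = c'
        · simp [z, RS.pair_same]
        · exact (b1.forall b d z).ge) a1 (fun r z => (a2 r z).1) (fun r z => (a2 r z).2) c d
      have p : S.P W t = S.P (W.filter (t · ≠ 0)) t := by
        rw [P_perm h b1 (List.filter_append_perm (t · ≠ 0) W).symm, P_append, P_zero (L := W.filter fun r => !_) (by simp), mul_one]
      have s : ∀ r ∈ W.filter (t · ≠ 0), T.ρ.ρ r ∈ W.filter (t · ≠ 0) := fun r z => by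
        simp only [List.mem_filter, decide_eq_true_eq] at z ⊢
        exact ⟨(a2 r z.1).2, by rw [t1 r z.1]; simpa using z.2⟩
      obtain j | j := b2 _ (List.mem_sublists.2 List.filter_sublist) s
      · exact Or.inl (by rw [p, j]; rfl)
      obtain ⟨q, j, j'⟩ := List.mem_map.1 j
      obtain ⟨q1, q2, q3, q4⟩ := hC q j
      exact (hK _ q3).of (p ▸ smul_X h hσ hX (b1.sublist List.filter_sublist) s (fun r z => t1 r (List.mem_of_mem_filter z)) (by simp)
        (RS.Sym.mem_W1_iff.2 q1) (j' ▸ q2) q4)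
    · intro u c d
      by_contra z
      refine z (ih _ b2 u ?_ d)
      suffices ∀ N ⊆ W, u ∈ S.Ux {r | r ∈ W ∧ (r ∈ N → r ∉ Fg ∨ ∀ k ∈ W, Φ.pair r k ≠ 1)} from
        Ux_mono (fun r y => by simpa [y.1] using y.2 y.1) (this W (List.Subset.refl _))
      intro N
      induction N with
      | nil => simpa using c
      | cons r N ih' =>
        intro y
        have y1 := ih' (List.subset_of_cons_subset y)
        obtain j | ⟨⟨j1, j2⟩, j3⟩ := b3 r (y List.mem_cons_self)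
        · exact Ux_mono (fun k x => And.intro x.1 fun x' => (List.mem_cons.1 x').elim (fun x'' => x'' ▸ j) x.2) y1
        obtain i | ⟨v, v1, k, k1, rfl⟩ := kill_X h hσ hX hρ b1 (fun r z => (a2 r z).1) (fun r z => (a2 r z).2) (y List.mem_cons_self) j1
          (fun a a' a'' b b' m x => by
            have x1 := congrArg (Φ.pl b) x
            simp only [map_add, RS.pl_rv, RS.pair_same] at x1
            have x2 := h.le_one (r := b) (s := m) (by
              rintro rfl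
              rw [Φ.rv_inj (add_left_cancel (x.trans (add_comm _ _))), RS.pair_same] at a''; omega)
            obtain ⟨m', x3, x4⟩ := j2 a a' a'' b b' (by rw [h.symm a, h.symm r]; omega)
            exact Φ.rv_inj (add_right_cancel (x.trans (funext x4).symm)) ▸ x3) c d
        · have := Subgroup.mem_inf.2 ⟨i, y1⟩
          rw [Ux_inf (f := 1) (ab_closed h fun a a' b b' => b1 a a'.1 b b'.1) (ab_closed h fun a a' b b' => b1 a a'.1 b b'.1)
            (fun r x => RS.unip_pos.pos r (a2 r (x.elim (·.1) (·.1))).1)] at this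
          exact Ux_mono (fun k x => And.intro x.1.1 fun x' => (List.mem_cons.1 x').elim (fun x'' => (x.1.2 x'').elim) x.2.2) this
        · exact (z ((ih _ j3 _ (Ux_mono (fun a x => by simp only [Set.mem_ofPred_eq, List.mem_filter, decide_eq_true_eq]; exact x) v1) (by
            rw [map_mul, map_mul, map_inv, hX.fix k k1, d])).of ⟨k, k1, rfl⟩)).elim

end St
end Cfsg.Agent.Chev
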