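import Cfsg.Agent.Lib.Chev.Inv5
import Cfsg.Agent.Lib.Chev.Fold2

set_option autoImplicit false
set_option linter.unusedSectionVars false
set_option maxRecDepth 100000

/-! The classes of involutions of `G₂(q)` and `³D₄(q)` in characteristic two. -/

namespace Cfsg.Agent.Chev
open Cfsg.Lie Checked Col

theorem eta_two {K : Type*} [Field K] [CharP K 2] (e r : ℕ) : ((etaP e r : ℤ) : K) = 1 := by
  rcases sg_cases (look e 1 r) with a | a <;> simp [etaP, a, CharTwo.neg_eq]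

section
variable {I R : Type} [Fintype I] [DecidableEq I] [Fintype R] [DecidableEq R] {Φ : CD I R} {F : Type*} [Field F] {G : Type*} [Group G] {S : St Φ F G}

theorem St.Tw.Sub.top {T : S.Tw} {K : Type} {o : T.ρ.Orb K} {X : Subgroup G} (hX : T.Sub o X) (hG : S.Gx = ⊤) : T.Sub o (T.σ.eqLocus (MonoidHom.id G)) :=
  ⟨hG ▸ le_top, fun _ a => a, fun _ _ _ a => a, fun k => let ⟨v, a, b⟩ := hX.VL k; ⟨v, hX.fix v a, b⟩⟩

/-- pairs of orthogonal roots in different orbits -/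
def RS.ChkP (Φ : RS I R) (a b c d : R) : Prop :=
  (∀ r ∈ [a, b], Φ.Pos r) ∧ (∀ r ∈ [c, d], Φ.Pos r) ∧ ([a, b].Nodup ∧ ∀ x ∈ [a, b], ∀ y ∈ [a, b], (∀ i, Φ.rv x i ≤ Φ.rv y i) → y = x) ∧ Φ.fp a b = 0 ∧
    (∀ i, Even (Φ.A i a + Φ.A i b)) ∧ ∀ x, (∃ k ∈ [c, d], ∀ i, Φ.rv k i ≤ Φ.rv x i) → ∀ y, (∃ k ∈ [c, d], ∀ i, Φ.rv k i ≤ Φ.rv y i) → Φ.fp x y = 0 →
      ¬ ∀ i, Even (Φ.rv x i + Φ.rv y i - Φ.rv a i - Φ.rv b i)

instance RS.instDecChkP (Φ : RS I R) (a b c d : R) : Decidable (Φ.ChkP a b c d) := by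
  unfold RS.ChkP
  refine @instDecidableAnd _ _ ?_ (@instDecidableAnd _ _ ?_ (@instDecidableAnd _ _ ?_ (@instDecidableAnd _ _ ?_ (@instDecidableAnd _ _ ?_ ?_)))) <;> infer_instance

theorem St.not_conj_par (h : Φ.Lac) (hG : S.Gx = ⊤) {a b c d : R} (e : Φ.ChkP a b c d) : ¬ IsConj (S.P [a, b] 1) (S.P [c, d] 1) := fun z => by
  obtain ⟨e1, e2, e3, e4, e5, e6⟩ := e
  obtain ⟨w, y⟩ := St.above_of_conj hG e1 e3 e2 z
  exact e6 _ (y a (by simp)) _ (y b (by simp)) (by rwa [h.fp_eq, RS.pair_smul, ← h.fp_eq]) (Φ.par_smul w e5).2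

/-- commuting positive roots, stable under the symmetry -/
def RS.Ab (Φ : RS I R) (ρ : R → R) (L : List R) : Prop := (∀ a ∈ L, ∀ b ∈ L, 0 ≤ Φ.fp a b) ∧ L.Nodup ∧ ∀ r ∈ L, ρ r ∈ L

instance RS.instDecAb (Φ : RS I R) (ρ : R → R) (L : List R) : Decidable (Φ.Ab ρ L) := by unfold RS.Ab; infer_instance

variable [CharP F 2] (h : Φ.Lac) {T : S.Tw} {f : F →+* F} (hσ : ∀ r t, T.σ (S.x r t) = S.x (T.ρ.ρ r) (f t))
include h hσ

theorem St.exists_fixP {L : List R} (a : Φ.Ab T.ρ.ρ L ∧ ∀ r ∈ L, Φ.Pos r) {u : G} (hu : u ∈ S.Ux {r | r ∈ L}) (e : T.σ u = u) :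
    ∃ t, u = S.P L t ∧ ∀ r ∈ L, t (T.ρ.ρ r) = f (t r) := St.exists_P_fix h hσ (h.fp_eq ▸ a.1.1) a.1.2.1 a.2 a.1.2.2 hu e

theorem St.memX {K : Type} {o : T.ρ.Orb K} {X : Subgroup G} (hX : T.Sub o X) {L : List R} (a : Φ.Ab T.ρ.ρ L) {t : R → F}
    (c : ∀ r ∈ L, t (T.ρ.ρ r) = f (t r)) : S.P L t ∈ X := St.P_mem_X h hσ hX (h.fp_eq ▸ a.1) a.2.1 a.2.2 c

end

def d4r (i : Fin 24) : Fin chevD4.nroots := i
theorem lac_D4 : checkedD4.toRS.Lac := ⟨good_D4, by decide +kernel⟩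
def cD4 : List (List (Fin chevD4.nroots) × List (Fin chevD4.nroots) × List (Fin chevD4.nroots × List (Fin chevD4.rank) × List (Fin chevD4.nroots)) ×
    List (Fin chevD4.nroots × List (Fin chevD4.rank) × List (Fin chevD4.nroots))) :=
  ([([], [12, 13, 14, 18], [(23, [], [23])], []), ([23], [12, 13, 18], [(12, [0, 1], [17, 20]), (13, [3, 1], [21, 17]), (18, [2, 1], [20, 21])], []),
    ([17, 20], [14, 21], [(14, [2, 0], [17, 20, 21]), (21, [], [17, 20, 21])], []), ([20, 21], [14, 17], [(14, [3, 2], [17, 20, 21]), (17, [], [17, 20, 21])], []),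
    ([21, 17], [14, 20], [(14, [3, 0], [17, 20, 21]), (20, [], [17, 20, 21])], []), ([17, 20, 21], [14], [], [(14, [1, 3, 2, 0], [])])] :
    List (List (Fin 24) × List (Fin 24) × List (Fin 24 × List (Fin 4) × List (Fin 24)) × List (Fin 24 × List (Fin 4) × List (Fin 24))))
def tD4 : List (List (Fin chevD4.nroots) × List (Fin chevD4.nroots)) := [([d4r 23], [d4r 23]), ([17, 20, 21].map d4r, [17, 20, 21, 22, 23].map d4r)]
def wD4 : List (List (Fin chevD4.nroots) × List (Fin chevD4.rank) × List (Fin chevD4.nroots)) :=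
  [([d4r 23], [], [d4r 23]), ([d4r 22], [d4n 1], [d4r 23]), ([17, 20, 21].map d4r, [], [17, 20, 21].map d4r)]

theorem gd_D4 {K : Type*} [Field K] [Finite K] [CharP K 2] {f : K →+* K} {σ : chevD4.group K →* chevD4.group K}
    {hσ : ∀ r t, σ ((checkedD4.adj K).x r t) = (checkedD4.adj K).x (symD4a.ρ r) (etaP egD4a r * f t)} {X : Subgroup (chevD4.group K)}
    (hX : (St.mkTw symD4a (fun r => etaP egD4a r) eta_gD4a f σ hσ).Sub orbD4 X) : (∀ y ∈ tD4.map fun p => (checkedD4.adj K).P p.1 1, y ∈ X) ∧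
    ∀ u ∈ X, u * u = 1 → Gd X (tD4.map fun p => (checkedD4.adj K).P p.1 1) u := by
  set S := checkedD4.adj K
  have h1 : ∀ r t, (St.mkTw symD4a (fun r => etaP egD4a r) eta_gD4a f σ hσ).σ (S.x r t) = S.x (symD4a.ρ r) (f t) := fun r t => by simpa [eta_two] using hσ r t
  have h2 := fun W n => St.gd_chk lac_D4 h1 hX (Y := tD4.map fun p => S.P p.1 1) (by dsimp only [St.mkTw]; decide +kernel) (Kn := tD4.map (·.1))
    (List.forall_mem_map.2 fun p a => Or.inr ⟨_, List.mem_map_of_mem a, Cj.refl _ _⟩) (C := wD4) (by dsimp only [St.mkTw]; decide +kernel) (Sp := []) (by simp) (Fg := [d4r 22]) n W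
  have h3 := St.gd_red lac_D4 h1 hX checkedD4.adj_Gx (L := [d4r 23]) (A := [d4r 23]) (g := fun i => [0, 1, 0, 0].getD i 0) (m := 2) (by dsimp only [St.mkTw]; decide +kernel)
    (h2 [d4r 23] 1 (by dsimp only [St.mkTw]; decide +kernel))
  have h4 := St.gd_red lac_D4 h1 hX checkedD4.adj_Gx (Y := tD4.map fun p => S.P p.1 1) (L := [17, 20, 21].map d4r) (A := [17, 20, 21, 22, 23].map d4r)
    (g := fun i => [1, 0, 1, 1].getD i 0) (m := 2) (W := [17, 20, 21, 22, 23].map d4r) (by dsimp only [St.mkTw]; decide +kernel) fun u a b => by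
    obtain ⟨t, rfl, c⟩ := St.exists_fixP lac_D4 h1 (by dsimp only [St.mkTw]; decide +kernel) a b
    simp only [List.map_cons, List.map_nil, List.forall_mem_cons] at c
    obtain ⟨c1, c2, c3, c4, c5, -⟩ : t (d4r 20) = _ ∧ t (d4r 21) = _ ∧ t (d4r 17) = _ ∧ t (d4r 22) = _ ∧ t (d4r 23) = _ ∧ _ := c
    by_cases z : t (d4r 17) = 0
    · exact h2 ([22, 23].map d4r) 2 (by dsimp only [St.mkTw]; decide +kernel) _ (by
        convert St.P_mem (S := S) (L := [22, 23].map d4r) (A := {r | r ∈ [22, 23].map d4r}) (fun _ => id) t using 1; simp [c2, c1, z]) b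
    have z1 : t (d4r 20) ≠ 0 := by simpa [c1]
    have z2 : t (d4r 21) ≠ 0 := by simpa [c2]
    have m : ∀ a b c s, [d4r 22, d4r 23].Mem s → checkedD4.toCD.Ab symD4a.ρ [a, b, c] ∧ symD4a.ρ a = b ∧ symD4a.ρ b = c ∧ symD4a.ρ c = a →
        S.x a (t s / t (d4r 17)) * (S.x b (t s / t (d4r 20)) * S.x c (t s / t (d4r 21))) ∈ X := fun a b c s y e => by
      have y : f (t s) = t s := by rcases y with _ | ⟨_, _ | ⟨_, ⟨⟩⟩⟩; exacts [c4.symm, c5.symm]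
      obtain ⟨⟨-, n, -⟩, -⟩ := id e
      simp only [List.nodup_cons, List.mem_cons, List.not_mem_nil, or_false, not_or] at n
      simpa [n, Ne.symm n.1.1, Ne.symm n.1.2, Ne.symm n.2.1] using St.memX lac_D4 h1 hX e.1 (t := fun r => t s / t (if r = a then d4r 17 else if r = b then d4r 20 else d4r 21))
        (by simp [e.2, n, Ne.symm n.1.1, Ne.symm n.1.2, Ne.symm n.2.1, y, ← c1, ← c2, ← c3])
    have e := checkedD4.wd_eq_of_same S.rel 2 [t (d4r 17), t (d4r 20), t (d4r 21), t (d4r 22), t (d4r 23), t (d4r 22) / t (d4r 17), t (d4r 22) / t (d4r 20),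
      t (d4r 22) / t (d4r 21), t (d4r 23) / t (d4r 17), t (d4r 23) / t (d4r 20), t (d4r 23) / t (d4r 21)] id 40
      [(19, [(1, [0, 0, 0, 0, 0, 0, 0, 0, 1])]), (16, [(1, [0, 0, 0, 0, 0, 0, 0, 0, 0, 1])]), (15, [(1, [0, 0, 0, 0, 0, 0, 0, 0, 0, 0, 1])]),
        (18, [(1, [0, 0, 0, 0, 0, 1])]), (13, [(1, [0, 0, 0, 0, 0, 0, 1])]), (12, [(1, [0, 0, 0, 0, 0, 0, 0, 1])]),
        (17, [(1, [1])]), (20, [(1, [0, 1])]), (21, [(1, [0, 0, 1])]), (22, [(1, [0, 0, 0, 1])]), (23, [(1, [0, 0, 0, 0, 1])])]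
      [(17, [(1, [1])]), (20, [(1, [0, 1])]), (21, [(1, [0, 0, 1])]),
        (22, [(1, [0, 0, 0, 1]), (1, [1, 0, 0, 0, 0, 1]), (1, [0, 1, 0, 0, 0, 0, 1]), (1, [0, 0, 1, 0, 0, 0, 0, 1])]),
        (23, [(1, [0, 0, 0, 0, 1]), (1, [1, 0, 0, 0, 0, 0, 0, 0, 1]), (1, [0, 1, 0, 0, 0, 0, 0, 0, 0, 1]), (1, [0, 0, 1, 0, 0, 0, 0, 0, 0, 0, 1])]),
        (19, [(1, [0, 0, 0, 0, 0, 0, 0, 0, 1])]), (16, [(1, [0, 0, 0, 0, 0, 0, 0, 0, 0, 1])]), (15, [(1, [0, 0, 0, 0, 0, 0, 0, 0, 0, 0, 1])]),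
        (18, [(1, [0, 0, 0, 0, 0, 1])]), (13, [(1, [0, 0, 0, 0, 0, 0, 1])]), (12, [(1, [0, 0, 0, 0, 0, 0, 0, 1])])] (by decide +kernel)
    simp [wd, ev, mpev, mev, mul_div_cancel₀, z, z1, z2, CharTwo.add_self_eq_zero, checkedD4.xN_zero S.rel] at e
    have k := mul_mem (m (d4r 19) (d4r 16) (d4r 15) _ (.tail _ (.head _)) (by decide +kernel)) (m (d4r 18) (d4r 13) (d4r 12) _ (.head _) (by decide +kernel))
    have j : Cj X (S.P ([17, 20, 21, 22, 23].map d4r) t) (S.P ([17, 20, 21].map d4r) t) := ⟨_, k, mul_inv_eq_iff_eq_mul.2 (by simp [mul_assoc]; exact e)⟩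
    obtain ⟨k, k1, k2⟩ := id j
    exact (h2 _ 1 (by dsimp only [St.mkTw]; decide +kernel) _ (St.P_mem (fun _ => id) t) (by rw [← k2, map_mul, map_mul, map_inv, hX.fix k k1, b])).of j
  refine ⟨List.forall_mem_cons.2 ⟨h3.1, List.forall_mem_singleton.2 h4.1⟩, fun u a b => ?_⟩
  obtain ⟨L, c, d⟩ := St.inv_cover lac_D4 checkedD4.hMul_adj checkedD4.adj_Gx (C := cD4) (Q := [18, 13, 12].map d4r) (L := [15, 13, 16, 19].map d4r) (s₀ := d4r 23)
    (by decide +kernel) (by decide +kernel) (Checked.P_eq _ _ _ (by decide +kernel)) List.mem_cons_self b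
  have n : ∀ x y x' y', symD4a.ρ x = x' ∧ symD4a.ρ y = y' ∧ checkedD4.toCD.ChkP x y x' y' → ¬ IsConj u (S.P [x, y] 1) := fun x y x' y' e z =>
    St.not_conj_par lac_D4 checkedD4.adj_Gx e.2.2 (z.symm.trans (by
      simpa [hX.fix u a, h1, e.1, e.2.1] using (St.mkTw symD4a (fun r => etaP egD4a r) eta_gD4a f σ hσ).σ.map_isConj z))
  obtain rfl | rfl | rfl | rfl | rfl | rfl : L = [] ∨ L = [d4r 23] ∨ L = [d4r 17, d4r 20] ∨ L = [d4r 20, d4r 21] ∨ L = [d4r 21, d4r 17] ∨ L = [17, 20, 21].map d4r := by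
    clear d; revert L; decide +kernel
  exacts [Or.inl (isConj_one_left.1 d), h3.2 u a d, (n _ _ (d4r 20) (d4r 21) (by decide +kernel) d).elim, (n _ _ (d4r 21) (d4r 17) (by decide +kernel) d).elim,
    (n _ _ (d4r 17) (d4r 20) (by decide +kernel) d).elim, h4.2 u a d]

theorem sep_D4 (K : Type*) [Field K] [Finite K] [CharP K 2] : (∀ y ∈ tD4.map fun p => (checkedD4.adj K).P p.1 1, orderOf y = 2) ∧
    (tD4.map fun p => (checkedD4.adj K).P p.1 1).Pairwise fun a b => ¬ IsConj a b :=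
  St.inv_sep lac_D4 checkedD4.adj_Gx (δ := d4r 23) (by decide +kernel)

end Cfsg.Agent.Chev
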