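import Cfsg.Agent.Lib.Chev.Inv6
import Cfsg.Agent.Lib.Chev.Inv3

set_option autoImplicit false
set_option linter.unusedSectionVars false
set_option maxRecDepth 100000

/-! Involutions fixed by a graph or graph-field automorphism of `E₆` in characteristic two. -/

namespace Cfsg.Agent.Chev
open Cfsg.Lie Checked Col

section
variable {I R : Type} [Fintype I] [DecidableEq I] [Fintype R] [DecidableEq R] {Φ : CD I R} {F : Type*} [Field F] {G : Type*} [Group G] {S : St Φ F G}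
  {T : S.Tw} {K : Type} {o : T.ρ.Orb K} {X : Subgroup G} (hX : T.Sub o X)
include hX

theorem St.gd_smul {Y : List G} {A : List R} (hA : ∀ u ∈ S.Ux {r | r ∈ A}, T.σ u = u → Gd X Y u) {B : List R} (ω : List I)
    (e : (∀ r, T.ρ.ρ (wp Φ.s ω • r) = wp Φ.s ω • T.ρ.ρ r) ∧ ∀ r ∈ B, wp Φ.s ω • r ∈ A) : ∀ u ∈ S.Ux {r | r ∈ B}, T.σ u = u → Gd X Y u := fun u a b => by
  obtain ⟨m, c, -, d⟩ := hX.exists_of_W1 (RS.Sym.mem_W1_iff.2 e.1)
  exact (hA _ (d.conj_mem e.2 a) (by rw [map_mul, map_mul, map_inv, hX.fix m c, b])).of ⟨m, c, rfl⟩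

omit hX in
theorem St.inf_ab (h : Φ.Lac) {A B C : List R} (e : ((∀ a ∈ A, ∀ b ∈ A, 0 ≤ Φ.fp a b) ∧ ∀ a ∈ B, ∀ b ∈ B, 0 ≤ Φ.fp a b) ∧
    (∀ r ∈ A ++ B, Φ.Pos r) ∧ ∀ r ∈ A, r ∈ B → r ∈ C) {u : G} (a : u ∈ S.Ux {r | r ∈ A}) (b : u ∈ S.Ux {r | r ∈ B}) : u ∈ S.Ux {r | r ∈ C} := by
  have := Subgroup.mem_inf.2 ⟨a, b⟩
  rw [h.fp_eq] at e
  rw [St.Ux_inf (f := 1) (St.ab_closed h (A := {r | r ∈ A}) e.1.1) (St.ab_closed h (A := {r | r ∈ B}) e.1.2)
    fun r z => RS.unip_pos.pos r (e.2.1 r (List.mem_append.2 z))] at this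
  exact St.Ux_mono (fun r z => e.2.2 r z.1 z.2) this

theorem St.mem2 [CharP F 2] (h : Φ.Lac) {f : F →+* F} (hσ : ∀ r t, T.σ (S.x r t) = S.x (T.ρ.ρ r) (f t)) (hf : ∀ t, f (f t) = t) (a b : R)
    (e : Φ.Ab T.ρ.ρ [a, b] ∧ T.ρ.ρ a = b ∧ T.ρ.ρ b = a) (c : F) : S.x a c * S.x b (f c) ∈ X := by
  have n : b ≠ a := by rintro rfl; simpa using e.1.2.1
  simpa [n] using St.memX h hσ hX e.1 (t := fun r => if r = a then c else f c) (by simp [e.2, n, hf])

end

section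
variable {D : ChevalleyDatum} {c : Cert} {h : Checked D c} {K : Type*} [Field K] [CharP K 2] {G : Type*} [Group G] {S : St h.toCD K G}

theorem mem_of_collect (v : List K) (n : ℕ) (w : Wd) (L : List (Fin D.nroots)) (e : ∃ W ∈ collect D 2 id n w, ∀ a ∈ W, a.1 ∈ L.map (·.1)) :
    wd S.x (ev v w) ∈ S.Ux {r | r ∈ L} := by
  have k : ∀ {A : Set (Fin D.nroots)} {L' : List (ℕ × K)}, (∀ r : Fin D.nroots, r.1 ∈ L'.map (·.1) → r ∈ A) → wd S.x L' ∈ S.Ux A := fun e => by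
    refine Subgroup.list_prod_mem _ fun g hg => ?_
    obtain ⟨r, a, rfl⟩ := List.mem_map.1 hg
    unfold xN
    split_ifs with b
    exacts [St.x_mem (e ⟨r.1, b⟩ (List.mem_map_of_mem a)) _, one_mem _]
  obtain ⟨W, a, b⟩ := e
  refine h.collect_spec S.rel 2 v _ _ _ (Option.mem_def.1 a) ▸ k fun r z => ?_
  simp only [ev, List.map_map, List.mem_map] at z
  obtain ⟨q, d, j⟩ := z
  obtain ⟨k, i, j'⟩ := List.mem_map.1 (b q d)
  exact Fin.ext (j'.trans j) ▸ i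

theorem cj_step (l : h.toCD.Lac) {T : S.Tw} {f : K →+* K} (hσ : ∀ r t, T.σ (S.x r t) = S.x (T.ρ.ρ r) (f t)) {n : Type} {o : T.ρ.Orb n} {X : Subgroup G}
    (hX : T.Sub o X) (M L L' : List (Fin D.nroots)) (e : h.toCD.Ab T.ρ.ρ M ∧
      same D 2 id 40 ((M ++ L).map fun r => (r.1, [(1, [])])) ((L' ++ M).map fun r => (r.1, [(1, [])])) = true) : Cj X (S.P L 1) (S.P L' 1) :=
  ⟨_, St.memX l hσ hX e.1 (t := 1) (by simp), by rw [← St.P_append, Checked.P_eq S _ _ e.2, St.P_append, mul_inv_cancel_right]⟩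

end

def e6r (i : Fin 72) : Fin chevE6.nroots := i
theorem lac6 : checkedE6.toRS.Lac := ⟨good_E6, fun r s => (lac_E6 r).trans (lac_E6 s).symm⟩
def wE6 : List (List (Fin chevE6.nroots) × List (Fin chevE6.rank) × List (Fin chevE6.nroots)) :=
  ([([66, 68], [], [68, 66]), ([60], [1, 3, 2, 4, 3, 1], [71]), ([71], [], [71]), ([60, 71], [3, 1], [65, 69]), ([63], [1, 3, 2, 4, 3], [71]), ([70], [1], [71]),
    ([63, 70], [3], [65, 69]), ([65], [1, 3, 2, 4], [71]), ([69], [1, 3], [71]), ([65, 69], [], [65, 69]), ([53], [1, 3, 2, 4, 0, 5], [71]),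
    ([53, 66, 68], [0, 5], [55, 65, 67]), ([53, 65], [0, 5, 2, 4], [65, 69]), ([53, 69], [0, 5], [65, 69]), ([53, 65, 69], [], [53, 65, 69]),
    ([55, 67], [0, 5], [68, 66]), ([55, 65, 67], [], [55, 65, 67]), ([54, 64], [0, 5, 2, 4], [68, 66]), ([54, 64, 69], [2, 4], [55, 65, 67])] :
    List (List (Fin 72) × List (Fin 6) × List (Fin 72)))
def kE6 : List (List (Fin chevE6.nroots)) := [[71], [68, 66], [55, 65, 67], [65, 69], [53, 65, 69]].map (List.map e6r)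

theorem chkW_E6 : checkedE6.toCD.ChkW symE6.ρ kE6 wE6 := by decide +kernel

section
variable {K : Type*} [Field K] [Finite K] [CharP K 2] {f : K →+* K} {σ : chevE6.group K →* chevE6.group K}
  {hσ : ∀ r t, σ ((checkedE6.adj K).x r t) = (checkedE6.adj K).x (symE6.ρ r) (etaP egE6 r * f t)} {X : Subgroup (chevE6.group K)}
  (hX : (St.mkTw symE6 (fun r => etaP egE6 r) eta_gE6 f σ hσ).Sub orbE6 X) {Y : List (chevE6.group K)}
include hX

omit hX in
theorem σ_E6 (r t) : (St.mkTw symE6 (fun r => etaP egE6 r) eta_gE6 f σ hσ).σ ((checkedE6.adj K).x r t) = (checkedE6.adj K).x (symE6.ρ r) (f t) := by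
  simpa [eta_two] using hσ r t

theorem chk_E6 (h1 : ∀ L ∈ kE6.take 4, Gd X Y ((checkedE6.adj K).P L 1)) {Sp} (hS : ∀ W ∈ Sp, ∀ u ∈ (checkedE6.adj K).Ux {r | r ∈ W}, σ u = u → Gd X Y u)
    (Fg W : List (Fin 72)) (n : ℕ) (e : checkedE6.toCD.chk symE6.ρ (wE6.map (·.1)) Sp (Fg.map e6r) n (W.map e6r) = true) :
    ∀ u ∈ (checkedE6.adj K).Ux {r | r ∈ W.map e6r}, σ u = u → Gd X Y u := by
  refine St.gd_chk lac6 σ_E6 hX (by dsimp only [St.mkTw]; decide +kernel) (fun L a => ?_) chkW_E6 hS n _ e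
  obtain a | rfl : L ∈ kE6.take 4 ∨ L = [53, 65, 69].map e6r := by revert L; decide +kernel
  · exact h1 L a
  exact (h1 ([55, 65, 67].map e6r) (by decide +kernel)).of
    (((cj_step lac6 σ_E6 hX ([14, 33].map e6r) _ ([55, 65, 67, 69].map e6r) (by dsimp only [St.mkTw]; decide +kernel)).trans
      (cj_step lac6 σ_E6 hX ([36, 56].map e6r) _ ([55, 65, 66, 67, 68, 69].map e6r) (by dsimp only [St.mkTw]; decide +kernel))).trans
      (cj_step lac6 σ_E6 hX ([37, 42].map e6r) _ _ (by dsimp only [St.mkTw]; decide +kernel)))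

variable (hf : ∀ t, f (f t) = t) (h1 : ∀ L ∈ kE6.take 4, Gd X Y ((checkedE6.adj K).P L 1))
  (h2 : ∀ u ∈ (checkedE6.adj K).Ux {r | r ∈ [66, 68, 70, 71].map e6r}, σ u = u → Gd X Y u)
include hf h1 h2

theorem gd_E6a : ∀ u ∈ (checkedE6.adj K).Ux {r | r ∈ [54, 55, 64, 66, 67, 68, 70, 71].map e6r}, σ u = u →
    u ∈ (checkedE6.adj K).Ux {r | r ∈ [55, 66, 67, 68, 70, 71].map e6r} ∨ Gd X Y u := fun u a b => by
  have h3 := chk_E6 hX h1 (Sp := [[54, 64, 70, 71].map e6r]) (List.forall_mem_singleton.2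
    (St.gd_smul hX h2 ([0, 5, 2, 4].map e6n) (by dsimp only [St.mkTw]; decide +kernel))) [69] [54, 64, 69, 70, 71] 3 (by decide +kernel)
  obtain ⟨t, rfl, c⟩ := St.exists_fixP lac6 (σ_E6 (hσ := hσ)) (by dsimp only [St.mkTw]; decide +kernel) a b
  have c1 : t (e6r 64) = f (t (e6r 54)) := c (e6r 54) (by decide +kernel)
  have c2 : t (e6r 67) = f (t (e6r 55)) := c (e6r 55) (by decide +kernel)
  have c3 : t (e6r 66) = f (t (e6r 68)) := c (e6r 68) (by decide +kernel)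
  by_cases z : t (e6r 54) = 0
  · refine Or.inl ?_
    have e : (checkedE6.adj K).P ([54, 55, 64, 66, 67, 68, 70, 71].map e6r) t = (checkedE6.adj K).P ([55, 66, 67, 68, 70, 71].map e6r) t := by
      simp only [List.map_cons, List.map_nil, St.P_cons, St.P_nil]
      rw [c1, z, map_zero, St.x_zero, St.x_zero, one_mul, one_mul]
    exact e ▸ St.P_mem (fun _ => id) t
  have k := mul_mem (St.mem2 hX lac6 σ_E6 hf (e6r 57) (e6r 38) (by dsimp only [St.mkTw]; decide +kernel) (t (e6r 68) / t (e6r 54)))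
    (St.mem2 hX lac6 σ_E6 hf (e6r 37) (e6r 42) (by dsimp only [St.mkTw]; decide +kernel) (t (e6r 55) / t (e6r 54)))
  refine Or.inr ((h3 _ ?_ (by rw [map_mul, map_mul, map_inv, show σ _ = _ from hX.fix _ k, b])).of ⟨_, k, rfl⟩)
  have e := mem_of_collect (S := checkedE6.adj K) [t (e6r 54), f (t (e6r 54)), t (e6r 55) / t (e6r 54), f (t (e6r 55) / t (e6r 54)), t (e6r 68) / t (e6r 54),
    f (t (e6r 68) / t (e6r 54)), t (e6r 70), t (e6r 71)] 60
    [(57, [(1, [0, 0, 0, 0, 1])]), (38, [(1, [0, 0, 0, 0, 0, 1])]), (37, [(1, [0, 0, 1])]), (42, [(1, [0, 0, 0, 1])]),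
      (54, [(1, [1])]), (55, [(1, [1, 0, 1])]), (64, [(1, [0, 1])]), (66, [(1, [0, 1, 0, 0, 0, 1])]), (67, [(1, [0, 1, 0, 1])]), (68, [(1, [1, 0, 0, 0, 1])]),
      (70, [(1, [0, 0, 0, 0, 0, 0, 1])]), (71, [(1, [0, 0, 0, 0, 0, 0, 0, 1])]),
      (42, [(1, [0, 0, 0, 1])]), (37, [(1, [0, 0, 1])]), (38, [(1, [0, 0, 0, 0, 0, 1])]), (57, [(1, [0, 0, 0, 0, 1])])] ([54, 64, 69, 70, 71].map e6r) (by decide +kernel)
  simp only [wd, ev, mpev, mev, List.map_cons, List.map_nil, List.sum_cons, List.sum_nil, List.prod_cons, List.prod_nil, pow_zero, pow_one, Int.cast_one,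
    one_mul, mul_one, add_zero, ← map_mul, mul_div_cancel₀ _ z] at e
  simp only [List.map_cons, List.map_nil, St.P_cons, St.P_nil, mul_inv_rev, St.x_inv, CharTwo.neg_eq, mul_assoc, mul_one, c1, c2, c3]
  exact e

theorem gd_E6b : ∀ u ∈ (checkedE6.adj K).Ux {r | r ∈ [54, 55, 64, 66, 67, 68, 70, 71].map e6r}, σ u = u → Gd X Y u := by
  have h5 := St.gd_smul hX (A := [54, 64, 66, 68, 70, 71].map e6r) (fun u a b => (gd_E6a hX hf h1 h2 u (St.Ux_mono (show ∀ r ∈ _, r ∈ _ by decide +kernel) a) b).elim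
    (fun c => h2 u (St.inf_ab lac6 ⟨by decide +kernel, by decide +kernel⟩ a c) b) id) (B := [55, 66, 67, 68, 70, 71].map e6r) ([2, 4].map e6n)
    (by dsimp only [St.mkTw]; decide +kernel)
  exact fun u a b => (gd_E6a hX hf h1 h2 u a b).elim (fun c => h5 u c b) id

theorem gd_E6 : ∀ u ∈ X, u * u = 1 → Gd X Y u := by
  intro u a b
  obtain ⟨L, c, d⟩ := St.inv_cover lac6 checkedE6.hMul_adj checkedE6.adj_Gx (C := cE6) (Q := qE6.1) (L := qE6.2.1) (s₀ := qE6.2.2.1)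
    (by decide +kernel) (by decide +kernel) (Checked.P_eq _ _ _ (by decide +kernel)) List.mem_cons_self b
  obtain rfl | rfl | rfl | rfl : L = [] ∨ L = [71].map e6r ∨ L = [68, 66].map e6r ∨ L = [55, 65, 67].map e6r := by
    clear d; revert L; decide +kernel
  · exact Or.inl (isConj_one_left.1 d)
  · exact (St.gd_red lac6 σ_E6 hX checkedE6.adj_Gx (A := [71].map e6r) (g := fun i => [0, 1, 0, 0, 0, 0].getD i 0) (m := 2)
      (by dsimp only [St.mkTw]; decide +kernel) (chk_E6 hX h1 (Sp := []) (by simp) [] [71] 1 (by decide +kernel))).2 u a d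
  · exact (St.gd_red lac6 σ_E6 hX checkedE6.adj_Gx (A := [66, 68, 69, 70, 71].map e6r) (g := fun i => [1, 0, 0, 0, 0, 1].getD i 0) (m := 2)
      (by dsimp only [St.mkTw]; decide +kernel) (chk_E6 hX h1 (Sp := []) (by simp) [60, 63, 65, 69, 70, 71] [60, 63, 65, 66, 68, 69, 70, 71] 2
        (by decide +kernel))).2 u a d
  · exact (St.gd_red lac6 σ_E6 hX checkedE6.adj_Gx (A := [55, 65, 66, 67, 68, 69, 70, 71].map e6r) (g := fun i => [0, 0, 0, 1, 0, 0].getD i 0) (m := 2)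
      (by dsimp only [St.mkTw]; decide +kernel) (chk_E6 hX h1 (Sp := [[54, 55, 64, 66, 67, 68, 70, 71].map e6r])
        (List.forall_mem_singleton.2 (gd_E6b hX hf h1 h2)) [53, 65, 69] [53, 54, 55, 64, 65, 66, 67, 68, 69, 70, 71] 3
        (by decide +kernel))).2 u a d

end
end Cfsg.Agent.Chev
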