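import Cfsg.Agent.Lib.Chev.Inv7
import Cfsg.Agent.Lib.Chev.TwF4

set_option autoImplicit false
set_option linter.unusedSectionVars false
set_option maxRecDepth 100000

/-! The classes of involutions of `F₄(q)` in characteristic two. -/

namespace Cfsg.Agent.Chev
open Cfsg.Lie Checked Col

theorem RS.closed_hi {I R : Type} [Fintype I] [DecidableEq I] [Fintype R] [DecidableEq R] {Φ : RS I R} {A : List R}
    (e : ∀ r ∈ A, Φ.Pos r ∧ ∀ s ∈ A, ∀ k, (∀ i, Φ.rv r i + Φ.rv s i ≤ Φ.rv k i) → k ∈ A) : Φ.Closed {r | r ∈ A} :=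
  fun r a s b k ⟨i, j, c, d, z⟩ => (e r a).2 s b k fun l => by
    have e1 := (e r a).1 l
    have e2 := (e s b).1 l
    simp only [z, Pi.add_apply, Pi.smul_apply, smul_eq_mul, Pi.zero_apply] at e1 e2 ⊢
    have : (1 : ℤ) ≤ i := by exact_mod_cast c
    have : (1 : ℤ) ≤ j := by exact_mod_cast d
    nlinarith

variable {K : Type*} [Field K] [CharP K 2]

theorem comm_F4 {G : Type*} [Group G] (S : St checkedF4.toCD K G) {k : Fin chevF4.nroots} (a : k ∈ [f4r 47, f4r 44]) (t : K) {u : G} (hu : u ∈ S.U) :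
    Commute u (S.x k t) := by
  refine Subgroup.mem_centralizer_singleton_iff.1 ((St.Ux_le (K := Subgroup.centralizer {S.x k t})).2 (fun r b s => Subgroup.mem_centralizer_singleton_iff.2 ?_) hu)
  simpa [wd, ev, mpev, mev, xN_fin] using checkedF4.wd_eq_of_same S.rel 2 [s, t] id 40 [(r.1, [(1, [1])]), (k.1, [(1, [0, 1])])] [(k.1, [(1, [0, 1])]), (r.1, [(1, [1])])]
    (by revert k r; simp only [Set.mem_ofPred_eq]; decide +kernel)

/-- representatives -/
noncomputable def yF4 {G : Type*} [Group G] (S : St checkedF4.toCD K G) : List G :=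
  [S.x (f4r 47) 1, S.x (f4r 44) 1, S.x (f4r 47) 1 * S.x (f4r 44) 1, S.x (f4r 39) 1 * S.x (f4r 45) 1]

theorem scale_F4 {G : Type*} [Group G] (S : St checkedF4.toCD K G) {s t : K} (a : s ≠ 0) (b : t ≠ 0) :
    IsConj (S.x (f4r 47) s * S.x (f4r 44) t) (S.x (f4r 47) 1 * S.x (f4r 44) 1) := by
  have e : ∀ i c s t, IsConj (S.x (f4r 47) s * S.x (f4r 44) t) (S.x (f4r 47) ((c ^ checkedF4.toCD.A i (f4r 47) : Kˣ) * s) *
      S.x (f4r 44) ((c ^ checkedF4.toCD.A i (f4r 44) : Kˣ) * t)) := fun i c s t =>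
    isConj_iff.2 ⟨S.h (checkedF4.toCD.sim i) c, by rw [← conj_mul, St.h_conj_x, St.h_conj_x, RS.pair_sim, RS.pair_sim]⟩
  obtain ⟨e1, e2, e3, e4⟩ : checkedF4.toCD.A (f4n 3) (f4r 47) = 1 ∧ checkedF4.toCD.A (f4n 0) (f4r 47) = 0 ∧ checkedF4.toCD.A (f4n 3) (f4r 44) = 0 ∧
    checkedF4.toCD.A (f4n 0) (f4r 44) = 1 := by decide +kernel
  simpa [e1, e2, e3, e4, a, b] using (e (f4n 3) (Units.mk0 s a)⁻¹ s t).trans (e (f4n 0) (Units.mk0 t b)⁻¹ _ _)

theorem sep_F4 : ¬ IsConj ((checkedF4.adj K).x (f4r 44) 1) ((checkedF4.adj K).x (f4r 47) 1 * (checkedF4.adj K).x (f4r 44) 1) := fun e => by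
  obtain ⟨g, e⟩ := isConj_iff.1 e.symm
  obtain ⟨w, a, -⟩ := St.conj_roots (S := checkedF4.adj K) checkedF4.adj_Gx (L := [f4r 47, f4r 44]) (by decide +kernel) (M := ∅) (T := {r | r ∈ [f4r 44]})
    (by simp [RS.Closed]) (by simp) (fun u a => ⟨1, one_mem _, by
      simpa using mul_inv_eq_iff_eq_mul.2 ((comm_F4 _ (k := f4r 47) (by simp) 1 a).mul_right (comm_F4 _ (k := f4r 44) (by simp) 1 a)).eq⟩)
    (RS.closed_hi (by decide +kernel)) (show ∀ r ∈ [f4r 44], _ by decide +kernel) (y := (checkedF4.adj K).x (f4r 44) 1) (g := g)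
    (fun u a => by rw [(comm_F4 _ (by simp) 1 a).eq, mul_inv_cancel_right]; exact St.x_mem (by simp) _) (by simpa using e)
  simp only [Set.mem_ofPred_eq, List.mem_singleton] at a
  exact absurd (MulAction.injective w ((a (f4r 47) (by simp)).trans (a (f4r 44) (by simp)).symm)) (by decide +kernel)

variable (K) in
theorem reps_F4 [Finite K] : InvReps (yF4 (checkedF4.adj K)) := by
  obtain ⟨σ, hσ⟩ := graph_E6 K
  obtain ⟨φ, h1, h2, h3⟩ := fix_E6 K hσ
  have hX := (ortE6.sub (T := St.mkTw symE6 (fun r => etaP egE6 r) eta_gE6 (RingHom.id K) σ hσ) fun _ => rfl).top checkedE6.adj_Gx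
  replace hX : (St.mkTw symE6 (fun r => etaP egE6 r) eta_gE6 (RingHom.id K) σ hσ).Sub orbE6 φ.range := h3 ▸ hX
  have p : ∀ s t, φ ((checkedF4.adj K).x (f4r 47) s * (checkedF4.adj K).x (f4r 44) t) =
      (checkedE6.adj K).x (e6r 71) s * ((checkedE6.adj K).x (e6r 66) t * (checkedE6.adj K).x (e6r 68) t) := fun s t => by
    simp only [map_mul, h1, show oF4 (f4r 47) = [(71, 1)] from rfl, show oF4 (f4r 44) = [(66, 1), (68, 1)] from rfl]
    simp [fy, wd]
    rfl
  have e : (yF4 (checkedF4.adj K)).map φ = [[71], [66, 68], [71, 66, 68], [54, 64, 69]].map fun L => (checkedE6.adj K).P (L.map e6r) 1 := by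
    simp only [yF4, List.map_cons, List.map_nil, map_mul, h1, show oF4 (f4r 47) = [(71, 1)] from rfl, show oF4 (f4r 44) = [(66, 1), (68, 1)] from rfl,
      show oF4 (f4r 39) = [(54, -1), (64, 1)] from rfl, show oF4 (f4r 45) = [(69, 1)] from rfl]
    simp [fy, wd, CharTwo.neg_eq, mul_assoc]
    exact ⟨rfl, rfl, rfl, rfl⟩
  have c := fun M L L' z => cj_step lac6 σ_E6 hX (List.map e6r M) (List.map e6r L) (List.map e6r L') z
  have c1 := c [] [68, 66] [66, 68] (by dsimp only [St.mkTw]; decide +kernel)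
  have c2 := ((c [29, 34] [54, 64, 69] [54, 64, 65, 66, 68, 69] (by dsimp only [St.mkTw]; decide +kernel)).trans
    (c [37, 42] _ [54, 55, 64, 65, 67] (by dsimp only [St.mkTw]; decide +kernel))).trans (c [29, 34] _ [55, 65, 67] (by dsimp only [St.mkTw]; decide +kernel))
  have c3 := ((c [29, 34] [65, 69] [66, 68, 69] (by dsimp only [St.mkTw]; decide +kernel)).trans
    (c [47] _ [66, 68, 69, 71] (by dsimp only [St.mkTw]; decide +kernel))).trans (c [24] _ [71, 66, 68] (by dsimp only [St.mkTw]; decide +kernel))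
  have k : ∀ L ∈ kE6.take 4, Gd φ.range ((yF4 (checkedF4.adj K)).map φ) ((checkedE6.adj K).P L 1) := fun L a => by
    obtain rfl | rfl | rfl | rfl : L = [71].map e6r ∨ L = [68, 66].map e6r ∨ L = [55, 65, 67].map e6r ∨ L = [65, 69].map e6r := by revert L; decide +kernel
    exacts [Or.inr ⟨_, e ▸ .head _, Cj.refl _ _⟩, Or.inr ⟨_, e ▸ .tail _ (.head _), c1⟩, Or.inr ⟨_, e ▸ .tail _ (.tail _ (.tail _ (.head _))), c2.symm⟩,
      Or.inr ⟨_, e ▸ .tail _ (.tail _ (.head _)), c3⟩]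
  have k1 : ∀ u ∈ (checkedE6.adj K).Ux {r | r ∈ [71, 66, 68].map e6r}, σ u = u → Gd φ.range ((yF4 (checkedF4.adj K)).map φ) u := fun u a b => by
    obtain ⟨t, rfl, d⟩ := St.exists_fixP lac6 (σ_E6 (f := RingHom.id K) (hσ := hσ)) (by dsimp only [St.mkTw]; decide +kernel) a b
    have d1 : t (e6r 68) = t (e6r 66) := d (e6r 66) (by decide +kernel)
    simp only [List.map_cons, List.map_nil, St.P_cons, St.P_nil, mul_one, d1] at b ⊢
    by_cases z : t (e6r 71) = 0
    · refine chk_E6 hX k (Sp := []) (by simp) [] [66, 68] 1 (by decide +kernel) _ ?_ b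
      rw [z, St.x_zero, one_mul]
      exact mul_mem (St.x_mem (by simp) _) (St.x_mem (by simp) _)
    by_cases z' : t (e6r 66) = 0
    · refine chk_E6 hX k (Sp := []) (by simp) [] [71] 1 (by decide +kernel) _ ?_ b
      rw [z', St.x_zero, St.x_zero, one_mul, mul_one]
      exact St.x_mem (by simp) _
    obtain ⟨g, j⟩ := isConj_iff.1 (scale_F4 (checkedF4.adj K) z z')
    exact Or.inr ⟨_, List.mem_map_of_mem (.tail _ (.tail _ (.head _))), _, ⟨g, rfl⟩, by rw [← p, ← map_inv, ← map_mul, ← map_mul, j]⟩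
  have k2 : ∀ u ∈ (checkedE6.adj K).Ux {r | r ∈ [66, 68, 70, 71].map e6r}, σ u = u → Gd φ.range ((yF4 (checkedF4.adj K)).map φ) u := fun u a b => by
    obtain ⟨t, rfl, -⟩ := St.exists_fixP lac6 (σ_E6 (f := RingHom.id K) (hσ := hσ)) (by dsimp only [St.mkTw]; decide +kernel) a b
    by_cases z : t (e6r 70) = 0
    · refine k1 _ ?_ b
      simp only [List.map_cons, List.map_nil, St.P_cons, St.P_nil, mul_one]
      rw [z, St.x_zero, one_mul]
      exact mul_mem (St.x_mem (by simp) _) (mul_mem (St.x_mem (by simp) _) (St.x_mem (by simp) _))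
    have m := St.memX lac6 σ_E6 hX (L := [e6r 46]) (by dsimp only [St.mkTw]; decide +kernel) (t := fun _ => t (e6r 71) / t (e6r 70)) (by simp)
    refine (St.gd_smul hX k1 (B := [66, 68, 70].map e6r) [e6n 1] (by dsimp only [St.mkTw]; decide +kernel) _ ?_
      (by rw [map_mul, map_mul, map_inv, hX.fix _ m]; erw [b])).of ⟨_, m, rfl⟩
    have e := mem_of_collect (S := checkedE6.adj K) [t (e6r 66), t (e6r 68), t (e6r 70), t (e6r 71) / t (e6r 70)] 60
      [(46, [(1, [0, 0, 0, 1])]), (66, [(1, [1])]), (68, [(1, [0, 1])]), (70, [(1, [0, 0, 1])]), (71, [(1, [0, 0, 1, 1])]), (46, [(1, [0, 0, 0, 1])])]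
      ([66, 68, 70].map e6r) (by decide +kernel)
    simp only [wd, ev, mpev, mev, List.map_cons, List.map_nil, List.sum_cons, List.sum_nil, List.prod_cons, List.prod_nil, pow_zero, pow_one, Int.cast_one,
      one_mul, mul_one, add_zero, mul_div_cancel₀ _ z] at e
    simp only [List.map_cons, List.map_nil, St.P_cons, St.P_nil, mul_inv_rev, St.x_inv, CharTwo.neg_eq, mul_assoc, mul_one]
    exact e
  obtain ⟨s1, s2⟩ := St.inv_sep (S := checkedE6.adj K) lac6 checkedE6.adj_Gx (δ := e6r 71) (T := tE6) (by decide +kernel)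
  have i : ∀ {a b}, Cj φ.range a b → IsConj a b := fun ⟨k, _, e⟩ => isConj_iff.2 ⟨k, e⟩
  have c4 : IsConj ((checkedE6.adj K).P ([68, 66].map e6r) 1) ((checkedE6.adj K).P ([71, 66, 68].map e6r) 1) :=
    isConj_iff.2 ⟨(checkedE6.adj K).P [e6r 50] 1, by
      rw [← St.P_append, Checked.P_eq _ _ ([71, 66, 68].map e6r ++ [e6r 50]) (by decide +kernel), St.P_append, mul_inv_cancel_right]⟩
  rw [show tE6.map _ = [(checkedE6.adj K).P ([71].map e6r) 1, (checkedE6.adj K).P ([68, 66].map e6r) 1, (checkedE6.adj K).P ([55, 65, 67].map e6r) 1] from rfl] at s1 s2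
  simp only [List.forall_mem_cons, List.pairwise_cons] at s1 s2
  obtain ⟨⟨n1, n2, -⟩, ⟨n3, -⟩, -⟩ := s2
  have o : ∀ {a b : chevE6.group K}, IsConj a b → orderOf a = 2 → orderOf b = 2 := fun a b => by
    obtain ⟨g, rfl⟩ := isConj_iff.1 a
    rwa [← MulAut.conj_apply, MulEquiv.orderOf_eq]
  refine invReps_of h2 (fun y a => ?_) (gd_E6 hX (fun _ => rfl) k k2) ?_
  · revert y
    rw [← List.forall_mem_map (P := fun y => orderOf y = 2), e]
    simp only [List.map_cons, List.map_nil, List.forall_mem_cons]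
    exact ⟨s1.1, o (i c1) s1.2.1, o c4 s1.2.1, o (i c2).symm s1.2.2.1, by simp⟩
  simp only [yF4, List.map_cons, List.map_nil, List.cons.injEq] at e
  obtain ⟨e1, e2, e3, e4, -⟩ := e
  simp only [yF4, List.forall_mem_cons, List.pairwise_cons]
  exact ⟨⟨fun a => n1 ((e1 ▸ e2 ▸ φ.map_isConj a).trans (i c1).symm), fun a => n1 ((e1 ▸ e3 ▸ φ.map_isConj a).trans c4.symm),
    fun a => n2 ((e1 ▸ e4 ▸ φ.map_isConj a).trans (i c2)), by simp⟩, ⟨sep_F4, fun a => n3 (((i c1).trans (e2 ▸ e4 ▸ φ.map_isConj a)).trans (i c2)), by simp⟩,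
    ⟨fun a => n3 ((c4.trans (e3 ▸ e4 ▸ φ.map_isConj a)).trans (i c2)), by simp⟩, by simp⟩

end Cfsg.Agent.Chev
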