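import Cfsg.Agent.Lib.Chev.Inv8
import Cfsg.Agent.Lib.Chev.Cl22

set_option autoImplicit false
set_option linter.unusedSectionVars false
set_option maxRecDepth 100000

/-! The classes of involutions of `²F₄(q)` and of the Tits group. -/

namespace Cfsg.Agent.Chev
open Cfsg.Lie Checked Col

theorem Cj.mem {G : Type*} [Group G] {X : Subgroup G} {a b : G} (h : Cj X a b) (e : a ∈ X) : b ∈ X :=
  let ⟨_, c, d⟩ := h; d ▸ mul_mem (mul_mem c e) (inv_mem c)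

theorem ncard_comm {Γ G : Type*} [Group Γ] [Group G] {ι : Γ →* G} (hι : Function.Injective ι) {Y : List G} (h : (∀ y ∈ Y, y ∈ ι.range ∧ orderOf y = 2) ∧
    (∀ u ∈ ι.range, u * u = 1 → Gd ι.range Y u) ∧ Y.Pairwise fun a b => ¬ IsConj a b) (h4 : ∀ g : Γ, g * g = 1 → g ∈ commutator Γ) {c : Γ}
    (h5 : ∀ k, k ∈ commutator Γ ∨ c * k ∈ commutator Γ) (h6 : ∀ y ∈ Y, ι c * y = y * ι c) :
    (ConjClasses.mk '' {g : commutator Γ | orderOf g = 2}).ncard = Y.length := by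
  have m : ∀ g ∈ commutator Γ, ι g ∈ (ι.comp (commutator _).subtype).range := fun g a => ⟨⟨g, a⟩, rfl⟩
  refine ncard_of (ι := ι.comp (commutator _).subtype) (hι.comp Subtype.val_injective) (fun y a => ⟨?_, (h.1 y a).2⟩) (fun u a d => ?_) h.2.2
  · obtain ⟨⟨g, rfl⟩, d⟩ := h.1 y a
    exact m g (h4 g (hι (by rw [map_mul, map_one, ← sq, ← d, pow_orderOf_eq_one])))
  obtain ⟨g, rfl⟩ := a
  refine (h.2.1 _ ⟨g.1, rfl⟩ d).imp id fun ⟨y, i, _, ⟨k, rfl⟩, j⟩ => ⟨y, i, (h5 k).elim (fun l => ⟨_, m k l, j⟩) fun l => ⟨_, m _ l, ?_⟩⟩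
  rw [← mul_inv_eq_iff_eq_mul.2 (h6 y i), ← j]
  simp [mul_assoc]

theorem RS.fix_WJ {I R : Type} [Fintype I] [DecidableEq I] [Fintype R] [DecidableEq R] {Φ : RS I R} {a b : R} (m n : ℤ) {J : Set I}
    (e : ∀ k, (Φ.Pos k → (∀ i ∉ J, Φ.rv k i = 0) ∨ 0 < m * Φ.pair a k + n * Φ.pair b k) ∧ (0 < m * Φ.pair a k + n * Φ.pair b k → Φ.Pos k))
    {w : Φ.W} (h1 : w • a = a) (h2 : w • b = b) : w ∈ Φ.WJ J := RS.mem_WJ_of_pos fun k c d => (e _).2 (by
  have := ((e k).1 c).resolve_left d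
  rwa [← RS.pair_smul w a, ← RS.pair_smul w b, h1, h2] at this)

section
variable {D : ChevalleyDatum} {c : Cert} {h : Checked D c} {K : Type*} [Field K] [CharP K 2] {G : Type*} [Group G] {S : St h.toCD K G}

theorem norm_of_collect {B : Set (Fin D.nroots)} {A : List (Fin D.nroots)} (e : ∀ r ∈ B, ∀ k ∈ A,
    ∃ W ∈ collect D 2 id 60 [(r.1, [(1, [1])]), (k.1, [(1, [0, 1])]), (r.1, [(1, [1])])], ∀ a ∈ W, a.1 ∈ A.map (·.1)) {p : G} (hp : p ∈ S.Ux B ⊔ S.H) :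
    ∀ v ∈ S.Ux {r | r ∈ A}, p * v * p⁻¹ ∈ S.Ux {r | r ∈ A} := by
  obtain ⟨u, a, g, b, rfl⟩ := St.mem_Ux_sup_H.1 hp
  have : ∀ v ∈ S.Ux {r | r ∈ A}, u * v * u⁻¹ ∈ S.Ux {r | r ∈ A} := St.Ux_induction (p := fun u => ∀ v ∈ S.Ux {r | r ∈ A}, u * v * u⁻¹ ∈ S.Ux {r | r ∈ A})
    (by simp) (fun r d s u _ z v y => by
      have := z _ ((St.Ux_le (K := (S.Ux {r | r ∈ A}).comap (MulAut.conj (S.x r s)).toMonoidHom)).2 (fun k i t => by
        simpa [wd, ev, mpev, mev, xN_fin, St.x_inv, CharTwo.neg_eq, mul_assoc] using mem_of_collect (S := S) [s, t] 60 _ A (e r d k i)) y)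
      simpa [mul_assoc] using this) a
  exact fun v z => by simpa [mul_assoc] using this _ (St.conj_H_Ux b z)

end

variable {K : Type*} [Field K] [CharP K 2]

def aF4 : List (Fin chevF4.nroots) := [39, 45, 40, 46, 44, 47].map f4r

section
variable {G : Type*} [Group G] (S : St checkedF4.toCD K G)

theorem normU_F4 (n : Fin 3) {u : G} (a : u ∈ S.U) : ∀ v ∈ S.Ux {r | r ∈ aF4.drop (2 * n)}, u * v * u⁻¹ ∈ S.Ux {r | r ∈ aF4.drop (2 * n)} :=
  norm_of_collect (B := {r | checkedF4.toCD.Pos r}) (by simp only [Set.mem_ofPred_eq]; revert n; decide +kernel) (Subgroup.mem_sup_left a)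

theorem conjU_F4 : ∀ u ∈ S.U, ∃ v ∈ S.Ux {r | r ∈ aF4.drop 2}, u * S.P [f4r 39, f4r 45] 1 * u⁻¹ = S.P [f4r 39, f4r 45] 1 * v := fun u a => by
  refine St.Ux_induction (p := fun u => ∃ v ∈ S.Ux {r | r ∈ aF4.drop 2}, u * S.P [f4r 39, f4r 45] 1 * u⁻¹ = S.P [f4r 39, f4r 45] 1 * v) ⟨1, one_mem _, by simp⟩ ?_ a
  rintro r d s u i ⟨v, j, z⟩
  have := mem_of_collect (S := S) [s] 60 [(45, [(1, [])]), (39, [(1, [])]), (r.1, [(1, [1])]), (39, [(1, [])]), (45, [(1, [])]), (r.1, [(1, [1])])] (aF4.drop 2) (by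
    revert r; simp only [Set.mem_ofPred_eq]; decide +kernel)
  simp only [wd, ev, mpev, mev, List.map_cons, List.map_nil, List.sum_cons, List.sum_nil, List.prod_cons, List.prod_nil, pow_zero, pow_one, Int.cast_one,
    one_mul, mul_one, add_zero, xN_fin] at this
  replace this : (S.P [f4r 39, f4r 45] 1)⁻¹ * (S.x r s * S.P [f4r 39, f4r 45] 1 * (S.x r s)⁻¹) ∈ S.Ux {r | r ∈ aF4.drop 2} := by
    simp only [St.P_cons, St.P_nil, mul_inv_rev, St.x_inv, CharTwo.neg_eq, mul_assoc, mul_one, Pi.one_apply]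
    exact this
  exact ⟨_, mul_mem j (normU_F4 S 1 i _ this), by rw [← mul_assoc, ← z]; group⟩

variable {S} (hG : S.Gx = ⊤)
include hG

theorem cent3_F4 {g : G} (e : g * (S.x (f4r 47) 1 * S.x (f4r 44) 1) * g⁻¹ = S.x (f4r 47) 1 * S.x (f4r 44) 1) : g ∈ S.PJ {i | i ∈ [f4n 1, f4n 2]} := by
  have c := fun u a => mul_inv_eq_iff_eq_mul.2 ((comm_F4 S (k := f4r 47) (by simp) 1 (u := u) a).mul_right (comm_F4 _ (k := f4r 44) (by simp) 1 a)).eq
  obtain ⟨w, a, b⟩ := St.conj_roots hG (L := [f4r 47, f4r 44]) (by decide +kernel) (M := ∅) (T := {r | r ∈ [f4r 47, f4r 44]})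
    (by simp [RS.Closed]) (by simp) (fun u a => ⟨1, one_mem _, by simpa using c u a⟩) (RS.closed_hi (by decide +kernel))
    (show ∀ r ∈ [f4r 47, f4r 44], _ by decide +kernel) (g := g) (fun u a => (c u a).symm ▸ mul_mem (St.x_mem (by simp) _) (St.x_mem (by simp) _)) (by simpa using e)
  have d : ∀ r ∈ [f4r 47, f4r 44], ∀ s ∈ [f4r 47, f4r 44], checkedF4.toCD.ln s = checkedF4.toCD.ln r → s = r := by decide +kernel
  exact b _ (RS.fix_WJ 1 1 (by simp only [Set.mem_ofPred_eq]; decide +kernel) (d (f4r 47) (by simp) _ (a _ (by simp)) (RS.ln_smul ..))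
    (d (f4r 44) (by simp) _ (a _ (by simp)) (RS.ln_smul ..)))

theorem cent4_F4 {g : G} (e : g * (S.x (f4r 39) 1 * S.x (f4r 45) 1) * g⁻¹ = S.x (f4r 39) 1 * S.x (f4r 45) 1) : g ∈ S.PJ {i | i ∈ [f4n 0, f4n 3]} := by
  obtain ⟨w, a, b⟩ := St.conj_roots hG (L := [f4r 39, f4r 45]) (by decide +kernel) (M := {r | r ∈ aF4.drop 2}) (T := {r | r ∈ aF4})
    (RS.closed_hi (by decide +kernel)) (show ∀ r ∈ aF4.drop 2, _ by decide +kernel) (conjU_F4 S)
    (RS.closed_hi (by decide +kernel)) (show ∀ r ∈ aF4, _ by decide +kernel) (g := g) (y := S.P [f4r 39, f4r 45] 1)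
    (fun u a => normU_F4 S 0 a _ (St.P_mem (show ∀ r ∈ [f4r 39, f4r 45], r ∈ aF4 by decide +kernel) _)) (by simpa using e)
  have d : ∀ r ∈ aF4, ∀ s ∈ aF4, checkedF4.toCD.ln r = checkedF4.toCD.ln (f4r 39) → checkedF4.toCD.ln s = checkedF4.toCD.ln (f4r 45) →
      checkedF4.toCD.pair r s = checkedF4.toCD.pair (f4r 39) (f4r 45) → r = f4r 39 ∧ s = f4r 45 := by decide +kernel
  have d := d _ (a (f4r 39) (by simp)) _ (a (f4r 45) (by simp)) (RS.ln_smul ..) (RS.ln_smul ..) (RS.pair_smul ..)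
  exact b _ (RS.fix_WJ 3 4 (by simp only [Set.mem_ofPred_eq]; decide +kernel) d.1 d.2)

end

section
variable [Fintype K] {θ : K →+* K} {e : ℕ} (hf : ∀ t, θ t = t ^ e) (hθ : ∀ t, θ (θ t) ^ 2 = t)

variable (θ) in
/-- fixed elements of an abelian unipotent subgroup -/
noncomputable def eF4 (t b c : K) : chevF4.group K := wd (checkedF4.adj K).x ([(39, θ t), (45, t)] ++ ([(40, θ b), (46, b)] ++ [(44, θ c), (47, c)]))

theorem eF4_fix {u : chevF4.group K} (a : u ∈ (checkedF4.adj K).Ux {r | r ∈ aF4}) (b : (twF4 θ).σ u = u) : ∃ t b c, u = eF4 θ t b c := by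
  have hM : aF4.Nodup ∧ ∀ r ∈ aF4, checkedF4.toCD.Pos r := by decide +kernel
  obtain ⟨t, c⟩ := St.exists_P (RS.unip_pos.subset (RS.closed_hi (by decide +kernel)) hM.2) hM.1 (fun _ => Iff.rfl) a
  replace c : u = wd (checkedF4.adj K).x ([(39, t (f4r 39)), (45, t (f4r 45))] ++ ([(40, t (f4r 40)), (46, t (f4r 46))] ++ [(44, t (f4r 44)), (47, t (f4r 47))])) := c
  have hσ := (exists_2F4 θ).choose_spec
  have d := b
  rw [c, wd_append, wd_append, map_mul, map_mul] at d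
  erw [σ_pair hσ 39 45, σ_pair hσ 40 46, σ_pair hσ 44 47] at d
  rw [← wd_append, ← wd_append, ← wd_append, ← wd_append] at d
  have := wd_inj _ aF4 hM rfl rfl d
  simp only [List.cons_append, List.nil_append, List.map_cons, List.map_nil, List.cons.injEq] at this
  exact ⟨t (f4r 45), t (f4r 46), t (f4r 47), by rw [c, eF4, this.1, this.2.2.1, this.2.2.2.2.1]⟩

theorem eF4_eq (t : K) : eF4 θ 0 0 t = (checkedF4.adj K).x (f4r 47) t * (checkedF4.adj K).x (f4r 44) (θ t) ∧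
    eF4 θ t 0 0 = (checkedF4.adj K).x (f4r 39) (θ t) * (checkedF4.adj K).x (f4r 45) t := by
  rw [(comm_F4 _ (k := f4r 44) (by simp) _ (St.x_mem (show checkedF4.toCD.Pos (f4r 47) by decide +kernel) t)).eq]
  simp [eF4, wd, checkedF4.xN_zero (checkedF4.adj K).rel]
  exact ⟨rfl, rfl⟩

include hf hθ

theorem eF4_mem (t b c : K) : eF4 θ t b c ∈ (checkedF4.inc (f4Words K e)).range := by
  have hσ := (exists_2F4 θ).choose_spec
  refine (sub_2F4 hf hθ).mem_of_U (wd_mem _ (by simp only [List.map_append, List.map_cons, List.map_nil]; decide +kernel)) ?_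
  rw [eF4, wd_append, wd_append, map_mul, map_mul]
  erw [σ_pair hσ 39 45, σ_pair hσ 40 46, σ_pair hσ 44 47]
  simp only [hθ]

theorem tor_F4 (i j : Fin chevF4.rank) (h : i = f4n 0 ∧ j = f4n 3 ∨ i = f4n 1 ∧ j = f4n 2) (a : Kˣ) (r s : Fin chevF4.nroots) (t u : K) :
    Cj (checkedF4.inc (f4Words K e)).range ((checkedF4.adj K).x r t * (checkedF4.adj K).x s u)
      ((checkedF4.adj K).x r (θ a ^ checkedF4.toCD.A i r * (a ^ checkedF4.toCD.A j r * t)) * (checkedF4.adj K).x s (θ a ^ checkedF4.toCD.A i s * (a ^ checkedF4.toCD.A j s * u))) := by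
  have := hT_mem_2F4 hf hθ (c := Pi.mulSingle i (Units.map (θ : K →* K) a) * Pi.mulSingle j a) ((tfix_2F4 hθ).2 (by
    have n : ∀ i j, f4n i = f4n j ↔ i = j := fun _ _ => Iff.rfl
    rcases h with ⟨rfl, rfl⟩ | ⟨rfl, rfl⟩ <;> simp [Pi.mulSingle_apply, n]))
  rw [map_mul, St.HMul.hT_single, St.HMul.hT_single] at this
  refine ⟨_, this, ?_⟩
  have e : ∀ a b x : chevF4.group K, a * b * x * (a * b)⁻¹ = a * (b * x * b⁻¹) * a⁻¹ := fun _ _ _ => by group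
  rw [← conj_mul, e, e]
  simp [St.h_conj_x, RS.pair_sim]

theorem cj_eF4 (d t b c : K) : Cj (checkedF4.inc (f4Words K e)).range (eF4 θ t b c) (eF4 θ t (b + d * t) c) ∧
    Cj (checkedF4.inc (f4Words K e)).range (eF4 θ t b c) (eF4 θ t b (c + d * b)) ∧ Cj (checkedF4.inc (f4Words K e)).range (eF4 θ t b c) (eF4 θ t (b + d * c) c) := by
  obtain ⟨m1, m2, m3, -⟩ := mem_2F4 hf d 0
  have k := fun w P => checkedF4.wd_eq_of_same (checkedF4.adj K).rel 2 [θ d, d, θ t, t, θ b, b, θ c, c] id 40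
    (w ++ [(39, [(1, [0, 0, 1])]), (45, [(1, [0, 0, 0, 1])]), (40, [(1, [0, 0, 0, 0, 1])]), (46, [(1, [0, 0, 0, 0, 0, 1])]), (44, [(1, [0, 0, 0, 0, 0, 0, 1])]),
      (47, [(1, [0, 0, 0, 0, 0, 0, 0, 1])])]) ([(39, [(1, [0, 0, 1])]), (45, [(1, [0, 0, 0, 1])])] ++ P ++ w)
  refine ⟨⟨_, m3, mul_inv_eq_iff_eq_mul.2 ?_⟩, ⟨_, m1, mul_inv_eq_iff_eq_mul.2 ?_⟩, ⟨_, m2, mul_inv_eq_iff_eq_mul.2 ?_⟩⟩ <;> rw [eF4, eF4, ← wd_append, ← wd_append]
  · simpa [ev, mpev, mev] using k [(27, [(1, [1])]), (25, [(1, [0, 1])]), (28, [(1, [1, 1])]), (30, [])] [(40, [(1, [0, 0, 0, 0, 1]), (1, [1, 0, 1])]),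
      (46, [(1, [0, 0, 0, 0, 0, 1]), (1, [0, 1, 0, 1])]), (44, [(1, [0, 0, 0, 0, 0, 0, 1])]), (47, [(1, [0, 0, 0, 0, 0, 0, 0, 1])])] (by decide +kernel)
  · simpa [ev, mpev, mev] using k [(33, [(1, [1])]), (24, [(1, [0, 1])])] [(40, [(1, [0, 0, 0, 0, 1])]), (46, [(1, [0, 0, 0, 0, 0, 1])]),
      (44, [(1, [0, 0, 0, 0, 0, 0, 1]), (1, [1, 0, 0, 0, 1])]), (47, [(1, [0, 0, 0, 0, 0, 0, 0, 1]), (1, [0, 1, 0, 0, 0, 1])])] (by decide +kernel)
  · simpa [ev, mpev, mev] using k [(14, [(1, [1])]), (23, [(1, [0, 1])])] [(40, [(1, [0, 0, 0, 0, 1]), (1, [1, 0, 0, 0, 0, 0, 1])]),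
      (46, [(1, [0, 0, 0, 0, 0, 1]), (1, [0, 1, 0, 0, 0, 0, 0, 1])]), (44, [(1, [0, 0, 0, 0, 0, 0, 1])]), (47, [(1, [0, 0, 0, 0, 0, 0, 0, 1])])] (by decide +kernel)

theorem gd_2F4 {u : chevF4.group K} (a : u ∈ (checkedF4.adj K).Ux {r | r ∈ aF4}) (a' : (twF4 θ).σ u = u) :
    Gd (checkedF4.inc (f4Words K e)).range ((yF4 (checkedF4.adj K)).drop 2) u := by
  obtain ⟨t, b, c, rfl⟩ := eF4_fix a a'
  have k := cj_eF4 hf hθ
  obtain ⟨a1, a2, a3, a4, a5, a6, a7, a8⟩ : checkedF4.toCD.A (f4n 3) (f4r 47) = 1 ∧ checkedF4.toCD.A (f4n 0) (f4r 47) = 0 ∧ checkedF4.toCD.A (f4n 3) (f4r 44) = 0 ∧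
    checkedF4.toCD.A (f4n 0) (f4r 44) = 1 ∧ checkedF4.toCD.A (f4n 1) (f4r 39) = -1 ∧ checkedF4.toCD.A (f4n 2) (f4r 39) = 1 ∧
    checkedF4.toCD.A (f4n 1) (f4r 45) = 2 ∧ checkedF4.toCD.A (f4n 2) (f4r 45) = -1 := by decide +kernel
  by_cases z : t = 0
  · subst z
    have k1 : ∀ c, Gd (checkedF4.inc (f4Words K e)).range ((yF4 (checkedF4.adj K)).drop 2) (eF4 θ 0 0 c) := fun c => by
      have := (eF4_eq (θ := θ) c).1
      by_cases z : c = 0
      · exact Or.inl (by rw [this]; simp [z])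
      exact Or.inr ⟨_, .head _, by simpa [this, a1, a2, a3, a4, z] using tor_F4 hf hθ _ _ (.inl ⟨rfl, rfl⟩) (Units.mk0 c z)⁻¹ (f4r 47) (f4r 44) c (θ c)⟩
    by_cases z : b = 0
    · exact z ▸ k1 c
    refine (k1 b).of ((k ((c + b) / b) 0 b c).2.1.trans ?_)
    simpa [div_mul_cancel₀ _ z, ← add_assoc, CharTwo.add_self_eq_zero] using (k 1 0 b b).2.2
  refine Or.inr ⟨_, .tail _ (.head _), (k ((b + c) / t) t b c).1.trans ?_⟩
  rw [div_mul_cancel₀ _ z, ← add_assoc, CharTwo.add_self_eq_zero, zero_add]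
  refine (k 1 t c c).2.1.trans ?_
  rw [one_mul, CharTwo.add_self_eq_zero]
  refine (k (c / t) t c 0).1.trans ?_
  rw [div_mul_cancel₀ _ z, CharTwo.add_self_eq_zero]
  have := (eF4_eq (θ := θ) t).2
  have z' : θ t ≠ 0 := by simpa
  have z'' : θ (θ t) ≠ 0 := by simpa
  convert tor_F4 hf hθ _ _ (.inr ⟨rfl, rfl⟩) (Units.mk0 (t * θ t ^ 2) (by simp [z]))⁻¹ (f4r 39) (f4r 45) (θ t) t using 3
  · simp only [a5, a6, Units.val_inv_eq_inv_val, Units.val_mk0, map_inv₀, map_mul, map_pow, hθ]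
    field_simp
  · simp only [a7, a8, Units.val_inv_eq_inv_val, Units.val_mk0, map_inv₀, map_mul, map_pow, hθ]
    field_simp

theorem red_2F4 (J : List (Fin chevF4.rank)) (n : ℕ) {y u : chevF4.group K} (h : (∀ j, symF4.ρI j ∈ J ↔ j ∈ J) ∧ ∀ r, (checkedF4.toCD.Pos r ∨ ∀ i ∉ J, checkedF4.toCD.rv r i = 0) →
    ∀ k ∈ aF4.drop n, ∃ W ∈ collect chevF4 2 id 60 [(r.1, [(1, [1])]), (k.1, [(1, [0, 1])]), (r.1, [(1, [1])])], ∀ a ∈ W, a.1 ∈ (aF4.drop n).map (·.1))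
    (h1 : y ∈ (checkedF4.adj K).Ux {r | r ∈ aF4.drop n}) (h2 : y ∈ (checkedF4.inc (f4Words K e)).range)
    (h3 : ∀ g, g * y * g⁻¹ = y → g ∈ (checkedF4.adj K).PJ {i | i ∈ J}) (a : u ∈ (checkedF4.inc (f4Words K e)).range) (d : IsConj u y) :
    Gd (checkedF4.inc (f4Words K e)).range ((yF4 (checkedF4.adj K)).drop 2) u := by
  have hX := sub_2F4 hf hθ
  obtain ⟨v, i, j⟩ := hX.reduce checkedF4.adj_Gx (J := {i | i ∈ J}) h.1 (fun p i => norm_of_collect (B := {r | _ ∨ _}) h.2 (St.PJ_eq (S := checkedF4.adj K) _ ▸ i))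
    h1 (hX.fix _ h2) h3 a d
  exact (gd_2F4 hf hθ (St.Ux_mono (fun _ => List.mem_of_mem_drop) i) (hX.fix _ (j.mem a))).of j

theorem inv_2F4 : (∀ y ∈ (yF4 (checkedF4.adj K)).drop 2, y ∈ (checkedF4.inc (f4Words K e)).range ∧ orderOf y = 2) ∧
    (∀ u ∈ (checkedF4.inc (f4Words K e)).range, u * u = 1 → Gd (checkedF4.inc (f4Words K e)).range ((yF4 (checkedF4.adj K)).drop 2) u) ∧
    ((yF4 (checkedF4.adj K)).drop 2).Pairwise fun a b => ¬ IsConj a b := by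
  obtain ⟨r1, r2, r3⟩ := reps_F4 K
  have hσ : ∀ r t, (twF4 θ).σ ((checkedF4.adj K).x r t) = _ := (exists_2F4 θ).choose_spec
  obtain ⟨s1, s2⟩ : symF4.ρ (f4r 47) = f4r 44 ∧ symF4.ρ (f4r 44) = f4r 47 := by decide +kernel
  have m3 := eF4_mem hf hθ 0 0 1
  have m4 := eF4_mem hf hθ 1 0 0
  rw [(eF4_eq 1).1, map_one] at m3
  rw [(eF4_eq 1).2, map_one] at m4
  refine ⟨fun y a => ⟨?_, r1 y (List.mem_of_mem_drop a)⟩, fun u a b => ?_, r3.sublist (List.drop_sublist ..)⟩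
  · exact List.forall_mem_cons.2 ⟨m3, List.forall_mem_singleton.2 m4⟩ y a
  by_cases z : u = 1
  · exact Or.inl z
  obtain ⟨y, c, d⟩ := r2 u (orderOf_eq_prime ((sq u).trans b) z)
  have d' := (twF4 θ).σ.map_isConj d
  rw [(sub_2F4 hf hθ).fix u a] at d'
  have n := (List.pairwise_cons.1 r3).1 _ (.head _)
  simp only [yF4, List.mem_cons, List.not_mem_nil, or_false] at c
  rcases c with rfl | rfl | rfl | rfl
  · exact (n (d.symm.trans (by simpa [hσ, s1] using d'))).elim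
  · exact (n (IsConj.trans (by simpa [hσ, s2] using d'.symm) d)).elim
  · refine red_2F4 hf hθ [f4n 1, f4n 2] 4 (by decide +kernel) (mul_mem ?_ ?_) m3 (fun _ => cent3_F4 checkedF4.adj_Gx) a d <;>
      exact St.x_mem (by simp only [Set.mem_ofPred_eq]; decide +kernel) _
  · refine red_2F4 hf hθ [f4n 0, f4n 3] 0 (by decide +kernel) (mul_mem ?_ ?_) m4 (fun _ => cent4_F4 checkedF4.adj_Gx) a d <;>
      exact St.x_mem (by simp only [Set.mem_ofPred_eq]; decide +kernel) _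

end

theorem ncard_Tits : (ConjClasses.mk '' {g : TitsGroup | orderOf g = 2}).ncard = 2 := by
  obtain ⟨b, b1, b2, -, b3⟩ := exists_WF
  obtain ⟨c, c1, c2⟩ : Rp [35, 31, 40] _ := b2.conj [1, 0] [27, 25, 28] (by decide +kernel)
  let Z : Subgroup (Abelianization (twistedF4 (ZMod 2) 1)) :=
    { carrier := {1, b}
      one_mem' := .inl rfl
      mul_mem' := by rintro _ _ (rfl | rfl) (rfl | rfl) <;> simp [b1]
      inv_mem' := by rintro _ (rfl | rfl) <;> simp [inv_eq_of_mul_eq_one_left b1] }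
  have z : Z.comap Abelianization.of = ⊤ := subF.eq_top iF_inj (gen_2F4 (θ := RingHom.id _) (by simp)) fun k u a => by
    obtain ⟨v, -, d⟩ := b3 u (St.UL_le_U _ a)
    have : b ∈ Z := .inr rfl
    exact Subgroup.mem_comap.2 (d ▸ mul_mem (mul_mem (mul_mem (pow_mem this _) (pow_mem this _)) (pow_mem this _)) (pow_mem this _))
  refine ncard_comm iF_inj (inv_2F4 (K := ZMod 2) (θ := RingHom.id _) (e := 1) (by simp) (by decide)) (fun _ => invol_mem) (c := c) (fun k => ?_) fun y i => ?_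
  · obtain l | l : Abelianization.of k ∈ Z := (z ▸ Subgroup.mem_top k : k ∈ Z.comap Abelianization.of)
    exacts [.inl (mem_comm_iff.2 l), .inr (mem_comm_iff.2 (by rw [map_mul, c2, l, b1]))]
  rw [c1]
  have k : ∀ a b : Fin 48, sF.x (f4r a) 1 * sF.x (f4r b) 1 = w1 sF ([(f4r a).1] ++ [(f4r b).1]) := fun a b => by rw [w1_append, w1_one, w1_one]
  obtain rfl | rfl : y = _ ∨ y = _ := by simpa only [yF4, List.drop_succ_cons, List.drop_zero, List.mem_cons, List.not_mem_nil, or_false] using i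
  all_goals rw [k, ← w1_append, ← w1_append]; exact w1_eq _ _ _ (by decide +kernel)

end Cfsg.Agent.Chev
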