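import Cfsg.Agent.Lib.Chev.BC1
import Cfsg.Agent.Lib.Classical.SpU
import Cfsg.Agent.S0778
import Cfsg.Agent.S0245
import Cfsg.Agent.S0246

set_option autoImplicit false
set_option linter.unusedSectionVars false
set_option linter.style.haveILetI false

/-! Derangements of the symplectic group on pairs of complementary Lagrangian subspaces. -/

namespace Cfsg.Agent.Chev.LagD
open Cfsg.Agent.Classical Matrix Module Cfsg.Agent.Chev.BC

variable {F : Type*} [Field F] [Fintype F] {m : ℕ}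

local notation "β" => Cfsg.sympForm m F
local notation "Sp" => symplecticGroup (Fin m) F
local notation "V" => Fin m ⊕ Fin m → F

theorem fix_mod {r : ℕ} [Fact r.Prime] {y : Sp} (hy : y ^ r = 1) (U : Submodule F V) (hP : ∀ v ∈ U, y.1 *ᵥ v ∈ U) :
    Fintype.card F ^ finrank F U ≡ Fintype.card F ^ finrank F ↥(U ⊓ LinearMap.ker (toLin' y.1 - LinearMap.id)) [MOD r] := by
  classical
  let f : Function.End U := fun v => ⟨y.1 *ᵥ v.1, hP _ v.2⟩
  have a : ∀ k v, ((f ^ k) v).1 = (y ^ k).1 *ᵥ v.1 := fun k => by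
    induction k with
    | zero => exact fun v => (one_mulVec _).symm
    | succ k ih => exact fun v => by rw [pow_succ, pow_succ, mul_act]; exact ih (f v)
  have b := Equiv.Perm.card_fixedPoints_modEq (f := f) (p := r) (n := 1) (funext fun v => Subtype.ext (by
    rw [pow_one, a, hy]; exact one_mulVec _))
  rw [← Nat.card_eq_fintype_card, ← Nat.card_eq_fintype_card] at b
  rw [← Nat.card_eq_fintype_card, ← Module.natCard_eq_pow_finrank, ← Module.natCard_eq_pow_finrank]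
  convert b using 1
  exact Nat.card_eq_of_bijective (fun v => ⟨⟨v.1, v.2.1⟩, Subtype.ext (sub_eq_zero.1 v.2.2)⟩)
    ⟨fun a b e => Subtype.ext (congrArg (fun x : Function.fixedPoints f => x.1.1) e),
      fun v => ⟨⟨v.1.1, v.1.2, sub_eq_zero.2 (congrArg Subtype.val v.2)⟩, rfl⟩⟩

theorem perp_zero {U W : Submodule F V} (h : IsCompl U W) {x : V} (a : ∀ u ∈ U, β u x = 0) (b : ∀ u ∈ W, β u x = 0) : x = 0 := b_nd fun v => by
  obtain ⟨u, hu, w, hw, rfl⟩ := Submodule.mem_sup.1 (h.sup_eq_top.ge (Submodule.mem_top (x := v)))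
  rw [b_add_l, a u hu, b w hw, add_zero]

theorem triv {y : Sp} {U W : Submodule F V} (h : IsCompl U W) (hW : ∀ u ∈ W, ∀ v ∈ W, β u v = 0) (a : ∀ v ∈ W, y.1 *ᵥ v ∈ W)
    (b : U ≤ LinearMap.ker (toLin' y.1 - LinearMap.id)) : y = 1 := by
  have b' : ∀ u ∈ U, y.1 *ᵥ u = u := fun u hu => sub_eq_zero.1 (b hu)
  have c : ∀ w ∈ W, y.1 *ᵥ w = w := fun w hw => sub_eq_zero.1 (perp_zero h (fun u hu => by
    rw [sub_eq_add_neg, b_add_r, ← neg_one_smul F w, b_smul_r, ← b_inv y u w, b' u hu]; ring) fun u hu => hW u hu _ (sub_mem (a w hw) hw))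
  refine Subtype.ext (toLin'.injective (LinearMap.ext fun v => ?_))
  obtain ⟨u, hu, w, hw, rfl⟩ := Submodule.mem_sup.1 (h.sup_eq_top.ge (Submodule.mem_top (x := v)))
  simp [mulVec_add, b' u hu, c w hw]

theorem nofix {r i : ℕ} [Fact r.Prime] {y : Sp} (hy : y ^ r = 1) (y1 : y ≠ 1) (hq : ¬r ∣ Fintype.card F)
    (hi : ∀ j, 0 < j → j < 2 * i → ¬r ∣ Fintype.card F ^ j - 1) {T U W : Submodule F V} (t1 : finrank F T + 2 * i = 2 * m) (t2 : ∀ v ∈ T, y.1 *ᵥ v = v)
    (h : IsCompl U W) (hU : ∀ u ∈ U, ∀ v ∈ U, β u v = 0) (hW : ∀ u ∈ W, ∀ v ∈ W, β u v = 0) (a : ∀ v ∈ U, y.1 *ᵥ v ∈ U) (b : ∀ v ∈ W, y.1 *ᵥ v ∈ W) : False := by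
  let C := LinearMap.ker (toLin' y.1 - LinearMap.id)
  have c1 : finrank F ↥(U ⊓ C) < finrank F U := Submodule.finrank_lt_finrank_of_lt (lt_of_le_of_ne inf_le_left fun e => y1 (triv h hW b (inf_eq_left.1 e)))
  have c2 : finrank F ↥(W ⊓ C) < finrank F W := Submodule.finrank_lt_finrank_of_lt (lt_of_le_of_ne inf_le_left fun e => y1 (triv h.symm hU a (inf_eq_left.1 e)))
  have c3 : T ≤ U ⊓ C ⊔ W ⊓ C := fun v hv => by
    obtain ⟨u, hu, w, hw, rfl⟩ := Submodule.mem_sup.1 (h.sup_eq_top.ge (Submodule.mem_top (x := v)))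
    have e := t2 _ hv
    rw [mulVec_add] at e
    have e1 : y.1 *ᵥ u - u = 0 := (Submodule.disjoint_def.1 h.disjoint) _ (sub_mem (a u hu) hu) (by
      rw [show y.1 *ᵥ u - u = w - y.1 *ᵥ w by linear_combination e]; exact sub_mem hw (b w hw))
    exact Submodule.add_mem_sup ⟨hu, e1⟩ ⟨hw, show y.1 *ᵥ w - w = 0 by linear_combination e - e1⟩
  have c4 := (Submodule.finrank_mono c3).trans (Submodule.finrank_add_le_finrank_add_finrank _ _)
  have c5 := Submodule.finrank_add_eq_of_isCompl h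
  simp only [finrank_fintype_fun_eq_card, Fintype.card_sum, Fintype.card_fin] at c5
  have c6 := (Nat.modEq_iff_dvd' (Nat.pow_le_pow_right Fintype.card_pos c1.le)).1 (fix_mod hy U a).symm
  obtain ⟨j, hj⟩ := Nat.exists_eq_add_of_le c1.le
  rw [hj, pow_add, ← Nat.mul_sub_one] at c6
  exact hi j (by omega) (by omega) (((Nat.Prime.dvd_mul Fact.out).1 c6).resolve_left fun e => hq ((Fact.out : r.Prime).dvd_of_dvd_pow e))

theorem exists_elt {r i : ℕ} [Fact r.Prime] (i1 : i < m) (h : r ∣ Fintype.card F ^ (2 * (i + 1)) - 1) :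
    ∃ (x : Sp) (T : Submodule F V), orderOf x = r ∧ finrank F T + 2 * (i + 1) = 2 * m ∧ ∀ v ∈ T, x.1 *ᵥ v = v := by
  let f : Fin (i + 1) ⊕ Fin (i + 1) → Fin m ⊕ Fin m := Sum.map (Fin.castLE i1) (Fin.castLE i1)
  have hf : Function.Injective f := (Fin.castLE_injective _).sumMap (Fin.castLE_injective _)
  let v : Fin (i + 1) ⊕ Fin (i + 1) → V := Pi.basisFun F _ ∘ f
  let S := Submodule.span F (Set.range v)
  have s1 : finrank F S = 2 * (i + 1) := by
    rw [finrank_span_eq_card ((Pi.basisFun F _).linearIndependent.comp f hf)]; simp [two_mul]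
  let Φ := spForm m F
  have s2 : (Φ.restrict S).Nondeg := fun ⟨u, hu⟩ e => Subtype.ext (by
    obtain ⟨c, rfl⟩ := (Submodule.mem_span_range_iff_exists_fun F).1 hu
    have a : ∀ l, (∑ l, c l • v l) (f l) = c l := fun l => by simp [v, Finset.sum_apply, Pi.single_apply, hf.eq_iff]
    have b : ∀ l, β (v l) (∑ l, c l • v l) = 0 := fun l => e ⟨v l, Submodule.subset_span ⟨l, rfl⟩⟩
    have : c = 0 := funext fun l => by
      clear e hu
      generalize ∑ l, c l • v l = u at a b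
      rw [← a]
      rcases l with l | l
      · simpa [v, f, sympForm_eq, Pi.single_apply] using b (.inr l)
      · simpa [v, f, sympForm_eq, Pi.single_apply] using b (.inl l)
    simp [this])
  have s3 : finrank F (Φ.perp S) + finrank F S = _ := (spForm_nondeg (F := F) m).finrank_perp S
  simp only [finrank_fintype_fun_eq_card, Fintype.card_sum, Fintype.card_fin] at s3
  haveI : Finite (Φ.restrict S).Isom := Nat.finite_of_card_ne_zero (by
    rw [card_symp _ _ s2 s1]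
    exact mul_ne_zero (pow_ne_zero _ Nat.card_pos.ne') (Finset.prod_ne_zero_iff.2 fun k _ =>
      Nat.sub_ne_zero_of_lt (Nat.one_lt_pow (by omega) Finite.one_lt_card)))
  obtain ⟨g, hg⟩ := exists_prime_orderOf_dvd_card' (G := (Φ.restrict S).Isom) r (by
    rw [card_symp _ _ s2 s1, Finset.prod_range_succ, Nat.card_eq_fintype_card]; exact (h.mul_left _).mul_left _)
  let G := Φ.stabEquiv (Φ.isCompl_perp s2) (g, 1)
  refine ⟨(spEquiv m F).symm ⟨G.1, G.2.1⟩, Φ.perp S, ?_, by omega, fun w hw => ?_⟩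
  · rw [MulEquiv.orderOf_eq, ← Subgroup.orderOf_coe, Subgroup.orderOf_coe G, MulEquiv.orderOf_eq, Prod.orderOf_mk, hg]; simp
  rw [← spEquiv_apply, MulEquiv.apply_symm_apply]
  exact glue_right _ _ ⟨w, hw⟩

theorem exists_map {U W : Submodule F V} (h : IsCompl U W) (hU : ∀ u ∈ U, ∀ v ∈ U, β u v = 0) (hW : ∀ u ∈ W, ∀ v ∈ W, β u v = 0) :
    ∃ g : Sp, (∀ v : V, (∀ i, v (.inr i) = 0) → g.1 *ᵥ v ∈ U) ∧ ∀ v : V, (∀ i, v (.inl i) = 0) → g.1 *ᵥ v ∈ W := by
  let B : V →ₗ[F] V →ₗ[F] F := LinearMap.mk₂ F β b_add_l b_smul_l (fun a b c => b_add_r b c a) fun c a b => b_smul_r c b a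
  have k : ∀ {U W : Submodule F V}, IsCompl U W → (∀ u ∈ W, ∀ v ∈ W, β u v = 0) → Function.Injective (B.flip.compl₁₂ W.subtype U.subtype) :=
    fun h hW => (injective_iff_map_eq_zero _).2 fun w e => Subtype.ext (perp_zero h (fun u hu => LinearMap.congr_fun e ⟨u, hu⟩) fun u hu => hW u hu _ w.2)
  have a1 := LinearMap.finrank_le_finrank_of_injective (k h hW)
  have a2 := LinearMap.finrank_le_finrank_of_injective (k h.symm hU)
  have a3 := Submodule.finrank_add_eq_of_isCompl h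
  have a4 : finrank F (U →ₗ[F] F) = finrank F U := Subspace.dual_finrank_eq
  have a5 : finrank F (W →ₗ[F] F) = finrank F W := Subspace.dual_finrank_eq
  simp only [finrank_fintype_fun_eq_card, Fintype.card_sum, Fintype.card_fin] at a3
  let b := Module.finBasisOfFinrankEq F U (show finrank F U = m by omega)
  choose c hc using fun j => (LinearMap.injective_iff_surjective_of_finrank_eq_finrank (by omega)).1 (k h hW) (-b.coord j)
  have c1 : ∀ i j, β (b i) (c j) = -if j = i then 1 else 0 := fun i j => by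
    simpa [B, Finsupp.single_apply, eq_comm] using LinearMap.congr_fun (hc j) (b i)
  let w : Fin m ⊕ Fin m → V := Sum.elim (fun i => b i) fun i => c i
  have e : ∀ v, (of w)ᵀ *ᵥ v = ∑ l, v l • w l := fun v => by ext; simp [mulVec, dotProduct, Finset.sum_apply, mul_comm]
  have e1 : ∀ l, (of w)ᵀ *ᵥ Pi.single l 1 = w l := fun l => by ext; simp
  refine ⟨⟨(of w)ᵀ, (mem_symplecticGroup_iff_form m).2 fun u v => ?_⟩, fun v hv => ?_, fun v hv => ?_⟩
  · refine LinearMap.congr_fun₂ (LinearMap.ext_basis (B := B.compl₁₂ (toLin' (of w)ᵀ) (toLin' (of w)ᵀ)) (B' := B) (Pi.basisFun F _) (Pi.basisFun F _) fun i j => ?_) u v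
    simp only [LinearMap.compl₁₂_apply, toLin'_apply, Pi.basisFun_apply, e1, B, LinearMap.mk₂_apply]
    rcases i with i | i <;> rcases j with j | j
    · exact (hU _ (b i).2 _ (b j).2).trans (by simp [sympForm_eq])
    · exact (c1 i j).trans (by simp [sympForm_eq, Pi.single_apply, eq_comm])
    · exact ((b_anti _ _).trans (congrArg Neg.neg (c1 j i))).trans (by simp [sympForm_eq, Pi.single_apply, eq_comm])
    · exact (hW _ (c i).2 _ (c j).2).trans (by simp [sympForm_eq])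
  · rw [e, Fintype.sum_sum_type]
    simpa [hv, w] using U.sum_mem fun i _ => U.smul_mem (v (.inl i)) (b i).2
  · rw [e, Fintype.sum_sum_type]
    simpa [hv, w] using W.sum_mem fun i _ => W.smul_mem (v (.inr i)) (c i).2

theorem card_pairs : Nat.card {P : Submodule F V × Submodule F V // IsCompl P.1 P.2 ∧ (∀ u ∈ P.1, ∀ v ∈ P.1, β u v = 0) ∧ (∀ u ∈ P.2, ∀ v ∈ P.2, β u v = 0)} *
    Nat.card (GL (Fin m) F) = Nat.card Sp := by
  set X := {P : Submodule F V × Submodule F V // IsCompl P.1 P.2 ∧ (∀ u ∈ P.1, ∀ v ∈ P.1, β u v = 0) ∧ (∀ u ∈ P.2, ∀ v ∈ P.2, β u v = 0)}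
  letI : MulAction Sp X :=
    { smul g P := ⟨(P.1.1.comap (toLin' (g⁻¹).1), P.1.2.comap (toLin' (g⁻¹).1)),
        (Submodule.orderIsoMapComap (spEquiv m F g⁻¹).1).symm.isCompl P.2.1,
        fun u hu v hv => (b_inv g⁻¹ u v).symm.trans (P.2.2.1 _ hu _ hv), fun u hu v hv => (b_inv g⁻¹ u v).symm.trans (P.2.2.2 _ hu _ hv)⟩
      one_smul P := Subtype.ext (Prod.ext (Submodule.ext fun v => iff_of_eq (congrArg (· ∈ P.1.1) (inv_act 1 v ▸ by simp)))
        (Submodule.ext fun v => iff_of_eq (congrArg (· ∈ P.1.2) (inv_act 1 v ▸ by simp))))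
      mul_smul a b P := Subtype.ext (Prod.ext
        (Submodule.ext fun v => iff_of_eq (congrArg (· ∈ P.1.1) (show ((a * b)⁻¹).1 *ᵥ v = _ by rw [_root_.mul_inv_rev, mul_act]; rfl)))
        (Submodule.ext fun v => iff_of_eq (congrArg (· ∈ P.1.2) (show ((a * b)⁻¹).1 *ᵥ v = _ by rw [_root_.mul_inv_rev, mul_act]; rfl)))) }
  have s1 : ∀ (g : Sp) (Q : X) v, v ∈ (g⁻¹ • Q).1.1 ↔ g.1 *ᵥ v ∈ Q.1.1 := fun g Q v => by
    change ((g⁻¹)⁻¹).1 *ᵥ v ∈ Q.1.1 ↔ _; rw [inv_inv]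
  have s2 : ∀ (g : Sp) (Q : X) v, v ∈ (g⁻¹ • Q).1.2 ↔ g.1 *ᵥ v ∈ Q.1.2 := fun g Q v => by
    change ((g⁻¹)⁻¹).1 *ᵥ v ∈ Q.1.2 ↔ _; rw [inv_inv]
  let U : Submodule F V := LinearMap.ker (LinearMap.funLeft F F Sum.inr)
  let W : Submodule F V := LinearMap.ker (LinearMap.funLeft F F Sum.inl)
  have u : ∀ v, v ∈ U ↔ ∀ i, v (.inr i) = 0 := fun v => funext_iff
  have w : ∀ v, v ∈ W ↔ ∀ i, v (.inl i) = 0 := fun v => funext_iff
  let P : X := ⟨(U, W), ⟨Submodule.disjoint_def.2 fun v a b => funext fun l => l.rec ((w v).1 b) ((u v).1 a), codisjoint_iff.2 (eq_top_iff.2 fun v _ => by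
      rw [show v = (Sum.elim (v ∘ .inl) (fun _ => 0) : V) + Sum.elim (fun _ => 0) (v ∘ .inr) by ext (l | l) <;> simp]
      exact Submodule.add_mem_sup ((u _).2 fun _ => rfl) ((w _).2 fun _ => rfl))⟩,
    fun a ha b hb => by simp [sympForm_eq, (u a).1 ha, (u b).1 hb], fun a ha b hb => by simp [sympForm_eq, (w a).1 ha, (w b).1 hb]⟩
  have k : ∀ {a b c d : Submodule F V}, IsCompl a b → IsCompl c d → a ≤ c → b ≤ d → c = a := fun h h' i j =>
    (eq_of_le_of_inf_le_of_le_sup i (((inf_le_inf_left _ j).trans h'.inf_eq_bot.le).trans bot_le) (le_top.trans h.sup_eq_top.ge)).symm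
  haveI : MulAction.IsPretransitive Sp X := MulAction.IsPretransitive.of_orbit (x₀ := P) fun Q => by
    obtain ⟨g, a, b⟩ := exists_map Q.2.1 Q.2.2.1 Q.2.2.2
    refine ⟨g, smul_eq_iff_eq_inv_smul g |>.2 (Subtype.ext (Prod.ext ?_ ?_)).symm⟩
    · exact k P.2.1 (g⁻¹ • Q).2.1 (fun v hv => (s1 _ _ _).2 (a v ((u v).1 hv))) fun v hv => (s2 _ _ _).2 (b v ((w v).1 hv))
    · exact k P.2.1.symm (g⁻¹ • Q).2.1.symm (fun v hv => (s2 _ _ _).2 (b v ((w v).1 hv))) fun v hv => (s1 _ _ _).2 (a v ((u v).1 hv))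
  obtain ⟨φ⟩ := S0778.result (F := F) m
  rw [← Nat.card_congr φ.toEquiv, ← MulAction.index_stabilizer_of_transitive Sp P, ← (MulAction.stabilizer Sp P).index_mul_card]
  congr 3
  ext g
  rw [← inv_mem_iff (H := MulAction.stabilizer Sp P), MulAction.mem_stabilizer_iff, Subtype.ext_iff, Prod.ext_iff, SetLike.ext_iff, SetLike.ext_iff]
  exact and_congr (forall_congr' fun v => ((iff_congr ((s1 g P v).trans (u _)) (u v)).trans iff_comm).symm)
    (forall_congr' fun v => ((iff_congr ((s2 g P v).trans (w _)) (w v)).trans iff_comm).symm)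

theorem arith {N q d : ℕ} (hq : 1 < q) (h : N * ∏ i : Fin d, (q ^ d - q ^ (i : ℕ)) = q ^ (d ^ 2) * ∏ i ∈ Finset.range d, (q ^ (2 * (i + 1)) - 1)) :
    ∃ s, N * q ^ s = q ^ (d ^ 2) * ∏ i ∈ Finset.range d, (q ^ (i + 1) + 1) := by
  rw [Fin.prod_univ_eq_prod_range (fun i => q ^ d - q ^ i) d, Finset.prod_congr rfl (g := fun i => q ^ i * (q ^ (d - 1 - i + 1) - 1)) fun i hi => by
      rw [Nat.mul_sub_one, ← pow_add, show i + (d - 1 - i + 1) = d by have := Finset.mem_range.1 hi; omega],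
    Finset.prod_mul_distrib, Finset.prod_pow_eq_pow_sum, Finset.prod_range_reflect (fun i => q ^ (i + 1) - 1),
    Finset.prod_congr rfl (f := fun i => q ^ (2 * (i + 1)) - 1) (g := fun i => (q ^ (i + 1) + 1) * (q ^ (i + 1) - 1)) fun i _ => by
      rw [← Nat.sq_sub_sq, one_pow, ← pow_mul, mul_comm], Finset.prod_mul_distrib, ← mul_assoc, ← mul_assoc] at h
  exact ⟨_, Nat.eq_of_mul_eq_mul_right (Finset.prod_pos fun i _ => Nat.sub_pos_of_lt (Nat.one_lt_pow (by omega) hq)) h⟩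

theorem minimal {q r : ℕ} (hr : r.Prime) (h2 : r ≠ 2) (hq : q ≠ 0) (h : ∃ i, r ∣ q ^ (i + 1) + 1) {j : ℕ} (j1 : 0 < j) (j2 : j < 2 * (Nat.find h + 1)) :
    ¬r ∣ q ^ j - 1 := fun e => by
  have := Fact.mk hr
  have a : ∀ i, r ∣ q ^ i + 1 ↔ (q : ZMod r) ^ i = -1 := fun i => by
    rw [← ZMod.natCast_eq_zero_iff, ← add_eq_zero_iff_eq_neg]; simp
  have b := (a _).1 (Nat.find_spec h)
  rw [← ZMod.natCast_eq_zero_iff, Nat.cast_sub (Nat.one_le_pow _ _ (by omega)), sub_eq_zero, Nat.cast_pow, Nat.cast_one] at e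
  rcases lt_trichotomy j (Nat.find h + 1) with c | c | c
  · obtain ⟨k, hk⟩ := Nat.exists_eq_add_of_lt c
    refine Nat.find_min h (m := k) (by omega) ((a _).2 ?_)
    rwa [hk, add_assoc, pow_add, e, one_mul] at b
  · rw [← c, e, eq_neg_iff_add_eq_zero, one_add_one_eq_two] at b
    exact h2 ((Nat.prime_dvd_prime_iff_eq hr Nat.prime_two).1 ((ZMod.natCast_eq_zero_iff 2 r).1 b))
  obtain ⟨k, hk⟩ := Nat.exists_eq_add_of_lt c
  refine Nat.find_min h (m := k) (by omega) ((a _).2 ?_)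
  rw [hk, add_assoc, pow_add, b, neg_one_mul, neg_eq_iff_eq_neg] at e
  exact e

end Cfsg.Agent.Chev.LagD
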