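import Cfsg.Agent.Lib.Chev.Fix

set_option autoImplicit false
set_option linter.unusedSectionVars false
set_option linter.style.haveILetI false

/-! Lifting root elements through central extensions. -/

namespace Cfsg.Agent.Chev

open scoped commutatorElement

section Central
variable {E G : Type*} [Group E] [Group G] {π : E →* G}

variable (π) in
/-- the elements whose lifts commute with the lifts of `s` -/
def LC (s : G) : Subgroup G := (Subgroup.centralizer (π ⁻¹' {s})).map π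

variable (hc : π.ker ≤ Subgroup.center E)
include hc

theorem ker_comm {z : E} (hz : π z = 1) (e : E) : e * z = z * e := Subgroup.mem_center_iff.1 (hc hz) e

theorem conj_congr {a a' : E} (h : π a = π a') (b : E) : a * b * a⁻¹ = a' * b * a'⁻¹ := by
  have := ker_comm hc (z := a'⁻¹ * a) (by simp [h]) b
  calc a * b * a⁻¹ = a' * (a'⁻¹ * a * b) * a⁻¹ := by group
    _ = _ := by rw [← this]; group

theorem comm_congr {a a' b b' : E} (h : π a = π a') (h' : π b = π b') : ⁅a, b⁆ = ⁅a', b'⁆ := by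
  rw [commutatorElement_def, conj_congr hc h, ← commutatorElement_def, ← commutatorElement_inv, commutatorElement_def,
    conj_congr hc h', ← commutatorElement_def, commutatorElement_inv]

theorem mem_LC {a b : E} : π a ∈ LC π (π b) ↔ Commute a b := by
  refine ⟨?_, fun h => ⟨a, fun b' hb => ?_, rfl⟩⟩
  · rintro ⟨a', h, e⟩
    rw [← commutatorElement_eq_one_iff_commute, ← comm_congr hc e rfl, commutatorElement_eq_one_iff_commute]
    exact (h b rfl).symm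
  · refine (Commute.symm (commutatorElement_eq_one_iff_commute.1 ?_)).eq
    rw [comm_congr hc rfl hb, commutatorElement_eq_one_iff_commute.2 h]

variable (hs : Function.Surjective π)
include hs

theorem LC_symm {a b : G} (h : a ∈ LC π b) : b ∈ LC π a := by
  obtain ⟨a, rfl⟩ := hs a
  obtain ⟨b, rfl⟩ := hs b
  exact (mem_LC hc).2 ((mem_LC hc).1 h).symm

theorem LC_conj {a b : G} (h : a ∈ LC π b) (k : G) : k * a * k⁻¹ ∈ LC π (k * b * k⁻¹) := by
  obtain ⟨a, rfl⟩ := hs a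
  obtain ⟨b, rfl⟩ := hs b
  obtain ⟨k, rfl⟩ := hs k
  simpa using (mem_LC hc).2 (((mem_LC hc).1 h).map (MulAut.conj k))

theorem comm_mem_LC {a b s : G} (h : Commute a s) (h' : Commute b s) : ⁅a, b⁆ ∈ LC π s := by
  obtain ⟨a, rfl⟩ := hs a
  obtain ⟨b, rfl⟩ := hs b
  obtain ⟨s, rfl⟩ := hs s
  rw [← map_commutatorElement, mem_LC hc]
  refine (mul_inv_eq_iff_eq_mul.1 ?_).symm
  rw [conjugate_commutatorElement]
  exact comm_congr hc (by simp [← h.eq]) (by simp [← h'.eq])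

omit hs in
/-- the central defect of commutators modulo a complement `W` -/
theorem exists_pairing {W M N : Subgroup E} (hW : ∀ w ∈ W, π w = 1 → w = 1) (hMN : M ≤ N)
    (hN : ∀ n ∈ N, ∀ w ∈ W, n * w * n⁻¹ ∈ W) (h : ∀ a ∈ M, ∀ u ∈ N, π ⁅a, u⁆ ∈ W.map π) :
    ∃ f : E → E → E, (∀ a ∈ M, ∀ u ∈ N, π (f a u) = 1 ∧ (f a u = 1 ↔ ⁅a, u⁆ ∈ W)) ∧
      (∀ a ∈ M, ∀ a' ∈ M, ∀ u ∈ N, f (a * a') u = f a u * f a' u) ∧
      (∀ a ∈ M, ∀ u ∈ N, ∀ u' ∈ N, f a (u * u') = f a u * f a u') ∧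
      ∀ e, (∀ w ∈ W, e * w * e⁻¹ ∈ W) → ∀ a ∈ M, ∀ u ∈ N, ∀ a' ∈ M, ∀ u' ∈ N, π a' = π (e * a * e⁻¹) →
        π u' = π (e * u * e⁻¹) → f a' u' = f a u := by
  have h1 : ∀ a u, ∃ z, a ∈ M → u ∈ N → π z = 1 ∧ ⁅a, u⁆ * z⁻¹ ∈ W := fun a u => by
    by_cases h0 : a ∈ M ∧ u ∈ N
    · obtain ⟨w, hw, e⟩ := h a h0.1 u h0.2
      exact ⟨w⁻¹ * ⁅a, u⁆, fun _ _ => ⟨by rw [map_mul, map_inv, e, inv_mul_cancel], by
        rwa [mul_inv_rev, inv_inv, mul_inv_cancel_left]⟩⟩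
    · exact ⟨1, fun a b => absurd ⟨a, b⟩ h0⟩
  choose f hf using h1
  have h2 : ∀ a ∈ M, ∀ u ∈ N, ∀ z, π z = 1 → ⁅a, u⁆ * z⁻¹ ∈ W → f a u = z := fun a ha u hu z hz hw => by
    have := hW _ (mul_mem (inv_mem hw) (hf a u ha hu).2) (by
      simp only [map_mul, map_inv, hz, (hf a u ha hu).1, inv_mul_cancel])
    simpa using (inv_mul_eq_one.1 this).symm
  refine ⟨f, fun a ha u hu => ⟨(hf a u ha hu).1, fun e => by simpa [e] using (hf a u ha hu).2,
    fun e => h2 a ha u hu 1 (map_one _) (by simpa using e)⟩, fun a ha a' ha' u hu => ?_, fun a ha u hu u' hu' => ?_,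
    fun e he a ha u hu a' ha' u' hu' e1 e2 => ?_⟩
  · obtain ⟨b1, b2⟩ := hf a u ha hu
    obtain ⟨b3, b4⟩ := hf a' u ha' hu
    refine h2 _ (mul_mem ha ha') _ hu _ (by simp [b1, b3]) ?_
    convert mul_mem (hN a (hMN ha) _ b4) b2 using 1
    have := ker_comm hc (z := (f a' u)⁻¹) (by simp [b3]) (a⁻¹ * ⁅a, u⁆)
    calc _ = a * ⁅a', u⁆ * (a⁻¹ * ⁅a, u⁆ * (f a' u)⁻¹) * (f a u)⁻¹ := by simp only [commutatorElement_def]; group
      _ = _ := by rw [this]; group
  · obtain ⟨b1, b2⟩ := hf a u ha hu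
    obtain ⟨b3, b4⟩ := hf a u' ha hu'
    refine h2 _ ha _ (mul_mem hu hu') _ (by simp [b1, b3]) ?_
    convert mul_mem b2 (hN u hu _ b4) using 1
    have h3 := ker_comm hc (z := (f a u')⁻¹) (by simp [b3]) u⁻¹
    have h4 := ker_comm hc (z := (f a u)⁻¹) (by simp [b1]) (u * (⁅a, u'⁆ * (f a u')⁻¹) * u⁻¹)
    rw [mul_assoc ⁅a, u⁆, ← h4, ← mul_assoc u, mul_assoc (u * _), ← h3]
    simp only [commutatorElement_def]; group
  · obtain ⟨b1, b2⟩ := hf a u ha hu
    refine h2 _ ha' _ hu' _ b1 ?_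
    convert he _ b2 using 1
    rw [comm_congr hc e1 e2, ← conjugate_commutatorElement, mul_assoc, mul_assoc,
      ker_comm hc (z := (f a u)⁻¹) (by simp [b1]) e⁻¹]
    group

end Central

variable {I R : Type} [Fintype I] [DecidableEq I] [Fintype R] [DecidableEq R]

theorem RS.dom2 {Φ : RS I R} {p : R → R → Prop}
    (h1 : ∀ r s, (∀ i, 0 ≤ Φ.A i r) → (∀ i, Φ.A i r = 0 → 0 ≤ Φ.A i s) → p r s)
    (h2 : ∀ i r s, p r s → p (Φ.rf i r) (Φ.rf i s)) (r s : R) : p r s := by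
  obtain ⟨M, hM⟩ := (Set.finite_range Φ.ht).bddAbove
  have hM' := fun r => hM ⟨r, rfl⟩
  induction hr : (M - Φ.ht r).toNat using Nat.strong_induction_on generalizing r s with
  | _ m ih =>
  induction hs : (M - Φ.ht s).toNat using Nat.strong_induction_on generalizing s with
  | _ n ih' =>
  by_cases a1 : ∀ i, 0 ≤ Φ.A i r
  · by_cases a2 : ∀ i, Φ.A i r = 0 → 0 ≤ Φ.A i s
    · exact h1 r s a1 a2
    push Not at a2
    obtain ⟨i, a2, a3⟩ := a2
    have := h2 i _ _ (ih' _ (by have := hM' (Φ.rf i s); rw [RS.ht_rf] at *; omega) (Φ.rf i s) rfl)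
    rwa [Φ.rf_rf, Φ.rf_of_A_eq_zero a2] at this
  · push Not at a1
    obtain ⟨i, a1⟩ := a1
    have := h2 i _ _ (ih _ (by have := hM' (Φ.rf i r); rw [RS.ht_rf] at *; omega) (Φ.rf i r) (Φ.rf i s) rfl)
    rwa [Φ.rf_rf, Φ.rf_rf] at this

namespace St
variable {Φ : CD I R} {F : Type*} [Field F] {G : Type*} [Group G] {S : St Φ F G} {E : Type*} [Group E] {π : E →* G}

variable (S π) in
/-- the lifts of two root groups commute -/
def Cm (r s : R) : Prop := ∀ t u, S.x r t ∈ LC π (S.x s u)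

variable (S) in
/-- a torus element moving `r` and fixing `s` -/
def T1 (r s : R) : Prop := ∃ h ∈ S.H, ∃ a, S.IsTor h a ∧ RS.chi a (Φ.rv s) = 1 ∧ RS.chi a (Φ.rv r) ≠ 1

variable (S π) in
/-- an additive equivariant lift of a root group -/
structure IsLift (r : R) (y : F → E) : Prop where
  map : ∀ t, π (y t) = S.x r t
  add : ∀ t u, y t * y u = y (t + u)
  tor : ∀ e a, S.IsTor (π e) a → ∀ t, e * y t * e⁻¹ = y (RS.chi a (Φ.rv r) * t)

theorem IsLift.zero {r : R} {y : F → E} (h : S.IsLift π r y) : y 0 = 1 := by simpa using h.add 0 0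

theorem IsLift.inv {r : R} {y : F → E} (h : S.IsLift π r y) (t : F) : (y t)⁻¹ = y (-t) :=
  inv_eq_of_mul_eq_one_right (by rw [h.add, add_neg_cancel, h.zero])

theorem IsTor.comm_x {h : G} {a : I → Fˣ} (ha : S.IsTor h a) (r : R) (t : F) :
    ⁅h, S.x r t⁆ = S.x r ((RS.chi a (Φ.rv r) - 1) * t) := by
  rw [commutatorElement_def, ha.2, x_inv, S.add]; congr 1; ring

theorem T1.of_h {r s k : R} {c : Fˣ} (h : c ^ Φ.pair k s = 1) (h' : c ^ Φ.pair k r ≠ 1) : S.T1 r s :=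
  ⟨_, h_mem k c, _, isTor_h k c, by rwa [RS.chi_pair], by rwa [RS.chi_pair]⟩

theorem T1.smul {r s : R} (h : S.T1 r s) (w : Φ.W) : S.T1 (w • r) (w • s) := by
  obtain ⟨h, hh, a, ha, h1, h2⟩ := h
  obtain ⟨m, hm, hw⟩ := exists_of_W (S := S) w
  have h3 := ha.conj hh hm hw
  refine ⟨_, conj_mem_H hm hh, _, h3, ?_⟩
  obtain ⟨χ, -, hχ⟩ := hw
  have : ∀ k, RS.chi (fun j => RS.chi a (Φ.rv (w⁻¹ • Φ.sim j))) (Φ.rv (w • k)) = RS.chi a (Φ.rv k) := fun k => by
    have := h3.2 (w • k) (χ k * 1)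
    rw [← hχ, show ∀ y, m * h * m⁻¹ * (m * y * m⁻¹) * (m * h * m⁻¹)⁻¹ = m * (h * y * h⁻¹) * m⁻¹ from fun y => by group,
      ha.2, hχ] at this
    exact Units.ext (mul_left_cancel₀ (χ k).ne_zero (by linear_combination - x_inj this))
  rw [this, this]
  exact ⟨h1, h2⟩

variable (hc : π.ker ≤ Subgroup.center E) (hs : Function.Surjective π)
include hc hs

theorem Cm.symm {r s : R} (h : S.Cm π r s) : S.Cm π s r := fun t u => LC_symm hc hs (h u t)

theorem Cm.smul {r s : R} (h : S.Cm π r s) (w : Φ.W) : S.Cm π (w • r) (w • s) := fun t u => by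
  obtain ⟨m, -, χ, -, hm⟩ := exists_of_W (S := S) w
  simpa [hm] using LC_conj hc hs (h ((χ r)⁻¹ * t) ((χ s)⁻¹ * u)) m

theorem T1.cm {r s : R} (h : S.T1 r s) (h' : ∀ t u, Commute (S.x r t) (S.x s u)) : S.Cm π r s := fun t u => by
  obtain ⟨h, -, a, ha, h1, h2⟩ := h
  have h3 : (RS.chi a (Φ.rv r) : F) - 1 ≠ 0 := sub_ne_zero.2 (by simpa using h2)
  have := comm_mem_LC hc hs (a := h) (mul_inv_eq_iff_eq_mul.1 (by rw [ha.2, h1]; simp)) (h' (t / (RS.chi a (Φ.rv r) - 1)) u)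
  rwa [ha.comm_x, mul_div_cancel₀ _ h3] at this

theorem exists_isLift (hG : S.Gx = ⊤) {r : R} (h : S.Cm π r r) {h₀ : G} {a₀ : I → Fˣ} (ha : S.IsTor h₀ a₀)
    (h1 : RS.chi a₀ (Φ.rv r) ≠ 1) : ∃ y, S.IsLift π r y := by
  obtain ⟨e₀, rfl⟩ := hs h₀
  choose l hl using hs
  have h3 : (RS.chi a₀ (Φ.rv r) : F) - 1 ≠ 0 := sub_ne_zero.2 (by simpa using h1)
  have h4 : ∀ t, π ⁅e₀, l (S.x r (t / (RS.chi a₀ (Φ.rv r) - 1)))⁆ = S.x r t := fun t => by
    rw [map_commutatorElement, hl, ha.comm_x, mul_div_cancel₀ _ h3]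
  refine ⟨_, h4, fun t u => ?_, fun e a he t => ?_⟩
  · have := fun t u => comm_congr hc (a := e₀) rfl
      (show π (l (S.x r (t + u))) = π (l (S.x r t) * l (S.x r u)) by rw [hl, ← S.add, map_mul, hl, hl])
    rw [add_div, this, commutatorElement_mul_right_eq_mul_conj, mul_assoc, mul_assoc, ← mul_assoc (l _),
      ((mem_LC hc (a := l (S.x r (t / (RS.chi a₀ (Φ.rv r) - 1)))) (b := ⁅e₀, l (S.x r (u / (RS.chi a₀ (Φ.rv r) - 1)))⁆)).1
        (by rw [hl, h4]; exact h _ _)).eq, mul_inv_cancel_right]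
  · have hk : S.IsTor (π (e * e₀ * e⁻¹ * e₀⁻¹)) 1 := by
      simpa [mul_right_comm a] using ((he.mul ha).mul he.inv).mul ha.inv
    have h5 : ∀ b t, π b = S.x r t → Commute b (e * e₀ * e⁻¹ * e₀⁻¹) := fun b t hb => by
      rw [← mem_LC hc, hb, ← h4, map_commutatorElement]
      exact comm_mem_LC hc (fun g => ⟨l g, hl g⟩) (hk.commute (hG ▸ trivial)).symm (hk.commute (hG ▸ trivial)).symm
    rw [conjugate_commutatorElement, comm_congr hc rfl (b' := l (S.x r (RS.chi a (Φ.rv r) * t / (RS.chi a₀ (Φ.rv r) - 1))))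
      (by rw [map_mul, map_mul, map_inv, hl, hl, he.2, mul_div_assoc]),
      ← inv_mul_cancel_right (e * e₀ * e⁻¹) e₀, commutatorElement_mul_left_eq_conj_mul, ← (h5 _ _ (h4 _)).eq,
      commutatorElement_eq_one_iff_commute.2 (h5 _ _ (hl _)).symm]
    group

theorem exists_compl {y : R → F → E} (hy : ∀ r, S.IsLift π r (y r))
    (h : ∀ r s, s ≠ r → s ≠ Φ.neg r → S.T1 r s ∨ S.T1 s r ∨
      ∀ t u, ⁅y r t, y s u⁆ ∈ Subgroup.closure {g | ∃ k, Φ.Comb k r s ∧ ∃ v, g = y k v})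
    {f : I → ℤ} {A : Set R} (hA : Φ.Unip f A) {w : E} (hw : w ∈ Subgroup.closure {g | ∃ k ∈ A, ∃ v, g = y k v})
    (h1 : π w = 1) : w = 1 := by
  classical
  let W : Set R → Subgroup E := fun B => Subgroup.closure {g | ∃ k ∈ B, ∃ v, g = y k v}
  have hW : ∀ {B r} t, r ∈ B → y r t ∈ W B := fun t hr => Subgroup.subset_closure ⟨_, hr, t, rfl⟩
  have hW' : ∀ {B} {K : Subgroup E}, (∀ r ∈ B, ∀ t, y r t ∈ K) → W B ≤ K := fun h =>
    (Subgroup.closure_le _).2 (by rintro _ ⟨r, hr, t, rfl⟩; exact h r hr t)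
  have hm : ∀ B, (W B).map π = S.Ux B := fun B => by
    rw [MonoidHom.map_closure, Ux]
    congr 1
    ext g
    exact ⟨by rintro ⟨_, ⟨r, hr, t, rfl⟩, rfl⟩; exact ⟨r, hr, t, (hy r).map t⟩,
      by rintro ⟨r, hr, t, rfl⟩; exact ⟨_, ⟨r, hr, t, rfl⟩, (hy r).map t⟩⟩
  have hn : ∀ {B C} {e : E}, (∀ r ∈ B, ∀ t, e * y r t * e⁻¹ ∈ W C) → ∀ w ∈ W B, e * w * e⁻¹ ∈ W C :=
    fun {B C e} h w hw => hW' (K := (W C).comap (MulAut.conj e).toMonoidHom) h hw
  suffices ∀ B : Finset R, (∀ r ∈ B, r ∈ A ∧ ∀ k ∈ A, Φ.fn f r < Φ.fn f k → k ∈ B) →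
      (∀ w ∈ W B, π w = 1 → w = 1) ∧ ∀ n ∈ W A, ∀ w ∈ W B, n * w * n⁻¹ ∈ W B from
    (this A.toFinset (by simp +contextual)).1 w (by simpa using hw) h1
  intro B
  induction B using Finset.induction_on_min_value (Φ.fn f) with
  | empty => simp [W]
  | insert r B hrB hr ih =>
  intro hB
  have hrA := (hB r (by simp)).1
  have hlt : ∀ {k s}, s ∈ A → Φ.Comb k r s → k ∈ B := fun {k s} hs hk => by
    have := hk.fn_le (hA.pos _ hrA).le (hA.pos _ hs).le
    have h2 := hA.pos _ hs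
    exact (Finset.mem_insert.1 ((hB r (by simp)).2 k (hA.closed _ hrA _ hs _ hk) (by omega))).resolve_left
      (by rintro rfl; omega)
  obtain ⟨b1, b2⟩ := ih fun s hs => ⟨(hB s (Finset.mem_insert_of_mem hs)).1, fun k hk e =>
    (Finset.mem_insert.1 ((hB s (Finset.mem_insert_of_mem hs)).2 k hk e)).resolve_left (by rintro rfl; have := hr s hs; omega)⟩
  have hBA : W B ≤ W A := hW' fun s hs t => hW t (hB s (Finset.mem_insert_of_mem hs)).1
  have hrr : W {r} ≤ W A := hW' fun s hs t => hW t (hs ▸ hrA)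
  have b0 : ∀ a ∈ W {r}, ∃ t, a = y r t := fun a ha => by
    induction ha using Subgroup.closure_induction with
    | mem a ha => obtain ⟨_, rfl, t, rfl⟩ := ha; exact ⟨t, rfl⟩
    | one => exact ⟨0, (hy r).zero.symm⟩
    | mul a b _ _ ha hb => obtain ⟨t, rfl⟩ := ha; obtain ⟨u, rfl⟩ := hb; exact ⟨_, (hy r).add _ _⟩
    | inv a _ ha => obtain ⟨t, rfl⟩ := ha; exact ⟨_, (hy r).inv t⟩
  obtain ⟨g, g1, g2, g3, g4⟩ := exists_pairing hc b1 hrr b2 fun a ha u hu => by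
    rw [hm, map_commutatorElement]
    refine comm_closure_mem (K := S.Ux B) (s := {g | ∃ k ∈ ({r} : Set R), ∃ t, g = S.x k t})
      (t := {g | ∃ k ∈ A, ∃ t, g = S.x k t}) (fun a ha k hk => ?_) (fun a ha k hk => ?_) ?_
      (by have := hm {r} ▸ Subgroup.mem_map_of_mem π ha; exact this) (by have := hm A ▸ Subgroup.mem_map_of_mem π hu; exact this)
    · obtain ⟨a, ha', rfl⟩ := (hm {r}).ge ha
      obtain ⟨k, hk', rfl⟩ := (hm B).ge hk
      simpa using (hm _).le (Subgroup.mem_map_of_mem π (b2 a (hrr ha') k hk'))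
    · obtain ⟨a, ha', rfl⟩ := (hm A).ge ha
      obtain ⟨k, hk', rfl⟩ := (hm B).ge hk
      simpa using (hm _).le (Subgroup.mem_map_of_mem π (b2 a ha' k hk'))
    · rintro _ ⟨_, rfl, t, rfl⟩ _ ⟨s, hs, u, rfl⟩
      exact comm_mem (hA.ne_neg hs hrA) (fun k hk => hlt hs hk.symm) _ _
  have b3 : ∀ s ∈ A, ∀ t u, ⁅y r t, y s u⁆ ∈ W B := fun s hsA t u => by
    by_cases e : s = r
    · rw [e, commutatorElement_eq_one_iff_commute.2 (by rw [Commute, SemiconjBy, (hy r).add, (hy r).add, add_comm])]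
      exact one_mem _
    have g5 : ∀ e a, S.IsTor (π e) a → ∀ t u, g (y r (RS.chi a (Φ.rv r) * t)) (y s (RS.chi a (Φ.rv s) * u)) =
        g (y r t) (y s u) := fun e a he t u =>
      g4 e (hn fun k hk v => (hy k).tor e a he v ▸ hW _ hk) _ (hW _ rfl) _ (hW _ hsA) _ (hW _ rfl) _ (hW _ hsA)
        (by rw [(hy r).tor e a he]) (by rw [(hy s).tor e a he])
    rcases h r s e (hA.ne_neg hrA hsA) with ⟨k, -, a, ha, h1, h2⟩ | ⟨k, -, a, ha, h1, h2⟩ | h
    · obtain ⟨k, rfl⟩ := hs k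
      have h3 : (RS.chi a (Φ.rv r) : F) - 1 ≠ 0 := sub_ne_zero.2 (by simpa using h2)
      have := g5 k a ha (t / (RS.chi a (Φ.rv r) - 1)) u
      rw [h1, Units.val_one, one_mul, show _ * (t / _) = t + t / (RS.chi a (Φ.rv r) - 1) by field_simp; ring,
        ← (hy r).add, g2 _ (hW _ rfl) _ (hW _ rfl) _ (hW _ hsA), mul_eq_right] at this
      exact (g1 _ (hW _ rfl) _ (hW _ hsA)).2.1 this
    · obtain ⟨k, rfl⟩ := hs k
      have h3 : (RS.chi a (Φ.rv s) : F) - 1 ≠ 0 := sub_ne_zero.2 (by simpa using h2)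
      have := g5 k a ha t (u / (RS.chi a (Φ.rv s) - 1))
      rw [h1, Units.val_one, one_mul, show _ * (u / _) = u + u / (RS.chi a (Φ.rv s) - 1) by field_simp; ring,
        ← (hy s).add, g3 _ (hW _ rfl) _ (hW _ hsA) _ (hW _ hsA), mul_eq_right] at this
      exact (g1 _ (hW _ rfl) _ (hW _ hsA)).2.1 this
    · exact hW' (B := {k | Φ.Comb k r s}) (fun k hk v => hW v (hlt hsA hk)) (h t u)
  have hle : W B ≤ W (insert r B : Finset R) := hW' fun s hs t => hW t (by simp [show s ∈ B from hs])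
  refine ⟨fun w hw e => ?_, fun n hn' => hn fun k hk t => ?_⟩
  · obtain ⟨a, ha, w, hw', rfl⟩ := (mem_sup_iff_of_conj (A := W B) (K := W {r}) fun k hk => b2 k (hrr hk)).1
      (hW' (fun k hk t => (Finset.mem_insert.1 hk).elim (fun e => Subgroup.mem_sup_right (hW t e))
        fun e => Subgroup.mem_sup_left (hW t e)) hw)
    obtain ⟨t, rfl⟩ := b0 w hw'
    have h2 : S.x r t ∈ S.Ux B := by
      rw [map_mul, (hy r).map, mul_eq_one_iff_inv_eq] at e
      exact e ▸ inv_mem ((hm _).le (Subgroup.mem_map_of_mem π ha))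
    have h3 : ∀ g ∈ S.Ux B, S.cf r g = 0 := fun g hg => Ux_induction (p := fun g => S.cf r g = 0) (cf_one r)
      (fun k hk v g hg ih => by
        rw [cf_mul (hA.pos _ hrA) hr hg (x_mem hk v), ih, cf_x, if_neg (by rintro rfl; exact hrB hk), add_zero]) hg
    obtain rfl : t = 0 := by simpa [cf_x] using h3 _ h2
    rw [(hy r).zero, mul_one] at e ⊢
    exact b1 a ha e
  · refine (Finset.mem_insert.1 hk).elim (fun e => ?_) fun e => hle (b2 n hn' _ (hW t e))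
    subst e
    have : ∀ n ∈ W A, ⁅y k t, n⁆ ∈ W B := fun n hn => by
      induction hn using Subgroup.closure_induction with
      | mem a ha => obtain ⟨s, hs, u, rfl⟩ := ha; exact b3 s hs t u
      | one => simp
      | mul a b ha _ h1 h2 => rw [commutatorElement_mul_right_eq_mul_conj]; simpa only [mul_assoc] using mul_mem h1 (b2 a ha _ h2)
      | inv a ha h1 =>
        have := inv_mem (b2 _ (inv_mem ha) _ h1)
        simp only [commutatorElement_def] at this ⊢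
        convert this using 1; group
    have := mul_mem (inv_mem (hle (this n hn'))) (hW t (Finset.mem_coe.2 (Finset.mem_insert_self k B)))
    simp only [commutatorElement_def] at this
    convert this using 1; group

theorem rel_of_lift {y : R → F → E} (hy : ∀ r, S.IsLift π r (y r))
    (h : ∀ r s, s ≠ r → s ≠ Φ.neg r → S.T1 r s ∨ S.T1 s r ∨
      ∀ t u, ⁅y r t, y s u⁆ ∈ Subgroup.closure {g | ∃ k, Φ.Comb k r s ∧ ∃ v, g = y k v}) : Φ.Rel y := by
  refine ⟨fun r => (hy r).add, fun r s t u h1 h2 => ?_⟩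
  obtain ⟨f, h3, h4⟩ := RS.exists_fn_pos h2
  have hW : ∀ {k} v, 0 < Φ.fn f k → y k v ∈ Subgroup.closure {g | ∃ k ∈ {r | 0 < Φ.fn f r}, ∃ v, g = y k v} :=
    fun v hk => Subgroup.subset_closure ⟨_, hk, v, rfl⟩
  refine mul_inv_eq_one.1 (exists_compl hc hs hy h (RS.unip_fn f) (mul_mem (mul_mem (hW _ h4) (hW _ h3))
    (inv_mem (mul_mem (mul_mem (hW _ h3) (hW _ h4)) (list_prod_mem ?_)))) ?_)
  · simp only [List.mem_map]
    rintro _ ⟨c, hc, rfl⟩
    exact hW _ ((RS.unip_fn f).closed r h3 s h4 _ ⟨_, _, Φ.ct_rv r s c hc⟩)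
  · simp only [map_mul, map_inv, (hy _).map, S.comm r s t u h1 h2, map_list_prod, List.map_map, Function.comp_def,
      mul_inv_cancel]

end St
end Cfsg.Agent.Chev
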