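import Cfsg.Agent.Lib.Chev.Lift
import Cfsg.Prelude.Def_KGroupFacts

set_option autoImplicit false
set_option linter.unusedSectionVars false
set_option linter.style.haveILetI false

/-! Rules for commuting lifts of root elements. -/

namespace Cfsg.Agent.Chev

open scoped commutatorElement

section Central
variable {E G : Type*} [Group E] [Group G] {π : E →* G}

theorem self_mem_LC (hc : π.ker ≤ Subgroup.center E) (hs : Function.Surjective π) (a : G) : a ∈ LC π a := by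
  obtain ⟨a, rfl⟩ := hs a
  exact (mem_LC hc).2 (Commute.refl a)

/-- the commutator of lifts -/
noncomputable def lc (hs : Function.Surjective π) (a b : G) : E := ⁅Function.surjInv hs a, Function.surjInv hs b⁆

variable (hc : π.ker ≤ Subgroup.center E) (hs : Function.Surjective π)
include hc

theorem lc_eq (a b : E) : lc hs (π a) (π b) = ⁅a, b⁆ :=
  comm_congr hc (Function.surjInv_eq hs _) (Function.surjInv_eq hs _)

omit hc in
theorem map_lc (a b : G) : π (lc hs a b) = ⁅a, b⁆ := by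
  rw [lc, map_commutatorElement, Function.surjInv_eq hs, Function.surjInv_eq hs]

theorem lc_eq_one {a b : G} : lc hs a b = 1 ↔ a ∈ LC π b := by
  obtain ⟨a, rfl⟩ := hs a
  obtain ⟨b, rfl⟩ := hs b
  rw [lc_eq hc, mem_LC hc, commutatorElement_eq_one_iff_commute]

omit hc in
theorem lc_inv (a b : G) : (lc hs a b)⁻¹ = lc hs b a := commutatorElement_inv _ _

theorem lc_conj (e : E) (a b : G) : lc hs (π e * a * (π e)⁻¹) (π e * b * (π e)⁻¹) = e * lc hs a b * e⁻¹ := by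
  obtain ⟨a, rfl⟩ := hs a
  obtain ⟨b, rfl⟩ := hs b
  rw [lc_eq hc, conjugate_commutatorElement, ← lc_eq hc hs]
  simp

theorem lc_conj' (k : G) {a b : G} (h : Commute a b) : lc hs (k * a * k⁻¹) (k * b * k⁻¹) = lc hs a b := by
  obtain ⟨k, rfl⟩ := hs k
  rw [lc_conj hc, ker_comm hc (z := lc hs a b) (by rw [map_lc, h.commutator_eq]) k, mul_inv_cancel_right]

theorem lc_mul_left {a a' b : G} (h : a ∈ LC π ⁅a', b⁆) : lc hs (a * a') b = lc hs a' b * lc hs a b := by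
  obtain ⟨a, rfl⟩ := hs a
  obtain ⟨a', rfl⟩ := hs a'
  obtain ⟨b, rfl⟩ := hs b
  rw [← map_commutatorElement, mem_LC hc] at h
  rw [← map_mul, lc_eq hc, lc_eq hc, lc_eq hc, commutatorElement_mul_left_eq_conj_mul, h.eq, mul_inv_cancel_right]

theorem lc_mul_right {a b b' : G} (h : b ∈ LC π ⁅a, b'⁆) : lc hs a (b * b') = lc hs a b * lc hs a b' := by
  rw [← lc_inv, lc_mul_left hc hs (by
    rw [← commutatorElement_inv]; exact LC_symm hc hs (inv_mem (LC_symm hc hs h))), mul_inv_rev, lc_inv, lc_inv]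

include hs in
theorem mem_LC_one (a : G) : a ∈ LC π 1 := LC_symm hc hs (one_mem _)

theorem lc_chain {a b c : G} (h1 : a ∈ LC π c) (h2 : ⁅a, b⁆ ∈ LC π ⁅b, c⁆) (h3 : ⁅b, c⁆ ∈ LC π ⁅⁅a, b⁆, c⁆) :
    lc hs a ⁅b, c⁆ = lc hs ⁅a, b⁆ c := by
  obtain ⟨a, rfl⟩ := hs a
  obtain ⟨b, rfl⟩ := hs b
  obtain ⟨c, rfl⟩ := hs c
  simp only [← map_commutatorElement, mem_LC hc, lc_eq hc] at *
  have : a * ⁅b, c⁆ * a⁻¹ = ⁅⁅a, b⁆ * b, c⁆ := by
    rw [conjugate_commutatorElement, h1.eq, mul_inv_cancel_right, commutatorElement_def a b, inv_mul_cancel_right]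
  rw [commutatorElement_def a, this, commutatorElement_mul_left_eq_conj_mul, h2.eq, mul_inv_cancel_right, h3.eq,
    mul_inv_cancel_right]

theorem lift_unique {U : Type*} [Group U] (hp : commutator U = ⊤) {τ τ' : U →* E} (h : π.comp τ = π.comp τ') :
    τ = τ' := by
  refine MonoidHom.eq_of_eqOn_top fun g hg => ?_
  rw [← hp, commutator_def, Subgroup.commutator_def] at hg
  refine MonoidHom.eqOn_closure ?_ hg
  rintro _ ⟨a, -, b, -, rfl⟩
  rw [map_commutatorElement, map_commutatorElement]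
  exact comm_congr hc (DFunLike.congr_fun h a) (DFunLike.congr_fun h b)

end Central

theorem surj_of_stem {U Γ G : Type*} [Group U] [Group Γ] [Group G] {σ : Γ →* G} (hσ : IsStemExtension σ)
    {φ : U →* Γ} (h : Function.Surjective (σ.comp φ)) : Function.Surjective φ := by
  have h1 : ∀ g, ∃ u, σ (φ u) = σ g := fun g => h (σ g)
  have h2 : commutator Γ ≤ φ.range := by
    rw [commutator_def, Subgroup.commutator_le]
    intro a _ b _
    obtain ⟨u, hu⟩ := h1 a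
    obtain ⟨v, hv⟩ := h1 b
    exact ⟨⁅u, v⁆, by rw [map_commutatorElement, comm_congr hσ.2.1 hu hv]⟩
  intro g
  obtain ⟨u, hu⟩ := h1 g
  obtain ⟨v, hv⟩ := h2 (hσ.2.2 (show (φ u)⁻¹ * g ∈ σ.ker by simp [hu]))
  exact ⟨u * v, by simp [hv]⟩

universe u in
theorem hasSchur_of {U G : Type u} [Group U] [Group G] [Finite U] {p : U →* G} (hp : IsStemExtension p)
    {A : Type*} [CommGroup A] (e : p.ker ≃* A)
    (hl : ∀ (Γ : Type u) [Group Γ] [Finite Γ] (σ : Γ →* G), IsStemExtension σ → ∃ φ : U →* Γ, σ.comp φ = p) :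
    HasSchurMultiplier G A := by
  refine ⟨⟨U, _, ‹_›, p, hp, ⟨e⟩⟩, fun Γ _ _ σ hσ => ?_⟩
  obtain ⟨φ, rfl⟩ := hl Γ σ hσ
  refine ⟨((φ.comp (σ.comp φ).ker.subtype).codRestrict σ.ker fun g => g.2).comp e.symm.toMonoidHom, fun ⟨z, hz⟩ => ?_⟩
  obtain ⟨u, rfl⟩ := surj_of_stem hσ hp.1 z
  exact ⟨e ⟨u, hz⟩, Subtype.ext (by simp; rfl)⟩

variable {I R : Type} [Fintype I] [DecidableEq I] [Fintype R] [DecidableEq R]

theorem RS.dom1 {Φ : RS I R} (J : I → Prop) {p : R → Prop} (h1 : ∀ s, (∀ i, J i → 0 ≤ Φ.A i s) → p s)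
    (h2 : ∀ i s, J i → Φ.A i s < 0 → p (Φ.rf i s) → p s) (s : R) : p s := by
  obtain ⟨M, hM⟩ := (Set.finite_range Φ.ht).bddAbove
  have hM' := fun r => hM ⟨r, rfl⟩
  induction hs : (M - Φ.ht s).toNat using Nat.strong_induction_on generalizing s with
  | _ n ih =>
  by_cases a2 : ∀ i, J i → 0 ≤ Φ.A i s
  · exact h1 s a2
  push Not at a2
  obtain ⟨i, a2, a3⟩ := a2
  exact h2 i s a2 a3 (ih _ (by have := hM' (Φ.rf i s); rw [RS.ht_rf] at *; omega) (Φ.rf i s) rfl)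

/-- the root groups commute in characteristic `p` -/
def CD.Cz (Φ : CD I R) (p : ℕ) (r s : R) : Prop := s = r ∨ s ≠ Φ.neg r ∧ ∀ c ∈ Φ.ct r s, (p : ℤ) ∣ c.2.1

instance (Φ : CD I R) (p : ℕ) (r s : R) : Decidable (Φ.Cz p r s) := by unfold CD.Cz; infer_instance

/-- a single commutator term -/
def CD.One (Φ : CD I R) (a b k : R) : Prop :=
  b ≠ a ∧ b ≠ Φ.neg a ∧ (Φ.ct a b = [(k, 1, 1, 1)] ∨ Φ.ct a b = [(k, -1, 1, 1)])

instance (Φ : CD I R) (a b k : R) : Decidable (Φ.One a b k) := by unfold CD.One; infer_instance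

/-- `s` is the sum of a simple root and another root, both commuting with `r` -/
def CD.CA (Φ : CD I R) (s r : R) : Prop :=
  ∃ i, Φ.One (Φ.sim i) (Φ.rf i s) s ∧ Φ.Cz 0 (Φ.sim i) r ∧ Φ.Cz 0 (Φ.rf i s) r

instance (Φ : CD I R) (r s : R) : Decidable (Φ.CA r s) := by unfold CD.CA; infer_instance

/-- an orthogonal coroot separates `r` from `s` -/
def RS.TD (Φ : RS I R) (D : List ℤ) (r s : R) : Prop := ∃ k, Φ.pair k s = 0 ∧ Φ.pair k r ∈ D

instance (Φ : RS I R) (D : List ℤ) (r s : R) : Decidable (Φ.TD D r s) := by unfold RS.TD; infer_instance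

namespace St
variable {Φ : CD I R} {F : Type*} [Field F] {G : Type*} [Group G] {S : St Φ F G} {E : Type*} [Group E] {π : E →* G}

variable (S π) in
/-- the generators lift with their relations -/
def Lifts : Prop := ∃ y, Φ.Rel y ∧ ∀ r t, π (y r t) = S.x r t

theorem comm_eq {a b : R} (h1 : b ≠ a) (h2 : b ≠ Φ.neg a) (t u : F) : ⁅S.x b u, S.x a t⁆ =
    ((Φ.ct a b).map fun c => S.x c.1 ((c.2.1 : F) * t ^ c.2.2.1 * (-u) ^ c.2.2.2)).prod := by
  have := S.comm a b (-t) (-u) h1 h2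
  rw [neg_neg, ← x_inv, ← x_inv] at this
  rw [commutatorElement_def, mul_assoc, mul_assoc, this]
  group

theorem commute_of_cz {p : ℕ} (hp : (p : F) = 0) {r s : R} (h : Φ.Cz p r s) (t u : F) :
    Commute (S.x r t) (S.x s u) := by
  rcases h with rfl | ⟨h1, h2⟩
  · rw [Commute, SemiconjBy, S.add, S.add, add_comm]
  by_cases e : s = r
  · rw [e, Commute, SemiconjBy, S.add, S.add, add_comm]
  refine (commutatorElement_eq_one_iff_commute.1 ?_).symm
  rw [comm_eq e h1]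
  refine List.prod_eq_one ?_
  simp only [List.mem_map]
  rintro _ ⟨c, hc, rfl⟩
  obtain ⟨k, hk⟩ := h2 c hc
  simp [hk, hp]

theorem _root_.Cfsg.Agent.Chev.CD.One.rv {a b k : R} (h : Φ.One a b k) : Φ.rv k = Φ.rv a + Φ.rv b := by
  rcases h.2.2 with e | e <;> have := (Φ.ct_rv a b _ (e ▸ List.mem_singleton_self _)).2.2 <;>
    rwa [Nat.cast_one, one_smul, one_smul] at this

theorem comm_one {a b k : R} (h : Φ.One a b k) :
    ∃ e : F, e * e = 1 ∧ ∀ t u, ⁅S.x a t, S.x b u⁆ = S.x k (e * t * u) := by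
  rcases h.2.2 with e | e
  · exact ⟨1, by simp, fun t u => by rw [← commutatorElement_inv, comm_eq h.1 h.2.1, e]; simp [x_inv]⟩
  · exact ⟨-1, by simp, fun t u => by rw [← commutatorElement_inv, comm_eq h.1 h.2.1, e]; simp [x_inv]⟩

theorem T1.of_td {D : List ℤ} (hD : ∀ d ∈ D, ∃ c : Fˣ, c ^ d ≠ 1) {r s : R} (h : Φ.TD D r s) : S.T1 r s := by
  obtain ⟨k, h1, h2⟩ := h
  obtain ⟨c, hc⟩ := hD _ h2
  exact T1.of_h (k := k) (c := c) (by simp [h1]) hc

variable (hc : π.ker ≤ Subgroup.center E) (hs : Function.Surjective π)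
include hc hs

theorem Cm.of_ct {a b r s : R} {L₁ L₂ : List (R × ℤ × ℕ × ℕ)} {e : ℤ} {i j : ℕ} {p : ℕ} (hp : (p : F) = 0)
    (h : b ≠ a ∧ b ≠ Φ.neg a ∧ Φ.ct a b = L₁ ++ (r, e, i, j) :: L₂ ∧ e * e = 1 ∧ (i = 1 ∨ j = 1) ∧ Φ.Cz p a s ∧
      Φ.Cz p b s) (hL : ∀ c ∈ L₁ ++ L₂, S.Cm π c.1 s) : S.Cm π r s := fun t u => by
  obtain ⟨h1, h2, h3, h4, h5, h6, h7⟩ := h
  have he : (e : F) * e = 1 := by exact_mod_cast congrArg (Int.cast : ℤ → F) h4
  obtain ⟨t', u', h8⟩ : ∃ t' u' : F, e * t' ^ i * (-u') ^ j = t := by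
    rcases h5 with rfl | rfl
    · exact ⟨e * t, -1, by simp [← mul_assoc, he]⟩
    · exact ⟨1, -(e * t), by simp [← mul_assoc, he]⟩
  have := comm_mem_LC hc hs (commute_of_cz (S := S) hp h7 u' u) (commute_of_cz hp h6 t' u)
  have hP : ∀ L : List (R × ℤ × ℕ × ℕ), (∀ c ∈ L, S.Cm π c.1 s) →
      (L.map fun c => S.x c.1 ((c.2.1 : F) * t' ^ c.2.2.1 * (-u') ^ c.2.2.2)).prod ∈ LC π (S.x s u) := fun L h =>
    list_prod_mem (by simp only [List.mem_map]; rintro _ ⟨c, hc, rfl⟩; exact h c hc _ _)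
  rw [comm_eq h1 h2, h3, List.map_append, List.prod_append, List.map_cons, List.prod_cons, h8,
    mul_mem_cancel_left (hP _ fun c hc => hL c (List.mem_append_left _ hc)),
    mul_mem_cancel_right (hP _ fun c hc => hL c (List.mem_append_right _ hc))] at this
  exact this

theorem Cm.of_ca {r s : R} (h : Φ.CA r s) : S.Cm π r s := by
  obtain ⟨i, ⟨h1, h2, h3 | h3⟩, h4, h5⟩ := h
  all_goals exact Cm.of_ct hc hs (L₁ := []) (L₂ := []) Nat.cast_zero ⟨h1, h2, h3, by simp, .inl rfl, h4, h5⟩ (by simp)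

theorem Cm.of_td {D : List ℤ} (hD : ∀ d ∈ D, ∃ c : Fˣ, c ^ d ≠ 1) {r s : R} (h : Φ.TD D r s ∧ Φ.Cz 0 r s) :
    S.Cm π r s := (T1.of_td hD h.1).cm hc hs (commute_of_cz Nat.cast_zero h.2)

theorem Cm.of_big {r k : R} (h : Φ.pair k r = 1) {v : F} (h0 : v ≠ 0) (h1 : v ≠ 1) (h2 : 1 - v + v ^ 2 ≠ 0) :
    S.Cm π r r := fun t u => by
  have hm := commute_of_cz (S := S) Nat.cast_zero (Or.inl rfl : Φ.Cz 0 r r)
  have a1 : ∀ t t' u, lc hs (S.x r (t + t')) (S.x r u) = lc hs (S.x r t') (S.x r u) * lc hs (S.x r t) (S.x r u) :=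
    fun t t' u => by rw [← S.add, lc_mul_left hc hs (by rw [(hm _ _).commutator_eq]; exact mem_LC_one hc hs _)]
  have a2 : ∀ t u u', lc hs (S.x r t) (S.x r (u + u')) = lc hs (S.x r t) (S.x r u) * lc hs (S.x r t) (S.x r u') :=
    fun t t' u => by rw [← S.add, lc_mul_right hc hs (by rw [(hm _ _).commutator_eq]; exact mem_LC_one hc hs _)]
  have a3 : ∀ c, c ≠ 0 → ∀ t u, lc hs (S.x r (c * t)) (S.x r u) = lc hs (S.x r t) (S.x r (u / c)) := fun c h t u => by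
    rw [← lc_conj' hc hs (S.h k (Units.mk0 c h)) (hm t (u / c)), h_conj_x, h_conj_x]
    simp [*, mul_div_cancel₀]
  have h3 : 1 - v ≠ 0 := sub_ne_zero.2 h1.symm
  have a4 : ∀ t, lc hs (S.x r (v * (1 - v) * t)) (S.x r u) = lc hs (S.x r t) (S.x r u) := fun t => by
    rw [a3 _ (mul_ne_zero h0 h3), show u / (v * (1 - v)) = u / v + u / (1 - v) by field_simp; ring, a2, ← a3 _ h0,
      ← a3 _ h3, ← a1]
    congr 2; ring
  have := a1 (v * (1 - v) * (t / (1 - v + v ^ 2))) t u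
  rw [show _ + t = t / (1 - v + v ^ 2) by field_simp; ring, a4, right_eq_mul] at this
  exact (lc_eq_one hc hs).1 this

theorem Cm.of_prime (hF : ∀ t : F, ∃ n : ℕ, t = n) {r s : R} {c : F} (h0 : c ≠ 0) (h : S.x r 1 ∈ LC π (S.x s c)) :
    S.Cm π r s := fun t u => by
  have hp : ∀ k (n : ℕ) (t : F), S.x k (n * t) = S.x k t ^ n := fun k n t => by
    induction n with
    | zero => simp
    | succ n ih => rw [pow_succ, ← ih, S.add]; congr 1; push_cast; ring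
  obtain ⟨n, rfl⟩ := hF t
  obtain ⟨m, hm⟩ := hF (u / c)
  rw [← mul_one (n : F), hp, ← div_mul_cancel₀ u h0, hm, hp]
  exact pow_mem (LC_symm hc hs (pow_mem (LC_symm hc hs h) _)) _

theorem Cm.of_swap (hF : ∀ t : F, ∃ n : ℕ, t = n) (h3 : (3 : F) = 0) {r s : R} (h : Φ.Cz 0 r s) {m : G} {c : F}
    (h0 : c ≠ 0) (h1 : m * S.x r 1 * m⁻¹ = S.x s c) (h2 : m * S.x s c * m⁻¹ = S.x r 1) : S.Cm π r s := by
  have hm := commute_of_cz (S := S) Nat.cast_zero h
  refine Cm.of_prime hc hs hF h0 ((lc_eq_one hc hs).1 ?_)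
  have a1 : ∀ t t' u, lc hs (S.x r (t + t')) (S.x s u) = lc hs (S.x r t') (S.x s u) * lc hs (S.x r t) (S.x s u) :=
    fun t t' u => by rw [← S.add, lc_mul_left hc hs (by rw [(hm _ _).commutator_eq]; exact mem_LC_one hc hs _)]
  have a2 := lc_conj' hc hs m (hm 1 c)
  have a3 := a1 (1 + 1) 1 c
  rw [h1, h2, ← lc_inv, inv_eq_iff_mul_eq_one] at a2
  rw [a1 1 1, a2, show (1 : F) + 1 + 1 = 0 by rw [← h3]; norm_num, x_zero, (lc_eq_one hc hs).2 (one_mem _)] at a3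
  simpa using a3.symm

theorem lifts_of_dom (hG : S.Gx = ⊤) (h1 : ∀ r, (∀ i, 0 ≤ Φ.A i r) → S.Cm π r r ∧ ∃ s, S.T1 r s)
    (h2 : ∀ r s, (∀ i, 0 ≤ Φ.A i r) → (∀ i, Φ.A i r = 0 → 0 ≤ Φ.A i s) → s ≠ r → s ≠ Φ.neg r →
      S.T1 r s ∨ S.T1 s r ∨ S.Cm π r s) : S.Lifts π := by
  have a1 : ∀ r, ∃ y, S.IsLift π r y := fun r => by
    obtain ⟨b1, s, h, -, a, ha, -, b2⟩ := RS.dom1 (fun _ => True) (p := fun r => S.Cm π r r ∧ ∃ s, S.T1 r s)
      (fun r h => h1 r fun i => h i trivial) (fun i s _ _ ⟨h, k, h'⟩ =>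
        ⟨by simpa [Φ.rf_rf] using h.smul hc hs (Φ.s i), _, by simpa [Φ.rf_rf] using h'.smul (Φ.s i)⟩) r
    exact exists_isLift hc hs hG b1 ha b2
  choose y hy using a1
  refine ⟨y, rel_of_lift hc hs hy fun r s e1 e2 => ?_, fun r => (hy r).map⟩
  refine (RS.dom2 (p := fun r s => s ≠ r → s ≠ Φ.neg r → S.T1 r s ∨ S.T1 s r ∨ S.Cm π r s) h2
    (fun i r s h e1 e2 => ?_) r s e1 e2).imp_right (Or.imp_right fun h t u => ?_)
  · exact (h (mt (congrArg _) e1) (by rintro rfl; exact e2 (Φ.rf_neg i r))).imp (·.smul (Φ.s i))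
      (Or.imp (·.smul (Φ.s i)) (·.smul hc hs (Φ.s i)))
  · rw [commutatorElement_eq_one_iff_commute.2 ((mem_LC hc).1 (by rw [(hy r).map, (hy s).map]; exact h t u))]
    exact one_mem _

end St
end Cfsg.Agent.Chev
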