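import Cfsg.Agent.Lib.Chev.Lift2
import Cfsg.Agent.Lib.Chev.TwF4

set_option autoImplicit false
set_option linter.unusedSectionVars false
set_option linter.style.haveILetI false

/-! Lifting the Steinberg relations through central extensions, type by type. -/

namespace Cfsg.Agent.Chev

open scoped commutatorElement
open Cfsg.Lie

variable {I R : Type} [Fintype I] [DecidableEq I] [Fintype R] [DecidableEq R]

/-- combinatorial facts on the systems of type `E` -/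
def CD.SL (Φ : CD I R) : Prop := (∀ r, Φ.ln r = 1) ∧ ∀ r, (∀ i, 0 ≤ Φ.A i r) →
  (∃ i, Φ.A i r = 1 ∧ ∀ s, (∀ j, Φ.A j r = 0 → 0 ≤ Φ.A j s) → Φ.pair r s = 1 → s = Φ.rf i r) ∧
  (∃ j, Φ.TD [1] r (Φ.sim j)) ∧ ∀ s, (∀ j, Φ.A j r = 0 → 0 ≤ Φ.A j s) → s = Φ.neg r ∨
    (Φ.pair r s = -1 ∧ (∃ k, Φ.One r s k) ∧ Φ.TD [1] s r) ∨ 0 ≤ Φ.pair r s ∧ Φ.CA s r

theorem RS.rv_rf_add {Φ : RS I R} {k a b : R} (h : Φ.rv k = Φ.rv a + Φ.rv b) (i : I) :
    Φ.rv (Φ.rf i k) = Φ.rv (Φ.rf i a) + Φ.rv (Φ.rf i b) := by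
  rw [← Φ.s_smul, ← Φ.s_smul, ← Φ.s_smul, ← RS.lin_rv, ← RS.lin_rv, ← RS.lin_rv, h, map_add]

theorem RS.pair_add {Φ : RS I R} {k a b : R} (h : Φ.rv k = Φ.rv a + Φ.rv b) (r : R) :
    Φ.pair r k = Φ.pair r a + Φ.pair r b := by rw [← Φ.pl_rv, h, map_add, Φ.pl_rv, Φ.pl_rv]

/-- the action of a word on roots, with signs -/
def CD.wa (Φ : CD I R) : List I → R → R × ℤ
  | [], r => (r, 1)
  | i :: ω, r => (Φ.rf i (Φ.wa ω r).1, Φ.η i (Φ.wa ω r).1 * (Φ.wa ω r).2)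

/-- the word swaps two commuting roots, and its square fixes the root groups -/
def CD.SW (Φ : CD I R) (ω : List I) (r s : R) : Prop :=
  (Φ.wa ω r).1 = s ∧ (Φ.wa ω s).1 = r ∧ (Φ.wa ω s).2 * (Φ.wa ω r).2 = 1 ∧ Φ.Cz 0 r s

instance (Φ : CD I R) (ω : List I) (r s : R) : Decidable (Φ.SW ω r s) := by unfold CD.SW; infer_instance

section Fld
variable {F : Type*} [Field F]

theorem exists_eval_ne (hF : ∃ s : Finset F, 4 < s.card) {p : Polynomial F} (h0 : p ≠ 0) (h : p.natDegree ≤ 4) :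
    ∃ v, p.eval v ≠ 0 := by
  obtain ⟨s, hs⟩ := hF
  by_contra! e
  exact h0 (Polynomial.eq_zero_of_natDegree_lt_card_of_eval_eq_zero' p s (fun i _ => e i) (by omega))

open Polynomial in
theorem big_pow (hF : ∃ s : Finset F, 4 < s.card) : ∀ d ∈ [(1 : ℤ), 2, 3], ∃ c : Fˣ, c ^ d ≠ 1 := by
  have : ∀ d : ℕ, 0 < d → d ≤ 3 → ∃ c : Fˣ, c ^ (d : ℤ) ≠ 1 := fun d h1 h2 => by
    obtain ⟨v, hv⟩ := exists_eval_ne hF (p := X * (X ^ d - C 1)) (mul_ne_zero X_ne_zero (X_pow_sub_C_ne_zero h1 _))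
      (natDegree_mul_le.trans (by rw [natDegree_X, natDegree_X_pow_sub_C]; omega))
    simp only [eval_mul, eval_X, eval_sub, eval_pow, eval_C, mul_ne_zero_iff, sub_ne_zero] at hv
    exact ⟨Units.mk0 v hv.1, by simpa [Units.ext_iff] using hv.2⟩
  simpa using ⟨by simpa using this 1 (by simp) (by simp), this 2 (by simp) (by simp), this 3 (by simp) (by simp)⟩

open Polynomial in
theorem big_v (hF : ∃ s : Finset F, 4 < s.card) : ∃ v : F, v ≠ 0 ∧ v ≠ 1 ∧ 1 - v + v ^ 2 ≠ 0 := by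
  obtain ⟨v, hv⟩ := exists_eval_ne hF (p := X * (X - 1) * (1 - X + X ^ 2))
    (Monic.ne_zero (by monicity!)) (by compute_degree)
  exact ⟨v, by simpa [sub_ne_zero, and_assoc] using hv⟩

theorem three_of (hF : ∃ a : F, a ≠ 0 ∧ a ≠ 1) (h : ¬ ∃ c : Fˣ, c ^ 2 ≠ 1) :
    (∀ t : F, ∃ n : ℕ, t = n) ∧ (3 : F) = 0 ∧ (2 : F) ≠ 0 := by
  have h3 := (sq_or_three hF).resolve_left h
  refine ⟨fun t => ?_, h3⟩
  by_cases h0 : t = 0
  · exact ⟨0, by simpa⟩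
  push Not at h
  rcases sq_eq_one_iff.1 (show t ^ 2 = 1 by simpa [Units.ext_iff] using h (Units.mk0 t h0)) with e | e
  · exact ⟨1, by simpa⟩
  · exact ⟨2, by rw [e]; push_cast; linear_combination -h3.1⟩

theorem one_pow_ne (hF : ∃ a : F, a ≠ 0 ∧ a ≠ 1) : ∀ d ∈ [(1 : ℤ)], ∃ c : Fˣ, c ^ d ≠ 1 := by
  obtain ⟨c, h0, h1⟩ := hF
  simpa using ⟨Units.mk0 c h0, by simpa [Units.ext_iff]⟩

theorem two_pow_ne (hF : ∃ c : Fˣ, c ^ 2 ≠ 1) : ∀ d ∈ [(1 : ℤ), 2], ∃ c : Fˣ, c ^ d ≠ 1 := by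
  obtain ⟨c, h⟩ := hF
  simpa using ⟨⟨c, by rintro rfl; simp at h⟩, c, h⟩

end Fld

namespace St
variable {Φ : CD I R} {F : Type*} [Field F] {G : Type*} [Group G] {S : St Φ F G} {E : Type*} [Group E] {π : E →* G}
variable (hc : π.ker ≤ Subgroup.center E) (hs : Function.Surjective π)
include hc hs

theorem lifts_two (hG : S.Gx = ⊤) (hΦ : Φ.SL) (hF : ∀ t : F, t = 0 ∨ t = 1) : S.Lifts π := by
  have hu : ∀ c : Fˣ, c = 1 := fun c => Units.ext ((hF c).resolve_left c.ne_zero)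
  have hn : ∀ i, ∃ m, ∀ r t, π m * S.x r t * (π m)⁻¹ = S.x (Φ.rf i r) t := fun i => by
    obtain ⟨χ, -, h⟩ := acts_n (S := S) i 1
    obtain ⟨m, hm⟩ := hs (S.n (Φ.sim i) 1)
    exact ⟨m, fun r t => by simp [hm, h, hu (χ r)]⟩
  have sy : ∀ r s, Φ.pair r s = Φ.pair s r := fun r s => by simpa [hΦ.1] using Φ.ln_pair_symm r s
  have a0 : ∀ {k a b}, Φ.rv k = Φ.rv a + Φ.rv b → Φ.pair a b = -1 ∧ Φ.pair k a = 1 ∧ Φ.pair k b = 1 := fun {k a b} h => by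
    have h1 := RS.pair_add h k
    have h2 := RS.pair_add h a
    have h3 := RS.pair_add h b
    rw [RS.pair_same] at h1 h2 h3
    rw [sy b a, sy b k] at h3
    rw [sy a k] at h2
    omega
  have a1 : ∀ r s, (0 ≤ Φ.pair r s → S.Cm π r s) ∧ (Φ.pair r s < 0 → s = Φ.neg r ∨
      ∃ k, Φ.rv k = Φ.rv r + Φ.rv s ∧ ⁅S.x r 1, S.x s 1⁆ = S.x k 1) := by
    refine RS.dom2 (fun r s h1 h2 => ?_) fun i r s h => ⟨fun e => (h.1 (by rwa [Φ.pair_rf] at e)).smul hc hs (Φ.s i),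
      fun e => (h.2 (by rwa [Φ.pair_rf] at e)).imp (fun e => by rw [e, Φ.rf_neg]) fun ⟨k, h1, h2⟩ =>
        ⟨_, RS.rv_rf_add h1 i, ?_⟩⟩
    · rcases (hΦ.2 r h1).2.2 s h2 with rfl | ⟨e, ⟨k, hk⟩, -⟩ | ⟨e, h⟩
      · exact ⟨fun e => by simp [Φ.pair_neg_right, Φ.pair_same] at e, fun _ => .inl rfl⟩
      · obtain ⟨c, h1, h2⟩ := comm_one (S := S) hk
        exact ⟨fun _ => by omega, fun _ => .inr ⟨k, hk.rv, by
          rw [h2, (hF c).resolve_left (by rintro rfl; simp at h1)]; simp⟩⟩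
      · exact ⟨fun _ => (Cm.of_ca hc hs h).symm hc hs, fun _ => by omega⟩
    · obtain ⟨m, hm⟩ := hn i
      rw [← hm, ← hm, ← hm, ← conjugate_commutatorElement, h2]
  have a2 : ∀ {k a b}, Φ.rv k = Φ.rv a + Φ.rv b → ⁅S.x a 1, S.x b 1⁆ = S.x k 1 := fun {k a b} h => by
    rcases (a1 a b).2 (by rw [(a0 h).1]; simp) with rfl | ⟨k', h1, h2⟩
    · exact absurd h (by simpa [Φ.rv_neg] using Φ.rv_ne_zero k)
    · rw [h2, Φ.rv_inj (h1.trans h.symm)]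
  have a3 : ∀ k, ∃ a₀ b₀, Φ.rv k = Φ.rv a₀ + Φ.rv b₀ ∧ ∀ a b, Φ.rv k = Φ.rv a + Φ.rv b →
      lc hs (S.x a 1) (S.x b 1) = lc hs (S.x a₀ 1) (S.x b₀ 1) := by
    refine RS.dom1 (Φ := Φ.toRS) (fun _ => True) (fun k hk => ?_) fun i k _ _ h0 => ?_
    · obtain ⟨⟨i, h1, h2⟩, -⟩ := hΦ.2 k fun i => hk i trivial
      have h3 : Φ.rv k = Φ.rv (Φ.rf i k) + Φ.rv (Φ.sim i) := by simp [Φ.rv_rf, Φ.rv_sim, h1]
      refine ⟨_, _, h3, RS.dom1 (Φ := Φ.toRS) (fun j => Φ.A j k = 0) (fun a ha b h => ?_) fun j a h4 h5 ih b h => ?_⟩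
      · obtain rfl := h2 a ha (a0 h).2.1
        rw [Φ.rv_inj (add_left_cancel (h.symm.trans h3))]
      have h6 : Φ.A j a = -1 := by
        rcases (a1 (Φ.sim j) a).2 (by rwa [Φ.pair_sim]) with rfl | ⟨k', h6, -⟩
        · have := (a0 h).2.1
          rw [sy, Φ.pair_neg_left, Φ.pair_sim, h4] at this
          simp at this
        · simpa [Φ.pair_sim] using (a0 h6).1
      have h7 : Φ.A j b = 1 := by
        have := RS.pair_add h (Φ.sim j)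
        simp only [Φ.pair_sim] at this
        omega
      have e1 : Φ.rv (Φ.rf j a) = Φ.rv a + Φ.rv (Φ.sim j) := by simp [Φ.rv_rf, Φ.rv_sim, h6, Pi.single_neg]
      have e2 : Φ.rv b = Φ.rv (Φ.sim j) + Φ.rv (Φ.rf j b) := by simp [Φ.rv_rf, Φ.rv_sim, h7]
      have e3 : Φ.rv k = Φ.rv (Φ.rf j a) + Φ.rv (Φ.rf j b) := by rw [h, e1, e2, add_assoc]
      have p1 := RS.pair_add e2 a
      have p2 := RS.pair_add e1 b
      rw [(a0 h).1, (a0 e1).1] at p1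
      rw [sy b a, (a0 h).1, (a0 e2).2.1] at p2
      rw [← ih _ e3, ← a2 e2, lc_chain hc hs ((a1 _ _).1 (by omega) _ _)
        (by rw [a2 e1, a2 e2]; exact (a1 _ _).1 (by rw [sy]; omega) _ _)
        (by rw [a2 e1, a2 e2, a2 e3]; exact (a1 _ _).1 (by rw [sy, (a0 h).2.2]; simp) _ _), a2 e1]
    · obtain ⟨m, hm⟩ := hn i
      obtain ⟨a₀, b₀, h1, h2⟩ := h0
      refine ⟨Φ.rf i a₀, Φ.rf i b₀, by simpa [Φ.rf_rf] using RS.rv_rf_add h1 i, fun a b h => ?_⟩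
      rw [← Φ.rf_rf i a, ← Φ.rf_rf i b, ← hm, ← hm (Φ.rf i b), ← hm a₀, ← hm b₀, lc_conj hc, lc_conj hc,
        h2 _ _ (RS.rv_rf_add h i)]
  choose a b h1 h2 using a3
  classical
  have h3 : ∀ k, π (lc hs (S.x (a k) 1) (S.x (b k) 1)) = S.x k 1 := fun k => by rw [map_lc, a2 (h1 k)]
  have h11 : (1 : F) + 1 = 0 := (hF _).resolve_right (by simp)
  have hy : ∀ k, S.IsLift π k fun t => if t = 0 then 1 else lc hs (S.x (a k) 1) (S.x (b k) 1) := fun k => by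
    refine ⟨fun t => ?_, fun t u => ?_, fun e c he t => ?_⟩
    · rcases hF t with rfl | rfl <;> simp [h3]
    · rcases hF t with rfl | rfl <;> rcases hF u with rfl | rfl <;> simp [h11]
      rw [← lc_mul_left hc hs (by rw [a2 (h1 k)]; exact (a1 _ _).1 (by rw [sy, (a0 (h1 k)).2.1]; simp) _ _), S.add, h11,
        x_zero, (lc_eq_one hc hs).2 (one_mem _)]
    · obtain rfl : c = 1 := funext fun i => hu _
      rcases hF t with rfl | rfl <;> simp [RS.chi_one]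
      rw [← lc_conj hc, (he.commute (hG ▸ trivial)).eq, (he.commute (hG ▸ trivial)).eq, mul_inv_cancel_right,
        mul_inv_cancel_right]
  refine ⟨_, rel_of_lift hc hs hy fun r s e1 e2 => .inr (.inr fun t u => ?_), fun r => (hy r).map⟩
  rcases le_or_gt 0 (Φ.pair r s) with h | h
  · rw [commutatorElement_eq_one_iff_commute.2 ((mem_LC hc).1 (by rw [(hy r).map, (hy s).map]; exact (a1 r s).1 h t u))]
    exact one_mem _
  obtain ⟨k, h4, -⟩ := ((a1 r s).2 h).resolve_left e2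
  rcases hF t with rfl | rfl
  · simp
  rcases hF u with rfl | rfl
  · simp
  rw [← lc_eq hc hs, (hy r).map, (hy s).map, h2 k r s h4]
  exact Subgroup.subset_closure ⟨k, ⟨1, 1, one_pos, one_pos, by simpa using h4⟩, 1, by simp⟩

theorem lifts_sl (hG : S.Gx = ⊤) (hΦ : Φ.SL) : S.Lifts π := by
  by_cases hF : ∀ t : F, t = 0 ∨ t = 1
  · exact lifts_two hc hs hG hΦ hF
  push Not at hF
  have hD := one_pow_ne hF
  refine lifts_of_dom hc hs hG (fun r hr => ?_) fun r s hr h e1 e2 => ?_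
  · obtain ⟨-, ⟨j, h2⟩, h3⟩ := hΦ.2 r hr
    refine ⟨?_, _, T1.of_td hD h2⟩
    rcases h3 r (fun j h => h.ge) with h | h | h
    · exact absurd h.symm (Φ.neg_ne r)
    · simp [Φ.pair_same] at h
    · exact Cm.of_ca hc hs h.2
  · rcases (hΦ.2 r hr).2.2 s h with h | h | h
    exacts [absurd h e2, .inr (.inl (T1.of_td hD h.2.2)), .inr (.inr ((Cm.of_ca hc hs h.2).symm hc hs))]

theorem IsLift.comm (hF : ∀ t : F, ∃ n : ℕ, t = n) {a b k : R} {ya yb : F → E} (ha : S.IsLift π a ya)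
    (hb : S.IsLift π b yb) {e : F} (he : e ≠ 0) (h : ∀ t u, ⁅S.x a t, S.x b u⁆ = S.x k (e * t * u))
    (hk : Φ.rv k = Φ.rv a + Φ.rv b) (h1 : S.Cm π a k) (h2 : S.Cm π b k) :
    ∃ y, S.IsLift π k y ∧ ∀ t u, ⁅ya t, yb u⁆ = y (e * t * u) := by
  have a1 : ∀ t u u', ⁅ya t, yb (u + u')⁆ = ⁅ya t, yb u⁆ * ⁅ya t, yb u'⁆ := fun t u u' => by
    rw [← lc_eq hc hs, ← lc_eq hc hs, ← lc_eq hc hs, ha.map, hb.map, hb.map, hb.map, ← S.add,
      lc_mul_right hc hs (by rw [h]; exact h2 _ _)]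
  have a2 : ∀ t t' u, ⁅ya (t + t'), yb u⁆ = ⁅ya t', yb u⁆ * ⁅ya t, yb u⁆ := fun t t' u => by
    rw [← lc_eq hc hs, ← lc_eq hc hs, ← lc_eq hc hs, ha.map, hb.map, ha.map, ha.map, ← S.add,
      lc_mul_left hc hs (by rw [h]; exact h1 _ _)]
  have a3 : ∀ t u, ⁅ya t, yb u⁆ = ⁅ya 1, yb (t * u)⁆ := fun t u => by
    obtain ⟨n, rfl⟩ := hF t
    induction n with
    | zero => simp [ha.zero, hb.zero]
    | succ n ih => rw [Nat.cast_succ, a2, ih, ← a1]; congr 2; ring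
  refine ⟨fun v => ⁅ya 1, yb (v / e)⁆, ⟨fun t => ?_, fun t u => by rw [add_div, a1], fun g c hg t => ?_⟩, fun t u => ?_⟩
  · rw [map_commutatorElement, ha.map, hb.map, h, mul_one, mul_div_cancel₀ _ he]
  · rw [conjugate_commutatorElement, ha.tor g c hg, hb.tor g c hg, a3, hk, RS.chi_add]
    congr 2; push_cast; ring
  · rw [a3]; congr 2; field_simp

omit hc hs in
theorem exists_wa (ω : List I) : ∃ m : G, ∀ r t, m * S.x r t * m⁻¹ = S.x (Φ.wa ω r).1 ((Φ.wa ω r).2 * t) := by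
  induction ω with
  | nil => exact ⟨1, by simp [CD.wa]⟩
  | cons i ω ih =>
    obtain ⟨m, hm⟩ := ih
    refine ⟨S.n (Φ.sim i) 1 * m, fun r t => ?_⟩
    rw [mul_inv_rev, ← mul_assoc, mul_assoc _ m, mul_assoc _ _ m⁻¹, hm, n_conj]
    simp [CD.wa, mul_assoc]

theorem Cm.of_sw (hF : ∀ t : F, ∃ n : ℕ, t = n) (h3 : (3 : F) = 0) {r s : R} {ω : List I} (h : Φ.SW ω r s) :
    S.Cm π r s := by
  obtain ⟨m, hm⟩ := exists_wa (S := S) ω
  have h1 : ((Φ.wa ω s).2 : F) * (Φ.wa ω r).2 = 1 := by exact_mod_cast congrArg (Int.cast : ℤ → F) h.2.2.1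
  exact Cm.of_swap hc hs hF h3 h.2.2.2 (m := m) (right_ne_zero_of_mul_eq_one h1) (by rw [hm, h.1, mul_one])
    (by rw [hm, h.2.1, h1])

end St

section Types
variable {F : Type*} [Field F] {G : Type*} [Group G] {E : Type*} [Group E] {π : E →* G}
variable (hc : π.ker ≤ Subgroup.center E) (hs : Function.Surjective π)
include hc hs
open St

theorem lifts_G2 {S : St checkedG2.toCD F G} (hG : S.Gx = ⊤) (hF : ∃ s : Finset F, 4 < s.card) : S.Lifts π := by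
  obtain ⟨v, h0, h1, h2⟩ := big_v hF
  have a1 : ∀ r, (∃ k, checkedG2.toCD.pair k r = 1) ∧ (∃ s, checkedG2.toCD.TD [1, 2, 3] r s) ∧
    ∀ s, s ≠ r → s ≠ checkedG2.toCD.neg r → checkedG2.toCD.TD [1, 2, 3] r s := by decide +kernel
  refine lifts_of_dom hc hs hG (fun r _ => ?_) fun r s _ _ e1 e2 => .inl (T1.of_td (big_pow hF) ((a1 r).2.2 s e1 e2))
  obtain ⟨⟨k, h3⟩, ⟨s, h4⟩, -⟩ := a1 r
  exact ⟨Cm.of_big hc hs h3 h0 h1 h2, s, T1.of_td (big_pow hF) h4⟩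

theorem lifts_F4 {S : St checkedF4.toCD F G} (hG : S.Gx = ⊤) (hF : ∃ a : F, a ≠ 0 ∧ a ≠ 1) : S.Lifts π := by
  have a1 : ∀ r, (∀ i, 0 ≤ checkedF4.toCD.A i r) → (checkedF4.toCD.CA r r ∧ ∃ s, checkedF4.toCD.TD [1] r s) ∧
    ∀ s, (∀ i, checkedF4.toCD.A i r = 0 → 0 ≤ checkedF4.toCD.A i s) → s ≠ r → s ≠ checkedF4.toCD.neg r →
      checkedF4.toCD.TD [1] r s ∨ checkedF4.toCD.TD [1] s r ∨ r = f4r 47 ∧ s = f4r 41 := by decide +kernel
  have hD := one_pow_ne hF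
  refine lifts_of_dom hc hs hG (fun r hr => ⟨Cm.of_ca hc hs (a1 r hr).1.1, (a1 r hr).1.2.imp fun _ => T1.of_td hD⟩)
    fun r s hr h e1 e2 => ((a1 r hr).2 s h e1 e2).imp (T1.of_td hD) (Or.imp (T1.of_td hD) ?_)
  rintro ⟨rfl, rfl⟩
  refine Cm.of_ct hc hs (a := f4r 25) (b := f4r 38) (L₁ := [(f4r 39, 1, 1, 1)]) (L₂ := []) (e := 1) (i := 1) (j := 2)
    Nat.cast_zero (by decide +kernel) ?_
  simpa using Cm.of_td hc hs hD (by decide +kernel)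

theorem lifts_D4 {S : St checkedD4.toCD F G} (hG : S.Gx = ⊤) (hF : ∃ a : F, a ≠ 0 ∧ a ≠ 1) : S.Lifts π := by
  have a1 : ∀ r, (∀ i, 0 ≤ checkedD4.toCD.A i r) → (checkedD4.toCD.CA r r ∧ ∃ s, checkedD4.toCD.TD [1] r s) ∧
    ∀ s, (∀ i, checkedD4.toCD.A i r = 0 → 0 ≤ checkedD4.toCD.A i s) → s ≠ r → s ≠ checkedD4.toCD.neg r →
      checkedD4.toCD.TD [1] r s ∨ checkedD4.toCD.TD [1, 2] r s ∧ ∃ ω ∈ [[1, 3, 0, 2, 3, 1], [1, 2, 0, 3, 2, 1],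
        [1, 0, 2, 3, 0, 1]], checkedD4.toCD.SW (nds _ ω) r s := by decide +kernel
  have hD := one_pow_ne hF
  refine lifts_of_dom hc hs hG (fun r hr => ⟨Cm.of_ca hc hs (a1 r hr).1.1, (a1 r hr).1.2.imp fun _ => T1.of_td hD⟩)
    fun r s hr h e1 e2 => ?_
  rcases (a1 r hr).2 s h e1 e2 with h | ⟨h, ω, -, h'⟩
  · exact .inl (T1.of_td hD h)
  by_cases h2 : ∃ c : Fˣ, c ^ 2 ≠ 1
  · exact .inl (T1.of_td (two_pow_ne h2) h)
  · exact .inr (.inr (Cm.of_sw hc hs (three_of hF h2).1 (three_of hF h2).2.1 h'))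

/-- the roots of type `B₂` -/
def b2r (i : Fin 8) : Fin chevB2.nroots := i

theorem lifts_B2_three {S : St checkedB2.toCD F G} (hG : S.Gx = ⊤) (hF : ∃ a : F, a ≠ 0 ∧ a ≠ 1)
    (h : ¬ ∃ c : Fˣ, c ^ 2 ≠ 1) : S.Lifts π := by
  obtain ⟨hP, h3, h2⟩ := three_of hF h
  have hD := one_pow_ne hF
  let Φ := checkedB2.toCD
  let a : Fin 8 → Fin chevB2.nroots := fun i => b2r (![1, 0, 0, 5, 6, 0, 0, 5] i)
  let b : Fin 8 → Fin chevB2.nroots := fun i => b2r (![2, 0, 0, 1, 2, 0, 0, 6] i)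
  have a1 : ∀ k, (¬ ∃ s, Φ.TD [1] k s) → (∃ s, Φ.TD [1] (a k) s) ∧ (∃ s, Φ.TD [1] (b k) s) ∧ b k ≠ a k ∧
    b k ≠ Φ.neg (a k) ∧ Φ.ct (a k) (b k) = [(k, 2, 1, 1)] ∧ (Φ.TD [1] (a k) k ∧ Φ.Cz 0 (a k) k) ∧
    Φ.TD [1] (b k) k ∧ Φ.Cz 0 (b k) k := by decide +kernel
  have a2 : ∀ r s, s ≠ r → s ≠ Φ.neg r → Φ.TD [1] r s ∨ Φ.TD [1] s r ∨ (∃ ω ∈ [[0], [1, 0, 1]], Φ.SW (nds _ ω) r s) ∨
    ∃ k, (¬ ∃ s, Φ.TD [1] k s) ∧ (r = a k ∧ s = b k ∨ r = b k ∧ s = a k) := by decide +kernel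
  have a3 : ∀ r, ∃ y, (∃ s, Φ.TD [1] r s) → S.IsLift π r y := fun r => by
    by_cases h : ∃ s, Φ.TD [1] r s
    · obtain ⟨g, -, c, ha, -, h1⟩ := T1.of_td (S := S) hD h.choose_spec
      exact (exists_isLift hc hs hG (Cm.of_prime hc hs hP one_ne_zero (self_mem_LC hc hs _)) ha h1).imp fun _ h _ => h
    · exact ⟨1, fun h' => absurd h' h⟩
  choose y hy using a3
  have a4 : ∀ k, ∃ z, S.IsLift π k z ∧ ((∃ s, Φ.TD [1] k s) → z = y k) ∧ ((¬ ∃ s, Φ.TD [1] k s) →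
      Φ.Comb k (a k) (b k) ∧ ∀ t u, ⁅y (a k) t, y (b k) u⁆ = z (2 * t * u)) := fun k => by
    by_cases h : ∃ s, Φ.TD [1] k s
    · exact ⟨_, hy k h, fun _ => rfl, fun h' => absurd h h'⟩
    obtain ⟨b1, b2, b3, b4, b5, b6, b7⟩ := a1 k h
    have b8 := Φ.ct_rv _ _ _ (b5 ▸ List.mem_singleton_self _)
    obtain ⟨z, h1, h2⟩ := (hy _ b1).comm hc hs hP (hy _ b2) h2 (k := k) (fun t u => by
      rw [← commutatorElement_inv, comm_eq b3 b4, b5]; simp [x_inv]) (by simpa using b8.2.2)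
      (Cm.of_td hc hs hD b6) (Cm.of_td hc hs hD b7)
    exact ⟨z, h1, fun h' => absurd h' h, fun _ => ⟨⟨_, _, b8⟩, h2⟩⟩
  choose z hz h4 h5 using a4
  refine ⟨z, rel_of_lift hc hs hz fun r s e1 e2 => (a2 r s e1 e2).imp (T1.of_td hD) (Or.imp (T1.of_td hD) ?_),
    fun r => (hz r).map⟩
  rintro (⟨ω, -, h⟩ | ⟨k, hk, ⟨rfl, rfl⟩ | ⟨rfl, rfl⟩⟩) t u
  · rw [commutatorElement_eq_one_iff_commute.2 ((mem_LC hc).1 (by
      rw [(hz r).map, (hz s).map]; exact Cm.of_sw hc hs hP h3 h t u))]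
    exact one_mem _
  · rw [h4 _ (a1 k hk).1, h4 _ (a1 k hk).2.1, (h5 k hk).2]
    exact Subgroup.subset_closure ⟨k, (h5 k hk).1, _, rfl⟩
  · rw [h4 _ (a1 k hk).1, h4 _ (a1 k hk).2.1, ← commutatorElement_inv, (h5 k hk).2]
    exact inv_mem (Subgroup.subset_closure ⟨k, (h5 k hk).1.symm, _, rfl⟩)

theorem lifts_B2 {S : St checkedB2.toCD F G} (hG : S.Gx = ⊤) (hF : ∃ a : F, a ≠ 0 ∧ a ≠ 1) : S.Lifts π := by
  by_cases h : ∃ c : Fˣ, c ^ 2 ≠ 1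
  swap
  · exact lifts_B2_three hc hs hG hF h
  have hD := two_pow_ne h
  have a1 : ∀ r, ((∀ i, 0 ≤ checkedB2.toCD.A i r) → r = b2r 6 ∨ r = b2r 7) ∧ (∃ s, checkedB2.toCD.TD [1, 2] r s) ∧
    ∀ s, s ≠ r → s ≠ checkedB2.toCD.neg r → checkedB2.toCD.TD [1, 2] r s := by decide +kernel
  refine lifts_of_dom hc hs hG (fun r hr => ⟨?_, (a1 r).2.1.imp fun _ => T1.of_td hD⟩)
    fun r s _ _ e1 e2 => .inl (T1.of_td hD ((a1 r).2.2 s e1 e2))
  have a2 : S.Cm π (b2r 6) (b2r 7) := Cm.of_td hc hs hD (by decide +kernel)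
  rcases (a1 r).1 hr with rfl | rfl
  · by_cases h2 : (2 : F) = 0
    · refine Cm.of_ct hc hs (a := b2r 4) (b := b2r 5) (L₁ := []) (L₂ := [(b2r 7, -1, 1, 2)]) (e := 1) (i := 1) (j := 1)
        (p := 2) (by simpa) (by decide +kernel) ?_
      simpa using a2.symm hc hs
    have h1 : checkedB2.toCD.pair (b2r 7) (b2r 6) = 1 := by decide +kernel
    by_cases h3 : (3 : F) = 0
    · obtain ⟨c, hc'⟩ := h
      have h4 : (c : F) ^ 2 ≠ 1 := fun e => hc' (Units.ext (by simpa using e))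
      refine Cm.of_big hc hs h1 c.ne_zero (fun e => h4 (by rw [e, one_pow])) fun e => h4 ?_
      rw [eq_neg_of_add_eq_zero_left (pow_eq_zero_iff two_ne_zero |>.1 (show ((c : F) + 1) ^ 2 = 0 by
        linear_combination e + c * h3))]
      simp
    · exact Cm.of_big hc hs h1 (v := -1) (by simp) (fun e => h2 (by linear_combination -e))
        fun e => h3 (by linear_combination e)
  · refine Cm.of_ct hc hs (a := b2r 4) (b := b2r 5) (L₁ := [(b2r 6, 1, 1, 1)]) (L₂ := []) (e := -1) (i := 1) (j := 2)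
      Nat.cast_zero (by decide +kernel) ?_
    simpa using a2

end Types

theorem sl_E6 : checkedE6.toCD.SL := by unfold CD.SL; decide +kernel
theorem sl_E7 : checkedE7.toCD.SL := by unfold CD.SL; decide +kernel
theorem sl_E8 : checkedE8.toCD.SL := by unfold CD.SL; decide +kernel

end Cfsg.Agent.Chev
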