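import Cfsg.Agent.Lib.Chev.QR2
import Cfsg.Agent.Lib.Sz.Schur
import Cfsg.Agent.Lib.Schur.Basic

set_option autoImplicit false
set_option linter.unusedSectionVars false
set_option linter.style.haveILetI false

/-! Further rules for lifting root elements through central extensions. -/

namespace Cfsg.Agent.Chev

open scoped commutatorElement

section Central
variable {E G : Type*} [Group E] [Group G] {π : E →* G} (hc : π.ker ≤ Subgroup.center E) (hs : Function.Surjective π)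
include hc

theorem lc_chain' {a b c : G} (h1 : Commute a c) (h3 : ⁅b, c⁆ ∈ LC π ⁅⁅a, b⁆, c⁆) :
    lc hs a ⁅b, c⁆ = lc hs ⁅a, b⁆ ⁅b, c⁆ * lc hs ⁅a, b⁆ c := by
  obtain ⟨a, rfl⟩ := hs a
  obtain ⟨b, rfl⟩ := hs b
  obtain ⟨c, rfl⟩ := hs c
  simp only [← map_commutatorElement, mem_LC hc, lc_eq hc] at h3 ⊢
  have : a * ⁅b, c⁆ * a⁻¹ = ⁅⁅a, b⁆ * b, c⁆ := by
    rw [conjugate_commutatorElement]
    exact comm_congr hc (by simp [commutatorElement_def]) (by simp [h1.eq])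
  rw [commutatorElement_def a, this, commutatorElement_mul_left_eq_conj_mul, commutatorElement_def ⁅a, b⁆ ⁅b, c⁆, mul_assoc _ ⁅b, c⁆⁻¹,
    h3.inv_left.eq, mul_assoc]

theorem comm_of_der {e y : E} (he : π e ∈ Subgroup.center G) (hy : y ∈ commutator E) : e * y * e⁻¹ = y := by
  rw [commutator_def, Subgroup.commutator_def] at hy
  refine MonoidHom.eqOn_closure (f := (MulAut.conj e).toMonoidHom) (g := MonoidHom.id E) ?_ hy
  rintro _ ⟨a, -, b, -, rfl⟩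
  exact (conjugate_commutatorElement ..).trans (comm_congr hc (by simp [← Subgroup.mem_center_iff.1 he]) (by simp [← Subgroup.mem_center_iff.1 he]))

omit hc in
theorem lc_mem (a b : G) : lc hs a b ∈ commutator E := Subgroup.commutator_mem_commutator trivial trivial

end Central

universe u in
theorem hasSchur_quot {U G : Type u} [Group U] [Group G] [Finite U] {p : U →* G} (hp : IsStemExtension p)
    (h : HasCyclicSchurMultiplier U 1) {A : Type*} [CommGroup A] (e : Nonempty (p.ker ≃* A)) : HasSchurMultiplier G A := by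
  open Cfsg.Agent.Schur in
  have := Finite.of_surjective p hp.1
  obtain ⟨β, hβ⟩ := u_lift (stem_CE hp)
  have hk : β.ker ≤ (uπ G).ker := fun x hx => by rw [MonoidHom.mem_ker, ← hβ, show β x = 1 from hx, map_one]
  have h0 := MM_eq_bot (hasSchur_one_iff.1 h) (⟨Schur.surj_of_stem (uπ_CE G).surj hp hβ, hk.trans (uπ_CE G).cent⟩ : CE β)
  have hc : Cover p β := ⟨hp, hβ, fun e he h1 => Subgroup.mem_bot.1 (h0.le ⟨h1, he.2⟩)⟩
  exact hasSchur_iff.2 ⟨hc.equiv.some.trans e.some⟩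

variable {I R : Type} [Fintype I] [DecidableEq I] [Fintype R] [DecidableEq R]

namespace St
variable {Φ : CD I R} {F : Type*} [Field F] {G : Type*} [Group G] {S : St Φ F G} {E : Type*} [Group E] {π : E →* G}

theorem acts_refl (k : R) (c : Fˣ) : ∃ w, S.Acts (S.n k c) w ∧ ∀ s, Φ.rv (w • s) = Φ.rv s - Φ.pair k s • Φ.rv k := by
  obtain ⟨w, i, rfl⟩ := RS.exists_smul_sim (Φ := Φ.toRS) k
  obtain ⟨m, -, hm⟩ := exists_of_W (S := S) w
  obtain ⟨χ, h⟩ := hm.conj_n (Φ.sim i)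
  exact ⟨_, by simpa [h] using (hm.mul (acts_n i (χ⁻¹ * c))).mul hm.inv, RS.rv_conj w i⟩

theorem n_sq_conj (k r : R) (t : F) : S.n k 1 * S.n k 1 * S.x r t * (S.n k 1 * S.n k 1)⁻¹ = S.x r (((-1) ^ (-Φ.pair k r) : Fˣ) * t) := by
  rw [n_mul_n, h_one, one_mul, inv_inv, mul_assoc, inv_mul_eq_iff_eq_mul, eq_comm, ← mul_inv_eq_iff_eq_mul, h_conj_x, ← mul_assoc,
    ← Units.val_mul, ← zpow_add]
  simp

theorem T1.of_two {r s k k' : R} {c : Fˣ} (h : Φ.pair k s + Φ.pair k' s = 0) (h' : c ^ (Φ.pair k r + Φ.pair k' r) ≠ 1) : S.T1 r s :=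
  ⟨_, mul_mem (h_mem k c) (h_mem k' c), _, (isTor_h k c).mul (isTor_h k' c), by
    rw [RS.chi_mul, RS.chi_pair, RS.chi_pair, ← zpow_add, h, zpow_zero], by rwa [RS.chi_mul, RS.chi_pair, RS.chi_pair, ← zpow_add]⟩

theorem n_mem_LC {k : R} {g : G} (h : ∀ t, S.x k t ∈ LC π g) (h' : ∀ t, S.x (Φ.neg k) t ∈ LC π g) (c : Fˣ) : S.n k c ∈ LC π g :=
  mul_mem (mul_mem (h _) (h' _)) (h _)

variable (hc : π.ker ≤ Subgroup.center E) (hs : Function.Surjective π)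
include hc hs

theorem Cm.of_acts (hF : ∀ t : F, ∃ n : ℕ, t = n) (h3 : (3 : F) = 0) {r s : R} (h : Φ.Cz 0 r s) {m : G} {w : Φ.W} (hw : S.Acts m w)
    (h1 : w • r = s) (h2 : m * m * S.x r 1 * (m * m)⁻¹ = S.x r 1) : S.Cm π r s := by
  obtain ⟨χ, -, hχ⟩ := hw
  exact Cm.of_swap hc hs hF h3 h (m := m) (χ r).ne_zero (by rw [hχ, h1, mul_one]) (by rw [← h2, ← mul_one (χ r : F), ← h1, ← hχ]; group)

theorem Cm.of_swap1 (hF : ∀ t : F, ∃ n : ℕ, t = n) (h3 : (3 : F) = 0) {r s k : R} (h : Φ.Cz 0 r s) (h1 : Φ.pair k r = 2)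
    (h2 : Φ.rv r = 2 • Φ.rv k + Φ.rv s) : S.Cm π r s := by
  obtain ⟨w, a, b⟩ := acts_refl (S := S) k 1
  exact Cm.of_acts hc hs hF h3 h a (Φ.rv_inj (by rw [b, h1, h2]; module)) (by rw [n_sq_conj, h1]; norm_num)

theorem Cm.of_swap2 (hF : ∀ t : F, ∃ n : ℕ, t = n) (h3 : (3 : F) = 0) {r s k l : R} (h : Φ.Cz 0 r s) (h1 : Φ.pair k r = 1) (h2 : Φ.pair l r = 1)
    (h4 : Φ.pair k l = 0) (h5 : Φ.rv r = Φ.rv k + Φ.rv l + Φ.rv s) (h6 : ∀ a ∈ [k, Φ.neg k], ∀ b ∈ [l, Φ.neg l], Φ.Cz 0 a b) : S.Cm π r s := by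
  obtain ⟨w, a, b⟩ := acts_refl (S := S) k 1
  obtain ⟨w', a', b'⟩ := acts_refl (S := S) l 1
  have c := fun a d b e => commute_of_cz (S := S) Nat.cast_zero (h6 a d b e)
  have d : ∀ a ∈ [k, Φ.neg k], ∀ t, Commute (S.x a t) (S.n l 1) := fun a d t =>
    ((c a d _ (by simp) _ _).mul_right (c a d _ (by simp) _ _)).mul_right (c a d _ (by simp) _ _)
  have e : Commute (S.n k 1) (S.n l 1) := ((d _ (by simp) _).mul_left (d _ (by simp) _)).mul_left (d _ (by simp) _)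
  have f : Φ.rv (w' • r) = (1 : ℤ) • Φ.rv r + (-1 : ℤ) • Φ.rv l := by rw [b', h2]; module
  refine Cm.of_acts hc hs hF h3 h (a.mul a') (Φ.rv_inj (by rw [mul_smul, b, RS.pair_comb f, f, h1, h4, h5]; module)) ?_
  rw [e.symm.mul_mul_mul_comm, mul_assoc (S.n k 1 * _), mul_inv_rev (S.n k 1 * _), ← mul_assoc,
    mul_assoc (S.n k 1 * _), n_sq_conj, n_sq_conj, h1, h2]
  simp

theorem Cm.of_one {a b r s : R} (h : Φ.One a b r) {p : ℕ} (hp : (p : F) = 0) (h1 : Φ.Cz p a s) (h2 : Φ.Cz p b s) : S.Cm π r s := by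
  obtain ⟨h3, h4, h5 | h5⟩ := h
  all_goals exact Cm.of_ct hc hs (L₁ := []) (L₂ := []) hp ⟨h3, h4, h5, by simp, .inl rfl, h1, h2⟩ (by simp)

theorem Cm.of_ne {a b r s : R} {e : ℤ} (h1 : b ≠ a) (h2 : b ≠ Φ.neg a) (h3 : Φ.ct a b = [(r, e, 1, 1)]) (he : (e : F) ≠ 0)
    (h4 : Φ.Cz 0 a s) (h5 : Φ.Cz 0 b s) : S.Cm π r s := fun t u => by
  simpa [comm_eq h1 h2, h3, mul_div_cancel₀ _ he] using
    comm_mem_LC hc hs (commute_of_cz (S := S) Nat.cast_zero h5 (-1) u) (commute_of_cz Nat.cast_zero h4 (t / e) u)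

theorem lifts_of (hG : S.Gx = ⊤) (h1 : ∀ r, S.Cm π r r ∧ ∃ s, S.T1 r s)
    (h2 : ∀ r s, s ≠ r → s ≠ Φ.neg r → S.T1 r s ∨ S.T1 s r ∨ S.Cm π r s) : S.Lifts π :=
  lifts_of_dom hc hs hG (fun r _ => h1 r) fun r s _ _ => h2 r s

section Two
variable (hF : ∀ t : F, t = 0 ∨ t = 1)
include hF

omit hc hs in
theorem comm_two {a b k : R} (h : Φ.One a b k) : ⁅S.x a 1, S.x b 1⁆ = S.x k 1 := by
  obtain ⟨c, h1, h2⟩ := comm_one (S := S) h
  rw [h2, (hF c).resolve_left (by rintro rfl; simp at h1)]; simp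

theorem lc_sq {a : R} {g : G} (h : S.x a 1 ∈ LC π ⁅S.x a 1, g⁆) : lc hs (S.x a 1) g * lc hs (S.x a 1) g = 1 := by
  rw [← lc_mul_left hc hs h, S.add, (hF (1 + 1)).resolve_right (by simp), x_zero, (lc_eq_one hc hs).2 (one_mem _)]

theorem lc_move {a b c d g k : R} (h1 : Φ.One a g c) (h2 : Φ.One g d b) (h3 : Φ.One c d k) (h4 : Φ.Cz 2 a d) (h5 : S.Cm π b k) :
    lc hs (S.x a 1) (S.x b 1) = lc hs (S.x c 1) (S.x b 1) * lc hs (S.x c 1) (S.x d 1) := by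
  have := lc_chain' hc hs (b := S.x g 1) (commute_of_cz (S := S) (by simpa [← one_add_one_eq_two] using (hF (1 + 1)).resolve_right (by simp)) h4 1 1)
    (by rw [comm_two hF h1, comm_two hF h2, comm_two hF h3]; exact h5 1 1)
  rwa [comm_two hF h1, comm_two hF h2] at this

theorem Cm.of_two {r s a b c d g g' g'' k : R} (h1 : Φ.One a g r) (h2 : Φ.One g b s) (h3 : Φ.One r b k) (h4 : Φ.One a g' c) (h5 : Φ.One g' d s)
    (h6 : Φ.One c d k) (h7 : Φ.One b g'' c) (h8 : Φ.One g'' d r) (h9 : Φ.One a s k) (c1 : Φ.Cz 2 a b) (c2 : Φ.Cz 2 a d) (c3 : Φ.Cz 2 b d)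
    (d1 : S.Cm π s k) (d2 : S.Cm π r k) (d3 : S.Cm π a k) (d4 : S.Cm π c s) (d5 : S.Cm π c r) : S.Cm π r s := by
  have e1 := lc_move hc hs hF h1 h2 h3 c1 d1
  have e2 := lc_move hc hs hF h4 h5 h6 c2 d1
  have e3 := lc_move hc hs hF h7 h8 h6 c3 d2
  have e4 := lc_sq hc hs hF (S := S) (a := a) (g := S.x s 1) (by rw [comm_two hF h9]; exact d3 1 1)
  rw [(lc_eq_one hc hs).2 (d4 1 1), one_mul] at e2
  rw [(lc_eq_one hc hs).2 (d5 1 1), one_mul, ← e2, ← lc_inv, inv_eq_iff_mul_eq_one] at e3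
  rw [eq_inv_of_mul_eq_one_left e3, ← eq_inv_of_mul_eq_one_left e4, right_eq_mul] at e1
  exact Cm.of_prime hc hs (fun t => (hF t).elim (⟨0, by simpa using ·⟩) (⟨1, by simpa using ·⟩)) one_ne_zero ((lc_eq_one hc hs).1 e1)

theorem exists_two (hΦ : Φ.Good) {l : ℤ} (h1 : ∀ r s, Φ.ln r = l → Φ.ln s = l → 0 ≤ Φ.pair r s → S.Cm π r s ∧ Φ.Cz 2 r s)
    (h2 : ∀ a b k, Φ.ln a = l → Φ.ln b = l → Φ.ln k = l → Φ.rv k = Φ.rv a + Φ.rv b → Φ.One a b k) {k a b a' b' : R} (hk : Φ.ln k = l)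
    (ha : Φ.ln a = l) (hb : Φ.ln b = l) (ha' : Φ.ln a' = l) (hb' : Φ.ln b' = l) (e : Φ.rv k = Φ.rv a + Φ.rv b) (e' : Φ.rv k = Φ.rv a' + Φ.rv b') :
    lc hs (S.x a 1) (S.x b 1) = lc hs (S.x a' 1) (S.x b' 1) := by
  have sy : ∀ {r s}, Φ.ln r = l → Φ.ln s = l → Φ.pair r s = Φ.pair s r := fun {r s} h h' =>
    mul_left_cancel₀ (Φ.ln_pos r).ne' ((Φ.ln_pair_symm r s).trans (by rw [h, h']))
  have a0 : ∀ {a b}, Φ.ln a = l → Φ.ln b = l → Φ.rv k = Φ.rv a + Φ.rv b → Φ.pair a b = -1 ∧ Φ.pair a k = 1 ∧ Φ.pair b k = 1 := fun {a b} h h' e => by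
    have h1 := RS.pair_add e k
    have h2 := RS.pair_add e a
    have h3 := RS.pair_add e b
    rw [RS.pair_same] at h1 h2 h3
    rw [sy h' h] at h3
    rw [sy hk h, sy hk h'] at h1
    omega
  have a1 : ∀ {a b}, Φ.ln a = l → Φ.ln b = l → Φ.rv k = Φ.rv a + Φ.rv b → lc hs (S.x a 1) (S.x b 1) = lc hs (S.x b 1) (S.x a 1) := fun h h' e =>
    (eq_inv_of_mul_eq_one_left (lc_sq hc hs hF (by
      rw [comm_two hF (h2 _ _ _ h h' hk e)]; exact (h1 _ _ h hk (by rw [(a0 h h' e).2.1]; simp)).1 1 1))).trans (lc_inv ..)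
  have a2 : ∀ {a b}, Φ.ln a = l → Φ.ln b = l → Φ.rv k = Φ.rv a + Φ.rv b → Φ.pair a a' = 1 → lc hs (S.x a 1) (S.x b 1) = lc hs (S.x a' 1) (S.x b' 1) :=
    fun {a b} h h' e f => by
    obtain ⟨w, hw⟩ := RS.exists_refl (Φ := Φ.toRS) a
    have g : Φ.rv a' = Φ.rv a + Φ.rv (w • a') := by rw [hw, f]; simp
    have i := RS.pair_add e a'
    have j := RS.pair_add e' a
    rw [(a0 ha' hb' e').2.1, sy ha' h, f] at i
    rw [(a0 h h' e).2.1, f] at j
    rw [lc_move hc hs hF (h2 _ _ _ h ((RS.ln_smul ..).trans ha') ha' g) (h2 _ _ _ ((RS.ln_smul ..).trans ha') hb' h' (by linear_combination e' - e + g))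
      (h2 _ _ _ ha' hb' hk e') (h1 _ _ h hb' (by omega)).2 (h1 _ _ h' hk (by rw [(a0 h h' e).2.2]; simp)).1,
      (lc_eq_one hc hs).2 ((h1 _ _ ha' h' (by omega)).1 1 1), one_mul]
  have a3 : ∀ {a b}, Φ.ln a = l → Φ.ln b = l → Φ.rv k = Φ.rv a + Φ.rv b → 0 < Φ.pair a a' → lc hs (S.x a 1) (S.x b 1) = lc hs (S.x a' 1) (S.x b' 1) :=
    fun {a b} h h' e f => by
    by_cases g : a = a'
    · rw [g] at e ⊢
      rw [Φ.rv_inj (add_left_cancel (e.symm.trans e'))]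
    · exact a2 h h' e ((hΦ.str _ _ f g).elim id (sy h ha').trans)
  have i := RS.pair_add e a'
  rw [(a0 ha' hb' e').2.1, sy ha' ha, sy ha' hb] at i
  by_cases f : 0 < Φ.pair a a'
  · exact a3 ha hb e f
  · exact (a1 ha hb e).trans (a3 hb ha (e.trans (add_comm _ _)) (by omega))

theorem lifts_two_of (hG : S.Gx = ⊤) {y : R → E} (h1 : ∀ r, π (y r) = S.x r 1 ∧ y r ∈ commutator E ∧ y r * y r = 1)
    (h2 : ∀ r s, s ≠ r → s ≠ Φ.neg r → S.Cm π r s ∨ ⁅y r, y s⁆ ∈ Subgroup.closure {g | ∃ k, Φ.Comb k r s ∧ g = y k}) : S.Lifts π := by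
  classical
  have h11 : (1 : F) + 1 = 0 := (hF _).resolve_right (by simp)
  have hy : ∀ k, S.IsLift π k fun t => if t = 0 then 1 else y k := fun k => by
    refine ⟨fun t => ?_, fun t u => ?_, fun e c he t => ?_⟩
    · rcases hF t with rfl | rfl <;> simp [h1]
    · rcases hF t with rfl | rfl <;> rcases hF u with rfl | rfl <;> simp [h11, h1]
    · obtain rfl : c = 1 := funext fun i => Units.ext ((hF (c i)).resolve_left (c i).ne_zero)
      rcases hF t with rfl | rfl <;> simp only [RS.chi_one, Units.val_one, mul_one, mul_zero, if_true, mul_inv_cancel, one_ne_zero, if_false]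
      exact comm_of_der hc (Subgroup.mem_center_iff.2 fun g => (he.commute (hG ▸ trivial)).symm) (h1 k).2.1
  refine ⟨_, rel_of_lift hc hs hy fun r s e1 e2 => .inr (.inr fun t u => ?_), fun r => (hy r).map⟩
  rcases h2 r s e1 e2 with h | h
  · rw [commutatorElement_eq_one_iff_commute.2 ((mem_LC hc).1 (by rw [(hy r).map, (hy s).map]; exact h t u))]
    exact one_mem _
  rcases hF t with rfl | rfl
  · simp
  rcases hF u with rfl | rfl
  · simp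
  simpa using Subgroup.closure_mono (by rintro _ ⟨k, a, rfl⟩; exact ⟨k, a, 1, by simp⟩) h

end Two

theorem split_of_lifts [Finite F] (hG : S.Gx = ⊤) (hi : Function.Injective S.hMul_of_finite.hT) (hσ : π.ker ≤ commutator E) (h : S.Lifts π) : π.ker = ⊥ := by
  obtain ⟨y, h1, h2⟩ := h
  obtain ⟨φ, hφ⟩ := S.ad.cov_lift S.rel
  obtain ⟨ψ, hψ⟩ := S.ad.cov_lift h1
  have a := St.inj_of_hT (S' := S) S.ad.cov_Gx rfl (St.hMul_of_finite _) _ hφ hi
  have b : π.comp ψ = φ := hom_ext S.ad.cov_Gx fun r t => by simp [hψ, hφ, h2]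
  refine eq_bot_iff.2 fun z hz => ?_
  obtain ⟨u, rfl⟩ := surj_of_stem ⟨hs, hc, hσ⟩ (b ▸ St.surj_of hG hφ) z
  rw [a (show φ u = φ 1 by rw [map_one, ← b]; exact hz), map_one]
  exact one_mem _

end St

end Cfsg.Agent.Chev
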