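import Cfsg.Agent.Lib.Chev.Unip

set_option autoImplicit false
set_option linter.unusedSectionVars false

/-! The subgroups `H`, `N` and the map onto the Weyl group. -/

namespace Cfsg.Agent.Chev

open Matrix
open scoped commutatorElement

variable {I R : Type} [Fintype I] [DecidableEq I] [Fintype R] [DecidableEq R]

theorem RS.eq_of_rv_eq_smul {Φ : RS I R} {r s : R} {k : ℕ} (h : Φ.rv r = (k : ℤ) • Φ.rv s) : r = s := by
  obtain ⟨w, i, rfl⟩ := RS.exists_smul_sim (Φ := Φ) s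
  have e : Φ.rv (w⁻¹ • r) = (k : ℤ) • Φ.rv (Φ.sim i) := by
    rw [← RS.lin_rv, h, map_smul, RS.lin_rv, inv_smul_smul]
  have := RS.eq_sim_of_support (Φ := Φ) (r := w⁻¹ • r) (i := i)
    (fun j => by rw [e]; exact mul_nonneg (by omega) (Φ.pos_sim i j))
    (fun j hj => by simp [e, Φ.rv_sim, hj])
  rw [← this, smul_inv_smul]

theorem Adj.entry_ne' {Φ : CD I R} {F : Type*} [Field F] (ad : Adj Φ F) {r s : R} (h : s ≠ r)
    (t : F) (i : I) : ad.X s t (.inl i) (.inr (Φ.neg r)) = 0 := by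
  rcases ad.hom s (.inl i) (.inr (Φ.neg r)) with h1 | ⟨k, c, hk, hw, -⟩
  · simp [h1]
  · exfalso
    refine h (RS.eq_of_rv_eq_smul (Φ := Φ.toRS) (k := k) ?_).symm
    simp only [RS.wt, Sum.elim_inl, Sum.elim_inr, Φ.rv_neg] at hw
    ext j; have := congrFun hw j; simp at this ⊢; omega

theorem Adj.X_inj {Φ : CD I R} {F : Type*} [Field F] (ad : Adj Φ F) {r : R} {t u : F}
    (h : ad.X r t = ad.X r u) : t = u := by
  obtain ⟨i, hi⟩ := Φ.exists_cv_ne_zero F r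
  have h1 := ad.entry r t i
  rw [h, ad.entry] at h1
  exact (mul_left_cancel₀ hi h1).symm

/-- the sign `η` as a unit -/
def CD.ηu (Φ : CD I R) (F : Type*) [Field F] (i : I) (r : R) : Fˣ :=
  ⟨Φ.η i r, Φ.η i r, by rw [← Int.cast_mul, Φ.η_sq, Int.cast_one],
    by rw [← Int.cast_mul, Φ.η_sq, Int.cast_one]⟩

namespace St
variable {Φ : CD I R} {F : Type*} [Field F] {G : Type*} [Group G] (S : St Φ F G)

/-- the elements `n_r(c)` -/
def n (r : R) (c : Fˣ) : G := S.x r c * S.x (Φ.neg r) (-(c : F)⁻¹) * S.x r c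

/-- the elements `h_r(c)` -/
def h (r : R) (c : Fˣ) : G := S.n r c * S.n r (-1)

theorem n_inv (r : R) (c : Fˣ) : (S.n r c)⁻¹ = S.n r (-c) := by
  simp [n, x_inv, mul_assoc, inv_neg]

theorem h_one (r : R) : S.h r 1 = 1 := by rw [h, ← n_inv, mul_inv_cancel]

theorem n_eq_h_mul (r : R) (c : Fˣ) : S.n r c = S.h r c * S.n r 1 := by
  rw [h, ← n_inv]; simp

theorem n_mul_n (r : R) (c d : Fˣ) : S.n r c * S.n r d = S.h r c * (S.h r (-d))⁻¹ := by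
  rw [h, h, _root_.mul_inv_rev, n_inv S r (-d), neg_neg]; group

theorem mat_n (i : I) (c : Fˣ) : S.mat (S.n (Φ.sim i) c) = Φ.nM i c := by
  rw [n, mat_mul, mat_mul, mat_x, mat_x, S.ad.n_eq']

theorem θ_h (i : I) (c : Fˣ) : S.θ (S.h (Φ.sim i) c) = Φ.tG F fun j => c ^ Φ.A i (Φ.sim j) := by
  apply Units.ext
  rw [RS.tG_val, ← Adj.nM_mul_nM, ← S.mat_n, ← S.mat_n, ← S.mat_mul]; rfl

variable {S}

theorem eq_of_x_eq {r s : R} {t u : F} (ht : t ≠ 0) (h : S.x r t = S.x s u) : r = s := by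
  by_contra hne
  obtain ⟨i, hi⟩ := Φ.exists_cv_ne_zero F r
  have := ent_x_self (S := S) r i t
  rw [h, ent, mat_x, S.ad.entry_ne' (Ne.symm hne)] at this
  exact mul_ne_zero hi ht this.symm

theorem θ_n_conj (i : I) (c : Fˣ) (s : R) (u : F) :
    S.θ (S.n (Φ.sim i) c * S.x s u * (S.n (Φ.sim i) c)⁻¹) =
      S.θ (S.x (Φ.rf i s) ((Φ.η i s : F) * ((c ^ (-Φ.A i s) : Fˣ) : F) * u)) := by
  rw [map_mul, map_inv, mul_inv_eq_iff_eq_mul, ← map_mul]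
  apply Units.ext
  change S.mat _ = S.mat _
  rw [mat_mul, mat_mul, mat_n, mat_x, mat_x, S.ad.nM_mul]

theorem n_conj_aux (i : I) (c : Fˣ) {s : R} (h1 : s ≠ Φ.sim i) (h2 : s ≠ Φ.neg (Φ.sim i)) (u : F) :
    S.n (Φ.sim i) c * S.x s u * (S.n (Φ.sim i) c)⁻¹ =
      S.x (Φ.rf i s) ((Φ.η i s : F) * ((c ^ (-Φ.A i s) : Fˣ) : F) * u) := by
  obtain ⟨j, hj, hs⟩ : ∃ j, j ≠ i ∧ Φ.rv s j ≠ 0 := by
    by_contra hn
    push Not at hn
    by_cases hp : Φ.Pos s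
    · exact h1 (RS.eq_sim_of_support hp hn)
    · refine h2 (Φ.neg_eq_iff.1 (RS.eq_sim_of_support (RS.pos_neg_iff.2 hp) fun j hj => ?_))
      simp [Φ.rv_neg, hn j hj]
  let f : I → ℤ := Pi.single j (Φ.rv s j)
  have hf : ∀ r, Φ.fn f r = Φ.rv s j * Φ.rv r j := fun r => by simp [RS.fn, f, Pi.single_apply]
  have f0 : Φ.fn f (Φ.sim i) = 0 := by simp [hf, Φ.rv_sim, hj]
  have key : ∀ r, Φ.fn f r = 0 → ∀ t, ∀ g ∈ S.Ux {r | 0 < Φ.fn f r},
      S.x r t * g * (S.x r t)⁻¹ ∈ S.Ux {r | 0 < Φ.fn f r} := by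
    intro r hr t g hg
    refine conj_x_mem (fun k hk => ⟨?_, fun k' hk' => ?_⟩) t hg
    · rintro rfl
      simp [RS.fn_neg, hr] at hk
    · have := hk'.fn_le (f := f) hr.ge (le_of_lt hk)
      simp only [Set.mem_ofPred_eq] at *
      omega
  have hs' : 0 < Φ.fn f s := by rw [hf]; exact mul_self_pos.2 hs
  refine eq_of_θ_eq (RS.unip_fn f) ?_ (x_mem ?_ _) (θ_n_conj i c s u)
  · have := key _ f0 c _ (key (Φ.neg (Φ.sim i)) (by rw [RS.fn_neg, f0, neg_zero]) (-(c : F)⁻¹) _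
      (key _ f0 c _ (x_mem (A := {r | 0 < Φ.fn f r}) hs' u)))
    simpa [n, mul_assoc] using this
  · simpa [hf, Φ.rv_rf, hj] using hs

theorem x_mem_of_wit {p : R} (hp : WitFor Φ.toRS Φ.ct p) :
    ∃ f, 0 < Φ.fn f p ∧ ∀ u, S.x p u ∈ S.Ux {k | 0 < Φ.fn f k ∧ k ≠ p} := by
  obtain ⟨a, b, f, L₁, L₂, e, i, hab, fa, fb, hct, he, h1, h2⟩ := hp
  have hc : ∀ c ∈ Φ.ct a b, Φ.fn f a + Φ.fn f b ≤ Φ.fn f c.1 := fun c hc => by
    obtain ⟨h1, h2, h3⟩ := Φ.ct_rv a b c hc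
    exact RS.Comb.fn_le ⟨_, _, h1, h2, h3⟩ fa.le fb.le
  have hp := hc (p, e, i, 1) (by simp [hct])
  simp only at hp
  refine ⟨f, by omega, fun u => ?_⟩
  have := S.comm a b (-1) (e * u) hab ((RS.unip_fn f).ne_neg fa fb)
  rw [hct, List.map_append, List.prod_append, List.map_cons, List.prod_cons] at this
  have e1 : (e : F) * (- -1) ^ i * ((e : F) * u) ^ 1 = u := by
    have : (e : F) * e = 1 := by rw [← Int.cast_mul, he, Int.cast_one]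
    simp [← mul_assoc, this]
  simp only [e1] at this
  set P1 := (L₁.map fun c => S.x c.1 ((c.2.1 : F) * (- -1) ^ c.2.2.1 * (e * u) ^ c.2.2.2)).prod
  set P2 := (L₂.map fun c => S.x c.1 ((c.2.1 : F) * (- -1) ^ c.2.2.1 * (e * u) ^ c.2.2.2)).prod
  have e2 : S.x p u = P1⁻¹ * (S.x b (e * u))⁻¹ * (S.x a (-1))⁻¹ * (S.x b (e * u) * S.x a (-1)) * P2⁻¹ := by
    rw [this]; group
  have ha : S.x a (-1) ∈ S.Ux {k | 0 < Φ.fn f k ∧ k ≠ p} :=
    x_mem (by exact ⟨fa, by rintro rfl; omega⟩) _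
  have hb : S.x b (e * u) ∈ S.Ux {k | 0 < Φ.fn f k ∧ k ≠ p} :=
    x_mem (by exact ⟨fb, by rintro rfl; omega⟩) _
  have g1 : P1 ∈ S.Ux {k | 0 < Φ.fn f k ∧ k ≠ p} := by
    refine Subgroup.list_prod_mem _ fun g hg => ?_
    obtain ⟨c, hc', rfl⟩ := List.mem_map.1 hg
    have := hc c (by simp [hct, hc'])
    exact x_mem (by exact ⟨by omega, h1 c hc'⟩) _
  have g2 : P2 ∈ S.Ux {k | 0 < Φ.fn f k ∧ k ≠ p} := by
    refine Subgroup.list_prod_mem _ fun g hg => ?_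
    obtain ⟨c, hc', rfl⟩ := List.mem_map.1 hg
    have := hc c (by simp [hct, hc'])
    exact x_mem (by exact ⟨by omega, h2 c hc'⟩) _
  rw [e2]
  exact mul_mem (mul_mem (mul_mem (mul_mem (inv_mem g1) (inv_mem hb)) (inv_mem ha)) (mul_mem hb ha))
    (inv_mem g2)

theorem n_conj (i : I) (c : Fˣ) (s : R) (u : F) :
    S.n (Φ.sim i) c * S.x s u * (S.n (Φ.sim i) c)⁻¹ =
      S.x (Φ.rf i s) ((Φ.η i s : F) * ((c ^ (-Φ.A i s) : Fˣ) : F) * u) := by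
  by_cases hs : s ≠ Φ.sim i ∧ s ≠ Φ.neg (Φ.sim i)
  · exact n_conj_aux i c hs.1 hs.2 u
  have hw : WitFor Φ.toRS Φ.ct s := by
    by_cases h1 : s = Φ.sim i
    · rw [h1]; exact (Φ.wit i).1
    · rw [not_and, not_not] at hs; rw [hs h1]; exact (Φ.wit i).2
  obtain ⟨f, hf, hx⟩ := x_mem_of_wit (S := S) hw
  obtain ⟨g, hg⟩ := Φ.exists_fn_smul f (Φ.s i)
  simp only [RS.s_smul] at hg
  refine eq_of_θ_eq (RS.unip_fn g) (conj_mem_of_gen ?_ (hx u)) (x_mem ?_ _) (θ_n_conj i c s u)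
  · rintro k ⟨hk1, hk2⟩ t
    have hk3 : k ≠ Φ.neg s := (RS.unip_fn f).ne_neg hf hk1
    rw [n_conj_aux]
    · exact x_mem (by simpa [hg, Φ.rf_rf] using hk1) _
    · rintro rfl
      exact hs ⟨hk2.symm, fun e => hk3 (by rw [e, Φ.neg_neg])⟩
    · rintro rfl
      exact hs ⟨fun e => hk3 (by rw [e]), hk2.symm⟩
  · simpa [hg, Φ.rf_rf] using hf

variable (S) in
/-- `g` permutes the root subgroups according to `w` -/
def Acts (g : G) (w : Φ.W) : Prop :=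
  ∃ χ : R → Fˣ, (∀ r, χ (Φ.neg r) = (χ r)⁻¹) ∧ ∀ r t, g * S.x r t * g⁻¹ = S.x (w • r) (χ r * t)

theorem acts_one : S.Acts 1 1 := ⟨1, by simp, by simp⟩

theorem Acts.mul {g g' : G} {w w' : Φ.W} (h : S.Acts g w) (h' : S.Acts g' w') :
    S.Acts (g * g') (w * w') := by
  obtain ⟨χ, h1, h2⟩ := h
  obtain ⟨χ', h1', h2'⟩ := h'
  refine ⟨fun r => χ (w' • r) * χ' r, fun r => by simp [RS.smul_neg', h1, h1', mul_comm],
    fun r t => ?_⟩
  rw [mul_smul, Units.val_mul, mul_assoc (χ _ : F), ← h2, ← h2']; group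

theorem Acts.inv {g : G} {w : Φ.W} (h : S.Acts g w) : S.Acts g⁻¹ w⁻¹ := by
  obtain ⟨χ, h1, h2⟩ := h
  refine ⟨fun r => (χ (w⁻¹ • r))⁻¹, fun r => by simp [RS.smul_neg', h1], fun r t => ?_⟩
  have := h2 (w⁻¹ • r) (((χ (w⁻¹ • r))⁻¹ : Fˣ) * t)
  rw [smul_inv_smul, ← mul_assoc (χ _ : F), Units.mul_inv, one_mul] at this
  rw [← this]; group

theorem Acts.unique {g : G} {w w' : Φ.W} (h : S.Acts g w) (h' : S.Acts g w') : w = w' := by
  obtain ⟨χ, -, h2⟩ := h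
  obtain ⟨χ', -, h2'⟩ := h'
  exact RS.W_ext fun r => eq_of_x_eq (by simp) ((h2 r 1).symm.trans (h2' r 1))

theorem acts_n (i : I) (c : Fˣ) : S.Acts (S.n (Φ.sim i) c) (Φ.s i) :=
  ⟨fun r => Φ.ηu F i r * c ^ (-Φ.A i r), fun r => by
    apply Units.ext
    have : (Φ.η i r : F)⁻¹ = Φ.η i r := (Φ.ηu F i r).val_inv_eq_inv_val.symm
    simp [CD.ηu, Φ.η_neg, Φ.A_neg, mul_comm], fun r t => n_conj i c r t⟩

theorem Acts.conj_n {g : G} {w : Φ.W} (h : S.Acts g w) (r : R) :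
    ∃ χ : Fˣ, ∀ c, g * S.n r c * g⁻¹ = S.n (w • r) (χ * c) := by
  obtain ⟨χ, h1, h2⟩ := h
  refine ⟨χ r, fun c => ?_⟩
  have := h2 (Φ.neg r) (-(c : F)⁻¹)
  rw [h1, RS.smul_neg'] at this
  rw [n, n, Units.val_mul, ← h2, mul_inv, ← mul_neg, ← Units.val_inv_eq_inv_val (χ r), ← this]
  group

theorem Acts.conj_mem {g : G} {w : Φ.W} (h : S.Acts g w) {A B : Set R} (hAB : ∀ r ∈ A, w • r ∈ B)
    {u : G} (hu : u ∈ S.Ux A) : g * u * g⁻¹ ∈ S.Ux B := by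
  obtain ⟨χ, -, h2⟩ := h
  exact conj_mem_of_gen (fun r hr t => by rw [h2]; exact x_mem (hAB r hr) _) hu

theorem Acts.conj_mem' {g : G} {w : Φ.W} (h : S.Acts g w) {A B : Set R}
    (hAB : ∀ r ∈ A, w⁻¹ • r ∈ B) {u : G} (hu : u ∈ S.Ux A) : g⁻¹ * u * g ∈ S.Ux B := by
  simpa using h.inv.conj_mem hAB hu

variable (S) in
/-- `g` acts as the torus element `a` -/
def IsTor (g : G) (a : I → Fˣ) : Prop :=
  S.θ g = Φ.tG F a ∧ ∀ r t, g * S.x r t * g⁻¹ = S.x r (RS.chi a (Φ.rv r) * t)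

theorem IsTor.acts {g : G} {a : I → Fˣ} (h : S.IsTor g a) : S.Acts g 1 :=
  ⟨fun r => RS.chi a (Φ.rv r), fun r => by simp only [Φ.rv_neg, RS.chi_neg], by simpa using h.2⟩

theorem isTor_of_acts {g : G} {a : I → Fˣ} (h : S.Acts g 1) (e : S.θ g = Φ.tG F a) : S.IsTor g a := by
  refine ⟨e, fun r t => ?_⟩
  obtain ⟨χ, -, h2⟩ := h
  rw [h2, one_smul]
  congr 1
  have h3 := congrArg S.mat (mul_inv_eq_iff_eq_mul.1 (h2 r t))
  rw [mat_mul, mat_mul, mat_x, mat_x, mat, e, RS.tG_val, S.ad.tM_mul_X, one_smul] at h3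
  exact S.ad.X_inj ((Units.mul_left_inj (Φ.tG F a)).1 h3).symm

theorem isTor_one : S.IsTor 1 1 := isTor_of_acts acts_one (by simp)

theorem IsTor.mul {g g' : G} {a a' : I → Fˣ} (h : S.IsTor g a) (h' : S.IsTor g' a') :
    S.IsTor (g * g') (a * a') :=
  isTor_of_acts (by simpa using h.acts.mul h'.acts) (by rw [map_mul, map_mul, h.1, h'.1])

theorem IsTor.inv {g : G} {a : I → Fˣ} (h : S.IsTor g a) : S.IsTor g⁻¹ a⁻¹ :=
  isTor_of_acts (by simpa using h.acts.inv) (by rw [map_inv, map_inv, h.1])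

theorem IsTor.unique {g : G} {a a' : I → Fˣ} (h : S.IsTor g a) (h' : S.IsTor g a') : a = a' :=
  Φ.tG_injective F (h.1.symm.trans h'.1)

theorem isTor_h_sim (i : I) (c : Fˣ) : S.IsTor (S.h (Φ.sim i) c) fun j => c ^ Φ.A i (Φ.sim j) :=
  isTor_of_acts (by rw [← Φ.s_sq i]; exact (acts_n (S := S) i c).mul (acts_n i (-1))) (S.θ_h i c)

variable (S) in
/-- the diagonal subgroup -/
def H : Subgroup G := Subgroup.closure {g | ∃ i c, g = S.h (Φ.sim i) c}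

variable (S) in
/-- the monomial subgroup -/
def N : Subgroup G := Subgroup.closure {g | ∃ i c, g = S.n (Φ.sim i) c}

theorem h_sim_mem (i : I) (c : Fˣ) : S.h (Φ.sim i) c ∈ S.H := Subgroup.subset_closure ⟨i, c, rfl⟩
theorem n_sim_mem (i : I) (c : Fˣ) : S.n (Φ.sim i) c ∈ S.N := Subgroup.subset_closure ⟨i, c, rfl⟩

theorem H_le_N : S.H ≤ S.N := by
  rw [H, Subgroup.closure_le]
  rintro _ ⟨i, c, rfl⟩
  exact mul_mem (n_sim_mem i c) (n_sim_mem i _)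

theorem N_induction {p : G → Prop} (h1 : p 1)
    (h2 : ∀ i c, ∀ g ∈ S.N, p g → p (S.n (Φ.sim i) c * g)) {g : G} (hg : g ∈ S.N) : p g := by
  induction hg using Subgroup.closure_induction_left with
  | one => exact h1
  | mul_left y hy g hg ih => obtain ⟨i, c, rfl⟩ := hy; exact h2 i c g hg ih
  | inv_mul_cancel y hy g hg ih =>
    obtain ⟨i, c, rfl⟩ := hy
    rw [n_inv]; exact h2 i _ g hg ih

theorem exists_isTor {g : G} (hg : g ∈ S.H) : ∃ a, S.IsTor g a := by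
  induction hg using Subgroup.closure_induction with
  | mem g hg => obtain ⟨i, c, rfl⟩ := hg; exact ⟨_, isTor_h_sim i c⟩
  | one => exact ⟨_, isTor_one⟩
  | mul g g' _ _ h h' => obtain ⟨a, h⟩ := h; obtain ⟨a', h'⟩ := h'; exact ⟨_, h.mul h'⟩
  | inv g _ h => obtain ⟨a, h⟩ := h; exact ⟨_, h.inv⟩

theorem acts_of_mem_H {g : G} (hg : g ∈ S.H) : S.Acts g 1 := (exists_isTor hg).choose_spec.acts

theorem exists_acts {g : G} (hg : g ∈ S.N) : ∃ w, S.Acts g w :=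
  N_induction (p := fun g => ∃ w, S.Acts g w) ⟨1, acts_one⟩
    (fun i c _ _ ⟨_, h⟩ => ⟨_, (acts_n i c).mul h⟩) hg

theorem conj_H_Ux {g : G} (hg : g ∈ S.H) {A : Set R} {u : G} (hu : u ∈ S.Ux A) :
    g * u * g⁻¹ ∈ S.Ux A := (acts_of_mem_H hg).conj_mem (by simp) hu

theorem n_mul_n_mem (i : I) (c d : Fˣ) : S.n (Φ.sim i) c * S.n (Φ.sim i) d ∈ S.H := by
  rw [n_mul_n]; exact mul_mem (h_sim_mem _ _) (inv_mem (h_sim_mem _ _))

theorem conj_mem_H {m : G} (hm : m ∈ S.N) {g : G} (hg : g ∈ S.H) : m * g * m⁻¹ ∈ S.H := by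
  refine N_induction (p := fun m => m * g * m⁻¹ ∈ S.H) (by simpa using hg) ?_ hm
  intro i c m _ ih
  obtain ⟨χ, e⟩ := (acts_of_mem_H (inv_mem ih)).conj_n (Φ.sim i)
  have : S.n (Φ.sim i) c * m * g * (S.n (Φ.sim i) c * m)⁻¹ = (m * g * m⁻¹) *
      (((m * g * m⁻¹)⁻¹ * S.n (Φ.sim i) c * (m * g * m⁻¹)⁻¹⁻¹) * (S.n (Φ.sim i) c)⁻¹) := by group
  rw [this, e, one_smul, n_inv]
  exact mul_mem ih (n_mul_n_mem _ _ _)

theorem n_mem (r : R) (c : Fˣ) : S.n r c ∈ S.N := by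
  induction r using RS.root_induction (Φ := Φ.toRS) generalizing c with
  | h1 i => exact n_sim_mem i c
  | h2 i r ih =>
    obtain ⟨χ, e⟩ := (acts_n (S := S) i 1).conj_n r
    have := e (χ⁻¹ * c)
    rw [mul_inv_cancel_left, RS.s_smul] at this
    rw [← this]
    exact mul_mem (mul_mem (n_sim_mem _ _) (ih _)) (inv_mem (n_sim_mem _ _))

theorem Acts.conj_h {g : G} {w : Φ.W} (h : S.Acts g w) (r : R) :
    ∃ χ : Fˣ, (∀ c, g * S.n r c * g⁻¹ = S.n (w • r) (χ * c)) ∧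
      ∀ c, g * S.h r c * g⁻¹ = S.h (w • r) (χ * c) * (S.h (w • r) χ)⁻¹ := by
  obtain ⟨χ, e⟩ := h.conj_n r
  refine ⟨χ, e, fun c => ?_⟩
  have := n_mul_n S (w • r) (χ * c) (χ * -1)
  rw [mul_neg, neg_neg, mul_one] at this
  rw [← this, ← e, ← mul_neg_one, ← e, St.h]; group

theorem IsTor.conj {g : G} {a : I → Fˣ} (h : S.IsTor g a) (hg : g ∈ S.H) {m : G} (hm : m ∈ S.N)
    {w : Φ.W} (hw : S.Acts m w) :
    S.IsTor (m * g * m⁻¹) fun j => RS.chi a (Φ.rv (w⁻¹ • Φ.sim j)) := by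
  obtain ⟨a', h'⟩ := exists_isTor (conj_mem_H hm hg)
  suffices (fun j => RS.chi a (Φ.rv (w⁻¹ • Φ.sim j))) = a' from this ▸ h'
  ext j
  obtain ⟨χ, -, h2⟩ := hw
  have e1 := h2 (w⁻¹ • Φ.sim j) 1
  have e2 := h2 (w⁻¹ • Φ.sim j) (RS.chi a (Φ.rv (w⁻¹ • Φ.sim j)) * 1)
  have e3 := h'.2 (Φ.sim j) (χ (w⁻¹ • Φ.sim j) * 1)
  rw [smul_inv_smul] at e1 e2
  rw [← h.2] at e2
  rw [← e1, show m * g * m⁻¹ * (m * S.x (w⁻¹ • Φ.sim j) 1 * m⁻¹) * (m * g * m⁻¹)⁻¹ =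
    m * (g * S.x (w⁻¹ • Φ.sim j) 1 * g⁻¹) * m⁻¹ by group, e2, Φ.rv_sim, RS.chi_single] at e3
  have := x_inj e3
  simp only [mul_one, zpow_one] at this
  rw [mul_comm] at this
  exact mul_right_cancel₀ (Units.ne_zero _) this

theorem h_mem_and (r : R) (c : Fˣ) :
    S.h r c ∈ S.H ∧ S.IsTor (S.h r c) fun j => c ^ Φ.pair r (Φ.sim j) := by
  induction r using RS.root_induction (Φ := Φ.toRS) generalizing c with
  | h1 i => exact ⟨h_sim_mem i c, by simpa only [RS.pair_sim] using isTor_h_sim i c⟩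
  | h2 i r ih =>
    obtain ⟨χ, -, e⟩ := (acts_n (S := S) i 1).conj_h r
    have key : ∀ d, S.h (Φ.rf i r) (χ * d) * (S.h (Φ.rf i r) χ)⁻¹ ∈ S.H ∧
        S.IsTor (S.h (Φ.rf i r) (χ * d) * (S.h (Φ.rf i r) χ)⁻¹)
          fun j => d ^ Φ.pair (Φ.rf i r) (Φ.sim j) := by
      intro d
      have h1 := (ih d).2.conj (ih d).1 (n_sim_mem i 1) (acts_n i 1)
      have h2 := conj_mem_H (n_sim_mem i 1) (ih d).1
      rw [e] at h1 h2
      refine ⟨h2, ?_⟩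
      rw [RS.s_smul] at h1
      convert h1 using 2
      rw [RS.chi_pair, RS.s_inv, RS.s_smul, ← Φ.pair_rf i r, Φ.rf_rf]
    have k1 := key χ⁻¹
    rw [mul_inv_cancel, h_one, one_mul] at k1
    have k2 := key (χ⁻¹ * c)
    rw [mul_inv_cancel_left] at k2
    refine ⟨by simpa using mul_mem k2.1 (inv_mem k1.1), ?_⟩
    convert k2.2.mul k1.2.inv using 1
    · simp
    · ext j; simp [mul_zpow]

theorem h_mem (r : R) (c : Fˣ) : S.h r c ∈ S.H := (h_mem_and r c).1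
theorem isTor_h (r : R) (c : Fˣ) : S.IsTor (S.h r c) fun j => c ^ Φ.pair r (Φ.sim j) :=
  (h_mem_and r c).2

theorem h_conj_x (r : R) (c : Fˣ) (s : R) (t : F) :
    S.h r c * S.x s t * (S.h r c)⁻¹ = S.x s (((c ^ Φ.pair r s : Fˣ) : F) * t) := by
  rw [(isTor_h r c).2, RS.chi_pair]

variable (S) in
/-- the map from `N` onto the Weyl group -/
noncomputable def π : S.N →* Φ.W where
  toFun m := (exists_acts m.2).choose
  map_one' := (exists_acts (one_mem _)).choose_spec.unique acts_one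
  map_mul' m m' := (exists_acts (m * m').2).choose_spec.unique
    ((exists_acts m.2).choose_spec.mul (exists_acts m'.2).choose_spec)

theorem acts_π (m : S.N) : S.Acts m (S.π m) := (exists_acts m.2).choose_spec

theorem π_eq {m : S.N} {w : Φ.W} (h : S.Acts m w) : S.π m = w := (acts_π m).unique h

theorem π_surj : Function.Surjective S.π := by
  intro w
  induction w using RS.W_induction with
  | h1 => exact ⟨1, map_one _⟩
  | h2 i w ih =>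
    obtain ⟨m, rfl⟩ := ih
    exact ⟨⟨_, n_sim_mem i 1⟩ * m, by rw [map_mul, π_eq (acts_n i 1)]⟩

theorem exists_of_W (w : Φ.W) : ∃ m ∈ S.N, S.Acts m w := by
  obtain ⟨m, rfl⟩ := π_surj (S := S) w
  exact ⟨m, m.2, acts_π m⟩

instance instNormalH : (S.H.subgroupOf S.N).Normal :=
  ⟨fun _ hg m => conj_mem_H m.2 hg⟩

theorem mem_H_of_acts {m : G} (hm : m ∈ S.N) (h : S.Acts m 1) : m ∈ S.H := by
  let K := S.H.subgroupOf S.N
  let t : I → S.N ⧸ K := fun i => QuotientGroup.mk ⟨_, n_sim_mem i 1⟩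
  have ht : ∀ i c, (QuotientGroup.mk ⟨_, n_sim_mem i c⟩ : S.N ⧸ K) = t i := by
    intro i c
    rw [QuotientGroup.eq, Subgroup.mem_subgroupOf]
    simpa [n_inv] using n_mul_n_mem i _ _
  have hI : InvGen t := by
    constructor
    · intro i
      rw [← QuotientGroup.mk_mul, QuotientGroup.eq_one_iff, Subgroup.mem_subgroupOf]
      exact n_mul_n_mem i _ _
    · intro w
      obtain ⟨⟨m, hm⟩, rfl⟩ := QuotientGroup.mk_surjective w
      refine N_induction (p := fun m => ∀ hm : m ∈ S.N, ∃ ω, wp t ω = QuotientGroup.mk ⟨m, hm⟩)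
        (fun _ => ⟨[], rfl⟩) ?_ hm hm
      intro i c g hg ih hm
      obtain ⟨ω, e⟩ := ih hg
      exact ⟨i :: ω, by rw [wp_cons, e, ← ht i c]; rfl⟩
  let π' : S.N ⧸ K →* Φ.W := QuotientGroup.lift K S.π fun g hg => π_eq (acts_of_mem_H hg)
  have := RS.injective_of_hom hI π' (fun i => π_eq (acts_n i 1)) (by
    intro i j w hw
    obtain ⟨m, rfl⟩ := QuotientGroup.mk_surjective w
    obtain ⟨χ, e⟩ := (acts_π m).conj_n (Φ.sim j)
    have e' := e 1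
    change S.π m • _ = _ at hw
    rw [hw] at e'
    rw [← ht i (χ * 1), ← QuotientGroup.mk_mul, ← QuotientGroup.mk_mul]
    congr 1
    apply Subtype.ext
    simp only [Subgroup.coe_mul]
    rw [← e']; group)
  have h2 : (QuotientGroup.mk ⟨m, hm⟩ : S.N ⧸ K) = 1 := by
    apply this
    rw [map_one]; exact π_eq h
  rwa [QuotientGroup.eq_one_iff] at h2

theorem π_ker : S.π.ker = S.H.subgroupOf S.N := by
  ext m
  rw [MonoidHom.mem_ker, Subgroup.mem_subgroupOf]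
  exact ⟨fun h => mem_H_of_acts m.2 (h ▸ acts_π m), fun h => π_eq (acts_of_mem_H h)⟩

theorem inv_mul_mem_H {m m' : G} (hm : m ∈ S.N) (hm' : m' ∈ S.N) {w : Φ.W} (h : S.Acts m w)
    (h' : S.Acts m' w) : m⁻¹ * m' ∈ S.H :=
  mem_H_of_acts (mul_mem (inv_mem hm) hm') (by simpa using h.inv.mul h')

theorem mul_inv_mem_H {m m' : G} (hm : m ∈ S.N) (hm' : m' ∈ S.N) {w : Φ.W} (h : S.Acts m w)
    (h' : S.Acts m' w) : m * m'⁻¹ ∈ S.H :=
  mem_H_of_acts (mul_mem hm (inv_mem hm')) (by simpa using h.mul h'.inv)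

theorem mat_mono {m : G} (hm : m ∈ S.N) {w : Φ.W} (h : S.Acts m w) (r : R) (a : I ⊕ R)
    (ha : a ≠ .inr (w • r)) : S.mat m a (.inr r) = 0 := by
  revert w a
  refine N_induction (p := fun m => ∀ {w : Φ.W}, S.Acts m w → ∀ a, a ≠ .inr (w • r) →
    S.mat m a (.inr r) = 0) ?_ ?_ hm
  · intro w h a ha
    rw [h.unique acts_one, one_smul] at ha
    rw [mat_one, Matrix.one_apply_ne ha]
  · intro i c g hg ih w h a ha
    obtain ⟨w', h'⟩ := exists_acts hg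
    rw [h.unique ((acts_n i c).mul h'), mul_smul, RS.s_smul] at ha
    rw [mat_mul, Matrix.mul_apply, Finset.sum_eq_single (.inr (w' • r))
      (fun b _ hb => by rw [ih h' b hb, mul_zero]) (by simp), mat_n]
    rcases a with a | a
    · simp [CD.nM]
    · have : a ≠ Φ.rf i (w' • r) := fun e => ha (by rw [e])
      simp [CD.nM, this]

theorem n_sim_eq (i : I) (c : Fˣ) : S.n (Φ.neg (Φ.sim i)) c = S.n (Φ.sim i) (-c⁻¹) := by
  have h1 := n_conj (S := S) i (-c⁻¹) (Φ.sim i) (-c⁻¹ : Fˣ)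
  have h2 := n_conj (S := S) i (-c⁻¹) (Φ.neg (Φ.sim i)) c
  rw [Φ.rf_sim, Φ.η_sim, Φ.A_self] at h1
  rw [Φ.rf_neg_sim, Φ.η_neg, Φ.η_sim, Φ.A_neg, Φ.A_self] at h2
  have e1 : ((-1 : ℤ) : F) * (((-c⁻¹) ^ (-2 : ℤ) : Fˣ) : F) * ((-c⁻¹ : Fˣ) : F) = c := by
    simp [zpow_ofNat]; field_simp
  have e2 : ((-1 : ℤ) : F) * (((-c⁻¹) ^ (- -2 : ℤ) : Fˣ) : F) * c = -(c : F)⁻¹ := by
    simp [zpow_ofNat]; field_simp
  rw [e1] at h1
  rw [e2] at h2
  have e3 : S.n (Φ.sim i) (-c⁻¹) = S.x (Φ.sim i) (-c⁻¹ : Fˣ) * S.x (Φ.neg (Φ.sim i)) c *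
      S.x (Φ.sim i) (-c⁻¹ : Fˣ) := by simp [n]
  have e4 : ((-c⁻¹ : Fˣ) : F) = -(c : F)⁻¹ := by simp
  rw [e4] at h1 e3
  generalize S.n (Φ.sim i) (-c⁻¹) = m at *
  calc _ = (m * S.x (Φ.sim i) (-(c : F)⁻¹) * m⁻¹) * (m * S.x (Φ.neg (Φ.sim i)) c * m⁻¹) *
      (m * S.x (Φ.sim i) (-(c : F)⁻¹) * m⁻¹) := by rw [h1, h2, n, Φ.neg_neg]
    _ = m * (S.x (Φ.sim i) (-(c : F)⁻¹) * S.x (Φ.neg (Φ.sim i)) c * S.x (Φ.sim i) (-(c : F)⁻¹)) * m⁻¹ := by
      group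
    _ = m := by rw [← e3]; group

theorem n_neg (r : R) (c : Fˣ) : S.n (Φ.neg r) c = S.n r (-c⁻¹) := by
  obtain ⟨w, i, rfl⟩ := RS.exists_smul_sim (Φ := Φ.toRS) r
  obtain ⟨m, -, χ, h1, h2⟩ := exists_of_W (S := S) w
  have key : ∀ r c, m * S.n r c * m⁻¹ = S.n (w • r) (χ r * c) := by
    intro r c
    have := h2 (Φ.neg r) (-(c : F)⁻¹)
    rw [h1, RS.smul_neg'] at this
    rw [n, n, Units.val_mul, ← h2, mul_inv, ← mul_neg, ← Units.val_inv_eq_inv_val (χ r), ← this]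
    group
  have a1 := key (Φ.neg (Φ.sim i)) (χ (Φ.sim i) * c)
  rw [n_sim_eq, key, h1, inv_mul_cancel_left, RS.smul_neg'] at a1
  rw [← a1]
  congr 1
  simp [mul_comm]

/-- the rank one relation -/
theorem x_neg_eq (r : R) (c : Fˣ) :
    S.x (Φ.neg r) c = S.x r (c : F)⁻¹ * S.n r (-c⁻¹) * S.x r (c : F)⁻¹ := by
  simp [n, ← mul_assoc, S.add]
  simp [mul_assoc, S.add]

end St

end Cfsg.Agent.Chev
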