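import Cfsg.Agent.Lib.Chev.SL2
import Cfsg.Prelude.Def_ChevAutomorphisms

set_option autoImplicit false
set_option maxRecDepth 100000
set_option linter.unusedSectionVars false
set_option linter.style.haveILetI false

/-! Further combinatorial properties of the seven root systems; centralizers of unipotent radicals. -/

namespace Cfsg.Agent.Chev

open Cfsg.Lie
open scoped commutatorElement

variable {I R : Type} [Fintype I] [DecidableEq I] [Fintype R] [DecidableEq R]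

/-- properties of irreducible root systems of rank at least two -/
structure RS.Good (Φ : RS I R) : Prop where
  conn : Φ.Conn
  ne : Nonempty I
  dif : ∀ i j, j = i ∨ ∃ r s, 0 < Φ.rv r i ∧ 0 < Φ.rv s i ∧ Φ.rv s = Φ.rv r + Φ.rv (Φ.sim j)
  trans : ∀ r s, Φ.ln r = Φ.ln s → ∃ w : Φ.W, w • r = s
  str : ∀ r s, 0 < Φ.pair r s → r ≠ s → Φ.pair r s = 1 ∨ Φ.pair s r = 1

theorem RS.good_of {Φ : RS I R} (hc : Φ.Conn) (i₀ : I) (b : I → I) (ω : I → List I)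
    (h1 : ∀ i j, j = i ∨ (∃ r, 0 < Φ.rv r i ∧ Φ.A j r = -1) ∨
      ∃ r s, 0 < Φ.rv r i ∧ 0 < Φ.rv s i ∧ ∀ k, Φ.rv s k = Φ.rv r k + Φ.rv (Φ.sim j) k)
    (h2 : (∀ j, wp Φ.s (ω j) • Φ.sim (b j) = Φ.sim j) ∧ (∀ i j, Φ.ln (Φ.sim i) = Φ.ln (Φ.sim j) → b i = b j) ∧
      ∀ i r, 1 < Φ.A i r → Φ.sim i = r ∨ Φ.pair r (Φ.sim i) = 1) :
    Φ.Good := by
  refine ⟨hc, ⟨i₀⟩, fun i j => ?_, fun r s e => ?_, fun r s h e => ?_⟩
  · by_cases hj : j = i
    · exact Or.inl hj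
    rcases (h1 i j).resolve_left hj with ⟨r, h, h'⟩ | ⟨r, s, h, h', e⟩
    · exact Or.inr ⟨r, Φ.rf j r, h, by simpa [Φ.rv_rf, Ne.symm hj] using h, by
        rw [Φ.rv_rf, h', Φ.rv_sim, Pi.single_neg, sub_neg_eq_add]⟩
    · exact Or.inr ⟨r, s, h, h', funext e⟩
  · obtain ⟨w, i, rfl⟩ := RS.exists_smul_sim (Φ := Φ) r
    obtain ⟨w', j, rfl⟩ := RS.exists_smul_sim (Φ := Φ) s
    rw [RS.ln_smul, RS.ln_smul] at e
    refine ⟨w' * wp Φ.s (ω j) * (wp Φ.s (ω i))⁻¹ * w⁻¹, ?_⟩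
    rw [mul_smul, inv_smul_smul, mul_smul, ← h2.1 i, inv_smul_smul, h2.2.1 i j e, mul_smul, h2.1]
  · obtain ⟨w, i, rfl⟩ := RS.exists_smul_sim (Φ := Φ) r
    obtain ⟨s, rfl⟩ := MulAction.surjective w s
    simp only [RS.pair_smul, Φ.pair_sim, ne_eq, smul_left_cancel_iff] at h e ⊢
    by_cases h' : 1 < Φ.A i s
    · exact Or.inr ((h2.2.2 i s h').resolve_left e)
    · exact Or.inl (by omega)

theorem RS.exists_refl {Φ : RS I R} (r : R) : ∃ w : Φ.W, ∀ s, Φ.rv (w • s) = Φ.rv s - Φ.pair r s • Φ.rv r := by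
  obtain ⟨w, i, rfl⟩ := RS.exists_smul_sim (Φ := Φ) r
  exact ⟨_, RS.rv_conj w i⟩

theorem RS.Good.exists_sub {Φ : RS I R} (h : Φ.Good) {r s : R} (h1 : 0 < Φ.pair r s) (h2 : r ≠ s) :
    ∃ k, Φ.rv s = Φ.rv k + Φ.rv r := by
  rcases h.str r s h1 h2 with e | e
  · obtain ⟨w, hw⟩ := RS.exists_refl (Φ := Φ) r
    exact ⟨w • s, by simp [hw, e]⟩
  · obtain ⟨w, hw⟩ := RS.exists_refl (Φ := Φ) s
    exact ⟨Φ.neg (w • r), by simp [Φ.rv_neg, hw, e]⟩

theorem RS.Good.pos_induction {Φ : RS I R} (h : Φ.Good) {p : R → Prop} (h1 : ∀ i, p (Φ.sim i))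
    (h2 : ∀ i k r, Φ.Pos k → Φ.rv r = Φ.rv k + Φ.rv (Φ.sim i) → p k → p r) (r : R) (hr : Φ.Pos r) : p r := by
  induction' e : (Φ.ht r).toNat using Nat.strong_induction_on with n ih generalizing r
  obtain ⟨i, hi, hi'⟩ := hr.exists_A_pos
  by_cases hri : Φ.sim i = r
  · exact hri ▸ h1 i
  obtain ⟨k, hk⟩ := h.exists_sub (r := Φ.sim i) (s := r) (by rwa [Φ.pair_sim]) hri
  have hp : Φ.Pos k := fun j => by
    have := congrFun hk j
    have := hr j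
    by_cases hj : j = i <;> simp_all [Φ.rv_sim]
  have : Φ.ht r = Φ.ht k + 1 := by
    rw [← RS.ht_sim (Φ := Φ) i]; simp only [RS.ht, hk, Pi.add_apply, Finset.sum_add_distrib]
  have := hp.ht_pos
  exact h2 i k r hp hk (ih _ (by omega) k hp rfl)

/-- lists of nodes -/
def nds (l : ℕ) (L : List ℕ) : List (Fin l) := L.filterMap fun i => if h : i < l then some ⟨i, h⟩ else none

theorem good_B2 : checkedB2.toRS.Good :=
  RS.good_of conn_B2 ⟨0, by decide⟩ id (fun _ => []) (by decide +kernel) (by decide +kernel)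
theorem good_G2 : checkedG2.toRS.Good :=
  RS.good_of conn_G2 ⟨0, by decide⟩ id (fun _ => []) (by decide +kernel) (by decide +kernel)
theorem good_D4 : checkedD4.toRS.Good :=
  RS.good_of conn_D4 ⟨0, by decide⟩ (fun _ => ⟨0, by decide⟩)
    (fun j => nds _ ([[], [0, 1], [1, 2, 0, 1], [1, 3, 0, 1]].getD j [])) (by decide +kernel) (by decide +kernel)
theorem good_F4 : checkedF4.toRS.Good :=
  RS.good_of conn_F4 ⟨0, by decide⟩ (fun j => [f4n 0, f4n 0].getD j (f4n 2))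
    (fun j => nds _ ([[], [0, 1], [], [2, 3]].getD j [])) (by decide +kernel) (by decide +kernel)

/-- words moving the first fundamental root of type `E` to the others -/
def wordsE : List (List ℕ) := [[], [3, 2, 1, 3, 0, 2], [0, 2], [2, 3, 0, 2], [3, 4, 2, 3, 0, 2],
  [4, 5, 3, 4, 2, 3, 0, 2], [5, 6, 4, 5, 3, 4, 2, 3, 0, 2], [6, 7, 5, 6, 4, 5, 3, 4, 2, 3, 0, 2]]

theorem good_E6 : checkedE6.toRS.Good :=
  RS.good_of conn_E6 ⟨0, by decide⟩ (fun _ => ⟨0, by decide⟩) (fun j => nds _ (wordsE.getD j []))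
    (by decide +kernel) (by decide +kernel)
theorem good_E7 : checkedE7.toRS.Good :=
  RS.good_of conn_E7 ⟨0, by decide⟩ (fun _ => ⟨0, by decide⟩) (fun j => nds _ (wordsE.getD j []))
    (by decide +kernel) (by decide +kernel)
theorem good_E8 : checkedE8.toRS.Good :=
  RS.good_of conn_E8 ⟨0, by decide⟩ (fun _ => ⟨0, by decide⟩) (fun j => nds _ (wordsE.getD j []))
    (by decide +kernel) (by decide +kernel)

theorem good_of_mem {D : ChevalleyDatum} (hD : D ∈ [chevG2, chevB2, chevD4, chevF4, chevE6, chevE7, chevE8]) :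
    ∃ c, ∃ h : Checked D c, h.toCD.Good := by
  simp only [List.mem_cons, List.not_mem_nil, or_false] at hD
  rcases hD with rfl | rfl | rfl | rfl | rfl | rfl | rfl
  exacts [⟨_, checkedG2, good_G2⟩, ⟨_, checkedB2, good_B2⟩, ⟨_, checkedD4, good_D4⟩, ⟨_, checkedF4, good_F4⟩,
    ⟨_, checkedE6, good_E6⟩, ⟨_, checkedE7, good_E7⟩, ⟨_, checkedE8, good_E8⟩]

/-- the roots strictly above `r` -/
def RS.Abv (Φ : RS I R) (r : R) : Set R := {k | (∀ i, Φ.rv r i ≤ Φ.rv k i) ∧ k ≠ r}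

theorem RS.Comb.abv {Φ : RS I R} {k r s a : R} (h : Φ.Comb k r s) (hr : Φ.Pos r) (hs : Φ.Pos s)
    (e : ∀ i, Φ.rv a i ≤ Φ.rv s i) : k ∈ Φ.Abv a := by
  refine ⟨fun i => ?_, ?_⟩
  · have := h.rv_le (hr i) (hs i); have := e i; have := hr i; omega
  · rintro rfl
    have := h.fn_le (f := 1) (RS.unip_pos.pos _ hr).le (RS.unip_pos.pos _ hs).le
    have h1 := RS.unip_pos.pos _ hr
    have h2 : Φ.fn 1 k ≤ Φ.fn 1 s := Finset.sum_le_sum fun i _ => by simpa using e i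
    omega

theorem RS.Abv.pos {Φ : RS I R} {r k : R} (hr : Φ.Pos r) (h : k ∈ Φ.Abv r) : Φ.Pos k := fun i => (hr i).trans (h.1 i)

theorem RS.closed_abv {Φ : RS I R} {r : R} (hr : Φ.Pos r) : Φ.Closed (Φ.Abv r) :=
  fun _ ha _ hb _ hk => hk.abv (RS.Abv.pos hr ha) (RS.Abv.pos hr hb) hb.1

theorem RS.closed_ge {Φ : RS I R} {r : R} (hr : Φ.Pos r) : Φ.Closed {k | ∀ i, Φ.rv r i ≤ Φ.rv k i} :=
  fun _ ha _ hb _ hk => (hk.abv (fun i => (hr i).trans (ha i)) (fun i => (hr i).trans (hb i)) hb).1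

theorem RS.smul_eq_of_ge {Φ : RS I R} {w : Φ.W} {A : Set R} (hA : ∀ r ∈ A, w • r ∈ A)
    (h : ∀ r ∈ A, ∀ i, Φ.rv r i ≤ Φ.rv (w • r) i) : ∀ r ∈ A, w • r = r := by
  classical
  intro r hr
  refine Φ.rv_inj (funext fun i => ?_)
  have e : ∑ r ∈ Finset.univ.filter (· ∈ A), Φ.rv r i = ∑ r ∈ Finset.univ.filter (· ∈ A), Φ.rv (w • r) i := by
    have : (Finset.univ.filter (· ∈ A)).image (w • ·) = Finset.univ.filter (· ∈ A) :=
      Finset.eq_of_subset_of_card_le (fun x hx => by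
        obtain ⟨y, hy, rfl⟩ := Finset.mem_image.1 hx
        simpa using hA y (by simpa using hy)) (Finset.card_image_of_injective _ (MulAction.injective w)).ge
    conv_lhs => rw [← this, Finset.sum_image (MulAction.injective w).injOn]
  exact ((Finset.sum_eq_sum_iff_of_le fun x hx => h x (by simpa using hx) i).1 e r (by simpa)).symm

namespace St
variable {Φ : CD I R} {F : Type*} [Field F] {G : Type*} [Group G] {S : St Φ F G}

theorem conj_abv {r : R} (hr : Φ.Pos r) {u : G} (hu : u ∈ S.U) {g : G} (hg : g ∈ S.Ux (Φ.Abv r)) :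
    u * g * u⁻¹ ∈ S.Ux (Φ.Abv r) :=
  conj_Ux_mem (fun _ ha _ hb => ⟨RS.unip_pos.ne_neg ha (RS.Abv.pos hr hb),
    fun _ hk => hk.abv ha (RS.Abv.pos hr hb) hb.1⟩) hu hg

theorem conj_x_U {r : R} (hr : Φ.Pos r) (t : F) {u : G} (hu : u ∈ S.U) :
    ∃ v ∈ S.Ux (Φ.Abv r), u * S.x r t * u⁻¹ = S.x r t * v := by
  rw [← inv_inv u]
  refine Ux_induction (p := fun u => ∃ v ∈ S.Ux (Φ.Abv r), u⁻¹ * S.x r t * u⁻¹⁻¹ = S.x r t * v) ⟨1, one_mem _, by simp⟩
    (fun s hs a g _ ⟨v, hv, e⟩ => ⟨⁅S.x r (-t), S.x s (-a)⁆ * (S.x s (-a) * v * (S.x s (-a))⁻¹), mul_mem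
      (comm_mem (RS.unip_pos.ne_neg hs hr) (fun k hk => hk.abv hs hr fun _ => le_rfl) _ _)
      (conj_abv hr (x_mem_U hs _) hv), ?_⟩) (inv_mem hu)
  rw [mul_inv_rev, mul_assoc, mul_assoc, mul_inv_rev, ← mul_assoc _ g⁻¹⁻¹, ← mul_assoc g⁻¹, ← mul_assoc g⁻¹, e,
    commutatorElement_def, ← x_inv, ← x_inv]
  group

theorem eq_of_x_eq_mul {r : R} (hr : Φ.Pos r) {t t' : F} {v : G} (hv : v ∈ S.Ux (Φ.Abv r)) (e : S.x r t = S.x r t' * v) :
    t = t' := by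
  rw [← inv_mul_eq_iff_eq_mul, x_inv, S.add] at e
  have := eq_zero_of_P_mem (S := S) RS.unip_pos (RS.closed_abv hr) (fun _ => RS.Abv.pos hr) (L := [r]) (by simp)
    (by simpa) (t := fun _ => -t' + t) (by simpa [e]) (r := r) (by simp) fun h => h.2 rfl
  exact (neg_add_eq_zero.1 this).symm

theorem smul_ge_of_conj {r : R} (hr : Φ.Pos r) {t : F} (ht : t ≠ 0) {v : G} (hv : v ∈ S.Ux (Φ.Abv r)) {T : Set R}
    (hT : Φ.Closed T) (hT' : ∀ r ∈ T, Φ.Pos r) {m : G} {w : Φ.W} (hw : S.Acts m w)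
    (e : m * (S.x r t * v) * m⁻¹ ∈ S.Ux T) : w • r ∈ T := by
  classical
  obtain ⟨L, h1, h2⟩ := exists_list (Φ.Abv r)
  obtain ⟨s, rfl⟩ := exists_P (RS.unip_pos.subset (RS.closed_abv hr) fun _ => RS.Abv.pos hr) h1 h2 hv
  have hn : r ∉ L := fun h => ((h2 r).1 h).2 rfl
  refine smul_mem_of_conj (L := r :: L) (t := Function.update s r t) hT hT' hw (List.nodup_cons.2 ⟨hn, h1⟩)
    (List.forall_mem_cons.2 ⟨hr, fun a ha => RS.Abv.pos hr ((h2 a).1 ha)⟩) ?_ (by simp) (by simpa)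
  rwa [P_cons, Function.update_self, P_congr (t' := s) fun a ha => Function.update_of_ne (by rintro rfl; exact hn ha) ..]

theorem mem_U_of_commute (hΦ : Φ.Good) {i : I} {g : G} (hg : g ∈ S.PJ {j | j ≠ i})
    (h : ∀ r, 0 < Φ.rv r i → Commute g (S.x r 1)) : ∃ u ∈ S.U, ∃ k ∈ S.H, S.IsTor k 1 ∧ g = u * k := by
  obtain ⟨u, hu, m, hm, w, hw, hmw, u', hu', rfl⟩ := bruhat_PJ hg
  have key : ∀ r, 0 < Φ.rv r i → ∃ v ∈ S.Ux (Φ.Abv r), ∃ v' ∈ S.Ux (Φ.Abv r),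
      m * (S.x r 1 * v) * m⁻¹ = S.x r 1 * v' := fun r hr => by
    obtain ⟨v, hv, e⟩ := conj_x_U (S := S) (RS.pos_of_pos hr) 1 (Uw_le_U _ hu')
    obtain ⟨v', hv', e'⟩ := conj_x_U (S := S) (RS.pos_of_pos hr) 1 (inv_mem hu)
    refine ⟨v, hv, v', hv', ?_⟩
    rw [← e, ← e', ← mul_inv_cancel_right (S.x r 1) (u * m * u'), ← (h r hr).eq]
    conv_lhs => rw [(h r hr).eq, mul_inv_cancel_right]
    group
  have h1 := RS.smul_eq_of_ge (w := w) (A := {r | 0 < Φ.rv r i})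
    (fun r hr => by simpa [RS.rv_smul_of_mem_WJ hw r (i := i) (by simp)] using hr) fun r hr => by
      obtain ⟨v, hv, v', hv', e⟩ := key r hr
      have hp := RS.pos_of_pos hr
      exact smul_ge_of_conj hp one_ne_zero hv (RS.closed_ge hp) (fun k hk i => (hp i).trans (hk i)) hmw
        (e ▸ mul_mem (x_mem (by exact fun _ => le_rfl) _) (Ux_mono (fun k hk => hk.1) hv'))
  obtain rfl : w = 1 := RS.eq_one_of_pos fun j => by
    rcases hΦ.dif i j with rfl | ⟨r, s, hr, hs, e⟩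
    · rw [h1 _ (by simp [Φ.rv_sim])]; exact Φ.pos_sim j
    · have := congrArg (RS.lin w) e
      rw [map_add, RS.lin_rv, RS.lin_rv, RS.lin_rv, h1 r hr, h1 s hs, e, add_right_inj] at this
      rw [← Φ.rv_inj this]; exact Φ.pos_sim j
  have hH := mem_H_of_acts hm hmw
  obtain ⟨a, ha⟩ := exists_isTor hH
  have h2 : ∀ r, 0 < Φ.rv r i → RS.chi a (Φ.rv r) = 1 := fun r hr => by
    obtain ⟨v, hv, v', hv', e⟩ := key r hr
    rw [show m * (S.x r 1 * v) * m⁻¹ = m * S.x r 1 * m⁻¹ * (m * v * m⁻¹) by group, ha.2, ← eq_mul_inv_iff_mul_eq,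
      mul_assoc] at e
    simpa using eq_of_x_eq_mul (RS.pos_of_pos hr) (mul_mem hv' (inv_mem (conj_H_Ux hH hv))) e
  obtain rfl : a = 1 := funext fun j => by
    rcases hΦ.dif i j with rfl | ⟨r, s, hr, hs, e⟩
    · simpa [Φ.rv_sim, RS.chi_single] using h2 (Φ.sim j) (by simp [Φ.rv_sim])
    · have := h2 s hs
      simpa [e, RS.chi_add, h2 r hr, Φ.rv_sim, RS.chi_single] using this
  exact ⟨u * (m * u' * m⁻¹), mul_mem hu (conj_H_Ux hH (Uw_le_U _ hu')), m, hH, ha, by group⟩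

theorem PJ_mono {J K : Set I} (h : J ⊆ K) : S.PJ J ≤ S.PJ K :=
  sup_le_sup_left (fun _ ⟨h1, w, h2, h3⟩ => ⟨h1, w, RS.WJ_mono h h2, h3⟩) _

theorem inf_centralizer_UJ_le (hΦ : Φ.Good) (hθ : Function.Injective S.θ) {J : Set I} {i : I} (hi : i ∉ J) :
    S.PJ J ⊓ Subgroup.centralizer (S.UJ J) ≤ S.U := by
  intro g hg
  have h1 : J ⊆ {j | j ≠ i} := fun j hj => by rintro rfl; exact hi hj
  have h2 : ∀ r, 0 < Φ.rv r i → Commute g (S.x r 1) := fun r hr => by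
    have : S.x r 1 ∈ S.UJ J := x_mem (by exact ⟨RS.pos_of_pos hr, fun h => hr.ne' (h i hi)⟩) 1
    exact (Subgroup.mem_centralizer_iff.1 hg.2 _ this).symm
  obtain ⟨u, hu, k, -, hk, rfl⟩ := mem_U_of_commute hΦ (PJ_mono h1 hg.1) h2
  rwa [hk.eq_of_inj hθ isTor_one, mul_one]

end St

namespace Checked
variable {D : ChevalleyDatum} {c : Cert} (h : Checked D c) {K : Type*} [Field K]

theorem chi_eq (hΦ : h.toCD.Good) {χ : ℕ → Kˣ} (hχ : D.IsRootCharacter χ) (r : Fin D.nroots) :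
    χ r = RS.chi (fun i => χ (D.simple i.val)) (h.toCD.rv r) := by
  have h1 : ∀ i, χ (h.toCD.sim i) = RS.chi (fun i => χ (D.simple i.val)) (h.toCD.rv (h.toCD.sim i)) := fun i => by
    rw [h.toCD.rv_sim, RS.chi_single, zpow_one]; rfl
  have key := hΦ.pos_induction (p := fun r => χ r = RS.chi (fun i => χ (D.simple i.val)) (h.toCD.rv r)) h1
    fun i k r _ e ih => by
      rw [e, RS.chi_add, ← ih, ← h1]
      exact hχ.2 _ _ _ k.2 (h.toCD.sim i).2 (h.chainRoot_of_add k.2 (h.toCD.sim i).2 r.2 fun j hj => congrFun e ⟨j, hj⟩)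
  by_cases hr : h.toCD.Pos r
  · exact key r hr
  · have := key _ (RS.pos_neg_iff.2 hr)
    rw [h.toCD.rv_neg, RS.chi_neg] at this
    rw [← inv_inj, ← this]; exact (hχ.1 r r.2).symm

theorem charDiag_eq {χ : ℕ → Kˣ} {a : Fin D.rank → Kˣ} (e : ∀ r : Fin D.nroots, χ r = RS.chi a (h.toCD.rv r)) :
    D.charDiag K χ = h.toCD.tM a := by
  rw [ChevalleyDatum.charDiag, RS.tM]
  congr 1
  ext (i | r)
  · simp [RS.wt, RS.chi_zero]
  · simp [RS.wt, e]

theorem isRootCharacter (a : Fin D.rank → Kˣ) :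
    D.IsRootCharacter fun r => if hr : r < D.nroots then RS.chi a (h.toCD.rv ⟨r, hr⟩) else 1 := by
  refine ⟨fun r hr => ?_, fun r s k hr hs e => ?_⟩
  · simp only [hr, h.neg_lt hr, dif_pos]
    rw [← RS.chi_neg, ← h.toCD.rv_neg]; rfl
  · obtain ⟨hk, e'⟩ := h.chainRoot_spec (k := 0) hr hs e
    simp only [hr, hs, hk, dif_pos]
    rw [← RS.chi_add]
    congr 1
    ext i
    have := e' i i.2
    simp only [Nat.cast_zero, zero_add, one_mul] at this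
    exact this

end Checked

end Cfsg.Agent.Chev
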