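import Cfsg.Agent.Lib.Classical.Omega
import Cfsg.Agent.Lib.Classical.GroupRec
import Cfsg.Prelude.Def_GeometricClasses

set_option autoImplicit false
set_option linter.unusedSectionVars false
set_option linter.style.haveILetI false

/-! Orthogonal groups in characteristic two acting on nonsingular points. -/

namespace Cfsg.Agent.Chev.NSing
open Cfsg.Agent.Classical Matrix Module

variable {F : Type*} [Field F] [Fintype F] {V : Type*} [AddCommGroup V] [Module F V] [FiniteDimensional F V]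

theorem card_lines (Φ : Form (Kind.orth F) V) {m : ℕ} {η : ℤ} (h : Φ.IsType (m + 1) η) (hη : η = 1 ∨ η = -1) :
    (Nat.card {W : Submodule F V // finrank F W = 1 ∧ ∃ v ∈ W, Φ.N v ≠ 0} : ℤ) = (Nat.card F : ℤ) ^ m * ((Nat.card F : ℤ) ^ (m + 1) - η) := by
  classical
  have := Module.finite_of_finite F (M := V)
  set L := {W : Submodule F V // finrank F W = 1 ∧ ∃ v ∈ W, Φ.N v ≠ 0}
  choose w w1 w2 using fun W : L => W.2.2
  have n0 : ∀ v, Φ.N v ≠ 0 → v ≠ 0 := fun v h e => h (by simp [e])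
  have w3 : ∀ W : L, (F ∙ w W) = W.1 := fun W => Submodule.eq_of_le_of_finrank_eq ((Submodule.span_singleton_le_iff_mem _ _).2 (w1 W))
    (by rw [finrank_span_singleton (n0 _ (w2 W)), W.2.1])
  have a := Nat.card_eq_of_bijective (fun x : L × Fˣ => (⟨x.2.1 • w x.1, by rw [Φ.N_smul]; simp [w2]⟩ : {v // ¬Φ.N v = 0})) ⟨fun ⟨A, c⟩ ⟨B, d⟩ e => by
    have e : c.1 • w A = d.1 • w B := congrArg Subtype.val e
    obtain rfl : A = B := Subtype.ext (by
      rw [← w3, ← w3 B, ← Submodule.span_singleton_smul_eq c.isUnit, e, Submodule.span_singleton_smul_eq d.isUnit])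
    rw [Units.ext (smul_left_injective F (n0 _ (w2 A)) e)], fun v => by
    let A : L := ⟨F ∙ v.1, finrank_span_singleton (n0 _ v.2), v.1, Submodule.mem_span_singleton_self _, v.2⟩
    obtain ⟨c, hc⟩ := Submodule.mem_span_singleton.1 ((w3 A).ge (Submodule.mem_span_singleton_self v.1))
    exact ⟨(A, Units.mk0 c fun e => n0 _ v.2 (by simp [← hc, e])), Subtype.ext hc⟩⟩
  have b := Nat.card_congr (Equiv.sumCompl fun v => Φ.N v = 0)
  rw [Nat.card_sum, ← a, Nat.card_prod, Nat.card_units, Module.natCard_eq_pow_finrank (K := F) (V := V), h.1] at b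
  have c := h.cnt_sub_one hη
  have q : 1 < Nat.card F := Finite.one_lt_card
  zify [q.le] at b q
  change (Φ.cnt 0 : ℤ) + _ = _ at b
  refine mul_right_cancel₀ (sub_pos.2 q).ne' ?_
  have : η * η = 1 := mul_self_eq_one_iff.2 hη
  linear_combination b - c + this

theorem eq_one (h2 : (2 : F) = 0) {t : F} (h : t * t = 1) : t = 1 :=
  (mul_self_eq_one_iff.1 h).elim id fun e => by linear_combination e - h2

theorem fix_mod {r : ℕ} [Fact r.Prime] {Φ : Form (Kind.orth F) V} {y : V ≃ₗ[F] V} (h : y ∈ Φ.Isom) (hy : y ^ r = 1) (h0 : ∀ v, y v = v → v = 0) :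
    Φ.cnt 0 ≡ 1 [MOD r] := by
  classical
  have := Module.finite_of_finite F (M := V)
  have := Fintype.ofFinite V
  let f : Function.End {v // Φ.N v = 0} := fun v => ⟨y v.1, (h.2 _).trans v.2⟩
  have a : ∀ k v, ((f ^ k) v).1 = (y ^ k) v.1 := fun k => by
    induction k with
    | zero => exact fun v => rfl
    | succ k ih => exact fun v => by rw [pow_succ, pow_succ]; exact ih (f v)
  have b := Equiv.Perm.card_fixedPoints_modEq (f := f) (p := r) (n := 1) (funext fun v => Subtype.ext (by rw [pow_one, a, hy]; rfl))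
  rwa [(Fintype.card_eq_one_iff (α := Function.fixedPoints f)).2 ⟨⟨⟨0, by simp⟩, Subtype.ext (map_zero y)⟩,
    fun v => Subtype.ext (Subtype.ext (h0 _ (congrArg Subtype.val v.2)))⟩, ← Nat.card_eq_fintype_card] at b

theorem mem_comm (h2 : (2 : F) = 0) {Φ : Form (Kind.orth F) V} (hΦ : Φ.Nondeg) (hn : 5 ≤ finrank F V) (y : Φ.Isom) : y ^ 2 ∈ commutator Φ.Isom := by
  rw [← (Form.good_of_finrank hΦ (by omega)).index_commutator_of_two hΦ h2 (by omega)]
  exact Subgroup.pow_index_mem _ y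

theorem transfer (h2 : (2 : F) = 0) {Φ : Form (Kind.orth F) V} (hΦ : Φ.Nondeg) (hn : 5 ≤ finrank F V) {W : Type*} [AddCommGroup W] [Module F W]
    {Ψ : Form (Kind.orth F) W} (e : Ψ.Iso Φ) {r : ℕ} (hr : Odd r) {g : W ≃ₗ[F] W} (hg : g ∈ Ψ.Isom) (g1 : g ^ r = 1) (g2 : ∀ v, g v = v → v = 0) :
    ∃ y ∈ commutator Φ.Isom, y ^ r = 1 ∧ ∀ v, y.1 v = v → Φ.N v = 0 := by
  obtain ⟨e, e1, e2⟩ := e
  have a : Ψ.isomCongr Φ e e1 e2 ⟨g, hg⟩ ^ r = 1 := by rw [← map_pow, show (⟨g, hg⟩ : Ψ.Isom) ^ r = 1 from Subtype.ext g1, map_one]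
  refine ⟨_, ?_, a, fun v hv => ?_⟩
  · obtain ⟨k, rfl⟩ := hr
    have := pow_mem (mem_comm h2 hΦ hn (Ψ.isomCongr Φ e e1 e2 ⟨g, hg⟩)) (k + 1)
    rwa [← pow_mul, show 2 * (k + 1) = 2 * k + 1 + 1 by ring, pow_succ, a, one_mul] at this
  have : g (e.symm v) = e.symm v := e.injective (hv.trans (e.apply_symm_apply v).symm)
  simp [e.symm.map_eq_zero_iff.1 (g2 _ this)]

theorem exists_minus (h2 : (2 : F) = 0) {Φ : Form (Kind.orth F) V} (hΦ : Φ.Nondeg) {m : ℕ} (hm : 2 ≤ m) (ht : Φ.IsType (m + 1) (-1)) {r : ℕ} [Fact r.Prime]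
    (r2 : r ≠ 2) (hr : r ∣ Nat.card F ^ (m + 1) + 1) : ∃ y ∈ commutator Φ.Isom, y ^ r = 1 ∧ ∀ v, y.1 v = v → Φ.N v = 0 := by
  haveI : CharP F 2 := (CharP.charP_iff_prime_eq_zero Nat.prime_two).2 h2
  let K := FiniteField.Extension F 2 (2 * (m + 1))
  have d : finrank F K = 2 * (m + 1) := FiniteField.finrank_extension ..
  have c : Nat.card K = Nat.card F ^ (2 * (m + 1)) := FiniteField.natCard_extension ..
  let σ : K ≃ₐ[F] K := FiniteField.frobeniusAlgEquivOfAlgebraic F K ^ (m + 1)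
  have s1 : ∀ x, σ x = x ^ Nat.card F ^ (m + 1) := fun x => by
    rw [Nat.card_eq_fintype_card, AlgEquiv.coe_pow, FiniteField.coe_frobeniusAlgEquivOfAlgebraic_iterate]
  have o := (FiniteField.orderOf_frobeniusAlgEquivOfAlgebraic F K).trans d
  have s2 : ∀ x, σ (σ x) = x := fun x => by
    rw [← AlgEquiv.mul_apply, ← pow_add, ← two_mul, orderOf_dvd_iff_pow_eq_one.1 o.dvd]; rfl
  obtain ⟨a, ha⟩ : ∃ a, σ a ≠ a := not_forall.1 fun f => by
    have := Nat.le_of_dvd m.succ_pos (o ▸ orderOf_dvd_of_pow_eq_one (AlgEquiv.ext f : σ = 1))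
    omega
  have k2 : (2 : K) = 0 := by rw [← map_ofNat (algebraMap F K), h2, map_zero]
  let Ψ := Form.ofQuadFun (fun v : K => Algebra.trace F K (a * v * σ v)) (LinearMap.mk₂ F (fun u v => Algebra.trace F K (u * ((σ a + a) * σ v)))
    (fun x y z => by simp [add_mul]) (fun c x y => by simp) (fun x y z => by simp [mul_add]) fun c x y => by simp) (fun u v => by
      have := Algebra.trace_eq_of_algEquiv σ (a * v * σ u)
      simp only [map_mul, s2] at this
      have e := congrArg (Algebra.trace F K) (show a * (u + v) * σ (u + v) + σ a * σ v * u =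
        a * u * σ u + a * v * σ v + u * ((σ a + a) * σ v) + a * v * σ u by rw [map_add]; ring)
      simp only [map_add (Algebra.trace F K)] at e
      rw [LinearMap.mk₂_apply]
      linear_combination e - this) fun c v => by simp [mul_assoc]
  have nd : Ψ.Nondeg := fun v f => by
    have := (traceForm_nondegenerate F K).2 _ f
    exact σ.map_eq_zero_iff.1 ((mul_eq_zero.1 this).resolve_left fun e => ha (by linear_combination e - a * k2))
  have hr' : r.Prime := Fact.out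
  have n2 : ¬r ∣ 2 := fun f => r2 ((Nat.prime_dvd_prime_iff_eq hr' Nat.prime_two).1 f)
  obtain ⟨z, hz⟩ := exists_prime_orderOf_dvd_card' (G := Kˣ) r (by
    rw [Nat.card_units, c, mul_comm, pow_mul]; exact hr.trans (by simpa using Nat.sq_sub_sq _ 1 ▸ dvd_mul_right _ _))
  have z1 : z.1 * σ z = 1 := by
    rw [s1, ← pow_succ', ← Units.val_pow_eq_pow_val, orderOf_dvd_iff_pow_eq_one.1 (hz ▸ hr), Units.val_one]
  let φ := DistribMulAction.toModuleAut F K (S := Kˣ)
  have g0 : φ z ∈ Ψ.Isom := ⟨fun u v => congrArg (Algebra.trace F K) (show z.1 * u * ((σ a + a) * σ (z.1 * v)) = u * ((σ a + a) * σ v) by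
      rw [map_mul]; linear_combination u * ((σ a + a) * σ v) * z1),
    fun v => congrArg (Algebra.trace F K) (show a * (z.1 * v) * σ (z.1 * v) = a * v * σ v by rw [map_mul]; linear_combination a * v * σ v * z1)⟩
  have g1 : φ z ^ r = 1 := by rw [← map_pow, ← hz, pow_orderOf_eq_one, map_one]
  have g2 : ∀ v, φ z v = v → v = 0 := fun v f => by
    by_contra e
    exact hr'.ne_one (by rw [← hz, orderOf_eq_one_iff]; exact Units.ext (mul_left_eq_self₀.1 f |>.resolve_right e))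
  refine transfer h2 hΦ (by have := ht.1; omega) (orth_iso_even _ _ _ _ nd hΦ ((exists_isType _ _ nd d).resolve_left fun t => n2 ?_) ht)
    (hr'.odd_of_ne_two r2) g0 g1 g2
  have a1 := congrArg (Int.cast : ℤ → ZMod r) (t.cnt_sub_one (.inl rfl))
  have a2 := (ZMod.natCast_eq_natCast_iff _ _ _).2 (fix_mod g0 g1 g2)
  have a3 := (ZMod.natCast_eq_zero_iff _ _).2 hr
  push_cast at a1 a2 a3
  rw [a2, sub_self, eq_comm, mul_eq_zero] at a1
  refine (ZMod.natCast_eq_zero_iff 2 r).1 (a1.elim (fun a1 => by push_cast; linear_combination a3 - a1) fun a1 => ?_)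
  have a4 : (Nat.card F : ZMod r) = 1 := by linear_combination (Nat.card F : ZMod r) * a1 - a3
  rw [a4] at a1
  simpa [one_add_one_eq_two] using a1

variable {ι : Type} [Fintype ι] [DecidableEq ι]

theorem final (h2 : (2 : F) = 0) [Nonempty ι] {Φ : Form (Kind.orth F) (ι → F)} (hΦ : Φ.Nondeg) {r : ℕ}
    (h : ∃ y ∈ commutator Φ.Isom, y ^ r = 1 ∧ ∀ v, y.1 v = v → Φ.N v = 0) :
    ¬∀ x : GL ι F, x ∈ Cfsg.Geo.omegaGL Φ.N → (∃ z : F, ((x ^ r : GL ι F) : Matrix ι ι F) = z • (1 : Matrix ι ι F)) →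
      (∀ z : F, (x : Matrix ι ι F) ≠ z • (1 : Matrix ι ι F)) →
      ∃ W : Submodule F (ι → F), (finrank F W = 1 ∧ ∃ v ∈ W, Φ.N v ≠ 0) ∧ W.map (toLin' (x : Matrix ι ι F)) ≤ W := fun H => by
  obtain ⟨y, y1, y2, y3⟩ := h
  obtain ⟨x, rfl⟩ := (orthEquiv Φ).surjective y
  have k : ∀ v (t : F), x.1.1 *ᵥ v = t • v → Φ.N v = 0 := fun v t e => by_contra fun f => f (y3 v (by
    have := (orthEquiv Φ x).2.2 v
    rw [orthEquiv_apply, e, Φ.N_smul] at this
    rw [orthEquiv_apply, e, eq_one h2 (mul_left_eq_self₀.1 this |>.resolve_right f), one_smul]))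
  rw [← map_pow, map_eq_one_iff _ (orthEquiv Φ).injective] at y2
  obtain ⟨W, ⟨a, v, b, c⟩, d⟩ := H x.1 ⟨x, (mem_commutator_congr _ _).1 y1, rfl⟩ ⟨1, by rw [← Subgroup.coe_pow, y2]; simp⟩ fun z e => by
    obtain ⟨v, hv⟩ := hΦ.orth_exists_N_ne
    exact hv (k v z (by rw [e, smul_mulVec, one_mulVec]))
  have v0 : v ≠ 0 := fun e => c (by simp [e])
  rw [← Submodule.eq_of_le_of_finrank_eq ((Submodule.span_singleton_le_iff_mem _ _).2 b) (by rw [finrank_span_singleton v0, a])] at d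
  obtain ⟨t, e⟩ := Submodule.mem_span_singleton.1 (d ⟨v, Submodule.mem_span_singleton_self v, rfl⟩)
  exact c (k v t e.symm)

theorem invol (h2 : (2 : F) = 0) [Nonempty ι] {Φ : Form (Kind.orth F) (ι → F)} (hΦ : Φ.Nondeg) {x : GL ι F} (hx : x ∈ Cfsg.Geo.omegaGL Φ.N)
    (h : ∃ z : F, ((x ^ 2 : GL ι F) : Matrix ι ι F) = z • (1 : Matrix ι ι F))
    (H : ∀ y ∈ Φ.Isom, (∀ v, y (y v) = v) → ∃ v, y v = v ∧ Φ.N v ≠ 0) :
    ∃ W : Submodule F (ι → F), (finrank F W = 1 ∧ ∃ v ∈ W, Φ.N v ≠ 0) ∧ W.map (toLin' (x : Matrix ι ι F)) ≤ W := by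
  obtain ⟨x, -, rfl⟩ := hx
  obtain ⟨z, h⟩ := h
  have a : ∀ v, (orthEquiv Φ x).1 ((orthEquiv Φ x).1 v) = z • v := fun v => by
    rw [orthEquiv_apply, orthEquiv_apply, mulVec_mulVec, ← sq, ← Units.val_pow_eq_pow_val]
    exact (congrArg (· *ᵥ v) h).trans (by rw [smul_mulVec, one_mulVec])
  obtain ⟨w, hw⟩ := hΦ.orth_exists_N_ne
  have b := ((orthEquiv Φ x).2.2 _).trans ((orthEquiv Φ x).2.2 w)
  rw [a, Φ.N_smul] at b
  rw [eq_one h2 (mul_left_eq_self₀.1 b |>.resolve_right hw)] at a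
  obtain ⟨v, c, d⟩ := H _ (orthEquiv Φ x).2 fun v => (a v).trans (one_smul _ _)
  refine ⟨F ∙ v, ⟨finrank_span_singleton fun e => d (by simp [e]), v, Submodule.mem_span_singleton_self v, d⟩, ?_⟩
  rw [Submodule.map_span, Set.image_singleton, Submodule.span_singleton_le_iff_mem]
  exact (show _ = v from c).symm ▸ Submodule.mem_span_singleton_self v

theorem big_ker (h2 : (2 : F) = 0) {y : V ≃ₗ[F] V} (h : ∀ v, y (y v) = v) :
    LinearMap.range (y.toLinearMap - LinearMap.id) ≤ LinearMap.ker (y.toLinearMap - LinearMap.id) := by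
  rintro _ ⟨v, rfl⟩
  simp only [LinearMap.mem_ker, LinearMap.sub_apply, LinearEquiv.coe_coe, LinearMap.id_apply, map_sub, h]
  linear_combination (norm := module) h2 • (v - y v)

theorem minus_fix (h2 : (2 : F) = 0) {Φ : Form (Kind.orth F) V} (hΦ : Φ.Nondeg) {m : ℕ} (ht : Φ.IsType m (-1)) (y : V ≃ₗ[F] V)
    (h : ∀ v, y (y v) = v) : ∃ v, y v = v ∧ Φ.N v ≠ 0 := by
  by_contra! f
  have a := (y.toLinearMap - LinearMap.id).finrank_range_add_finrank_ker
  have b := Submodule.finrank_mono (big_ker h2 h)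
  obtain ⟨w, hw⟩ := exists_linearIndependent_of_le_finrank (R := F) (M := LinearMap.ker (y.toLinearMap - LinearMap.id)) (n := m) (by have := ht.1; omega)
  have c := finrank_span_eq_card (hw.map' _ (Submodule.ker_subtype _))
  have := ht.unique (isType_of_TS m Φ _ hΦ ht.1 (c.trans (Fintype.card_fin m)) (Form.TS_orth fun v hv => f v (sub_eq_zero.1
    ((Submodule.span_le.2 (by rintro _ ⟨i, rfl⟩; exact (w i).2) : _ ≤ LinearMap.ker (y.toLinearMap - LinearMap.id)) hv))))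
  omega

end Cfsg.Agent.Chev.NSing
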