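import Cfsg.Agent.Lib.Chev.NSing

set_option autoImplicit false
set_option linter.unusedSectionVars false
set_option linter.style.haveILetI false

/-! Orthogonal groups of plus type in characteristic two acting on nonsingular points. -/

namespace Cfsg.Agent.Chev.NSing
open Cfsg.Agent.Classical Matrix Module
open scoped commutatorElement

variable {F : Type*} [Field F] [Fintype F] {V : Type*} [AddCommGroup V] [Module F V] [FiniteDimensional F V]

/-- the hyperbolic form attached to a pairing -/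
def hyp (P : V →ₗ[F] V →ₗ[F] F) : Form (Kind.orth F) (V × V) :=
  Form.ofQuadFun (fun v => P v.1 v.2) (LinearMap.mk₂ F (fun u v => P u.1 v.2 + P v.1 u.2) (fun x y z => by simp; ring) (fun c x y => by simp; ring)
    (fun x y z => by simp; ring) fun c x y => by simp; ring) (fun u v => by simp; ring) fun c v => by simp [mul_assoc]

theorem hyp_nd {P : V →ₗ[F] V →ₗ[F] F} (h : ∀ v, (∀ u, P u v = 0) → v = 0) (h' : ∀ v, (∀ u, P v u = 0) → v = 0) : (hyp P).Nondeg := fun v f =>
  Prod.ext (h' _ fun u => by simpa using (show P 0 v.2 + P v.1 u = 0 from f (0, u))) (h _ fun u => by simpa using (show P u v.2 + P v.1 0 = 0 from f (u, 0)))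

theorem hyp_type {P : V →ₗ[F] V →ₗ[F] F} (h : (hyp P).Nondeg) {m : ℕ} (hm : finrank F V = m) : (hyp P).IsType m 1 :=
  isType_of_TS m _ (LinearMap.range (LinearMap.inl F V V)) h (by simp [hm, two_mul]) ((LinearMap.finrank_range_of_inj LinearMap.inl_injective).trans hm)
    (Form.TS_orth (by rintro _ ⟨v, rfl⟩; exact map_zero (P v)))

theorem mem_isom {Φ : Form (Kind.orth F) V} {g : V ≃ₗ[F] V} (h : ∀ v, Φ.N (g v) = Φ.N v) : g ∈ Φ.Isom :=
  ⟨fun u v => by rw [Φ.orth_B, Φ.orth_B, ← map_add, h, h, h], h⟩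

theorem plus_odd (h2 : (2 : F) = 0) {Φ : Form (Kind.orth F) V} (hΦ : Φ.Nondeg) {m : ℕ} (hm : 2 ≤ m) (ht : Φ.IsType (m + 1) 1) {r : ℕ} [Fact r.Prime]
    (r2 : r ≠ 2) (hr : r ∣ Nat.card F ^ (m + 1) - 1) : ∃ y ∈ commutator Φ.Isom, y ^ r = 1 ∧ ∀ v, y.1 v = v → Φ.N v = 0 := by
  haveI : CharP F 2 := (CharP.charP_iff_prime_eq_zero Nat.prime_two).2 h2
  let K := FiniteField.Extension F 2 (m + 1)
  have d : finrank F K = m + 1 := FiniteField.finrank_extension ..
  have c : Nat.card K = Nat.card F ^ (m + 1) := FiniteField.natCard_extension ..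
  have nd := hyp_nd (P := Algebra.traceForm F K) (traceForm_nondegenerate F K).2 (traceForm_nondegenerate F K).1
  have hr' : r.Prime := Fact.out
  obtain ⟨z, hz⟩ := exists_prime_orderOf_dvd_card' (G := Kˣ) r (by rwa [Nat.card_units, c])
  let φ := DistribMulAction.toModuleAut F K (S := Kˣ)
  let g := (φ z).prodCongr (φ z⁻¹)
  have a : ∀ k v, (g ^ k) v = ((z ^ k).1 * v.1, (z⁻¹ ^ k).1 * v.2) := fun k => by
    induction k with
    | zero => simp
    | succ k ih =>
      intro v
      rw [pow_succ, LinearEquiv.mul_apply, ih, pow_succ, pow_succ, Units.val_mul, Units.val_mul, mul_assoc, mul_assoc]; rfl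
  have z1 : z ≠ 1 := fun e => hr'.ne_one (by rw [← hz, e, orderOf_one])
  refine transfer h2 hΦ (by have := ht.1; omega) (orth_iso_even _ _ _ _ nd hΦ (hyp_type nd d) ht) (hr'.odd_of_ne_two r2) (g := g)
    (mem_isom fun v => congrArg (Algebra.trace F K) (show z.1 * v.1 * ((z⁻¹).1 * v.2) = v.1 * v.2 by linear_combination v.1 * v.2 * z.mul_inv))
    (LinearEquiv.ext fun v => by rw [a, inv_pow, ← hz, pow_orderOf_eq_one]; simp) fun v f => Prod.ext ?_ ?_
  · exact (mul_left_eq_self₀.1 (congrArg Prod.fst f)).resolve_left fun e => z1 (Units.ext e)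
  · exact (mul_left_eq_self₀.1 (congrArg Prod.snd f)).resolve_left fun e => z1 (inv_eq_one.1 (Units.ext e))

theorem plus_even (h2 : (2 : F) = 0) {Φ : Form (Kind.orth F) V} (hΦ : Φ.Nondeg) {k : ℕ} (ht : Φ.IsType (2 * (k + 2)) 1) :
    ∃ y ∈ commutator Φ.Isom, y ^ 2 = 1 ∧ ∀ v, y.1 v = v → Φ.N v = 0 := by
  haveI : CharP F 2 := (CharP.charP_iff_prime_eq_zero Nat.prime_two).2 h2
  let K := FiniteField.Extension F 2 (k + 2)
  have d : finrank F K = k + 2 := FiniteField.finrank_extension ..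
  have c : Nat.card K = Nat.card F ^ (k + 2) := FiniteField.natCard_extension ..
  have k2 : (2 : K) = 0 := by rw [← map_ofNat (algebraMap F K), h2, map_zero]
  let P : K × K →ₗ[F] K × K →ₗ[F] F := LinearMap.mk₂ F (fun u v => Algebra.trace F K (u.1 * v.1 + u.2 * v.2)) (fun x y z => by rw [← map_add]; congr 1; simp; ring)
    (fun c x y => by simp [mul_add]) (fun x y z => by rw [← map_add]; congr 1; simp; ring) fun c x y => by simp [mul_add]
  have n1 : ∀ v, (∀ u, P u v = 0) → v = 0 := fun v f => Prod.ext ((traceForm_nondegenerate F K).2 _ fun u => by simpa [P] using f (u, 0))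
    ((traceForm_nondegenerate F K).2 _ fun u => by simpa [P] using f (0, u))
  have nd := hyp_nd n1 fun v f => n1 v fun u => by simpa [P, mul_comm] using f u
  obtain ⟨e, e1, e2⟩ := orth_iso_even _ _ _ _ nd hΦ (hyp_type nd (m := 2 * (k + 2)) (by simp [d, two_mul])) ht
  obtain ⟨t, s, t0, t1⟩ : ∃ t s : K, t * s = 1 ∧ t ≠ 1 := by
    have q : 2 ≤ Nat.card F := Finite.one_lt_card
    have : Nontrivial Kˣ := Finite.one_lt_card_iff_nontrivial.1 (by
      have := Nat.pow_le_pow_left q (k + 2)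
      have := Nat.pow_le_pow_right two_pos (show 2 ≤ k + 2 by omega)
      rw [Nat.card_units, c]; omega)
    obtain ⟨t, ht⟩ := exists_ne (1 : Kˣ)
    exact ⟨t, t⁻¹.1, t.mul_inv, fun e => ht (Units.ext e)⟩
  have u1 : ∀ a, t * (s * a) = a := fun a => by rw [← mul_assoc, t0, one_mul]
  have u2 : ∀ a, s * (t * a) = a := fun a => by rw [mul_left_comm, u1]
  let x : ((K × K) × K × K) ≃ₗ[F] (K × K) × K × K :=
    { toFun v := ((v.1.1 + v.2.2, v.1.2 - v.2.1), v.2)
      invFun v := ((v.1.1 - v.2.2, v.1.2 + v.2.1), v.2)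
      map_add' u v := by ext <;> simp <;> ring
      map_smul' c v := by ext <;> simp [smul_sub]
      left_inv v := by simp
      right_inv v := by simp }
  let h : ((K × K) × K × K) ≃ₗ[F] (K × K) × K × K :=
    { toFun v := ((t * v.1.1, t * v.1.2), s * v.2.1, s * v.2.2)
      invFun v := ((s * v.1.1, s * v.1.2), t * v.2.1, t * v.2.2)
      map_add' u v := by ext <;> simp [mul_add]
      map_smul' c v := by ext <;> simp
      left_inv v := by simp only [u1, u2]
      right_inv v := by simp only [u1, u2] }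
  have hx : x ∈ (hyp P).Isom := mem_isom fun v => congrArg (Algebra.trace F K)
    (show (v.1.1 + v.2.2) * v.2.1 + (v.1.2 - v.2.1) * v.2.2 = v.1.1 * v.2.1 + v.1.2 * v.2.2 by ring)
  have hh : h ∈ (hyp P).Isom := mem_isom fun v => congrArg (Algebra.trace F K)
    (show t * v.1.1 * (s * v.2.1) + t * v.1.2 * (s * v.2.2) = v.1.1 * v.2.1 + v.1.2 * v.2.2 by
      linear_combination (v.1.1 * v.2.1 + v.1.2 * v.2.2) * t0)
  let y : (hyp P).Isom := ⁅(⟨h, hh⟩ : (hyp P).Isom), ⟨x, hx⟩⁆
  have a : ∀ v, y.1 v = ((v.1.1 + (t * t - 1) * v.2.2, v.1.2 - (t * t - 1) * v.2.1), v.2) := fun v => by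
    change ((t * (s * (v.1.1 - v.2.2) + t * v.2.2), t * (s * (v.1.2 + v.2.1) - t * v.2.1)), s * (t * v.2.1), s * (t * v.2.2)) = _
    simp only [mul_add, mul_sub, u1, u2]
    ext <;> simp only <;> ring
  have t2 : t * t - 1 ≠ 0 := fun f => (mul_self_eq_one_iff.1 (sub_eq_zero.1 f)).elim t1 fun f => t1 (by linear_combination f - k2)
  refine ⟨(hyp P).isomCongr Φ e e1 e2 y, (mem_commutator_congr _ _).2 (Subgroup.commutator_mem_commutator trivial trivial), ?_, fun v hv => ?_⟩
  · rw [← map_pow, map_eq_one_iff _ (MulEquiv.injective _), sq]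
    refine Subtype.ext (LinearEquiv.ext fun v => ?_)
    change y.1 (y.1 v) = v
    rw [a, a]
    ext
    · simp only; linear_combination (t * t - 1) * v.2.2 * k2
    · simp only; linear_combination -(t * t - 1) * v.2.1 * k2
    · rfl
    · rfl
  obtain ⟨v, rfl⟩ := e.surjective v
  have b : y.1 (e.symm (e v)) = v := e.injective hv
  rw [e.symm_apply_apply, a] at b
  have b1 : v.2.2 = 0 := by simpa [t2] using congrArg (·.1.1) b
  have b2 : v.2.1 = 0 := by simpa [t2] using congrArg (·.1.2) b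
  rw [e2]
  change Algebra.trace F K _ = 0
  simp [b1, b2]

theorem odd_fix (h2 : (2 : F) = 0) {Φ : Form (Kind.orth F) V} (hΦ : Φ.Nondeg) {m : ℕ} (hm : Odd m) (ht : finrank F V = 2 * m) (y : V ≃ₗ[F] V)
    (hy : y ∈ Φ.Isom) (h : ∀ v, y (y v) = v) : ∃ v, y v = v ∧ Φ.N v ≠ 0 := by
  by_contra! f
  let B : V →ₗ[F] V →ₗ[F] F := Φ.B
  let T := y.toLinearMap - LinearMap.id
  have a := T.finrank_range_add_finrank_ker
  have b := Submodule.finrank_mono (big_ker h2 h)
  have c := Submodule.finrank_mono (Form.TS_orth (Φ := Φ) (W := LinearMap.ker T) fun v hv => f v (sub_eq_zero.1 hv)).le_perp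
  have d := hΦ.finrank_perp (LinearMap.ker T)
  obtain ⟨s, hs⟩ := T.rangeRestrict.exists_rightInverse_of_surjective (LinearMap.range_rangeRestrict _)
  have s1 : ∀ w : LinearMap.range T, T (s w) = w := fun w => congrArg Subtype.val (LinearMap.congr_fun hs w)
  have e : ∀ u v, B (T u) v = B u (T v) := fun u v => by
    have : B (y u) (y (y v)) = B u (y v) := hy.1 _ _
    simp only [T, LinearMap.sub_apply, LinearEquiv.coe_coe, LinearMap.id_apply, map_sub, ← this, h]
  obtain ⟨k, hk⟩ := symp_even _ (Form.ofAlt (B.compl₁₂ (LinearMap.range T).subtype s) fun w => by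
      have e1 : Φ.N (T (s w)) = 0 := f _ (sub_eq_zero.1 (big_ker h2 h ⟨s w, rfl⟩))
      have e2 := Φ.orth_B (T (s w)) (s w)
      rw [e1, show T (s w) + s w = y (s w) from sub_add_cancel _ _, hy.2, s1] at e2
      exact e2.trans (by ring))
    (fun w g => Subtype.ext (hΦ _ fun x => by
      have : B (T x) (s w) = 0 := g ⟨T x, x, rfl⟩
      rwa [e, s1] at this)) rfl
  obtain ⟨j, rfl⟩ := hm
  change finrank F (LinearMap.range T) ≤ finrank F (LinearMap.ker T) at b
  omega

end Cfsg.Agent.Chev.NSing
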