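import Cfsg.Agent.Lib.Chev.NSing2

set_option autoImplicit false
set_option linter.unusedSectionVars false
set_option linter.style.haveILetI false

/-! Quadratic forms polarising to a fixed alternating form in characteristic two. -/

namespace Cfsg.Agent.Chev.NSing
open Cfsg.Agent.Classical Matrix Module

variable {F : Type*} [Field F] [Fintype F] {V : Type*} [AddCommGroup V] [Module F V] [FiniteDimensional F V]

theorem transfer' {Φ : Form (Kind.orth F) V} {W : Type*} [AddCommGroup W] [Module F W] {Ψ : Form (Kind.orth F) W} (e : Ψ.Iso Φ) {r : ℕ} {g : W ≃ₗ[F] W}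
    (hg : g ∈ Ψ.Isom) (g1 : g ^ r = 1) (g2 : ∀ v, g v = v → Ψ.N v = 0) : ∃ y : Φ.Isom, y ^ r = 1 ∧ ∀ v, y.1 v = v → Φ.N v = 0 := by
  obtain ⟨e, e1, e2⟩ := e
  refine ⟨Ψ.isomCongr Φ e e1 e2 ⟨g, hg⟩, by rw [← map_pow, show (⟨g, hg⟩ : Ψ.Isom) ^ r = 1 from Subtype.ext g1, map_one], fun v hv => ?_⟩
  rw [← e.apply_symm_apply v, e2]
  exact g2 _ (e.injective (hv.trans (e.apply_symm_apply v).symm))

theorem exists_minus' (h2 : (2 : F) = 0) {Φ : Form (Kind.orth F) V} (hΦ : Φ.Nondeg) {m : ℕ} (ht : Φ.IsType (m + 1) (-1)) {r : ℕ} [Fact r.Prime]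
    (r2 : r ≠ 2) (hr : r ∣ Nat.card F ^ (m + 1) + 1) : ∃ y : Φ.Isom, y ^ r = 1 ∧ ∀ v, y.1 v = v → Φ.N v = 0 := by
  haveI : CharP F 2 := (CharP.charP_iff_prime_eq_zero Nat.prime_two).2 h2
  let K := FiniteField.Extension F 2 (2 * (m + 1))
  have d : finrank F K = 2 * (m + 1) := FiniteField.finrank_extension ..
  have c : Nat.card K = Nat.card F ^ (2 * (m + 1)) := FiniteField.natCard_extension ..
  let σ : K ≃ₐ[F] K := FiniteField.frobeniusAlgEquivOfAlgebraic F K ^ (m + 1)
  have s1 : ∀ x, σ x = x ^ Nat.card F ^ (m + 1) := fun x => by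
    rw [Nat.card_eq_fintype_card, AlgEquiv.coe_pow, FiniteField.coe_frobeniusAlgEquivOfAlgebraic_iterate]
  have o := (FiniteField.orderOf_frobeniusAlgEquivOfAlgebraic F K).trans d
  have s2 : ∀ x, σ (σ x) = x := fun x => by
    rw [← AlgEquiv.mul_apply, ← pow_add, ← two_mul, orderOf_dvd_iff_pow_eq_one.1 o.dvd]; rfl
  obtain ⟨a, ha⟩ : ∃ a, σ a ≠ a := not_forall.1 fun f => by
    have := Nat.le_of_dvd m.succ_pos (o ▸ orderOf_dvd_of_pow_eq_one (AlgEquiv.ext f : σ = 1))
    omega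
  have k2 : (2 : K) = 0 := by rw [← map_ofNat (algebraMap F K), h2, map_zero]
  let Ψ := Form.ofQuadFun (fun v : K => Algebra.trace F K (a * v * σ v)) (LinearMap.mk₂ F (fun u v => Algebra.trace F K (u * ((σ a + a) * σ v)))
    (fun x y z => by simp [add_mul]) (fun c x y => by simp) (fun x y z => by simp [mul_add]) fun c x y => by simp) (fun u v => by
      have := Algebra.trace_eq_of_algEquiv σ (a * v * σ u)
      simp only [map_mul, s2] at this
      have e := congrArg (Algebra.trace F K) (show a * (u + v) * σ (u + v) + σ a * σ v * u =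
        a * u * σ u + a * v * σ v + u * ((σ a + a) * σ v) + a * v * σ u by rw [map_add]; ring)
      simp only [map_add (Algebra.trace F K)] at e
      rw [LinearMap.mk₂_apply]
      linear_combination e - this) fun c v => by simp [mul_assoc]
  have nd : Ψ.Nondeg := fun v f => by
    have := (traceForm_nondegenerate F K).2 _ f
    exact σ.map_eq_zero_iff.1 ((mul_eq_zero.1 this).resolve_left fun e => ha (by linear_combination e - a * k2))
  have hr' : r.Prime := Fact.out
  have n2 : ¬r ∣ 2 := fun f => r2 ((Nat.prime_dvd_prime_iff_eq hr' Nat.prime_two).1 f)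
  obtain ⟨z, hz⟩ := exists_prime_orderOf_dvd_card' (G := Kˣ) r (by
    rw [Nat.card_units, c, mul_comm, pow_mul]; exact hr.trans (by simpa using Nat.sq_sub_sq _ 1 ▸ dvd_mul_right _ _))
  have z1 : z.1 * σ z = 1 := by
    rw [s1, ← pow_succ', ← Units.val_pow_eq_pow_val, orderOf_dvd_iff_pow_eq_one.1 (hz ▸ hr), Units.val_one]
  let φ := DistribMulAction.toModuleAut F K (S := Kˣ)
  have g0 : φ z ∈ Ψ.Isom := ⟨fun u v => congrArg (Algebra.trace F K) (show z.1 * u * ((σ a + a) * σ (z.1 * v)) = u * ((σ a + a) * σ v) by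
      rw [map_mul]; linear_combination u * ((σ a + a) * σ v) * z1),
    fun v => congrArg (Algebra.trace F K) (show a * (z.1 * v) * σ (z.1 * v) = a * v * σ v by rw [map_mul]; linear_combination a * v * σ v * z1)⟩
  have g1 : φ z ^ r = 1 := by rw [← map_pow, ← hz, pow_orderOf_eq_one, map_one]
  have g2 : ∀ v, φ z v = v → v = 0 := fun v f => by
    by_contra e
    exact hr'.ne_one (by rw [← hz, orderOf_eq_one_iff]; exact Units.ext (mul_left_eq_self₀.1 f |>.resolve_right e))
  refine transfer' (orth_iso_even _ _ _ _ nd hΦ ((exists_isType _ _ nd d).resolve_left fun t => n2 ?_) ht)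
    g0 g1 fun v f => by simp [g2 v f]
  have a1 := congrArg (Int.cast : ℤ → ZMod r) (t.cnt_sub_one (.inl rfl))
  have a2 := (ZMod.natCast_eq_natCast_iff _ _ _).2 (fix_mod g0 g1 g2)
  have a3 := (ZMod.natCast_eq_zero_iff _ _).2 hr
  push_cast at a1 a2 a3
  rw [a2, sub_self, eq_comm, mul_eq_zero] at a1
  refine (ZMod.natCast_eq_zero_iff 2 r).1 (a1.elim (fun a1 => by push_cast; linear_combination a3 - a1) fun a1 => ?_)
  have a4 : (Nat.card F : ZMod r) = 1 := by linear_combination (Nat.card F : ZMod r) * a1 - a3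
  rw [a4] at a1
  simpa [one_add_one_eq_two] using a1

theorem plus_odd' (h2 : (2 : F) = 0) {Φ : Form (Kind.orth F) V} (hΦ : Φ.Nondeg) {m : ℕ} (ht : Φ.IsType (m + 1) 1) {r : ℕ} [Fact r.Prime]
    (r2 : r ≠ 2) (hr : r ∣ Nat.card F ^ (m + 1) - 1) : ∃ y : Φ.Isom, y ^ r = 1 ∧ ∀ v, y.1 v = v → Φ.N v = 0 := by
  haveI : CharP F 2 := (CharP.charP_iff_prime_eq_zero Nat.prime_two).2 h2
  let K := FiniteField.Extension F 2 (m + 1)
  have d : finrank F K = m + 1 := FiniteField.finrank_extension ..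
  have c : Nat.card K = Nat.card F ^ (m + 1) := FiniteField.natCard_extension ..
  have nd := hyp_nd (P := Algebra.traceForm F K) (traceForm_nondegenerate F K).2 (traceForm_nondegenerate F K).1
  have hr' : r.Prime := Fact.out
  obtain ⟨z, hz⟩ := exists_prime_orderOf_dvd_card' (G := Kˣ) r (by rwa [Nat.card_units, c])
  let φ := DistribMulAction.toModuleAut F K (S := Kˣ)
  let g := (φ z).prodCongr (φ z⁻¹)
  have a : ∀ k v, (g ^ k) v = ((z ^ k).1 * v.1, (z⁻¹ ^ k).1 * v.2) := fun k => by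
    induction k with
    | zero => simp
    | succ k ih =>
      intro v
      rw [pow_succ, LinearEquiv.mul_apply, ih, pow_succ, pow_succ, Units.val_mul, Units.val_mul, mul_assoc, mul_assoc]; rfl
  have z1 : z ≠ 1 := fun e => hr'.ne_one (by rw [← hz, e, orderOf_one])
  refine transfer' (orth_iso_even _ _ _ _ nd hΦ (hyp_type nd d) ht) (g := g)
    (mem_isom fun v => congrArg (Algebra.trace F K) (show z.1 * v.1 * ((z⁻¹).1 * v.2) = v.1 * v.2 by linear_combination v.1 * v.2 * z.mul_inv))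
    (LinearEquiv.ext fun v => by rw [a, inv_pow, ← hz, pow_orderOf_eq_one]; simp) fun v f => (congrArg _ (show v = 0 from Prod.ext ?_ ?_)).trans (by simp)
  · exact (mul_left_eq_self₀.1 (congrArg Prod.fst f)).resolve_left fun e => z1 (Units.ext e)
  · exact (mul_left_eq_self₀.1 (congrArg Prod.snd f)).resolve_left fun e => z1 (inv_eq_one.1 (Units.ext e))

theorem plus_even' (h2 : (2 : F) = 0) {Φ : Form (Kind.orth F) V} (hΦ : Φ.Nondeg) {k : ℕ} (ht : Φ.IsType (2 * k) 1) :
    ∃ y : Φ.Isom, y ^ 2 = 1 ∧ ∀ v, y.1 v = v → Φ.N v = 0 := by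
  let K := Fin k → F
  let P : K × K →ₗ[F] K × K →ₗ[F] F := LinearMap.mk₂ F (fun u v => u.1 ⬝ᵥ v.1 + u.2 ⬝ᵥ v.2) (fun x y z => by simp [K]; ring)
    (fun c x y => by simp [K, mul_add]) (fun x y z => by simp [K]; ring) fun c x y => by simp [K, mul_add]
  have n1 : ∀ v, (∀ u, P u v = 0) → v = 0 := fun v f => Prod.ext (funext fun i => by simpa [P, K] using f (Pi.single i 1, 0))
    (funext fun i => by simpa [P, K] using f (0, Pi.single i 1))
  have nd := hyp_nd n1 fun v f => n1 v fun u => by simpa [P, dotProduct_comm] using f u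
  let x : ((K × K) × K × K) ≃ₗ[F] (K × K) × K × K :=
    { toFun v := ((v.1.1 + v.2.2, v.1.2 - v.2.1), v.2)
      invFun v := ((v.1.1 - v.2.2, v.1.2 + v.2.1), v.2)
      map_add' u v := by ext <;> simp [K] <;> ring
      map_smul' c v := by ext <;> simp [smul_sub]
      left_inv v := by simp
      right_inv v := by simp }
  refine transfer' (orth_iso_even _ _ _ _ nd hΦ (hyp_type nd (m := 2 * k) (by simp [K, two_mul])) ht) (g := x) (mem_isom fun v =>
    show (v.1.1 + v.2.2) ⬝ᵥ v.2.1 + (v.1.2 - v.2.1) ⬝ᵥ v.2.2 = v.1.1 ⬝ᵥ v.2.1 + v.1.2 ⬝ᵥ v.2.2 by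
      rw [add_dotProduct, sub_dotProduct, dotProduct_comm v.2.2]; ring) (LinearEquiv.ext fun v => ?_) fun v b => ?_
  · change ((v.1.1 + v.2.2 + v.2.2, v.1.2 - v.2.1 - v.2.1), v.2) = v
    rw [show v.1.1 + v.2.2 + v.2.2 = v.1.1 by linear_combination (norm := module) h2 • v.2.2,
      show v.1.2 - v.2.1 - v.2.1 = v.1.2 by linear_combination (norm := module) -h2 • v.2.1]
  have b1 : v.2.2 = 0 := by simpa [x] using congrArg (·.1.1) b
  have b2 : v.2.1 = 0 := by simpa [x] using congrArg (·.1.2) b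
  change v.1.1 ⬝ᵥ v.2.1 + v.1.2 ⬝ᵥ v.2.2 = 0
  simp [b1, b2]

/-- the form `Q + B(·, w)²` -/
def sh (h2 : (2 : F) = 0) (Φ : Form (Kind.orth F) V) (w : V) : Form (Kind.orth F) V :=
  Form.ofQuadFun (fun v => Φ.N v + Φ.B v w * Φ.B v w) Φ.B (fun u v => by
    have : Φ.N (u + v) = Φ.N u + Φ.N v + Φ.B u v := Φ.N_add u v
    rw [this, map_add, LinearMap.add_apply]
    linear_combination Φ.B u w * Φ.B v w * h2) fun c v => by
    have : Φ.N (c • v) = c * c * Φ.N v := Φ.N_smul c v
    rw [this, map_smul, LinearMap.smul_apply, smul_eq_mul]; ring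

theorem sq_inj (h2 : (2 : F) = 0) : Function.Injective fun c : F => c * c := fun c d f =>
  (mul_self_eq_mul_self_iff.1 f).elim id fun f => by linear_combination f - d * h2

theorem ex_sh (h2 : (2 : F) = 0) {Φ Ψ : Form (Kind.orth F) V} (hΦ : Φ.Nondeg) (h : ∀ u v, Ψ.B u v = Φ.B u v) : ∃ w, ∀ v, Ψ.N v = (sh h2 Φ w).N v := by
  choose s hs using fun v => Finite.surjective_of_injective (sq_inj h2) (Ψ.N v - Φ.N v)
  obtain ⟨w, hw⟩ := hΦ.exists_repr ⟨⟨s, fun u v => sq_inj h2 (by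
    have a : Φ.N (u + v) = Φ.N u + Φ.N v + Φ.B u v := Φ.N_add u v
    have b : Ψ.N (u + v) = Ψ.N u + Ψ.N v + Ψ.B u v := Ψ.N_add u v
    linear_combination hs (u + v) - hs u - hs v + b - a + h u v - s u * s v * h2)⟩, fun c v => sq_inj h2 (by
    have a : Φ.N (c • v) = c * c * Φ.N v := Φ.N_smul c v
    have b : Ψ.N (c • v) = c * c * Ψ.N v := Ψ.N_smul c v
    change s _ * s _ = c * s v * (c * s v)
    linear_combination hs (c • v) - c * c * hs v + b - a)⟩
  exact ⟨w, fun v => show _ = Φ.N v + Φ.B v w * Φ.B v w by rw [hw]; change _ = _ + s v * s v; linear_combination -hs v⟩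

theorem N_shift (h2 : (2 : F) = 0) (Φ : Form (Kind.orth F) V) (v w : V) (c : F) : Φ.N (v + c • w) = Φ.N v + c * c * Φ.N w + c * Φ.B v w ∧ Φ.B (v + c • w) w = Φ.B v w := by
  have a : Φ.N (v + c • w) = Φ.N v + Φ.N (c • w) + Φ.B v (c • w) := Φ.N_add _ _
  have b : Φ.N (c • w) = c * c * Φ.N w := Φ.N_smul c w
  have d : Φ.B w w = 2 * Φ.N w := Φ.B_self w
  exact ⟨by rw [a, b, map_smulₛₗ]; rfl, by rw [map_add, map_smul, LinearMap.add_apply, LinearMap.smul_apply, d, h2]; simp⟩

theorem same_type (h2 : (2 : F) = 0) {Φ : Form (Kind.orth F) V} {w : V} (hw : Φ.N w = 0) : (sh h2 Φ w).cnt 0 = Φ.cnt 0 :=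
  Nat.card_congr ((Function.Involutive.toPerm (fun v => v + Φ.B v w • w) fun v => by
    simp only [(N_shift h2 Φ v w _).2]
    linear_combination (norm := module) h2 • Φ.B v w • w).subtypeEquiv fun v => by
    change Φ.N v + _ = 0 ↔ Φ.N (v + _) = 0
    rw [(N_shift h2 Φ v w _).1, hw, mul_zero, add_zero])

theorem other_type (h2 : (2 : F) = 0) {Φ : Form (Kind.orth F) V} (hΦ : Φ.Nondeg) {m : ℕ} (hm : finrank F V = 2 * m) {η : ℤ} (hη : η = 1 ∨ η = -1)
    {w : V} (hw : Φ.N w ≠ 0) : ∃ c : F, (sh h2 Φ (c • w)).IsType m η := by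
  classical
  by_contra! f
  have := Module.finite_of_finite F (M := V)
  have a : ∀ c : F, (sh h2 Φ (c • w)).IsType m (-η) := fun c => by
    rcases hη with rfl | rfl
    · exact (exists_isType m (sh h2 Φ _) hΦ hm).resolve_left (f c)
    · exact (exists_isType m (sh h2 Φ _) hΦ hm).resolve_right (f c)
  have e : ∀ c v, (sh h2 Φ (c • w)).N v = Φ.N v + c * Φ.B v w * (c * Φ.B v w) := fun c v => by
    change _ + Φ.B _ _ * Φ.B _ _ = _; rw [map_smulₛₗ]; rfl
  have b := Nat.card_eq_of_bijective (fun x : Σ c : F, {v // (sh h2 Φ (c • w)).N v = 0} => if Φ.B x.2.1 w = 0 then x.2.1 + x.1 • w else x.2.1)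
    ⟨fun ⟨c, u, hu⟩ ⟨d, v, hv⟩ g => by
      have hu' := (e _ _).symm.trans hu
      have hv' := (e _ _).symm.trans hv
      dsimp only at g
      split_ifs at g with i j j
      · have := congrArg Φ.N g
        rw [(N_shift h2 Φ u w c).1, (N_shift h2 Φ v w d).1] at this
        rw [i] at hu' this; rw [j] at hv' this
        obtain rfl : c = d := sq_inj h2 (mul_right_cancel₀ hw (by linear_combination this - hu' + hv'))
        obtain rfl := add_right_cancel g
        rfl
      · exact (j (g ▸ (N_shift h2 Φ u w c).2.trans i)).elim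
      · exact (i (g ▸ (N_shift h2 Φ v w d).2.trans j)).elim
      subst g
      obtain rfl : c = d := mul_right_cancel₀ i (sq_inj h2 (by linear_combination hu' - hv'))
      rfl, fun v => by
      by_cases i : Φ.B v w = 0
      · obtain ⟨c, hc⟩ := Finite.surjective_of_injective (sq_inj h2) (Φ.N v / Φ.N w)
        refine ⟨⟨c, v + c • w, by
          rw [e, (N_shift h2 Φ v w c).1, (N_shift h2 Φ v w c).2, i, show c * c = _ from hc, div_mul_cancel₀ _ hw]; linear_combination Φ.N v * h2⟩, ?_⟩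
        simp only [(N_shift h2 Φ v w c).2, i, if_true]
        linear_combination (norm := module) h2 • c • w
      obtain ⟨c, hc⟩ := Finite.surjective_of_injective (sq_inj h2) (Φ.N v)
      exact ⟨⟨c / Φ.B v w, v, by rw [e, div_mul_cancel₀ _ i, show c * c = _ from hc]; linear_combination Φ.N v * h2⟩, if_neg i⟩⟩
  have q : (1 : ℤ) < Nat.card F := by exact_mod_cast Finite.one_lt_card
  have b' := congrArg (fun t : ℕ => (Nat.card F : ℤ) * t) b
  rw [Nat.card_sigma, Module.natCard_eq_pow_finrank (K := F) (V := V), hm] at b'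
  simp only [Nat.cast_sum, Finset.mul_sum] at b'
  change ∑ c : F, (Nat.card F : ℤ) * ((sh h2 Φ (c • w)).cnt 0 : ℤ) = _ at b'
  rw [Finset.sum_congr rfl fun c _ => (a c).2, Finset.sum_const, Finset.card_univ, ← Nat.card_eq_fintype_card, nsmul_eq_mul, Nat.cast_pow,
    mul_right_inj' (by omega), add_eq_left, mul_eq_zero, sub_eq_zero] at b'
  rcases b' with b' | b'
  · omega
  · exact (pow_lt_pow_right₀ q m.lt_succ_self).ne' b'

theorem inv_form (h2 : (2 : F) = 0) {Φ : Form (Kind.orth F) V} (hΦ : Φ.Nondeg) {y : V ≃ₗ[F] V} (hy : ∀ u v, Φ.B (y u) (y v) = Φ.B u v) (h : ∀ v, y (y v) = v) :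
    ∃ w, y ∈ (sh h2 Φ w).Isom := by
  obtain ⟨a, ha⟩ := ex_sh h2 hΦ (Ψ := Form.ofQuadFun (fun v => Φ.N (y v)) Φ.B (fun u v => by
      rw [map_add]; exact (show Φ.N (y u + y v) = Φ.N (y u) + Φ.N (y v) + Φ.B (y u) (y v) from Φ.N_add _ _).trans (congrArg _ (hy u v)))
    fun c v => by rw [map_smul]; exact Φ.N_smul _ _) fun _ _ => rfl
  have ha : ∀ v, Φ.N (y v) = Φ.N v + Φ.B v a * Φ.B v a := ha
  let T := y.toLinearMap - LinearMap.id
  have e : ∀ u v, Φ.B (y u) v = Φ.B u (y v) := fun u v => by rw [← hy u, h]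
  have b : LinearMap.range T = Φ.perp (LinearMap.ker T) := Submodule.eq_of_le_of_finrank_eq (by
    rintro _ ⟨v, rfl⟩ u hu
    change Φ.B (y v - v) u = 0
    rw [map_sub, LinearMap.sub_apply, e, show y u = u from sub_eq_zero.1 hu, sub_self]) (by
    have := hΦ.finrank_perp (LinearMap.ker T)
    have := T.finrank_range_add_finrank_ker
    omega)
  obtain ⟨w, hw⟩ := b.ge (show a ∈ _ from fun u hu => Φ.B_symm_zero (by simpa [show y u = u from sub_eq_zero.1 hu] using ha u))
  refine ⟨w, mem_isom fun v => show Φ.N _ + _ = Φ.N _ + _ from ?_⟩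
  rw [ha, e, ← hw, show T w = y w - w from rfl, map_sub]
  linear_combination (Φ.B v (y w) * Φ.B v (y w) - Φ.B v (y w) * Φ.B v w) * h2

end Cfsg.Agent.Chev.NSing
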