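import Cfsg.Agent.Lib.Classical.SpUE

set_option autoImplicit false

/-! Bounding group orders by powers of the `p`-part. -/

namespace Cfsg.Agent.Chev.OrdBd
open Finset

variable {p q c d N D M : ℕ}

theorem big_of (hp : p.Prime) (hq : ∃ f, q = p ^ f) (hc : c ≠ 0) (h : q ^ N ∣ d * c) (hd : d.Coprime q) (h2 : d * c < d * q ^ D) (hD : 3 * D ≤ 8 * N) :
    c ^ 3 < p ^ (8 * c.factorization p) := by
  obtain ⟨f, rfl⟩ := hq
  have h1 := (hp.pow_dvd_iff_le_factorization hc).1 (pow_mul p f N ▸ (hd.pow_right N).symm.dvd_of_dvd_mul_left h)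
  calc c ^ 3 < ((p ^ f) ^ D) ^ 3 := Nat.pow_lt_pow_left (Nat.lt_of_mul_lt_mul_left h2) (by simp)
    _ ≤ _ := by rw [← pow_mul, ← pow_mul]; exact Nat.pow_le_pow_right hp.pos (by nlinarith)
theorem big_of' (hp : p.Prime) (hq : ∃ f, q = p ^ f) (hc : c ≠ 0) (h : d * c = q ^ N * M) (hd : d.Coprime q) {e : ℕ} (he : e ≤ d) (h2 : M < e * q ^ D)
    (hD : 3 * D ≤ 5 * N) : c ^ 3 < p ^ (8 * c.factorization p) := by
  have : 0 < q := hq.elim fun _ h => h ▸ pow_pos hp.pos _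
  refine big_of (N := N) hp hq hc (h ▸ dvd_mul_right _ _) hd (D := N + D) ?_ (by omega)
  rw [h, pow_add, mul_left_comm]
  exact Nat.mul_lt_mul_of_pos_left (h2.trans_le (Nat.mul_le_mul_right _ he)) (pow_pos this _)
theorem fin_of (hp : p.Prime) (h : c ^ 3 < p ^ (8 * c.factorization p)) {P : Prop} :
    c < p ^ (3 * c.factorization p) ∧ (P → c ^ 3 < p ^ (8 * c.factorization p)) :=
  ⟨lt_of_pow_lt_pow_left₀ 3 (by simp) (h.trans_le (by rw [← pow_mul]; exact Nat.pow_le_pow_right hp.pos (by omega))), fun _ => h⟩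

theorem m1 (hq : 2 ≤ q) (a : ℕ) : q ^ a - 1 < q ^ a := Nat.sub_lt (by positivity) one_pos
theorem p1 (hq : 2 ≤ q) (a : ℕ) : q ^ a + 1 ≤ q ^ (a + 1) := by have := Nat.one_le_pow a q (by omega); rw [pow_succ]; nlinarith
theorem ml {a b x y : ℕ} (h : a < q ^ x) (h' : b ≤ q ^ y) (hq : 2 ≤ q) : a * b < q ^ (x + y) := pow_add q x y ▸ Nat.mul_lt_mul_of_lt_of_le h h' (by positivity)
theorem cop_sub (hq : 2 ≤ q) {a : ℕ} (ha : a ≠ 0) : (q ^ a - 1).Coprime q :=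
  Nat.Coprime.coprime_dvd_right (dvd_pow_self q ha) ((Nat.coprime_self_sub_left (Nat.one_le_pow _ _ (by omega))).2 (by simp))
theorem cop_add {a : ℕ} (ha : a ≠ 0) : (q ^ a + 1).Coprime q := Nat.Coprime.coprime_dvd_right (dvd_pow_self q ha) (by simp)
theorem cop_gcd {a : ℕ} (h : a.Coprime q) (n : ℕ) : (Nat.gcd n a).Coprime q := h.coprime_dvd_left (Nat.gcd_dvd_right _ _)
theorem prod_le (hq : 2 ≤ q) (m : ℕ) : ∏ i ∈ range m, (q ^ (2 * (i + 1)) - 1) ≤ q ^ (m * (m + 1)) := by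
  induction m with
  | zero => simp
  | succ m ih => rw [prod_range_succ, show (m + 1) * (m + 1 + 1) = m * (m + 1) + 2 * (m + 1) by ring, pow_add]; exact Nat.mul_le_mul ih (m1 hq _).le
theorem prod_lt (hq : 2 ≤ q) (m : ℕ) : ∏ i ∈ range (m + 1), (q ^ (2 * (i + 1)) - 1) < q ^ (2 * (m + 1) + m * (m + 1)) := by
  rw [prod_range_succ, mul_comm]; exact ml (m1 hq _) (prod_le hq m) hq
theorem su_step (hq : 2 ≤ q) (a : ℕ) : (q ^ a - 1) * (q ^ (a + 1) + 1) < q ^ (2 * a + 1) := by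
  obtain ⟨x, hx⟩ : ∃ x, q ^ a = x + 1 := ⟨q ^ a - 1, by have := Nat.one_le_pow a q (by omega); omega⟩
  rw [show 2 * a + 1 = a + (a + 1) by ring, pow_add q a (a + 1), pow_succ, hx]; simp; nlinarith
theorem su_le (hq : 2 ≤ q) (k : ℕ) : ∏ i ∈ range (2 * k + 1), (if Even i then q ^ (i + 1) + 1 else q ^ (i + 1) - 1) ≤ (q + 1) * q ^ (k * (2 * k + 3)) := by
  induction k with
  | zero => simp
  | succ k ih =>
    rw [show 2 * (k + 1) + 1 = 2 * k + 1 + 1 + 1 by ring, prod_range_succ, prod_range_succ, if_neg (by simp), if_pos (by simp [parity_simps]), mul_assoc,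
      show (k + 1) * (2 * (k + 1) + 3) = k * (2 * k + 3) + (2 * (2 * k + 1 + 1) + 1) by ring, pow_add q (k * _), ← mul_assoc (q + 1)]
    exact Nat.mul_le_mul ih (su_step hq _).le

theorem card_pow (F : Type*) [Field F] [Fintype F] [CharP F p] (hp : p.Prime) {k : ℕ} (hk : k ≠ 0) (h : Fintype.card F = q ^ k) : 2 ≤ q ∧ ∃ f, q = p ^ f := by
  obtain ⟨n, -, h1⟩ := FiniteField.card F p
  refine ⟨by_contra fun e => ?_, ((Nat.dvd_prime_pow hp).1 (h1 ▸ h ▸ dvd_pow_self q hk)).imp fun _ h => h.2⟩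
  have : 1 < q ^ k := h ▸ Fintype.one_lt_card
  obtain rfl | rfl : q = 0 ∨ q = 1 := by omega
  all_goals simp [hk] at this

end Cfsg.Agent.Chev.OrdBd
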