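import Cfsg.Agent.Lib.Classical.SpU
import Cfsg.Agent.S0782
import Cfsg.Agent.S0278
import Cfsg.Agent.S0279

set_option autoImplicit false
set_option linter.unusedSectionVars false
set_option linter.style.haveILetI false

/-! Elements commuting with unipotent elements in unitary groups. -/

namespace Cfsg.Agent.Chev.PAdj
open Cfsg.Agent.Classical Matrix Module

theorem lift {G : Type*} [Group G] {n p r : ℕ} (hZ : ∀ z ∈ Subgroup.center G, z ^ n = 1) {a b : G ⧸ Subgroup.center G} (h : Commute a b)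
    (ha : a ^ p = 1) (hb : b ^ r = 1) (ha' : a ^ n ≠ 1) (hb' : b ^ n ≠ 1) : ∃ u y : G, Commute u y ∧ u ^ p = 1 ∧ y ^ r = 1 ∧ u ≠ 1 ∧ y ≠ 1 := by
  obtain ⟨A, rfl⟩ := QuotientGroup.mk_surjective a
  obtain ⟨B, rfl⟩ := QuotientGroup.mk_surjective b
  have h1 : ∀ (A : G) k, (A : G ⧸ Subgroup.center G) ^ k = 1 → (A ^ n) ^ k = 1 := fun A k e => by
    rw [← pow_mul, mul_comm, pow_mul]; exact hZ _ ((QuotientGroup.eq_one_iff _).1 e)
  have h2 : B * A * B⁻¹ * A⁻¹ ∈ Subgroup.center G := (QuotientGroup.eq_one_iff _).1 (by simp [h.symm.eq])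
  have h3 : B * A ^ n * B⁻¹ = A ^ n := by
    rw [← conj_pow, ← inv_mul_cancel_right (B * A * B⁻¹) A, Commute.mul_pow (Subgroup.mem_center_iff.1 h2 A).symm, hZ _ h2, one_mul]
  exact ⟨A ^ n, B ^ n, Commute.pow_right (mul_inv_eq_iff_eq_mul.1 h3).symm n, h1 A p ha, h1 B r hb, fun e => ha' (congrArg QuotientGroup.mk e),
    fun e => hb' (congrArg QuotientGroup.mk e)⟩

theorem exists_sq_zero {A : Type*} [Ring A] {T : A} (h : IsNilpotent T) (h0 : T ≠ 0) : ∃ k, T ^ k ≠ 0 ∧ T ^ k * T ^ k = 0 := by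
  classical
  have h1 : 1 < Nat.find h := (Nat.lt_find_iff _ _).2 fun k hk e => by
    interval_cases k
    · exact h0 (by rw [← mul_one T, ← pow_zero T, e, mul_zero])
    · exact h0 (by simpa using e)
  exact ⟨Nat.find h - 1, Nat.find_min h (by omega), by rw [← pow_add]; exact pow_eq_zero_of_le (by omega) (Nat.find_spec h)⟩

theorem exists_skew {G A : Type*} [Group G] [Ring A] {p : ℕ} [Fact p.Prime] [CharP A p] {φ : G →* A} (hφ : Function.Injective φ) {u y : G}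
    (h : Commute u y) (hu : u ^ p = 1) (h1 : u ≠ 1) : ∃ T : A, IsNilpotent T ∧ T ≠ 0 ∧ Commute T (φ y) ∧ (T = φ u - φ u⁻¹ ∨ p = 2 ∧ u⁻¹ = u ∧ T = φ u - 1) := by
  by_cases e : u⁻¹ = u
  · refine ⟨φ u - 1, ⟨p, by rw [sub_pow_char_of_commute p (Commute.one_right _), ← map_pow, hu]; simp⟩, fun f => h1 (hφ (by simpa using sub_eq_zero.1 f)),
      (h.map φ).sub_left (.one_left _), .inr ⟨?_, e, rfl⟩⟩
    have := orderOf_eq_prime hu h1 ▸ orderOf_dvd_of_pow_eq_one (show u ^ 2 = 1 by rw [sq]; exact mul_eq_one_iff_inv_eq.2 e)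
    exact (Nat.prime_dvd_prime_iff_eq Fact.out Nat.prime_two).1 this
  exact ⟨φ u - φ u⁻¹, ⟨p, by rw [sub_pow_char_of_commute p ((Commute.refl u).inv_right.map φ), ← map_pow, ← map_pow, inv_pow, hu]; simp⟩,
    fun f => e (hφ (sub_eq_zero.1 f)).symm, (h.map φ).sub_left (h.inv_left.map φ), .inl rfl⟩

variable {F : Type*} [Field F] [Fintype F] {q m : ℕ} (hF : Fintype.card F = q ^ 2)

local notation "σ" => frobq hF
local notation "H" => Cfsg.hermForm m F q
local notation "G" => Cfsg.SU m F q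
include hF

theorem H_add_l (x y z : Fin m → F) : H (x + y) z = H x z + H y z := LinearMap.congr_fun ((uForm hF m).B.map_add x y) z
theorem H_sub_l (x y z : Fin m → F) : H (x - y) z = H x z - H y z := LinearMap.congr_fun ((uForm hF m).B.map_sub x y) z
theorem H_smul_l (c : F) (x z : Fin m → F) : H (c • x) z = c * H x z := LinearMap.congr_fun ((uForm hF m).B.map_smul c x) z
theorem H_add_r (x y z : Fin m → F) : H z (x + y) = H z x + H z y := ((uForm hF m).B z).map_add x y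
theorem H_sub_r (x y z : Fin m → F) : H z (x - y) = H z x - H z y := ((uForm hF m).B z).map_sub x y
theorem H_smul_r (c : F) (x z : Fin m → F) : H z (c • x) = σ c * H z x := ((uForm hF m).B z).map_smulₛₗ c x
theorem H_conj (u v : Fin m → F) : H v u = σ (H u v) := ((uForm hF m).symm u v).trans (one_mul _)
omit hF in
theorem H_inv (g : G) (u v : Fin m → F) : H (g.1.1 *ᵥ u) (g.1.1 *ᵥ v) = H u v := g.2 u v
omit hF in
theorem H_adj (g : G) (u v : Fin m → F) : H (g.1.1 *ᵥ u) v = H u ((g⁻¹).1.1 *ᵥ v) := by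
  rw [← H_inv g u, mulVec_mulVec, show g.1.1 * (g⁻¹).1.1 = 1 from congrArg (·.1.1) (mul_inv_cancel g), one_mulVec]

theorem exists_fix {r : ℕ} [Fact r.Prime] {y : G} (hy : y ^ r = 1) {M : Matrix (Fin m) (Fin m) F} (h0 : M ≠ 0) (h1 : M * M = 0) (h2 : Commute M y.1.1)
    {e : F} (he : e = 1 ∨ e = -1) (h3 : ∀ u v, H (M *ᵥ u) v = e * H u (M *ᵥ v)) :
    (∃ w ≠ 0, H w w = 0 ∧ y.1.1 *ᵥ w = w) ∨ ∃ d, 1 ≤ d ∧ 2 * d ≤ m ∧ (r : ℤ) ∣ q ^ d * (q ^ d - (-1) ^ d) := by
  obtain ⟨c, c0, c1⟩ : ∃ c : F, c ≠ 0 ∧ σ c = c * e := by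
    rcases he with rfl | rfl
    · exact ⟨1, one_ne_zero, by simp⟩
    obtain ⟨a, ha⟩ := not_forall.1 fun f => frobq_ne_id hF (RingHom.ext f)
    exact ⟨σ a - a, sub_ne_zero.2 ha, by rw [map_sub, frobq_frobq]; ring⟩
  have e1 : σ e = e := by rcases he with rfl | rfl <;> simp [-frobq_apply]
  have e2 : e * e = 1 := mul_self_eq_one_iff.2 he
  let W := LinearMap.range (toLin' M)
  obtain ⟨s, hs⟩ := (toLin' M).rangeRestrict.exists_rightInverse_of_surjective (LinearMap.range_rangeRestrict _)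
  have s1 : ∀ w : W, M *ᵥ s w = w := fun w => congrArg Subtype.val (LinearMap.congr_fun hs w)
  have s3 : ∀ x v v', M *ᵥ v = M *ᵥ v' → H (M *ᵥ x) v = H (M *ᵥ x) v' := fun x v v' f => by rw [h3, h3, f]
  let Φ := Form.ofHerm σ (frobq_ne_id hF) (frobq_frobq hF) (LinearMap.mk₂'ₛₗ (RingHom.id F) σ (fun w w' : W => c * H w (s w'))
    (fun a b d => by simp only [Submodule.coe_add, H_add_l hF, mul_add]) (fun a b d => by simp only [Submodule.coe_smul, H_smul_l hF, smul_eq_mul, RingHom.id_apply]; ring)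
    (fun a b d => by simp only [map_add, H_add_r hF, mul_add]) (fun a b d => by simp only [map_smul, H_smul_r hF, smul_eq_mul]; ring)) fun u v => by
      simp only [LinearMap.mk₂'ₛₗ_apply, map_mul, c1, ← H_conj hF]
      rw [← s1 v, h3, s1, mul_assoc]
  have n1 : Φ.Nondeg := fun w f => Subtype.ext (uForm_nondeg hF m _ fun x => by
    have := f ⟨M *ᵥ x, x, rfl⟩
    change c * H (M *ᵥ x) (s w) = 0 at this
    rw [h3, s1] at this
    exact (mul_eq_zero.1 ((mul_eq_zero.1 this).resolve_left c0)).resolve_left (left_ne_zero_of_mul_eq_one e2))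
  have n2 := unit_cnt_ne hF one_ne_zero (one_pow q) _ Φ n1 rfl
  let X := {w : Fin m → F // ∃ v, M *ᵥ v = w ∧ c * H w v = 1}
  have n3 : Nat.card X = Φ.cnt 1 := (Nat.card_eq_of_bijective (fun w : {w : W // Φ.N w = 1} => (⟨w.1.1, s w.1, s1 _, w.2⟩ : X))
    ⟨fun a b f => Subtype.ext (Subtype.ext (congrArg (fun x : X => x.1) f)), fun ⟨w, v, a, b⟩ => ⟨⟨⟨w, v, a⟩, by
      subst a
      exact (congrArg (c * ·) (s3 v _ v (s1 ⟨_, v, rfl⟩))).trans b⟩, rfl⟩⟩).symm
  by_cases f : r ∣ Nat.card X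
  · refine .inr ⟨finrank F W, ?_, ?_, n2 ▸ n3 ▸ (Int.natCast_dvd_natCast.2 f).mul_left _⟩
    · exact Nat.pos_of_ne_zero fun g => h0 (toLin'.injective (by simpa using LinearMap.range_eq_bot.1 (Submodule.finrank_eq_zero.1 g)))
    have a1 := (toLin' M).finrank_range_add_finrank_ker
    have a2 : finrank F W ≤ finrank F (LinearMap.ker (toLin' M)) := Submodule.finrank_mono (by
      rintro _ ⟨v, rfl⟩; simp [h1])
    simp only [finrank_fin_fun] at a1
    change finrank F W + _ = _ at a1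
    omega
  have a1 : ∀ g : Subgroup.zpowers y, Commute M g.1.1.1 := fun ⟨g, hg⟩ => by
    have : Commute M ((Cfsg.slToMat m F).comp (Cfsg.SU m F q).subtype y) := h2
    obtain ⟨k, rfl⟩ := mem_powers_iff_mem_zpowers.2 hg
    have := this.pow_right k
    rwa [← map_pow] at this
  letI : MulAction (Subgroup.zpowers y) X :=
    { smul g w := ⟨g.1.1.1 *ᵥ w.1, w.2.elim fun v a => ⟨g.1.1.1 *ᵥ v, by rw [mulVec_mulVec, (a1 g).eq, ← mulVec_mulVec, a.1], by rw [H_inv, a.2]⟩⟩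
      one_smul w := Subtype.ext (one_mulVec _)
      mul_smul a b w := Subtype.ext (mulVec_mulVec w.1 a.1.1.1 b.1.1.1).symm }
  have a2 : IsPGroup r (Subgroup.zpowers y) := fun ⟨_, k, rfl⟩ => ⟨1, Subtype.ext (by
    change (y ^ k) ^ r ^ 1 = 1
    rw [pow_one, ← _root_.zpow_natCast, ← _root_.zpow_mul, mul_comm, _root_.zpow_mul, _root_.zpow_natCast, hy, _root_.one_zpow])⟩
  obtain ⟨⟨w, v, b1, b2⟩, hw⟩ := a2.nonempty_fixed_point_of_prime_not_dvd_card X f
  refine .inl ⟨w, by rintro rfl; simp [Cfsg.hermForm] at b2, ?_, congrArg Subtype.val (hw ⟨y, Subgroup.mem_zpowers y⟩)⟩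
  rw [← b1, h3, mulVec_mulVec, h1, zero_mulVec, ← zero_smul F (0 : Fin m → F), H_smul_r hF]
  simp [-frobq_apply]

theorem dvd_SU (hm : 4 ≤ m) {r : ℕ} (hr : r.Prime) (h : r ∣ q ∨ ∃ i < m - 2, r ∣ if Even i then q ^ (i + 1) + 1 else q ^ (i + 1) - 1) :
    r ∣ Nat.card (Cfsg.SU (m - 2) F q) := by
  have h1 := S0278.result hF (m - 2) (by omega)
  obtain ⟨k, rfl⟩ : ∃ k, m = k + 2 + 2 := ⟨m - 4, by omega⟩
  rw [Nat.add_sub_cancel, Finset.prod_range_succ', if_pos Even.zero, zero_add, pow_one, ← mul_assoc, mul_comm, Nat.mul_left_inj (by omega)] at h1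
  rw [Nat.add_sub_cancel] at h ⊢
  rw [h1]
  rcases h with h | ⟨_ | i, a, b⟩
  · exact (h.trans (dvd_pow_self _ (Nat.div_pos (by simp only [Nat.add_one_sub_one]; nlinarith) two_pos).ne')).mul_right _
  · refine ((b.trans ?_).trans (Finset.dvd_prod_of_mem _ (Finset.mem_range.2 k.succ_pos))).mul_left _
    simpa using Nat.sq_sub_sq q 1 ▸ dvd_mul_right (q + 1) (q - 1)
  exact (b.trans (Finset.dvd_prod_of_mem (fun k => if Even (k + 1) then q ^ (k + 1 + 1) + 1 else q ^ (k + 1 + 1) - 1)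
    (Finset.mem_range.2 (Nat.lt_of_succ_lt_succ a)))).mul_left _

theorem dvd_of_comm {p r : ℕ} [Fact p.Prime] [CharP F p] (hm : 4 ≤ m) (hr : r.Prime) {u y : G} (h : Commute u y) (hu : u ^ p = 1) (hy : y ^ r = 1)
    (u1 : u ≠ 1) (y1 : y ≠ 1) : r ∣ Nat.card (Cfsg.SU (m - 2) F q) := by
  have := Fact.mk hr
  haveI : Nonempty (Fin m) := ⟨⟨0, by omega⟩⟩
  have hq := two_le_of_card_sq hF
  obtain ⟨T, t1, t2, t3, t4⟩ := exists_skew (p := p) (φ := (Cfsg.slToMat m F).comp (Cfsg.SU m F q).subtype)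
    (fun a b e => Subtype.ext (Subtype.ext e)) h hu u1
  have t5 : ∀ x z, H (T *ᵥ x) z = -1 * H x (T *ᵥ z) := fun x z => by
    have a1 := H_adj u x z
    have a2 := H_adj u⁻¹ x z
    rcases t4 with rfl | ⟨rfl, e, rfl⟩
    · rw [inv_inv] at a2
      rw [sub_mulVec, sub_mulVec, H_sub_l hF, H_sub_r hF]
      exact (congrArg₂ (· - ·) a1 a2).trans (by rw [neg_one_mul, neg_sub]; rfl)
    rw [e] at a1
    rw [sub_mulVec, sub_mulVec, H_sub_l hF, H_sub_r hF, one_mulVec, one_mulVec, neg_one_mul, CharTwo.neg_eq]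
    exact congrArg (· - _) a1
  have t6 : ∀ k x z, H ((T ^ k) *ᵥ x) z = (-1) ^ k * H x ((T ^ k) *ᵥ z) := fun k => by
    induction k with
    | zero => simp
    | succ k ih => exact fun x z => by rw [pow_succ' T, ← mulVec_mulVec, t5, ih, mulVec_mulVec, ← pow_succ, ← pow_succ' T]; ring
  obtain ⟨k, k1, k2⟩ := exists_sq_zero t1 t2
  refine dvd_SU hF hm hr ?_
  obtain ⟨w, a, b, c⟩ | ⟨d, a, b, c⟩ := exists_fix hF hy k1 k2 (t3.pow_left k) (neg_one_pow_eq_or F k) (t6 k)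
  · have h1 := S0782.result hF m 1 (by omega) (by omega) (F ∙ w) (finrank_span_singleton a) fun x hx z hz => by
      obtain ⟨s, rfl⟩ := Submodule.mem_span_singleton.1 hx
      obtain ⟨t, rfl⟩ := Submodule.mem_span_singleton.1 hz
      rw [H_smul_l hF, H_smul_r hF, b, mul_zero, mul_zero]
    have h2 : y ∈ (Cfsg.stabilizing (Cfsg.slToMat m F) ((F ∙ w : Submodule F _) : Set (Fin m → F))).subgroupOf G := fun v => by
      have e : ∀ v, (y⁻¹).1.1 *ᵥ (y.1.1 *ᵥ v) = v := fun v => by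
        rw [mulVec_mulVec, show (y⁻¹).1.1 * y.1.1 = 1 from congrArg (·.1.1) (inv_mul_cancel y), one_mulVec]
      refine ⟨fun f => ?_, fun f => ?_⟩ <;> obtain ⟨s, f⟩ := Submodule.mem_span_singleton.1 f
      · exact Submodule.mem_span_singleton.2 ⟨s, by rw [← f]; exact ((mulVec_smul _ _ _).trans (congrArg _ c)).symm⟩
      · exact Submodule.mem_span_singleton.2 ⟨s, by rw [← e v, ← e (s • w), mulVec_smul, c, f]; rfl⟩
    have h3 := (orderOf_eq_prime hy y1 ▸ Subgroup.orderOf_dvd_natCard _ h2).mul_left (q + 1)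
    rw [h1] at h3
    simp only [hr.dvd_mul, Finset.univ_unique, Finset.prod_singleton, Fin.default_eq_zero, Fin.val_zero, pow_one, pow_zero, mul_one,
      hr.prime.dvd_finsetProd_iff, Finset.mem_range] at h3
    rcases h3 with (h3 | h3) | h3 | h3
    · exact .inl (hr.dvd_of_dvd_pow h3)
    · exact .inr ⟨1, by omega, by simpa using h3⟩
    · exact .inl (hr.dvd_of_dvd_pow h3)
    · exact .inr h3
  obtain ⟨d, rfl⟩ : ∃ k, d = k + 1 := ⟨d - 1, by omega⟩
  refine ((Nat.prime_iff_prime_int.1 hr).dvd_mul.1 c).imp (fun e => hr.dvd_of_dvd_pow (by exact_mod_cast e)) fun e => ⟨d, by omega, ?_⟩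
  split_ifs with f
  · rw [f.add_one.neg_one_pow, sub_neg_eq_add] at e
    exact_mod_cast e
  · rw [(Nat.not_even_iff_odd.1 f).add_one.neg_one_pow] at e
    zify [Nat.one_le_pow (d + 1) q (by omega)]
    exact e

end Cfsg.Agent.Chev.PAdj
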