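import Cfsg.Agent.Lib.Chev.PAdj
import Cfsg.Agent.Lib.Chev.BC1
import Cfsg.Agent.Lib.Classical.Orth
import Cfsg.Agent.S0775
import Cfsg.Agent.S0776
import Cfsg.Agent.S0245
import Cfsg.Agent.S0246

set_option autoImplicit false
set_option linter.unusedSectionVars false

/-! Elements commuting with unipotent elements in symplectic groups. -/

namespace Cfsg.Agent.Chev.PAdj
open Cfsg.Agent.Classical Matrix Module Cfsg.Agent.Chev.BC

variable {F : Type*} [Field F] [Fintype F] {m : ℕ}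

theorem cnt_odd {V : Type*} [AddCommGroup V] [Module F V] [FiniteDimensional F V] (g : LinearMap.BilinForm F V)
    (nd : ∀ v, (∀ u, g u v = 0) → v = 0) {e : F} (hs : ∀ u v, g v u = e * g u v) {j : ℕ} (hd : finrank F V = 2 * j + 1) :
    Nat.card {v // g v v = 0} = Fintype.card F ^ (2 * j) := by
  obtain ⟨w, hw⟩ : ∃ w, g w w ≠ 0 := not_forall.1 fun hA => by
    obtain ⟨k, hk⟩ := symp_even _ (Form.ofAlt g hA) nd hd
    omega
  obtain rfl : e = 1 := mul_right_cancel₀ hw ((hs w w).symm.trans (one_mul _).symm)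
  have a : ∀ u v, g (u + v) (u + v) = g u u + g v v + 2 * g u v := fun u v => by
    simp only [map_add, LinearMap.add_apply, hs u v]; ring
  have b : ∀ (c : F) v, g (c • v) (c • v) = c * c * g v v := fun c v => by simp [mul_assoc]
  by_cases h2 : (2 : F) = 0
  · let Q : V →+ F := AddMonoidHom.mk' (fun v => g v v) fun u v => by rw [a, h2, zero_mul, add_zero]
    have s : Function.Surjective fun c : F => c * c := Finite.surjective_of_injective fun c d f =>
      (mul_self_eq_mul_self_iff.1 f).elim id fun f => by linear_combination f - d * h2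
    have t : Q.range = ⊤ := AddMonoidHom.range_eq_top.2 fun c => (s (c / g w w)).elim fun d f =>
      ⟨d • w, (b d w).trans (by rw [show d * d = _ from f, div_mul_cancel₀ _ hw])⟩
    have := Q.ker.card_mul_index
    rw [AddSubgroup.index_ker, t, AddSubgroup.card_top, Module.natCard_eq_pow_finrank (K := F) (V := V), hd, pow_succ, Nat.card_eq_fintype_card (α := F)] at this
    exact Nat.eq_of_mul_eq_mul_right Fintype.card_pos this
  rw [← Nat.card_eq_fintype_card]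
  exact orth_cnt_odd j (Form.ofQuadFun (fun v => g v v) ((2 : F) • g) a b)
    (fun v f => nd v fun u => (mul_eq_zero.1 (f u)).resolve_left h2) hd

local notation "β" => Cfsg.sympForm m F
local notation "Sp" => symplecticGroup (Fin m) F

theorem sp_fix {r : ℕ} [Fact r.Prime] {y : Sp} (hy : y ^ r = 1) (h0 : ∀ v, y.1 *ᵥ v = v → v = 0) (P : (Fin m ⊕ Fin m → F) → Prop) (P0 : P 0)
    (hP : ∀ v, P v → P (y.1 *ᵥ v)) : r ∣ Nat.card {v // P v} - 1 := by
  classical
  let f : Function.End {v // P v} := fun v => ⟨y.1 *ᵥ v.1, hP _ v.2⟩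
  have a : ∀ k v, ((f ^ k) v).1 = (y ^ k).1 *ᵥ v.1 := fun k => by
    induction k with
    | zero => exact fun v => (one_mulVec _).symm
    | succ k ih => exact fun v => by rw [pow_succ, pow_succ, mul_act]; exact ih (f v)
  have b := Equiv.Perm.card_fixedPoints_modEq (f := f) (p := r) (n := 1) (funext fun v => Subtype.ext (by
    rw [pow_one, a, hy]; exact one_mulVec _))
  rw [(Fintype.card_eq_one_iff (α := Function.fixedPoints f)).2 ⟨⟨⟨0, P0⟩, Subtype.ext (mulVec_zero y.1)⟩, fun v => Subtype.ext (Subtype.ext (h0 _ (congrArg Subtype.val v.2)))⟩,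
    ← Nat.card_eq_fintype_card] at b
  haveI : Nonempty {v // P v} := ⟨⟨0, P0⟩⟩
  exact (Nat.modEq_iff_dvd' Nat.card_pos).1 b.symm

theorem sp_nofix {r : ℕ} [Fact r.Prime] (hm : 2 ≤ m) {y : Sp} (hy : y ^ r = 1) (hf : ∀ v, y.1 *ᵥ v = v → v = 0)
    {M : Matrix (Fin m ⊕ Fin m) (Fin m ⊕ Fin m) F} (h0 : M ≠ 0) (h1 : M * M = 0) (h2 : Commute M y.1)
    {e : F} (he : e ≠ 0) (h3 : ∀ u v, β (M *ᵥ u) v = e * β u (M *ᵥ v)) : ∃ j, 1 ≤ j ∧ j < m ∧ r ∣ Fintype.card F ^ (2 * j) - 1 := by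
  let W := LinearMap.range (toLin' M)
  have c : ∀ v, M *ᵥ (y.1 *ᵥ v) = y.1 *ᵥ (M *ᵥ v) := fun v => by rw [mulVec_mulVec, h2.eq, ← mulVec_mulVec]
  have d0 : 0 < finrank F W := Nat.pos_of_ne_zero fun g => h0 (toLin'.injective (by simpa using LinearMap.range_eq_bot.1 (Submodule.finrank_eq_zero.1 g)))
  have a1 := (toLin' M).finrank_range_add_finrank_ker
  have a2 : finrank F W ≤ finrank F (LinearMap.ker (toLin' M)) := Submodule.finrank_mono (by
    rintro _ ⟨v, rfl⟩; simp [h1])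
  simp only [finrank_fintype_fun_eq_card, Fintype.card_sum, Fintype.card_fin] at a1
  change finrank F W + _ = _ at a1
  have a3 := sp_fix hy hf (· ∈ W) W.zero_mem (by rintro _ ⟨v, rfl⟩; exact ⟨y.1 *ᵥ v, c v⟩)
  rw [Module.natCard_eq_pow_finrank (K := F) (V := W), Nat.card_eq_fintype_card] at a3
  by_cases a4 : finrank F W < m
  · exact ⟨_, d0, a4, a3.trans (by rw [mul_comm, pow_mul]; simpa using Nat.sub_dvd_pow_sub_pow _ 1 2)⟩
  obtain ⟨j, f | f⟩ := Nat.even_or_odd' (finrank F W)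
  · exact ⟨j, by omega, by omega, f ▸ a3⟩
  obtain ⟨s, hs⟩ := (toLin' M).rangeRestrict.exists_rightInverse_of_surjective (LinearMap.range_rangeRestrict _)
  have s1 : ∀ w : W, M *ᵥ s w = w := fun w => congrArg Subtype.val (LinearMap.congr_fun hs w)
  have s3 : ∀ x v v', M *ᵥ v = M *ᵥ v' → β (M *ᵥ x) v = β (M *ᵥ x) v' := fun x v v' f => by rw [h3, h3, f]
  have n1 := cnt_odd (LinearMap.mk₂ F (fun w w' : W => β w (s w'))
    (fun a b d => by simp only [Submodule.coe_add, b_add_l]) (fun a b d => by simp only [Submodule.coe_smul, b_smul_l, smul_eq_mul])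
    (fun a b d => by simp only [map_add, b_add_r]) (fun a b d => by simp only [map_smul, b_smul_r, smul_eq_mul]))
    (fun w f => Subtype.ext (b_nd fun x => by
      have := f ⟨M *ᵥ x, x, rfl⟩
      rw [LinearMap.mk₂_apply, h3, s1] at this
      exact (mul_eq_zero.1 this).resolve_left he)) (e := -e) (fun u v => by
      simp only [LinearMap.mk₂_apply]
      rw [← s1 v, h3, s1, b_anti (s v)]; ring) f
  have a5 := sp_fix hy hf (fun w => ∃ v, M *ᵥ v = w ∧ β w v = 0) ⟨0, mulVec_zero _, b_self _⟩ fun w ⟨v, a, b⟩ =>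
    ⟨y.1 *ᵥ v, by rw [c, a], by rw [b_inv, b]⟩
  refine ⟨j, by omega, by omega, ?_⟩
  rw [← n1]
  convert a5 using 2
  exact Nat.card_eq_of_bijective (fun w => ⟨w.1.1, s w.1, s1 _, w.2⟩)
    ⟨fun a b f => Subtype.ext (Subtype.ext (congrArg (fun x : {w // ∃ v, M *ᵥ v = w ∧ β w v = 0} => x.1) f)), fun ⟨w, v, a, b⟩ => ⟨⟨⟨w, v, a⟩, by
      subst a
      exact (s3 v _ v (s1 ⟨_, v, rfl⟩)).trans b⟩, rfl⟩⟩

theorem sp_comm {p r : ℕ} [Fact p.Prime] [CharP F p] (hm : 2 ≤ m) (hr : r.Prime) (hq : ¬r ∣ Fintype.card F) {u y : Sp} (h : Commute u y)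
    (hu : u ^ p = 1) (hy : y ^ r = 1) (u1 : u ≠ 1) (y1 : y ≠ 1) : ∃ j, 1 ≤ j ∧ j < m ∧ r ∣ Fintype.card F ^ (2 * j) - 1 := by
  have := Fact.mk hr
  haveI : Nonempty (Fin m) := ⟨⟨0, by omega⟩⟩
  by_cases hf : ∀ v, y.1 *ᵥ v = v → v = 0
  · obtain ⟨T, t1, t2, t3, t4⟩ := exists_skew (p := p) (φ := Cfsg.spToMat m F) (fun a b e => Subtype.ext e) h hu u1
    have a0 : ∀ (g : Sp) x z, β (g.1 *ᵥ x) z = β x ((g⁻¹).1 *ᵥ z) := fun g x z => by rw [← b_inv g x, act_inv]
    have b1 : ∀ x y z, β (x - y) z = β x z - β y z := fun x y z => sub_dotProduct _ _ _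
    have b2 : ∀ x y z, β z (x - y) = β z x - β z y := fun x y z => by simp [Cfsg.sympForm, mulVec_sub]
    have t5 : ∀ x z, β (T *ᵥ x) z = -1 * β x (T *ᵥ z) := fun x z => by
      have a1 := a0 u x z
      have a2 := a0 u⁻¹ x z
      rcases t4 with rfl | ⟨rfl, e, rfl⟩
      · rw [inv_inv] at a2
        rw [sub_mulVec, sub_mulVec, b1, b2]
        exact (congrArg₂ (· - ·) a1 a2).trans (by rw [neg_one_mul, neg_sub]; rfl)
      rw [e] at a1
      rw [sub_mulVec, sub_mulVec, b1, b2, one_mulVec, one_mulVec, neg_one_mul, CharTwo.neg_eq]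
      exact congrArg (· - _) a1
    have t6 : ∀ k x z, β ((T ^ k) *ᵥ x) z = (-1) ^ k * β x ((T ^ k) *ᵥ z) := fun k => by
      induction k with
      | zero => simp
      | succ k ih => exact fun x z => by rw [pow_succ' T, ← mulVec_mulVec, t5, ih, mulVec_mulVec, ← pow_succ, ← pow_succ' T]; ring
    obtain ⟨k, k1, k2⟩ := exists_sq_zero t1 t2
    exact sp_nofix hm hy hf k1 k2 (t3.pow_left k) (pow_ne_zero k (neg_ne_zero.2 one_ne_zero)) (t6 k)
  push Not at hf
  obtain ⟨w, c, a⟩ := hf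
  have h1 := S0775.result rfl m 1 (by omega) (F ∙ w) (finrank_span_singleton a) fun x hx z hz => by
    obtain ⟨s, rfl⟩ := Submodule.mem_span_singleton.1 hx
    obtain ⟨t, rfl⟩ := Submodule.mem_span_singleton.1 hz
    rw [b_smul_l, b_smul_r, b_self, mul_zero, mul_zero]
  have h2 : y ∈ Cfsg.stabilizing (Cfsg.spToMat m F) ((F ∙ w : Submodule F _) : Set (Fin m ⊕ Fin m → F)) := fun v => by
    refine ⟨fun f => ?_, fun f => ?_⟩ <;> obtain ⟨s, f⟩ := Submodule.mem_span_singleton.1 f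
    · exact Submodule.mem_span_singleton.2 ⟨s, by rw [← f]; exact ((mulVec_smul _ _ _).trans (congrArg _ c)).symm⟩
    · exact Submodule.mem_span_singleton.2 ⟨s, by rw [← inv_act y v, ← inv_act y (s • w), mulVec_smul, c, f]; rfl⟩
  have h3 := orderOf_eq_prime hy y1 ▸ Subgroup.orderOf_dvd_natCard _ h2
  rw [h1] at h3
  simp only [hr.dvd_mul, Finset.univ_unique, Finset.prod_singleton, Fin.default_eq_zero, Fin.val_zero, pow_one, pow_zero,
    hr.prime.dvd_finsetProd_iff, Finset.mem_range] at h3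
  rcases h3 with (h3 | h3 | ⟨i, a, b⟩) | h3
  · exact (hq (hr.dvd_of_dvd_pow h3)).elim
  · exact (hq (hr.dvd_of_dvd_pow h3)).elim
  · exact ⟨i + 1, by omega, by omega, b⟩
  · exact ⟨1, le_rfl, by omega, h3.trans (by simpa using Nat.sub_dvd_pow_sub_pow _ 1 2)⟩

theorem sp_exists {p r j : ℕ} [Fact p.Prime] [CharP F p] (hm : 2 ≤ m) (hr : r.Prime) (hrp : r ≠ p) (j1 : 1 ≤ j) (j2 : j < m)
    (h : r ∣ Fintype.card F ^ (2 * j) - 1) : ∃ g : Sp, orderOf g = r * p := by
  have := Fact.mk hr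
  let i : Fin m := ⟨0, by omega⟩
  let v : Fin 2 → Fin m ⊕ Fin m → F := ![Pi.single (.inl i) 1, Pi.single (.inr i) 1]
  have a : LinearIndependent F v := LinearIndependent.pair_iff.2 fun s t e =>
    ⟨by simpa using congrFun e (.inl i), by simpa using congrFun e (.inr i)⟩
  obtain ⟨φ⟩ := S0776.result m 1 (by omega) (Submodule.span F (Set.range v)) (by rw [finrank_span_eq_card a]; rfl) fun u hu f => by
    obtain ⟨c, rfl⟩ := (Submodule.mem_span_range_iff_exists_fun F).1 hu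
    have a1 := f _ (Submodule.subset_span ⟨0, rfl⟩)
    have a2 := f _ (Submodule.subset_span ⟨1, rfl⟩)
    simp [sympForm_eq, v, Pi.single_apply] at a1 a2
    simp [a1, a2]
  obtain ⟨n, -, hn⟩ := FiniteField.card F p
  obtain ⟨x, hx⟩ := exists_prime_orderOf_dvd_card' (G := symplecticGroup (Fin 1) F) p (by
    rw [S0245.result rfl, hn]; exact ((dvd_pow_self p n.ne_zero).trans (dvd_pow_self _ (by simp))).mul_right _)
  obtain ⟨y, hy⟩ := exists_prime_orderOf_dvd_card' (G := symplecticGroup (Fin (m - 1)) F) r (by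
    obtain ⟨j, rfl⟩ : ∃ k, j = k + 1 := ⟨j - 1, by omega⟩
    rw [S0245.result rfl]
    exact (h.trans (Finset.dvd_prod_of_mem (fun i => Fintype.card F ^ (2 * (i + 1)) - 1) (Finset.mem_range.2 (by omega)))).mul_left _)
  refine ⟨(φ.symm (x, y)).1, ?_⟩
  rw [Subgroup.orderOf_coe, MulEquiv.orderOf_eq, Prod.orderOf_mk, hx, hy, Nat.Coprime.lcm_eq_mul ((Nat.coprime_primes Fact.out hr).2 hrp.symm), mul_comm]

theorem eta {q r k η n : ℕ} (hq : q ≠ 0) (hr : r.Prime) (hrq : ¬r ∣ q) (hk : k = orderOf (q : ZMod r)) (h : (Odd k ∧ η = k) ∨ (Even k ∧ 2 * η = k)) :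
    (∃ j, 1 ≤ j ∧ j < n ∧ r ∣ q ^ (2 * j) - 1) ↔ η < n := by
  have := Fact.mk hr
  have a : ∀ j, r ∣ q ^ j - 1 ↔ k ∣ j := fun j => by
    rw [hk, orderOf_dvd_iff_pow_eq_one, ← ZMod.natCast_eq_zero_iff, Nat.cast_sub (Nat.one_le_pow _ _ (by omega)), sub_eq_zero]; simp
  have b : 0 < k := hk ▸ orderOf_pos_iff.2 (isOfFinOrder_iff_pow_eq_one.2 ⟨r - 1, by have := hr.two_le; omega,
    ZMod.pow_card_sub_one_eq_one (by rwa [Ne, ZMod.natCast_eq_zero_iff])⟩)
  simp only [a]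
  rcases h with ⟨c, rfl⟩ | ⟨c, rfl⟩
  · exact ⟨fun ⟨j, x, y, z⟩ => (Nat.le_of_dvd x ((Nat.coprime_two_right.2 c).dvd_of_dvd_mul_left z)).trans_lt y,
      fun x => ⟨η, b, x, dvd_mul_left _ _⟩⟩
  · exact ⟨fun ⟨j, x, y, z⟩ => (Nat.le_of_dvd x (Nat.dvd_of_mul_dvd_mul_left two_pos z)).trans_lt y, fun x => ⟨η, by omega, x, dvd_rfl⟩⟩

end Cfsg.Agent.Chev.PAdj
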