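import Cfsg.Agent.Lib.Chev.Weyl

set_option autoImplicit false
set_option linter.unusedSectionVars false

/-! Symmetries of a root system, and Poincaré polynomials of (fixed points of) Weyl groups. -/

namespace Cfsg.Agent.Chev.RS

variable {I R : Type} [Fintype I] [DecidableEq I] (Φ : RS I R)

/-- a symmetry of the root system -/
structure Sym where
  ρ : Equiv.Perm R
  ρI : Equiv.Perm I
  sim : ∀ i, ρ (Φ.sim i) = Φ.sim (ρI i)
  rf : ∀ i r, ρ (Φ.rf i r) = Φ.rf (ρI i) (ρ r)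

/-- the trivial symmetry -/
def Sym.one : Φ.Sym := ⟨1, 1, fun _ => rfl, fun _ _ => rfl⟩

variable {Φ}

namespace Sym
variable (σ : Φ.Sym)

/-- the inverse symmetry -/
def inv : Φ.Sym where
  ρ := σ.ρ⁻¹
  ρI := σ.ρI⁻¹
  sim i := by rw [Equiv.Perm.inv_eq_iff_eq, σ.sim]; simp
  rf i r := by rw [Equiv.Perm.inv_eq_iff_eq, σ.rf]; simp

theorem neg (r : R) : σ.ρ (Φ.neg r) = Φ.neg (σ.ρ r) := by
  induction r using root_induction (Φ := Φ) with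
  | h1 i => rw [← rf_sim, σ.rf, σ.sim, rf_sim]
  | h2 i r ih => rw [← rf_neg, σ.rf, ih, σ.rf, rf_neg]

theorem pos {r : R} (h : Φ.Pos r) : Φ.Pos (σ.ρ r) := by
  refine pos_induction (p := fun r => Φ.Pos (σ.ρ r)) (fun i => by rw [σ.sim]; exact Φ.pos_sim _) ?_ r h
  intro i r _ hA _ ih
  rw [σ.rf]
  refine ih.rf fun e => ?_
  rw [← σ.sim, σ.ρ.injective.eq_iff] at e
  rw [e, A_self] at hA
  omega

theorem pos_iff {r : R} : Φ.Pos (σ.ρ r) ↔ Φ.Pos r :=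
  ⟨fun h => by simpa [inv] using σ.inv.pos h, σ.pos⟩

theorem exists_cj (w : Φ.W) : ∃ w' : Φ.W, ∀ r, w' • σ.ρ r = σ.ρ (w • r) := by
  induction w using W_induction with
  | h1 => exact ⟨1, by simp⟩
  | h2 i w ih =>
    obtain ⟨w', h⟩ := ih
    exact ⟨Φ.s (σ.ρI i) * w', fun r => by simp [mul_smul, h, σ.rf]⟩

/-- the induced automorphism of the Weyl group -/
noncomputable def cj : Φ.W →* Φ.W where
  toFun w := (σ.exists_cj w).choose
  map_one' := W_ext fun r => by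
    obtain ⟨r, rfl⟩ := σ.ρ.surjective r
    rw [(σ.exists_cj 1).choose_spec]; simp
  map_mul' w w' := W_ext fun r => by
    obtain ⟨r, rfl⟩ := σ.ρ.surjective r
    rw [(σ.exists_cj _).choose_spec, mul_smul, mul_smul, (σ.exists_cj w').choose_spec,
      (σ.exists_cj w).choose_spec]

theorem cj_smul (w : Φ.W) (r : R) : σ.cj w • σ.ρ r = σ.ρ (w • r) := (σ.exists_cj w).choose_spec r

theorem cj_s (i : I) : σ.cj (Φ.s i) = Φ.s (σ.ρI i) := W_ext fun r => by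
  obtain ⟨r, rfl⟩ := σ.ρ.surjective r
  rw [cj_smul, s_smul, s_smul, σ.rf]

theorem cj_inj : Function.Injective σ.cj := fun w w' h => W_ext fun r => σ.ρ.injective (by
  rw [← cj_smul, ← cj_smul, h])

/-- `J` is stable -/
def Stable (J : Set I) : Prop := ∀ j, σ.ρI j ∈ J ↔ j ∈ J

variable {σ}

theorem cj_mem {J : Set I} (hJ : σ.Stable J) {w : Φ.W} (hw : w ∈ Φ.WJ J) : σ.cj w ∈ Φ.WJ J :=
  WJ_induction (p := fun w => σ.cj w ∈ Φ.WJ J) (by simp) (fun j hj w _ _ ih => by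
    rw [map_mul, cj_s]; exact mul_mem ih (s_mem_WJ ((hJ j).2 hj))) hw

theorem inJ {J : Set I} (hJ : σ.Stable J) {r : R} (h : Φ.InJ J r) : Φ.InJ J (σ.ρ r) := by
  obtain ⟨w, hw, j, hj, rfl⟩ := exists_smul_sim_of_inJ h
  rw [← cj_smul, σ.sim]
  exact (inJ_sim.2 ((hJ j).2 hj)).smul (cj_mem hJ hw)

theorem Stable.inv {J : Set I} (hJ : σ.Stable J) : σ.inv.Stable J := fun j => by
  have := hJ (σ.ρI⁻¹ j)
  simpa [Sym.inv] using this.symm

theorem inJ_iff {J : Set I} (hJ : σ.Stable J) {r : R} : Φ.InJ J (σ.ρ r) ↔ Φ.InJ J r :=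
  ⟨fun h => by simpa [Sym.inv] using inJ hJ.inv h, inJ hJ⟩

variable (σ) in
/-- the fixed points in the Weyl group -/
noncomputable def W1 : Subgroup Φ.W := σ.cj.eqLocus (MonoidHom.id _)

theorem mem_W1 {w : Φ.W} : w ∈ σ.W1 ↔ σ.cj w = w := Iff.rfl

theorem mem_W1_iff {w : Φ.W} : w ∈ σ.W1 ↔ ∀ r, σ.ρ (w • r) = w • σ.ρ r := by
  rw [mem_W1]
  refine ⟨fun h r => by rw [← cj_smul, h], fun h => W_ext fun r => ?_⟩
  obtain ⟨r, rfl⟩ := σ.ρ.surjective r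
  rw [cj_smul, h]

theorem W1_one : (Sym.one Φ).W1 = ⊤ := by
  ext w; simp [mem_W1_iff, Sym.one]

end Sym

section Step
variable [Fintype R] [DecidableEq R]

theorem Sym.w0_mem {σ : Φ.Sym} {J : Set I} (hJ : σ.Stable J) : Φ.w0 J ∈ σ.W1 := by
  refine eq_w0 (Sym.cj_mem hJ (RS.w0_mem J)) fun j hj => ?_
  obtain ⟨j, rfl⟩ := σ.ρI.surjective j
  rw [← σ.sim, Sym.cj_smul, σ.pos_iff]
  exact w0_neg (Φ.pos_sim j) (inJ_sim.2 ((hJ j).1 hj))

open Classical in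
variable (Φ) in
/-- the number of positive roots of `Φ_J` with negative pairing -/
noncomputable def dd (J : Set I) (ρ : R) : ℕ :=
  (Finset.univ.filter fun β => Φ.Pos β ∧ Φ.InJ J β ∧ Φ.pair β ρ < 0).card

open Classical in
variable (Φ) in
/-- the number of inversions in `Φ_K` -/
noncomputable def ee (K : Set I) (w : Φ.W) : ℕ :=
  (Finset.univ.filter fun α => Φ.Pos α ∧ Φ.InJ K α ∧ ¬ Φ.Pos (w • α)).card

variable {J : Set I} {θ : R}

theorem pair_nonneg (hθ : ∀ j ∈ J, 0 ≤ Φ.A j θ) {α : R} (hp : Φ.Pos α) (hJ : Φ.InJ J α) :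
    0 ≤ Φ.pair α θ ∧ (Φ.pair α θ = 0 ↔ Φ.InJ {j ∈ J | Φ.A j θ = 0} α) := by
  have h1 : ∀ i ∈ Finset.univ, 0 ≤ Φ.cv α i * Φ.A i θ := by
    intro i _
    by_cases hi : i ∈ J
    · exact mul_nonneg (cv_nonneg_iff.2 (hp i)) (hθ i hi)
    · rw [cv_eq_zero_iff.2 (hJ i hi), zero_mul]
  refine ⟨Finset.sum_nonneg h1, ?_⟩
  rw [pair, Finset.sum_eq_zero_iff_of_nonneg h1]
  simp only [Finset.mem_univ, mul_eq_zero, cv_eq_zero_iff, forall_const, InJ, Set.mem_ofPred_eq,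
    not_and]
  refine forall_congr' fun i => ?_
  have := hJ i
  tauto

theorem mem_WK_of_smul (hθ : ∀ j ∈ J, 0 ≤ Φ.A j θ) {w : Φ.W} (hw : w ∈ Φ.WJ J) (h : w • θ = θ) :
    w ∈ Φ.WJ {j ∈ J | Φ.A j θ = 0} := by
  refine mem_WJ_of_pos fun r hr hK => ?_
  by_cases hJ : Φ.InJ J r
  · by_contra hn
    obtain ⟨h1, h2⟩ := pair_nonneg hθ hr hJ
    have h3 := (pair_nonneg hθ (pos_neg_iff.2 hn) (hJ.smul hw).neg).1
    rw [pair_neg_left, ← h, pair_smul] at h3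
    exact hK (h2.1 (by omega))
  · exact (pos_smul_iff_of_not_inJ hw hJ).2 hr

theorem smul_of_mem_WK {w : Φ.W} (hw : w ∈ Φ.WJ {j ∈ J | Φ.A j θ = 0}) : w • θ = θ :=
  WJ_induction (p := fun w => w • θ = θ) (by simp) (fun j hj w _ _ ih => by
    rw [mul_smul, s_smul, Φ.rf_of_A_eq_zero hj.2, ih]) hw

theorem len_eq_dd_add (hθ : ∀ j ∈ J, 0 ≤ Φ.A j θ) {w : Φ.W} (hw : w ∈ Φ.WJ J) :
    len Φ.s w = Φ.dd J (w • θ) + Φ.ee {j ∈ J | Φ.A j θ = 0} w := by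
  classical
  rw [← card_invSet, ← Finset.card_filter_add_card_filter_not (s := Φ.invSet w)
    (Φ.InJ {j ∈ J | Φ.A j θ = 0}), add_comm]
  congr 1
  · refine Finset.card_bij (fun α _ => Φ.neg (w • α)) ?_ ?_ ?_
    · intro α hα
      simp only [Finset.mem_filter, mem_invSet, Finset.mem_univ, true_and] at hα ⊢
      have hJ : Φ.InJ J α := by
        by_contra hJ; exact hα.1.2 ((pos_smul_iff_of_not_inJ hw hJ).2 hα.1.1)
      obtain ⟨h1, h2⟩ := pair_nonneg hθ hα.1.1 hJ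
      refine ⟨pos_neg_iff.2 hα.1.2, (hJ.smul hw).neg, ?_⟩
      rw [pair_neg_left, pair_smul]
      have := h2.not.2 hα.2
      omega
    · intro a _ b _ e
      exact smul_left_cancel w (Φ.neg_inj e)
    · intro β hβ
      simp only [Finset.mem_filter, mem_invSet, Finset.mem_univ, true_and] at hβ ⊢
      have e : Φ.neg (w • Φ.neg (w⁻¹ • β)) = β := by rw [smul_neg', neg_neg, smul_inv_smul]
      have h0 : Φ.pair (w⁻¹ • β) θ < 0 := by rw [← pair_smul w, smul_inv_smul]; exact hβ.2.2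
      have hJ := hβ.2.1.smul (inv_mem hw)
      have hp : Φ.Pos (Φ.neg (w⁻¹ • β)) := by
        rw [pos_neg_iff]; intro hp
        have := (pair_nonneg hθ hp hJ).1
        omega
      refine ⟨Φ.neg (w⁻¹ • β), ⟨⟨hp, ?_⟩, fun h => ?_⟩, e⟩
      · rw [smul_neg', smul_inv_smul]; exact hβ.1.not_neg
      · have := (pair_nonneg hθ hp hJ.neg).2.2 h
        rw [pair_neg_left] at this; omega
  · unfold ee
    congr 1
    ext α; simp only [Finset.mem_filter, mem_invSet, Finset.mem_univ, true_and]; tauto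

theorem ee_mul {K : Set I} {v u : Φ.W} (hv : ∀ k ∈ K, Φ.Pos (v • Φ.sim k)) (hu : u ∈ Φ.WJ K) :
    Φ.ee K (v * u) = len Φ.s u := by
  have key : ∀ α, Φ.Pos α → Φ.InJ K α → Φ.Pos (v • α) := fun α h1 h2 =>
    pos_smul h1 fun i hi => hv i (by by_contra hn; exact hi (h2 i hn))
  rw [← card_invSet, ee]
  congr 1
  ext α
  simp only [Finset.mem_filter, mem_invSet, Finset.mem_univ, true_and, mul_smul, and_congr_right_iff]
  intro hp
  constructor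
  · rintro ⟨h1, h2⟩ h3
    exact h2 (key _ h3 (h1.smul hu))
  · intro h1
    have hK : Φ.InJ K α := by
      by_contra hK; exact h1 ((pos_smul_iff_of_not_inJ hu hK).2 hp)
    refine ⟨hK, ?_⟩
    have := key _ (pos_neg_iff.2 h1) (hK.smul hu).neg
    rwa [smul_neg', pos_neg_iff] at this

theorem exists_min_coset (K : Set I) (w : Φ.W) :
    ∃ u ∈ Φ.WJ K, ∀ k ∈ K, Φ.Pos ((w * u) • Φ.sim k) := by
  obtain ⟨u, hu, hm⟩ := Set.Finite.exists_minimalFor (fun u => len Φ.s (w * u)) (Φ.WJ K : Set Φ.W)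
    (Set.toFinite _) ⟨1, one_mem _⟩
  refine ⟨u, hu, fun k hk => ?_⟩
  by_contra hn
  have h1 := len_mul_of_neg hn
  have := hm (mul_mem hu (s_mem_WJ hk)) (by simp only [← mul_assoc]; omega)
  simp only [← mul_assoc] at this
  omega

theorem min_coset_unique {K : Set I} {v u : Φ.W} (hv : ∀ k ∈ K, Φ.Pos (v • Φ.sim k))
    (hu : u ∈ Φ.WJ K) (hv' : ∀ k ∈ K, Φ.Pos ((v * u) • Φ.sim k)) : u = 1 := by
  have h1 := ee_mul hv hu
  have h2 := ee_mul hv' (one_mem (Φ.WJ K))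
  rw [mul_one, h1, len_one] at h2
  exact Φ.invGen.len_eq_zero.1 h2

theorem dd_self (hθ : ∀ j ∈ J, 0 ≤ Φ.A j θ) : Φ.dd J θ = 0 := by
  have := len_eq_dd_add hθ (one_mem _)
  rw [len_one, one_smul] at this
  omega

theorem dd_rf {j : I} (hj : j ∈ J) {ρ : R} (h : Φ.A j ρ < 0) : Φ.dd J ρ = Φ.dd J (Φ.rf j ρ) + 1 := by
  classical
  unfold dd
  rw [← Finset.card_image_of_injective (f := Φ.rf j) (Finset.univ.filter fun β => Φ.Pos β ∧ Φ.InJ J β ∧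
    Φ.pair β (Φ.rf j ρ) < 0) fun _ _ => Φ.rf_inj j, ← Finset.card_insert_of_notMem (a := Φ.sim j)]
  · congr 1
    ext β
    simp only [Finset.mem_filter, Finset.mem_univ, true_and, Finset.mem_insert, Finset.mem_image]
    constructor
    · rintro ⟨h1, h2, h3⟩
      by_cases e : β = Φ.sim j
      · exact Or.inl e
      · exact Or.inr ⟨_, ⟨h1.rf e, h2.smul (s_mem_WJ hj), by rwa [pair_rf]⟩, Φ.rf_rf _ _⟩
    · rintro (rfl | ⟨a, ⟨h1, h2, h3⟩, rfl⟩)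
      · exact ⟨Φ.pos_sim j, inJ_sim.2 hj, by rwa [pair_sim]⟩
      · refine ⟨h1.rf ?_, h2.smul (s_mem_WJ hj), by rwa [← Φ.pair_rf j, rf_rf]⟩
        rintro rfl
        rw [pair_sim, A_rf_self] at h3; omega
  · simp only [Finset.mem_image, Finset.mem_filter, Finset.mem_univ, true_and, not_exists, not_and]
    rintro a ⟨h1, -⟩ e
    rw [← Φ.rf_rf j a, e, rf_sim] at h1
    exact Φ.not_pos_neg_sim j h1

noncomputable instance instFintypeW : Fintype Φ.W := Fintype.ofFinite _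

open Classical in
/-- the Poincaré polynomial of the fixed points of a parabolic subgroup -/
noncomputable def Sym.poinc (σ : Φ.Sym) (J : Set I) (q : ℕ) : ℕ :=
  ∑ w ∈ Finset.univ.filter (fun w : Φ.W => w ∈ Φ.WJ J ∧ w ∈ σ.W1), q ^ len Φ.s w

theorem Sym.poinc_empty (σ : Φ.Sym) (q : ℕ) : σ.poinc ∅ q = 1 := by
  classical
  unfold Sym.poinc
  rw [Finset.sum_eq_single 1]
  · simp
  · intro w hw hne
    simp [WJ_empty, hne] at hw
  · simp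

theorem Sym.stable_K {σ : Φ.Sym} (hJ : σ.Stable J) (hσ : σ.ρ θ = θ) :
    σ.Stable {j ∈ J | Φ.A j θ = 0} := by
  have key : ∀ j, Φ.A j θ = 0 ↔ Φ.rf j θ = θ := fun j =>
    ⟨Φ.rf_of_A_eq_zero, fun h => by have := ht_rf (Φ := Φ) j θ; rw [h] at this; omega⟩
  intro j
  simp only [Set.mem_ofPred_eq, hJ j, key]
  rw [← σ.ρ.injective.eq_iff (a := Φ.rf j θ), σ.rf, hσ]

theorem Sym.poinc_step {σ : Φ.Sym} (hJ : σ.Stable J) (hσ : σ.ρ θ = θ) (hθ : ∀ j ∈ J, 0 ≤ Φ.A j θ)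
    (O : Finset R) (hO : ∀ ρ, ρ ∈ O ↔ (∃ w ∈ Φ.WJ J, w • θ = ρ) ∧ σ.ρ ρ = ρ) (q : ℕ) :
    σ.poinc J q = (∑ ρ ∈ O, q ^ Φ.dd J ρ) * σ.poinc {j ∈ J | Φ.A j θ = 0} q := by
  classical
  have hK := Sym.stable_K hJ hσ
  have hKJ : Φ.WJ {j ∈ J | Φ.A j θ = 0} ≤ Φ.WJ J := WJ_mono fun _ h => h.1
  unfold Sym.poinc
  rw [← Finset.sum_fiberwise_of_maps_to (t := O) (g := fun w : Φ.W => w • θ), Finset.sum_mul]
  · refine Finset.sum_congr rfl fun ρ hρ => ?_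
    obtain ⟨⟨w, hw, rfl⟩, hfix⟩ := (hO ρ).1 hρ
    obtain ⟨u, hu, hv⟩ := exists_min_coset {j ∈ J | Φ.A j θ = 0} w
    have e1 : w • θ = (w * u) • θ := by rw [mul_smul, smul_of_mem_WK hu]
    have hv1 := mul_mem hw (hKJ hu)
    rw [e1] at hfix ⊢
    generalize w * u = v at *
    have hst : ∀ v' ∈ Φ.WJ J, v' • θ = v • θ → v⁻¹ * v' ∈ Φ.WJ {j ∈ J | Φ.A j θ = 0} :=
      fun v' h1 h2 => mem_WK_of_smul hθ (mul_mem (inv_mem hv1) h1) (by rw [mul_smul, h2, inv_smul_smul])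
    have hv2 : v ∈ σ.W1 := by
      have a1 := hst _ (Sym.cj_mem hJ hv1) (by rw [← hfix, ← σ.cj_smul, hσ])
      have := min_coset_unique hv a1 (fun k hk => by
        obtain ⟨k, rfl⟩ := σ.ρI.surjective k
        rw [mul_inv_cancel_left, ← σ.sim, σ.cj_smul, σ.pos_iff]
        exact hv k ((hK k).1 hk))
      exact (inv_mul_eq_one.1 this).symm
    rw [Finset.mul_sum]
    symm
    refine Finset.sum_bij (fun u _ => v * u) ?_ ?_ ?_ ?_
    · intro u hu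
      simp only [Finset.mem_filter, Finset.mem_univ, true_and] at hu ⊢
      exact ⟨⟨mul_mem hv1 (hKJ hu.1), mul_mem hv2 hu.2⟩, by rw [mul_smul, smul_of_mem_WK hu.1]⟩
    · intro a _ b _ e
      exact mul_left_cancel e
    · intro w hw
      simp only [Finset.mem_filter, Finset.mem_univ, true_and] at hw ⊢
      exact ⟨v⁻¹ * w, ⟨hst _ hw.1.1 hw.2, mul_mem (inv_mem hv2) hw.1.2⟩, by simp⟩
    · intro u hu
      simp only [Finset.mem_filter, Finset.mem_univ, true_and] at hu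
      rw [len_eq_dd_add hθ (mul_mem hv1 (hKJ hu.1)), ee_mul hv hu.1, mul_smul, smul_of_mem_WK hu.1,
        pow_add]
  · intro w hw
    simp only [Finset.mem_filter, Finset.mem_univ, true_and] at hw
    exact (hO _).2 ⟨⟨w, hw.1, rfl⟩, by rw [Sym.mem_W1_iff.1 hw.2, hσ]⟩

variable (Φ) in
/-- the candidate orbit -/
def InO (J : Set I) (θ ρ : R) : Prop := (∀ i, i ∉ J → Φ.rv ρ i = Φ.rv θ i) ∧ Φ.ln ρ = Φ.ln θ

theorem orbit_of_cert (hθ : ∀ j ∈ J, 0 ≤ Φ.A j θ) (d : R → ℕ) (h0 : d θ = 0)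
    (hd : ∀ ρ, Φ.InO J θ ρ → ρ = θ ∨ ∃ j ∈ J, Φ.A j ρ < 0 ∧ d ρ = d (Φ.rf j ρ) + 1) (ρ : R) :
    ((∃ w ∈ Φ.WJ J, w • θ = ρ) ↔ Φ.InO J θ ρ) ∧ (Φ.InO J θ ρ → Φ.dd J ρ = d ρ) := by
  have h1 : ∀ w ∈ Φ.WJ J, ∀ ρ, Φ.InO J θ ρ → Φ.InO J θ (w • ρ) := fun w hw ρ h =>
    ⟨fun i hi => by rw [rv_smul_of_mem_WJ hw _ hi, h.1 i hi], by rw [ln_smul, h.2]⟩
  have key : Φ.InO J θ ρ → (∃ w ∈ Φ.WJ J, w • θ = ρ) ∧ Φ.dd J ρ = d ρ := by
    generalize hn : d ρ = n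
    induction n generalizing ρ with
    | zero =>
      intro h
      rcases hd ρ h with rfl | ⟨j, -, -, e⟩
      · exact ⟨⟨1, one_mem _, by simp⟩, dd_self hθ⟩
      · omega
    | succ n ih =>
      intro h
      rcases hd ρ h with rfl | ⟨j, hj, hA, e⟩
      · omega
      · obtain ⟨⟨w, hw, e1⟩, e2⟩ := ih (Φ.rf j ρ) (by omega) (h1 _ (s_mem_WJ hj) _ h)
        exact ⟨⟨Φ.s j * w, mul_mem (s_mem_WJ hj) hw, by rw [mul_smul, e1, s_smul, rf_rf]⟩,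
          by rw [dd_rf hj hA, e2]⟩
  refine ⟨⟨?_, fun h => (key h).1⟩, fun h => (key h).2⟩
  rintro ⟨w, hw, rfl⟩
  exact h1 w hw θ ⟨fun _ _ => rfl, rfl⟩

theorem Sym.poinc_cert {σ : Φ.Sym} (hJ : σ.Stable J) (hσ : σ.ρ θ = θ) (hθ : ∀ j ∈ J, 0 ≤ Φ.A j θ)
    (d : R → ℕ) (h0 : d θ = 0)
    (hd : ∀ ρ, Φ.InO J θ ρ → ρ = θ ∨ ∃ j ∈ J, Φ.A j ρ < 0 ∧ d ρ = d (Φ.rf j ρ) + 1)
    (O : Finset R) (hO : ∀ ρ, ρ ∈ O ↔ Φ.InO J θ ρ ∧ σ.ρ ρ = ρ) (q : ℕ) :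
    σ.poinc J q = (∑ ρ ∈ O, q ^ d ρ) * σ.poinc {j ∈ J | Φ.A j θ = 0} q := by
  rw [Sym.poinc_step hJ hσ hθ O fun ρ => by rw [hO, (orbit_of_cert hθ d h0 hd ρ).1]]
  congr 1
  exact Finset.sum_congr rfl fun ρ hρ => by rw [(orbit_of_cert hθ d h0 hd ρ).2 ((hO ρ).1 hρ).1]

theorem poinc_one_eq (J : Set I) [Fintype (Φ.WJ J)] (q : ℕ) :
    ∑ w : Φ.WJ J, q ^ len Φ.s (w : Φ.W) = (Sym.one Φ).poinc J q := by
  classical
  unfold Sym.poinc
  rw [Finset.sum_subtype (p := fun w => w ∈ Φ.WJ J)]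
  simp [Sym.W1_one]

theorem card_W : Nat.card Φ.W = (Sym.one Φ).poinc Set.univ 1 := by
  simp [Sym.poinc, Sym.W1_one, WJ_univ]

theorem orderOf_eq {w : Φ.W} {m : ℕ} (hm : 0 < m) (h1 : ∀ i, w ^ m • Φ.sim i = Φ.sim i)
    (h2 : ∀ k < m, 0 < k → ∃ i, w ^ k • Φ.sim i ≠ Φ.sim i) : orderOf w = m := by
  rw [orderOf_eq_iff hm]
  refine ⟨eq_one_of_pos fun i => by rw [h1]; exact Φ.pos_sim i, fun k hk hk0 e => ?_⟩
  obtain ⟨i, hi⟩ := h2 k hk hk0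
  simp [e] at hi

end Step

end Cfsg.Agent.Chev.RS
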