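import Cfsg.Agent.Lib.Chev.Adj
import Cfsg.Agent.Lib.Chev.Cert

set_option autoImplicit false
set_option linter.unusedSimpArgs false
set_option linter.unnecessarySeqFocus false

/-! From the kernel checks to the abstract structures. -/

namespace Cfsg.Agent.Chev

open Cfsg.Lie Matrix

theorem trL_getElem? (w : ℕ → ℕ) (η : ℕ → ℤ) (er acc : ℤ) (L : List (ℕ × ℤ)) (k : ℕ) :
    (trL w η er acc L)[k]? = L[k]?.map fun p => (w p.1, p.2 * η p.1 * (acc * er ^ (k + 1))) := by
  induction L generalizing acc k with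
  | nil => simp [trL]
  | cons p L ih =>
    cases k with
    | zero => simp [trL]
    | succ k =>
      simp only [trL, List.getElem?_cons_succ, ih]
      congr 1; ext p
      · rfl
      · simp only; ring

theorem trL_length (w : ℕ → ℕ) (η : ℕ → ℤ) (er acc : ℤ) (L : List (ℕ × ℤ)) :
    (trL w η er acc L).length = L.length := by
  induction L generalizing acc with
  | nil => simp [trL]
  | cons p L ih => simp [trL, ih]

theorem commTerms_transfer {D D' : ChevalleyDatum} {π : ℕ → ℕ} {ε : ℕ → ℤ} {r s : ℕ}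
    (h1 : D'.chainEntry (π r) (π s) = trL π ε (ε r) (ε s) (D.chainEntry r s))
    (h2 : D'.chainEntry (π s) (π r) = trL π ε (ε s) (ε r) (D.chainEntry s r))
    (l1 : (D.chainEntry r s).length ≤ 2) (l2 : (D.chainEntry s r).length ≤ 2) :
    D'.commTerms (π r) (π s) = trC π ε (ε r) (ε s) (D.commTerms r s) := by
  have e1 : (D.chainEntry r s)[2]? = none := by simpa using l1
  have e2 : (D.chainEntry s r)[2]? = none := by simpa using l2
  simp only [ChevalleyDatum.commTerms, ChevalleyDatum.chainRoot, ChevalleyDatum.chainM, h1, h2,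
    trL_getElem?, e1, e2, trC, Nat.reduceSub]
  cases (D.chainEntry r s)[0]? <;> cases (D.chainEntry r s)[1]? <;> cases (D.chainEntry s r)[1]? <;>
    simp <;> (try refine ⟨?_, ?_⟩) <;> (try refine ⟨?_, ?_⟩) <;> ring

theorem symCheck_all {n B T wi ei : ℕ} (h : symCheck n B T T wi ei = true)
    (hlt : ∀ r < n, look wi 8 r < n) (hinj : ∀ r < n, ∀ s < n, look wi 8 r = look wi 8 s → r = s)
    {r s : ℕ} (hr : r < n) (hs : s < n) :
    ceP B T (look wi 8 r) (look wi 8 s) =
      trL (look wi 8) (etaP ei) (etaP ei r) (etaP ei s) (ceP B T r s) := by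
  by_cases hne : ceP B T r s = []
  · rw [hne, trL]
    by_contra hne'
    let S : Finset (ℕ × ℕ) := ((Finset.range n) ×ˢ (Finset.range n)).filter fun p => ceP B T p.1 p.2 ≠ []
    have hm : ∀ p ∈ S, (look wi 8 p.1, look wi 8 p.2) ∈ S := by
      intro p hp
      simp only [S, Finset.mem_filter, Finset.mem_product, Finset.mem_range] at hp ⊢
      refine ⟨⟨hlt _ hp.1.1, hlt _ hp.1.2⟩, ?_⟩
      rw [symCheck_spec h hp.1.1 hp.1.2 hp.2, ← List.length_pos_iff, trL_length, List.length_pos_iff]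
      exact hp.2
    have hi : Set.InjOn (fun p : ℕ × ℕ => (look wi 8 p.1, look wi 8 p.2)) S := by
      intro p hp q hq e
      simp only [S, Finset.coe_filter, Finset.mem_product, Finset.mem_range, Set.mem_ofPred_eq,
        Prod.mk.injEq] at hp hq e
      exact Prod.ext (hinj _ hp.1.1 _ hq.1.1 e.1) (hinj _ hp.1.2 _ hq.1.2 e.2)
    have hsurj := Finset.surjOn_of_injOn_of_card_le (s := S) (t := S) _ hm hi le_rfl
    obtain ⟨p, hp, e⟩ := hsurj (show (look wi 8 r, look wi 8 s) ∈ (S : Set (ℕ × ℕ)) by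
      simp only [S, Finset.coe_filter, Finset.mem_product, Finset.mem_range, Set.mem_ofPred_eq]
      exact ⟨⟨hlt _ hr, hlt _ hs⟩, hne'⟩)
    simp only [S, Finset.coe_filter, Finset.mem_product, Finset.mem_range, Set.mem_ofPred_eq,
      Prod.mk.injEq] at hp e
    rw [hinj _ hp.1.1 _ hr e.1, hinj _ hp.1.2 _ hs e.2] at hp
    exact hp.2 hne
  · exact symCheck_spec h hr hs hne

theorem symMat_mul_symMat {D : ChevalleyDatum} {F : Type*} [Field F] {π π' : ℕ → ℕ} {ε ε' : ℕ → ℤ}
    {ω ω' : ℕ → ℕ → ℤ} (hlt : ∀ r < D.nroots, π r < D.nroots) (hπ : ∀ r < D.nroots, π' (π r) = r)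
    (hε : ∀ r < D.nroots, ε r * ε' (π r) = 1)
    (hω : ∀ i < D.rank, ∀ j < D.rank,
      ∑ k ∈ Finset.range D.rank, ω' i k * ω k j = if i = j then 1 else 0) :
    symMat D F π' ε' ω' * symMat D F π ε ω = 1 := by
  apply ext_bas
  intro k hk
  rw [← Matrix.mulVec_mulVec, Matrix.one_mulVec]
  by_cases hk1 : k < D.rank
  · rw [symMat_bas_h hk1, Matrix.mulVec_sum]
    have e1 : ∀ i ∈ Finset.range D.rank, symMat D F π' ε' ω' *ᵥ ((ω i k : F) • bas D F i) =
        ∑ j ∈ Finset.range D.rank, ((ω' j i * ω i k : ℤ) : F) • bas D F j := fun i hi => by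
      rw [Matrix.mulVec_smul, symMat_bas_h (Finset.mem_range.1 hi), Finset.smul_sum]
      exact Finset.sum_congr rfl fun j _ => by rw [smul_smul]; push_cast; rw [mul_comm]
    rw [Finset.sum_congr rfl e1, Finset.sum_comm]
    simp only [← Finset.sum_smul, ← Int.cast_sum]
    rw [Finset.sum_congr rfl fun j hj => by rw [hω j (Finset.mem_range.1 hj) k hk1]]
    simp [hk1]
  · obtain ⟨c, rfl⟩ : ∃ c, k = D.rank + c := ⟨k - D.rank, by omega⟩
    have hc : c < D.nroots := by omega
    rw [symMat_bas_e hc, Matrix.mulVec_smul, symMat_bas_e (hlt c hc), hπ c hc, smul_smul,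
      ← Int.cast_mul, hε c hc]
    simp

theorem TabSym.mul_wordMat {D : ChevalleyDatum} {F : Type*} [Field F] {π : ℕ → ℕ} {ε : ℕ → ℤ}
    {ω : ℕ → ℕ → ℤ} (h : TabSym D π ε ω) (ok : TabOK D) (w : List (ℕ × F))
    (hw : ∀ p ∈ w, p.1 < D.nroots) :
    symMat D F π ε ω * D.wordMat F w =
      D.wordMat F (w.map fun p => (π p.1, (ε p.1 : F) * p.2)) * symMat D F π ε ω := by
  induction w with
  | nil => simp [ChevalleyDatum.wordMat]
  | cons p w ih =>
    have := ih fun q hq => hw q (by simp [hq])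
    simp only [ChevalleyDatum.wordMat, List.map_cons, List.prod_cons] at this ⊢
    rw [← mul_assoc, h.mul_x ok (hw p (by simp)), mul_assoc, this, mul_assoc]

theorem keyP_congr (c : Cert) (l r s : ℕ) (h : ∀ i < l, c.rv r i = c.rv s i) :
    keyP c l r = keyP c l s := by
  induction l with
  | zero => rfl
  | succ l ih =>
    change Int.add (Int.mul (keyP c l r) _) _ = Int.add (Int.mul (keyP c l s) _) _
    rw [ih fun i hi => h i (by omega), h l (by omega)]

theorem isub_def (a b : ℤ) : Int.sub a b = a - b := rfl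
theorem ineg_def (a : ℤ) : Int.neg a = - a := rfl

namespace Checked
variable {D : ChevalleyDatum} {c : Cert} (h : Checked D c)
include h

theorem neg_eq {r : ℕ} (hr : r < D.nroots) : D.neg r = ngP D.nroots r := (tabCheck_spec h.tab).1 r hr
theorem cor_size {r : ℕ} (hr : r < D.nroots) : (D.coroot.getD r #[]).size = D.rank :=
  (tabCheck_spec h.tab).2.1 r hr
theorem cv_eq {r i : ℕ} (hr : r < D.nroots) (hi : i < D.rank) : cvN D r i = c.cv r i :=
  (tabCheck_spec h.tab).2.2.1 r hr i hi
theorem ca_eq {i r : ℕ} (hi : i < D.rank) (hr : r < D.nroots) : D.cartan i r = c.ca i r :=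
  (tabCheck_spec h.tab).2.2.2 i hi r hr
theorem keys : KeysNodup D := (chainCheck_spec h.chain).1
theorem ce_eq {r s : ℕ} (hr : r < D.nroots) (hs : s < D.nroots) : D.chainEntry r s = c.ce r s :=
  (chainCheck_spec h.chain).2 r hr s hs

theorem neg_lt {r : ℕ} (hr : r < D.nroots) : D.neg r < D.nroots := by
  rw [h.neg_eq hr]; simp [ngP]; omega

theorem rs_spec : (∀ i < D.rank, D.simple i < D.nroots) ∧
    (∀ r, r + 1 < D.nroots → keyP c D.rank r < keyP c D.rank (r + 1)) ∧
    (∀ r < D.nroots, ∀ i < D.rank, c.rv (ngP D.nroots r) i = - c.rv r i ∧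
      c.cv (ngP D.nroots r) i = - c.cv r i) ∧
    (∀ i < D.rank, ∀ j < D.rank, c.rv (D.simple i) j = (if j = i then 1 else 0) ∧
      c.cv (D.simple i) j = (if j = i then 1 else 0) ∧
      c.ln (D.simple i) * c.ca i (D.simple j) = c.ln (D.simple j) * c.ca j (D.simple i)) ∧
    (∀ i < D.rank, ∀ r < D.nroots,
      c.ca i r = ∑ j ∈ Finset.range D.rank, c.rv r j * c.ca i (D.simple j)) ∧
    (∀ i < D.rank, ∀ r < D.nroots, c.w i r < D.nroots ∧ c.ln (c.w i r) = c.ln r ∧
      ∀ j < D.rank, c.rv (c.w i r) j = c.rv r j - if j = i then c.ca i r else 0) ∧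
    ∀ r < D.nroots, ((∀ i < D.rank, 0 ≤ c.rv r i) ∨ ∀ i < D.rank, c.rv r i ≤ 0) ∧ 0 < c.ln r ∧
      (∀ i < D.rank, c.ln r * c.cv r i = c.ln (D.simple i) * c.rv r i) ∧
      ∑ i ∈ Finset.range D.rank, c.cv r i * c.ca i r = 2 := by
  have := h.rs
  simp only [rsCheck, band_iff, allLt_iff, force_eq, bimp_iff, bor_iff, intBeq_iff, nonneg_iff,
    dl_eq, sumLt_eq, Nat.blt_eq, Int.mul_def, isub_def, ineg_def] at this
  obtain ⟨h1, h2, h3, h4, h5, h6, h7⟩ := this
  refine ⟨h1, fun r hr => ?_, fun r hr => (h3 r hr).2, h4, h5, h6, fun r hr => ?_⟩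
  · have := h2 r (by simp; omega)
    simp only [Nat.succ_eq_add_one] at this
    omega
  · obtain ⟨a, b, d, e⟩ := h7 r hr
    exact ⟨by simpa using a, by omega, d, e⟩

theorem sim_lt {i : ℕ} (hi : i < D.rank) : D.simple i < D.nroots := h.rs_spec.1 i hi
theorem w_lt {i r : ℕ} (hi : i < D.rank) (hr : r < D.nroots) : c.w i r < D.nroots :=
  (h.rs_spec.2.2.2.2.2.1 i hi r hr).1

/-- the root system of a checked datum -/
noncomputable def toRS : RS (Fin D.rank) (Fin D.nroots) where
  rv r i := c.rv r i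
  cv r i := cvN D r i
  A i r := D.cartan i r
  ln r := c.ln r
  neg r := ⟨D.neg r, h.neg_lt r.2⟩
  sim i := ⟨D.simple i, h.sim_lt i.2⟩
  rf i r := ⟨c.w i r, h.w_lt i.2 r.2⟩
  rv_inj := by
    intro r s e
    have key : StrictMono fun r : Fin D.nroots => keyP c D.rank r := by
      have : ∀ k r, r + k + 1 < D.nroots → keyP c D.rank r < keyP c D.rank (r + k + 1) := by
        intro k
        induction k with
        | zero => exact h.rs_spec.2.1
        | succ k ih =>
          intro r hr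
          exact (ih r (by omega)).trans (h.rs_spec.2.1 _ hr)
      intro a b hab
      obtain ⟨k, hk⟩ := Nat.exists_eq_add_of_lt (Fin.lt_def.1 hab)
      have := this k a (by have := b.2; omega)
      rwa [← hk] at this
    exact key.injective (keyP_congr c _ _ _ fun i hi => congrFun e ⟨i, hi⟩)
  rv_neg r := by
    ext i; simp only [h.neg_eq r.2, Pi.neg_apply]; exact (h.rs_spec.2.2.1 r r.2 i i.2).1
  cv_neg r := by
    ext i
    simp only [Pi.neg_apply, h.cv_eq (h.neg_lt r.2) i.2, h.cv_eq r.2 i.2]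
    rw [h.neg_eq r.2]; exact (h.rs_spec.2.2.1 r r.2 i i.2).2
  rv_sim i := by
    ext j; simp only [(h.rs_spec.2.2.2.1 i i.2 j j.2).1, Pi.single_apply, Fin.ext_iff]
  cv_sim i := by
    ext j
    simp only [h.cv_eq (h.sim_lt i.2) j.2, (h.rs_spec.2.2.2.1 i i.2 j j.2).2.1, Pi.single_apply,
      Fin.ext_iff]
  A_eq i r := by
    simp only [h.ca_eq i.2 r.2, h.ca_eq i.2 (h.sim_lt (Fin.is_lt _))]
    rw [h.rs_spec.2.2.2.2.1 i i.2 r r.2, Finset.sum_range]
  rv_rf i r := by
    ext j
    simp only [(h.rs_spec.2.2.2.2.2.1 i i.2 r r.2).2.2 j j.2, h.ca_eq i.2 r.2, Pi.sub_apply,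
      Pi.single_apply, Fin.ext_iff]
  ln_rf i r := (h.rs_spec.2.2.2.2.2.1 i i.2 r r.2).2.1
  pos_or_neg r := (h.rs_spec.2.2.2.2.2.2 r r.2).1.imp (fun a i => a i i.2) fun a i => a i i.2
  ln_pos r := (h.rs_spec.2.2.2.2.2.2 r r.2).2.1
  ln_cv r i := by
    rw [h.cv_eq r.2 i.2]; exact (h.rs_spec.2.2.2.2.2.2 r r.2).2.2.1 i i.2
  symm i j := by
    simp only [h.ca_eq i.2 (h.sim_lt j.2), h.ca_eq j.2 (h.sim_lt i.2)]
    exact (h.rs_spec.2.2.2.1 i i.2 j j.2).2.2
  pair_self r := by
    simp only [h.ca_eq (Fin.is_lt _) r.2, h.cv_eq r.2 (Fin.is_lt _)]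
    rw [← (h.rs_spec.2.2.2.2.2.2 r r.2).2.2.2, Finset.sum_range]

theorem w_w {i r : ℕ} (hi : i < D.rank) (hr : r < D.nroots) : c.w i (c.w i r) = r :=
  congrArg Fin.val (h.toRS.rf_rf ⟨i, hi⟩ ⟨r, hr⟩)

theorem w_inj {i : ℕ} (hi : i < D.rank) (r : ℕ) (hr : r < D.nroots) (s : ℕ) (hs : s < D.nroots)
    (e : c.w i r = c.w i s) : r = s := by
  rw [← h.w_w hi hr, e, h.w_w hi hs]

theorem eta_spec {i : ℕ} (hi : i < D.rank) : c.η i (D.simple i) = -1 ∧
    c.η i (D.neg (D.simple i)) = -1 ∧ ∀ s < D.nroots, D.reflectRoot i s = c.w i s ∧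
      c.η i s * c.η i (c.w i s) = (-1) ^ (D.cartan i s).natAbs ∧ c.η i (D.neg s) = c.η i s := by
  have := h.eta
  simp only [etaCheck, band_iff, allLt_iff, force_eq, intBeq_iff, Nat.beq_eq, Int.mul_def] at this
  obtain ⟨h1, h2, h3⟩ := this i hi
  have hp := h.sim_lt hi
  refine ⟨h1, by rwa [h.neg_eq hp], fun s hs => ?_⟩
  obtain ⟨a, b, d⟩ := h3 s hs
  refine ⟨?_, ?_, by rwa [h.neg_eq hs]⟩
  · rw [← a]
    simp only [ChevalleyDatum.reflectRoot, reflP, ChevalleyDatum.chainRoot, h.ca_eq hi hs,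
      h.ce_eq hp hs, h.ce_eq (h.neg_lt hp) hs]
    rw [h.neg_eq hp]
  · rw [b, h.ca_eq hi hs]
    generalize (c.ca i s).natAbs = m
    rcases Nat.mod_two_eq_zero_or_one m with e | e
    · rw [show Nat.mod m 2 = 0 from e, Even.neg_one_pow (Nat.even_iff.2 e)]; rfl
    · rw [show Nat.mod m 2 = 1 from e, Odd.neg_one_pow (Nat.odd_iff.2 e)]; rfl

omit h in
theorem eta_sq (i r : ℕ) : c.η i r * c.η i r = 1 := by
  rcases sg_cases (look (look c.E 256 i) 1 r) with e | e <;> simp [Cert.η, etaP, e]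

theorem chain_sym {i r s : ℕ} (hi : i < D.rank) (hr : r < D.nroots) (hs : s < D.nroots) :
    D.chainEntry (c.w i r) (c.w i s) = trL (c.w i) (c.η i) (c.η i r) (c.η i s) (D.chainEntry r s) := by
  rw [h.ce_eq (h.w_lt hi hr) (h.w_lt hi hs), h.ce_eq hr hs]
  exact symCheck_all (h.sym i hi) (fun r hr => h.w_lt hi hr) (h.w_inj hi) hr hs

/-- the action of the reflection on the coroot space -/
def om (D : ChevalleyDatum) (i : ℕ) (k j : ℕ) : ℤ :=
  (if k = j then 1 else 0) - if k = i then D.cartan j (D.simple i) else 0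

theorem tabSym {i : ℕ} (hi : i < D.rank) : TabSym D (c.w i) (c.η i) (om D i) where
  lt r hr := h.w_lt hi hr
  inj := h.w_inj hi
  neg r hr := congrArg Fin.val (h.toRS.rf_neg ⟨i, hi⟩ ⟨r, hr⟩)
  sq r _ := eta_sq i r
  eneg r hr := ((h.eta_spec hi).2.2 r hr).2.2
  hcol j hj s hs := by
    have h1 : D.cartan j (c.w i s) = D.cartan j s - D.cartan i s * D.cartan j (D.simple i) :=
      h.toRS.A_rf ⟨i, hi⟩ ⟨j, hj⟩ ⟨s, hs⟩
    have h2 : D.cartan i (c.w i s) = - D.cartan i s := h.toRS.A_rf_self ⟨i, hi⟩ ⟨s, hs⟩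
    simp [om, sub_mul, Finset.sum_sub_distrib, hi, hj, h1, h2]
    ring
  ncol k hk s hs := by
    have h1 := congrFun (h.toRS.cv_rf ⟨i, hi⟩ ⟨s, hs⟩) ⟨k, hk⟩
    simp only [toRS, RS.pair, Pi.sub_apply, Pi.single_apply, Fin.ext_iff] at h1
    rw [h1, ← Finset.sum_range (f := fun j => cvN D s j * D.cartan j (D.simple i))]
    simp only [om, sub_mul, Finset.sum_sub_distrib]
    congr 1
    · simp [hk]
    · split_ifs <;> simp [mul_comm]
  chain r hr s hs := h.chain_sym hi hr hs

theorem dom_induction {p : ℕ → Prop} (h1 : ∀ r < D.nroots, domB D.rank c r = true → p r)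
    (h2 : ∀ i < D.rank, ∀ r < D.nroots, p r → p (c.w i r)) (r : ℕ) (hr : r < D.nroots) : p r := by
  generalize hk : D.nroots - r = k
  induction k using Nat.strong_induction_on generalizing r with
  | h k ih =>
    by_cases hd : domB D.rank c r = true
    · exact h1 r hr hd
    · simp only [domB, allLt_iff, Nat.ble_eq, not_forall, not_le] at hd
      obtain ⟨i, hi, hd⟩ := hd
      rw [← h.w_w hi hr]
      exact h2 i hi _ (h.w_lt hi hr) (ih _ (by omega) _ (h.w_lt hi hr) rfl)

theorem dom2_induction {p : ℕ → ℕ → Prop}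
    (h1 : ∀ r < D.nroots, ∀ s < D.nroots, domB D.rank c r = true → dom2B D.rank c r s = true → p r s)
    (h2 : ∀ i < D.rank, ∀ r < D.nroots, ∀ s < D.nroots, p r s → p (c.w i r) (c.w i s))
    (r : ℕ) (hr : r < D.nroots) (s : ℕ) (hs : s < D.nroots) : p r s := by
  revert s
  refine h.dom_induction (p := fun r => ∀ s < D.nroots, p r s) ?_ ?_ r hr
  · intro r hr hd s hs
    generalize hk : D.nroots - s = k
    induction k using Nat.strong_induction_on generalizing s with
    | h k ih =>
      by_cases hd2 : dom2B D.rank c r s = true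
      · exact h1 r hr s hs hd hd2
      · simp only [dom2B, allLt_iff, bimp_iff, Nat.beq_eq, Nat.ble_eq, not_forall, not_le] at hd2
        obtain ⟨i, hi, e, hd2⟩ := hd2
        have := h2 i hi r hr _ (h.w_lt hi hs) (ih _ (by omega) _ (h.w_lt hi hs) rfl)
        rwa [e, h.w_w hi hs] at this
  · intro i hi r hr ih s hs
    have := h2 i hi r hr _ (h.w_lt hi hs) (ih _ (h.w_lt hi hs))
    rwa [h.w_w hi hs] at this

theorem rv_w {i r j : ℕ} (hi : i < D.rank) (hr : r < D.nroots) (hj : j < D.rank) :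
    c.rv (c.w i r) j = c.rv r j - if j = i then D.cartan i r else 0 := by
  rw [h.ca_eq hi hr]; exact (h.rs_spec.2.2.2.2.2.1 i hi r hr).2.2 j hj

theorem rv_comb_w {i : ℕ} (hi : i < D.rank) {u r s : ℕ} (hu : u < D.nroots) (hr : r < D.nroots)
    (hs : s < D.nroots) {a b : ℤ} (e : ∀ j < D.rank, c.rv u j = a * c.rv r j + b * c.rv s j) :
    ∀ j < D.rank, c.rv (c.w i u) j = a * c.rv (c.w i r) j + b * c.rv (c.w i s) j := by
  intro j hj
  have e' : h.toRS.rv ⟨u, hu⟩ = a • h.toRS.rv ⟨r, hr⟩ + b • h.toRS.rv ⟨s, hs⟩ := by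
    ext j; exact e j j.2
  have := congrArg (RS.lin (h.toRS.s ⟨i, hi⟩)) e'
  simp only [map_add, map_smul, RS.lin_rv] at this
  exact congrFun this ⟨j, hj⟩

theorem grading {r s : ℕ} (hr : r < D.nroots) (hs : s < D.nroots) {k : ℕ} {p : ℕ × ℤ}
    (hp : (D.chainEntry r s)[k]? = some p) :
    p.1 < D.nroots ∧ ∀ i < D.rank, c.rv p.1 i = (k + 1 : ℤ) * c.rv r i + 1 * c.rv s i := by
  revert s k p
  refine h.dom_induction (p := fun r => ∀ {s : ℕ}, s < D.nroots → ∀ {k : ℕ} {p : ℕ × ℤ},
    (D.chainEntry r s)[k]? = some p → p.1 < D.nroots ∧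
      ∀ i < D.rank, c.rv p.1 i = (k + 1 : ℤ) * c.rv r i + 1 * c.rv s i) ?_ ?_ r hr
  · intro r hr hd s hs k p hp
    have := h.rel
    simp only [relCheck, band_iff, allLt_iff, bimp_iff, List.all_eq_true, intBeq_iff, Nat.blt_eq,
      Int.mul_def, Int.add_def] at this
    have := (this r hr hd).2.1 s hs (p, k) (by rw [List.mem_zipIdx_iff_getElem?, ← h.ce_eq hr hs, hp])
    simpa using this
  · intro i hi r hr ih s hs k p hp
    rw [← h.w_w hi hs, h.chain_sym hi hr (h.w_lt hi hs), trL_getElem?, Option.map_eq_some_iff] at hp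
    obtain ⟨q, hq, rfl⟩ := hp
    obtain ⟨h1, h2⟩ := ih (h.w_lt hi hs) hq
    refine ⟨h.w_lt hi h1, ?_⟩
    have := h.rv_comb_w hi h1 hr (h.w_lt hi hs) h2
    rwa [h.w_w hi hs] at this

theorem ok : TabOK D where
  keys := h.keys
  neg_lt r hr := h.neg_lt hr
  neg_ne r hr := fun e => h.toRS.neg_ne ⟨r, hr⟩ (Fin.ext e)
  neg_neg r hr := congrArg Fin.val (h.toRS.neg_neg ⟨r, hr⟩)
  tgt_lt r hr s hs p hp := by
    obtain ⟨k, hk⟩ := List.getElem?_of_mem hp
    exact (h.grading hr hs hk).1

theorem chainRoot_of_add {r s u : ℕ} (hr : r < D.nroots) (hs : s < D.nroots) (hu : u < D.nroots)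
    (e : ∀ i < D.rank, c.rv u i = c.rv r i + c.rv s i) : D.chainRoot r s 1 = some u := by
  revert u
  refine h.dom2_induction (p := fun r s => ∀ {u : ℕ}, u < D.nroots →
    (∀ i < D.rank, c.rv u i = c.rv r i + c.rv s i) → D.chainRoot r s 1 = some u) ?_ ?_ r hr s hs
  · intro r hr s hs hd hd2 u hu e
    have := h.rel
    simp only [relCheck, band_iff, allLt_iff, bimp_iff, List.all_eq_true, intBeq_iff, Nat.blt_eq,
      Int.mul_def, Int.add_def, beq_iff_eq] at this
    have := ((this r hr hd).2.2 s hs hd2).1 u hu e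
    rwa [← h.ce_eq hr hs] at this
  · intro i hi r hr s hs ih u hu e
    have h1 := h.rv_comb_w hi hu (h.w_lt hi hr) (h.w_lt hi hs) (a := 1) (b := 1) (by simpa using e)
    rw [h.w_w hi hr, h.w_w hi hs] at h1
    have h2 := ih (h.w_lt hi hu) (by simpa using h1)
    simp only [ChevalleyDatum.chainRoot, h.chain_sym hi hr hs, trL_getElem?,
      Option.map_eq_some_iff] at h2 ⊢
    obtain ⟨q, hq, e⟩ := h2
    exact ⟨_, ⟨q, hq, rfl⟩, by simp [e, h.w_w hi hu]⟩

theorem chainRoot_spec {r s k u : ℕ} (hr : r < D.nroots) (hs : s < D.nroots)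
    (e : D.chainRoot r s (k + 1) = some u) :
    u < D.nroots ∧ ∀ i < D.rank, c.rv u i = (k + 1 : ℤ) * c.rv r i + c.rv s i := by
  simp only [ChevalleyDatum.chainRoot, Option.map_eq_some_iff, add_tsub_cancel_right] at e
  obtain ⟨q, hq, rfl⟩ := e
  simpa using h.grading hr hs hq

theorem commTerms_spec {r s : ℕ} (hr : r < D.nroots) (hs : s < D.nroots) {q : ℕ × ℤ × ℕ × ℕ}
    (hq : q ∈ D.commTerms r s) : q.1 < D.nroots ∧ 0 < q.2.2.1 ∧ 0 < q.2.2.2 ∧
      ∀ i < D.rank, c.rv q.1 i = q.2.2.1 * c.rv r i + q.2.2.2 * c.rv s i := by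
  simp only [ChevalleyDatum.commTerms, List.mem_filterMap, Option.map_eq_some_iff] at hq
  obtain ⟨a, ha, u, hu, rfl⟩ := hq
  simp only [List.mem_cons, List.not_mem_nil, or_false] at ha
  rcases ha with rfl | rfl | rfl | rfl | rfl | rfl | rfl
  · obtain ⟨h1, h2⟩ := h.chainRoot_spec hr hs hu
    exact ⟨h1, by simp, by simp, fun i hi => by simp [h2 i hi]⟩
  · obtain ⟨h1, h2⟩ := h.chainRoot_spec hr hs hu
    exact ⟨h1, by simp, by simp, fun i hi => by simp [h2 i hi]⟩
  · obtain ⟨h1, h2⟩ := h.chainRoot_spec hs hr hu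
    exact ⟨h1, by simp, by simp, fun i hi => by simp [h2 i hi]; ring⟩
  · obtain ⟨h1, h2⟩ := h.chainRoot_spec hr hs hu
    exact ⟨h1, by simp, by simp, fun i hi => by simp [h2 i hi]⟩
  · obtain ⟨h1, h2⟩ := h.chainRoot_spec hs hr hu
    exact ⟨h1, by simp, by simp, fun i hi => by simp [h2 i hi]; ring⟩
  · obtain ⟨k, hk, hu⟩ := Option.bind_eq_some_iff.1 hu
    obtain ⟨h1, h2⟩ := h.chainRoot_spec hr hs hk
    obtain ⟨h3, h4⟩ := h.chainRoot_spec h1 hs hu
    exact ⟨h3, by simp, by simp, fun i hi => by simp [h4 i hi, h2 i hi]; ring⟩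
  · obtain ⟨k, hk, hu⟩ := Option.bind_eq_some_iff.1 hu
    obtain ⟨h1, h2⟩ := h.chainRoot_spec hs hr hk
    obtain ⟨h3, h4⟩ := h.chainRoot_spec h1 hr hu
    exact ⟨h3, by simp, by simp, fun i hi => by simp [h4 i hi, h2 i hi]; ring⟩

theorem commTerms_w {i r s : ℕ} (hi : i < D.rank) (hr : r < D.nroots) (hs : s < D.nroots) :
    D.commTerms (c.w i r) (c.w i s) = trC (c.w i) (c.η i) (c.η i r) (c.η i s) (D.commTerms r s) := by
  have := h.ct
  simp only [ctCheck, bor_iff, allLt_iff, bimp_iff, Nat.ble_eq, beq_iff_eq] at this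
  rcases this with h1 | h1
  · have key : ∀ r < D.nroots, ∀ s < D.nroots, (D.chainEntry r s).length ≤ 2 := by
      refine h.dom_induction (p := fun r => ∀ s < D.nroots, (D.chainEntry r s).length ≤ 2) ?_ ?_
      · intro r hr hd s hs
        rw [h.ce_eq hr hs]; exact h1 r hr hd s hs
      · intro i hi r hr ih s hs
        rw [← h.w_w hi hs, h.chain_sym hi hr (h.w_lt hi hs), trL_length]
        exact ih _ (h.w_lt hi hs)
    exact commTerms_transfer (h.chain_sym hi hr hs) (h.chain_sym hi hs hr) (key r hr s hs)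
      (key s hs r hr)
  · exact h1 i hi r hr s hs

section Field
variable {F : Type*} [Field F]

theorem x_colP (r k : ℕ) (t : F) : D.x F r t *ᵥ bas D F k =
    ((colP D.rank D.nroots c r k).map fun q => ((q.2.1 : F) * t ^ q.2.2) • bas D F q.1).sum :=
  x_bas D h.keys _ _ _ _ (fun _ hr => h.neg_eq hr) (fun _ hi _ hr => h.ca_eq hi hr)
    (fun _ hr _ hi => h.cv_eq hr hi) (fun _ hr _ hs => h.ce_eq hr hs) r k t

theorem wordMat_eq_of_check {w w' : List (ℕ × Pol)} (t u : F)
    (e : ∀ k < D.rank + D.nroots, vecEq (applyW (colP D.rank D.nroots c) w [(k, 1, 0, 0)])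
      (applyW (colP D.rank D.nroots c) w' [(k, 1, 0, 0)]) = true) :
    D.wordMat F (w.map fun p => (p.1, pev t u p.2)) =
      D.wordMat F (w'.map fun p => (p.1, pev t u p.2)) := by
  apply ext_bas
  intro k hk
  have := vev_eq_of_vecEq D t u (e k hk)
  rwa [vev_applyW D t u _ h.x_colP, vev_applyW D t u _ h.x_colP, vev_single] at this

theorem nMat_eq {i : ℕ} (hi : i < D.rank) :
    D.nMat F (D.simple i) 1 = symMat D F (c.w i) (c.η i) (om D i) := by
  apply ext_bas
  intro k hk
  have := h.n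
  simp only [nCheck, allLt_iff, force_eq] at this
  have := vev_eq_of_vecEq D (0 : F) 0 (this i hi k hk)
  rw [vev_applyW D _ _ _ h.x_colP, vev_single, ← h.neg_eq (h.sim_lt hi)] at this
  have e : D.nMat F (D.simple i) 1 = D.wordMat F (([(D.simple i, [(1, 0, 0)]),
      (D.neg (D.simple i), [(-1, 0, 0)]), (D.simple i, [(1, 0, 0)])] : List (ℕ × Pol)).map
        fun p => (p.1, pev (0 : F) 0 p.2)) := by
    simp [ChevalleyDatum.nMat, ChevalleyDatum.nWord, pev]
  rw [e, this, symVec]
  split_ifs with hk1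
  · rw [symMat_bas_h hk1, ← h.ca_eq hk1 (h.sim_lt hi)]
    simp [vev, om, sub_smul, Finset.sum_sub_distrib, hi, hk1, sub_eq_add_neg, add_smul,
      Finset.sum_add_distrib]
  · obtain ⟨s, rfl⟩ : ∃ c, k = D.rank + c := ⟨k - D.rank, by omega⟩
    rw [symMat_bas_e (by omega)]
    simp [vev]

theorem symMat_isUnit {i : ℕ} (hi : i < D.rank) : IsUnit (symMat D F (c.w i) (c.η i) (om D i)) := by
  have := symMat_mul_symMat (D := D) (F := F) (π := c.w i) (π' := c.w i) (ε := c.η i)
    (ε' := fun r => c.η i (c.w i r)) (ω := om D i) (ω' := om D i) (fun r hr => h.w_lt hi hr)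
    (fun r hr => h.w_w hi hr) (fun r hr => by rw [h.w_w hi hr, eta_sq]) (fun a ha b hb => by
      have : D.cartan i (D.simple i) = 2 := h.toRS.A_self ⟨i, hi⟩
      simp only [om, sub_mul, mul_sub, Finset.sum_sub_distrib, ite_mul, mul_ite, one_mul, zero_mul,
        mul_zero, mul_one, Finset.sum_ite_eq, Finset.sum_ite_eq', Finset.mem_range, ha, hb, hi, this,
        if_true]
      split_ifs <;> simp_all <;> ring)
  exact IsUnit.of_mul_eq_one_right _ this

theorem x_add {r : ℕ} (hr : r < D.nroots) (t u : F) : D.x F r t * D.x F r u = D.x F r (t + u) := by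
  revert t u
  refine h.dom_induction (p := fun r => ∀ t u : F, D.x F r t * D.x F r u = D.x F r (t + u)) ?_ ?_ r hr
  · intro r hr hd t u
    have := h.rel
    simp only [relCheck, band_iff, allLt_iff, bimp_iff] at this
    have := h.wordMat_eq_of_check t u (this r hr hd).1
    simpa [ChevalleyDatum.wordMat, pev] using this
  · intro i hi r hr ih t u
    have e : (c.η i r : F) * (c.η i r : F) = 1 := by rw [← Int.cast_mul, eta_sq, Int.cast_one]
    have h1 := fun t : F => (h.tabSym hi).mul_x h.ok hr ((c.η i r : F) * t)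
    simp only [← mul_assoc, e, one_mul] at h1
    apply (h.symMat_isUnit (F := F) hi).mul_right_cancel
    rw [mul_assoc, ← h1, ← mul_assoc, ← h1, ← h1, mul_assoc, ih, mul_add]

theorem x_comm {r s : ℕ} (hr : r < D.nroots) (hs : s < D.nroots) (h1 : s ≠ r) (h2 : s ≠ D.neg r)
    (t u : F) : D.x F s u * D.x F r t = D.x F r t * D.x F s u * D.wordMat F (D.commWord F r s t u) := by
  revert h1 h2 t u
  refine h.dom2_induction (p := fun r s => s ≠ r → s ≠ D.neg r → ∀ t u : F,
    D.x F s u * D.x F r t = D.x F r t * D.x F s u * D.wordMat F (D.commWord F r s t u)) ?_ ?_ r hr s hs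
  · intro r hr s hs hd hd2 h1 h2 t u
    have := h.rel
    simp only [relCheck, band_iff, allLt_iff, bimp_iff, bor_iff, Nat.beq_eq] at this
    have := (((this r hr hd).2.2 s hs hd2).2.resolve_left h1).resolve_left (by rwa [← h.neg_eq hr])
    have := h.wordMat_eq_of_check t u this
    simp only [ChevalleyDatum.wordMat, pev, List.map_cons, List.map_nil, List.prod_cons,
      List.prod_nil, commPol, List.map_map, ChevalleyDatum.commWord, Function.comp_def,
      List.sum_cons, List.sum_nil] at this ⊢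
    simp only [Int.cast_one, pow_zero, pow_one, mul_one, one_mul, add_zero] at this
    rw [this, mul_assoc]
    congr 3
    apply List.map_congr_left
    intro q _
    congr 1
    push_cast
    rw [neg_pow t]; ring
  · intro i hi r hr s hs ih h1 h2 t u
    have sy := h.tabSym hi
    have er : (c.η i r : F) * (c.η i r : F) = 1 := by rw [← Int.cast_mul, eta_sq, Int.cast_one]
    have es : (c.η i s : F) * (c.η i s : F) = 1 := by rw [← Int.cast_mul, eta_sq, Int.cast_one]
    have h3 := fun t : F => sy.mul_x h.ok hr ((c.η i r : F) * t)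
    have h4 := fun t : F => sy.mul_x h.ok hs ((c.η i s : F) * t)
    simp only [← mul_assoc, er, es, one_mul] at h3 h4
    have h5 := sy.mul_wordMat h.ok (D.commWord F r s ((c.η i r : F) * t) ((c.η i s : F) * u)) (by
      intro p hp
      simp only [ChevalleyDatum.commWord, List.mem_map] at hp
      obtain ⟨q, hq, rfl⟩ := hp
      exact (h.commTerms_spec hr hs hq).1)
    have h6 : (D.commWord F r s ((c.η i r : F) * t) ((c.η i s : F) * u)).map
        (fun p => (c.w i p.1, (c.η i p.1 : F) * p.2)) = D.commWord F (c.w i r) (c.w i s) t u := by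
      simp only [ChevalleyDatum.commWord, h.commTerms_w hi hr hs, trC, List.map_map]
      apply List.map_congr_left
      intro q _
      simp only [Function.comp, Prod.mk.injEq, true_and]
      push_cast
      rw [← mul_neg, mul_pow, mul_pow]; ring
    rw [h6] at h5
    apply (h.symMat_isUnit (F := F) hi).mul_right_cancel
    rw [mul_assoc, ← h3, ← mul_assoc, ← h4, mul_assoc,
      ih (fun e => h1 (by rw [e])) (fun e => h2 (by rw [e, sy.neg r hr])),
      mul_assoc _ (D.wordMat F _), ← h5, ← mul_assoc, ← mul_assoc, h3, mul_assoc (D.x F _ t), h4]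
    simp only [mul_assoc]

end Field

/-- root with a given index -/
def toFin (d : Fin D.nroots) (k : ℕ) : Fin D.nroots := if hk : k < D.nroots then ⟨k, hk⟩ else d

omit h in
theorem toFin_val (d : Fin D.nroots) {k : ℕ} (hk : k < D.nroots) : (toFin d k).val = k := by
  simp [toFin, hk]

theorem witB_spec {p : Fin D.nroots} {x : ℕ × ℕ × List ℤ}
    (hx : witB D D.rank D.nroots c p x = true) :
    WitFor h.toRS (fun r s => (D.commTerms r s).map fun q => (toFin r q.1, q.2)) p := by
  simp only [witB, band_iff, beq_iff_eq, Nat.blt_eq, nonneg_iff, bimp_iff, Nat.beq_eq, sumLt_eq,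
    isub_def, Int.mul_def, List.map_eq_singleton_iff, Prod.mk.injEq] at hx
  obtain ⟨⟨q, h1, h2, h3⟩, ha, hb, fa, fb, hab⟩ := hx
  obtain ⟨L₁, L₂, e, g1, g2, g3⟩ := List.filter_eq_cons_iff.1 h1
  rw [List.filter_eq_nil_iff] at g3
  have hlt : ∀ y ∈ D.commTerms x.1 x.2.1, y.1 < D.nroots := fun y hy => (h.commTerms_spec ha hb hy).1
  refine ⟨⟨x.1, ha⟩, ⟨x.2.1, hb⟩, fun i => x.2.2.getD i 0, L₁.map fun q => (toFin ⟨x.1, ha⟩ q.1, q.2),
    L₂.map fun q => (toFin ⟨x.1, ha⟩ q.1, q.2), q.2.1, q.2.2.1, ?_, ?_, ?_, ?_, ?_, ?_, ?_⟩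
  · intro e; exact absurd (hab (congrArg Fin.val e).symm) (by simp)
  · rw [Finset.sum_range] at fa; simp only [RS.fn, toRS]; omega
  · rw [Finset.sum_range] at fb; simp only [RS.fn, toRS]; omega
  · simp only [e, List.map_append, List.map_cons]
    congr 2
    rw [← h3]
    congr 1
    apply Fin.ext
    rw [toFin_val _ (hlt q (by simp [e]))]
    simpa using g2
  · exact (Int.natAbs_eq_iff_mul_self_eq (b := 1)).1 (by simpa using h2)
  · intro y hy
    obtain ⟨z, hz, rfl⟩ := List.mem_map.1 hy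
    intro e'
    apply g1 z hz
    simp only [← e', toFin_val _ (hlt z (by simp [e, hz])), decide_true]
  · intro y hy
    obtain ⟨z, hz, rfl⟩ := List.mem_map.1 hy
    intro e'
    apply g3 z hz
    simp only [← e', toFin_val _ (hlt z (by simp [e, hz])), decide_true]

/-- the Chevalley data of a checked datum -/
noncomputable def toCD : CD (Fin D.rank) (Fin D.nroots) where
  toRS := h.toRS
  ct r s := (D.commTerms r s).map fun q => (toFin r q.1, q.2)
  η i r := c.η i r
  ct_rv r s y hy := by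
    obtain ⟨z, hz, rfl⟩ := List.mem_map.1 hy
    obtain ⟨h1, h2, h3, h4⟩ := h.commTerms_spec r.2 s.2 hz
    refine ⟨h2, h3, ?_⟩
    ext i
    simp only [toRS, toFin_val _ h1, h4 i i.2, Pi.add_apply, Pi.smul_apply, smul_eq_mul]
  η_sq i r := eta_sq i r
  η_neg i r := ((h.eta_spec i.2).2.2 r r.2).2.2
  η_sim i := (h.eta_spec i.2).1
  η_rf i r := ((h.eta_spec i.2).2.2 r r.2).2.1
  wit i := by
    have := h.wit
    simp only [witCheck, allLt_iff, band_iff] at this
    obtain ⟨h1, h2⟩ := this i i.2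
    rw [← h.neg_eq (h.sim_lt i.2)] at h2
    exact ⟨h.witB_spec (p := h.toRS.sim i) h1, h.witB_spec (p := h.toRS.neg (h.toRS.sim i)) h2⟩

section Field
variable {F : Type*} [Field F]

theorem prod_ct {G : Type*} [Monoid G] (x : ℕ → F → G) (r s : Fin D.nroots) (t u : F) :
    ((h.toCD.ct r s).map fun q => x q.1 ((q.2.1 : F) * (-t) ^ q.2.2.1 * u ^ q.2.2.2)).prod =
      ((D.commWord F r s t u).map fun p => x p.1 p.2).prod := by
  simp only [toCD, ChevalleyDatum.commWord, List.map_map]
  congr 1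
  apply List.map_congr_left
  intro q hq
  simp only [Function.comp, toFin_val _ (h.commTerms_spec r.2 s.2 hq).1]

theorem nM_one (i : Fin D.rank) : h.toCD.nM i (1 : Fˣ) = symMat D F (c.w i) (c.η i) (om D i) := by
  ext a b
  rcases a with a | a <;> rcases b with b | b <;>
    simp [CD.nM, symMat, om, toCD, toRS, Fin.ext_iff]

theorem x_hom (r : Fin D.nroots) (a b : D.Idx) :
    (∀ t : F, D.x F r t a b = (1 : Matrix _ _ F) a b) ∨ ∃ (k : ℕ) (m : F), 0 < k ∧
      h.toRS.wt a = h.toRS.wt b + (k : ℤ) • h.toRS.rv r ∧ ∀ t : F, D.x F r t a b = m * t ^ k := by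
  simp only [ChevalleyDatum.x, r.2, dif_pos, ChevalleyDatum.xMat, Matrix.of_apply, Fin.eta]
  rcases b with i | s
  · rcases a with i' | u
    · left; intro t; simp [Matrix.one_apply]
    · by_cases e : u = r
      · right; subst e
        exact ⟨1, _, one_pos, by simp [RS.wt], fun t => by simp only [if_true]; rw [pow_one]⟩
      · left; intro t; simp [e]
  · by_cases e1 : s = r
    · left; intro t; subst e1
      rcases a with i | u <;> simp [Matrix.one_apply]
    by_cases e2 : s.val = D.negIdx.getD r.val 0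
    · have e3 : s = h.toRS.neg r := Fin.ext e2
      simp only [e1, e2, if_true, if_false]
      rcases a with i | u
      · right
        exact ⟨1, _, one_pos, by simp [RS.wt, e3, h.toRS.rv_neg], fun t => by rw [pow_one]⟩
      · by_cases e4 : u = s
        · left; intro t; subst e4; rw [Matrix.one_apply_eq]; simp
        · by_cases e5 : u = r
          · right
            refine ⟨2, -1, two_pos, ?_, fun t => by simp [e5, Ne.symm e1]⟩
            simp only [RS.wt, e3, e5, h.toRS.rv_neg, Sum.elim_inr]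
            ext j; simp; ring
          · left; intro t; simp [e4, e5]
    · simp only [e1, e2, if_false]
      rcases a with i | u
      · left; intro t; simp
      · simp only [chainCoeff_eq D h.keys r.2]
        have key : ∀ q ∈ ((D.chainEntry r s).zipIdx.filter fun q => q.1.1 = u.val),
            h.toRS.rv u = h.toRS.rv s + ((q.2 + 1 : ℕ) : ℤ) • h.toRS.rv r := by
          intro q hq
          rw [List.mem_filter, List.mem_zipIdx_iff_getElem?] at hq
          have := (h.grading r.2 s.2 hq.1).2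
          rw [of_decide_eq_true hq.2] at this
          ext j
          simp [toRS, this j j.2]; ring
        generalize ((D.chainEntry r s).zipIdx.filter fun q => q.1.1 = u.val) = L at key
        cases L with
        | nil => left; intro t; simp [Matrix.one_apply]
        | cons q L =>
          right
          have k1 := key q (by simp)
          have hne : u ≠ s := by
            rintro rfl
            have : ((q.2 + 1 : ℕ) : ℤ) • h.toRS.rv r = 0 := by simpa using k1
            rcases smul_eq_zero.1 this with h1 | h1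
            · omega
            · exact h.toRS.rv_ne_zero r h1
          refine ⟨q.2 + 1, (((q :: L).map fun y => (y.1.2 : F))).sum, by omega, k1, fun t => ?_⟩
          rw [if_neg hne, zero_add, List.map_map, ← List.sum_map_mul_right]
          congr 1
          apply List.map_congr_left
          intro y hy
          have k2 := key y hy
          rw [k1, add_right_inj] at k2
          have := smul_left_injective ℤ (h.toRS.rv_ne_zero r) k2
          simp only [Function.comp]
          congr 2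
          omega

variable (F) in
/-- the adjoint representation of a checked datum -/
noncomputable def toAdj : Adj h.toCD F where
  X r t := D.x F r t
  add r t u := h.x_add r.2 t u
  comm r s t u h1 h2 := by
    rw [h.prod_ct (D.x F)]
    exact h.x_comm r.2 s.2 (fun e => h1 (Fin.ext e)) (fun e => h2 (Fin.ext e)) t u
  hom := h.x_hom
  entry r t i := by
    have h1 : h.toCD.neg r ≠ r := h.toRS.neg_ne r
    have h2 : (h.toCD.neg r).val = D.negIdx.getD r.val 0 := rfl
    simp only [ChevalleyDatum.x, r.2, dif_pos, ChevalleyDatum.xMat, Matrix.of_apply, Fin.eta, h1, h2,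
      if_true, if_false]
    rfl
  n_eq i := by
    rw [h.nM_one, ← h.nMat_eq i.2]
    simp [ChevalleyDatum.nMat, ChevalleyDatum.nWord, ChevalleyDatum.wordMat, mul_assoc, toCD, toRS]
  n_mul i s t := by
    rw [h.nM_one]; exact (h.tabSym i.2).mul_x h.ok s.2 t

end Field

theorem isPos_iff (r : Fin D.nroots) : D.IsPosRoot r ↔ h.toRS.Pos r := by
  simp only [ChevalleyDatum.IsPosRoot, r.2, true_and, RS.Pos, ← RS.cv_nonneg_iff]
  constructor
  · intro h1 i
    apply h1
    have := h.cor_size r.2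
    simp only [toRS, cvN, Array.getD_eq_getD_getElem? (xs := D.coroot.getD r #[])]
    rw [Array.getElem?_eq_getElem (by rw [this]; exact i.2)]
    simp
  · intro h1 a ha
    obtain ⟨i, hi, rfl⟩ := List.getElem_of_mem ha
    have hi' : i < (D.coroot.getD r #[]).size := by simpa using hi
    have := h1 ⟨i, by rwa [← h.cor_size r.2]⟩
    simp only [toRS, cvN, Array.getD_eq_getD_getElem? (xs := D.coroot.getD r #[])] at this
    rw [Array.getElem?_eq_getElem hi'] at this
    simpa using this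

theorem isNeg_iff (r : Fin D.nroots) : D.IsNegRoot r ↔ ¬ h.toRS.Pos r := by
  rw [← RS.pos_neg_iff]
  simp only [ChevalleyDatum.IsNegRoot, r.2, true_and, RS.Pos, ← RS.cv_nonneg_iff, h.toRS.cv_neg,
    Pi.neg_apply, Left.nonneg_neg_iff]
  constructor
  · intro h1 i
    apply h1
    have := h.cor_size r.2
    simp only [toRS, cvN, Array.getD_eq_getD_getElem? (xs := D.coroot.getD r #[])]
    rw [Array.getElem?_eq_getElem (by rw [this]; exact i.2)]
    simp
  · intro h1 a ha
    obtain ⟨i, hi, rfl⟩ := List.getElem_of_mem ha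
    have hi' : i < (D.coroot.getD r #[]).size := by simpa using hi
    have := h1 ⟨i, by rwa [← h.cor_size r.2]⟩
    simp only [toRS, cvN, Array.getD_eq_getD_getElem? (xs := D.coroot.getD r #[])] at this
    rw [Array.getElem?_eq_getElem hi'] at this
    simpa using this

theorem inRootSub_iff (J : Set ℕ) (r : Fin D.nroots) :
    D.InRootSub J r ↔ h.toRS.InJ {i | i.val ∈ J} r := by
  simp only [ChevalleyDatum.InRootSub, r.2, true_and, RS.InJ, ← RS.cv_eq_zero_iff]
  exact ⟨fun h1 i hi => h1 i i.2 hi, fun h1 i hi hJ => h1 ⟨i, hi⟩ hJ⟩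

end Checked

end Cfsg.Agent.Chev
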