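import Cfsg.Agent.Lib.Chev.Poinc
import Cfsg.Agent.Lib.Chev.Valid

set_option autoImplicit false

/-! Certificates for Poincaré polynomials and orders of elements of the Weyl group. -/

namespace Cfsg.Agent.Chev

open Cfsg.Lie

/-- evaluation of a list of coefficients -/
def pe (q : ℤ) : List ℤ → ℤ
  | [] => 0
  | a :: L => a + q * pe q L

def padd : List ℤ → List ℤ → List ℤ
  | [], M => M
  | a :: L, [] => a :: L
  | a :: L, b :: M => (a + b) :: padd L M

def pmu (L M : List ℤ) : List ℤ := L.foldr (fun a acc => padd (M.map (a * ·)) (0 :: acc)) []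

def pmono (k : ℕ) : List ℤ := List.replicate k 0 ++ [1]

def pprod (L : List (List ℤ)) : List ℤ := L.foldr pmu [1]

def peqB (L M : List ℤ) : Bool := (padd L (M.map (-1 * ·))).all (· == 0)

theorem pe_padd (q : ℤ) (L M : List ℤ) : pe q (padd L M) = pe q L + pe q M := by
  induction L generalizing M with
  | nil => simp [padd, pe]
  | cons a L ih => cases M <;> simp [padd, pe, ih]; ring

theorem pe_map_mul (q a : ℤ) (L : List ℤ) : pe q (L.map (a * ·)) = a * pe q L := by
  induction L with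
  | nil => simp [pe]
  | cons b L ih => simp [pe, ih]; ring

theorem pe_pmu (q : ℤ) (L M : List ℤ) : pe q (pmu L M) = pe q L * pe q M := by
  induction L with
  | nil => simp [pmu, pe]
  | cons a L ih =>
    have : pmu (a :: L) M = padd (M.map (a * ·)) (0 :: pmu L M) := rfl
    rw [this, pe_padd, pe_map_mul, pe, pe, ih]; ring

theorem pe_pmono (q : ℤ) (k : ℕ) : pe q (pmono k) = q ^ k := by
  induction k with
  | zero => simp [pmono, pe]
  | succ k ih =>
    have : pmono (k + 1) = 0 :: pmono k := rfl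
    rw [this, pe, ih]; ring

theorem pe_pprod (q : ℤ) (L : List (List ℤ)) : pe q (pprod L) = (L.map (pe q)).prod := by
  induction L with
  | nil => simp [pprod, pe]
  | cons a L ih =>
    have : pprod (a :: L) = pmu a (pprod L) := rfl
    rw [this, pe_pmu, ih]; simp

theorem pe_eq_of_peqB (q : ℤ) {L M : List ℤ} (h : peqB L M = true) : pe q L = pe q M := by
  have : ∀ L : List ℤ, L.all (· == 0) = true → pe q L = 0 := by
    intro L
    induction L with
    | nil => simp [pe]
    | cons a L ih => simp only [List.all_cons, Bool.and_eq_true, beq_iff_eq, pe]; rintro ⟨rfl, h⟩; simp [ih h]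
  have := this _ h
  rw [pe_padd, pe_map_mul] at this
  linarith

def psum (L : List ℕ) : List ℤ := L.foldr (fun k acc => padd (pmono k) acc) []

theorem pe_psum (q : ℤ) (L : List ℕ) : pe q (psum L) = (L.map (q ^ ·)).sum := by
  induction L with
  | nil => simp [psum, pe]
  | cons a L ih =>
    have : psum (a :: L) = padd (pmono a) (psum L) := rfl
    rw [this, pe_padd, pe_pmono, ih]; simp

/-- `q ^ k + e` -/
def pbin (k : ℕ) (e : ℤ) : List ℤ := padd (pmono k) [e]

theorem pe_pbin (q : ℤ) (k : ℕ) (e : ℤ) : pe q (pbin k e) = q ^ k + e := by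
  rw [pbin, pe_padd, pe_pmono]; simp [pe]

noncomputable def anyLt (n : ℕ) (p : ℕ → Bool) : Bool :=
  Nat.rec false (fun m b => Bool.rec b true (p m)) n

@[simp] theorem anyLt_iff (n : ℕ) (p : ℕ → Bool) : anyLt n p = true ↔ ∃ i < n, p i = true := by
  induction n with
  | zero => simp [anyLt]
  | succ n ih =>
    have : anyLt (n + 1) p = Bool.rec (anyLt n p) true (p n) := rfl
    rw [this, Nat.exists_lt_succ_right, ← ih]
    cases p n <;> simp

noncomputable def inOB (l : ℕ) (c : Cert) (J θ ρ : ℕ) : Bool :=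
  band (allLt l fun i => bor (Nat.testBit J i) (intBeq (c.rv ρ i) (c.rv θ i))) (intBeq (c.ln ρ) (c.ln θ))

noncomputable def stepB (l n : ℕ) (c : Cert) (π πI : ℕ → ℕ) (J K θ dT : ℕ) : Bool :=
  band (Nat.blt θ n) <| band (Nat.beq (π θ) θ) <| band (Nat.beq (look dT 8 θ) 0) <|
  band (allLt l fun j => band (Nat.testBit J (πI j) == Nat.testBit J j) <|
    band (bimp (Nat.testBit J j) (nonneg (c.ca j θ))) <|
    Nat.testBit K j == band (Nat.testBit J j) (intBeq (c.ca j θ) 0)) <|
  allLt n fun ρ => bimp (inOB l c J θ ρ) <| bor (Nat.beq ρ θ) <| anyLt l fun j =>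
    band (Nat.testBit J j) <| band (nonneg (Int.sub (-1) (c.ca j ρ))) <|
      Nat.beq (look dT 8 ρ) (Nat.succ (look dT 8 (c.w j ρ)))

noncomputable def stepL (l n : ℕ) (c : Cert) (π : ℕ → ℕ) (J θ dT : ℕ) : List ℕ :=
  ((List.range n).filter fun ρ => band (inOB l c J θ ρ) (Nat.beq (π ρ) ρ)).map (look dT 8)

def headJ : List (ℕ × ℕ × ℕ) → ℕ
  | [] => 0
  | x :: _ => x.1

noncomputable def chainB (l n : ℕ) (c : Cert) (π πI : ℕ → ℕ) : List (ℕ × ℕ × ℕ) → Bool
  | [] => true
  | x :: L => band (stepB l n c π πI x.1 (headJ L) x.2.1 x.2.2) (chainB l n c π πI L)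

noncomputable def chainP (l n : ℕ) (c : Cert) (π : ℕ → ℕ) (L : List (ℕ × ℕ × ℕ)) : List (List ℤ) :=
  L.map fun x => psum (stepL l n c π x.1 x.2.1 x.2.2)

/-- action of a word -/
noncomputable def wact (c : Cert) (L : List ℕ) (r : ℕ) : ℕ := L.foldr (fun i r => c.w i r) r

noncomputable def ordB (l : ℕ) (sim : ℕ → ℕ) (c : Cert) (L : List ℕ) (m : ℕ) : Bool :=
  band (Nat.blt 0 m) <| band (allLt l fun i => Nat.beq ((wact c L)^[m] (sim i)) (sim i)) <|
    allLt m fun k => bor (Nat.beq k 0) <| anyLt l fun i =>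
      bimp (Nat.beq ((wact c L)^[k] (sim i)) (sim i)) false

namespace Checked
variable {D : ChevalleyDatum} {c : Cert} (h : Checked D c)

theorem step_spec (σ : h.toRS.Sym) {π πI : ℕ → ℕ} (hπ : ∀ r, (σ.ρ r).val = π r)
    (hπI : ∀ i, (σ.ρI i).val = πI i) {J K θ dT : ℕ}
    (hs : stepB D.rank D.nroots c π πI J K θ dT = true) (q : ℕ) :
    (σ.poinc {i : Fin D.rank | J.testBit i} q : ℤ) =
      pe q (psum (stepL D.rank D.nroots c π J θ dT)) * σ.poinc {i : Fin D.rank | K.testBit i} q := by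
  simp only [stepB, band_iff, Nat.blt_eq, Nat.beq_eq, allLt_iff, bimp_iff, bor_iff, anyLt_iff,
    nonneg_iff, beq_iff_eq, isub_def] at hs
  obtain ⟨hθ, h1, h2, h3, h4⟩ := hs
  have hin : ∀ ρ : Fin D.nroots, inOB D.rank c J θ ρ = true ↔
      h.toRS.InO {i : Fin D.rank | J.testBit i} ⟨θ, hθ⟩ ρ := by
    intro ρ
    simp only [inOB, band_iff, allLt_iff, bor_iff, intBeq_iff, RS.InO, Set.mem_ofPred_eq]
    refine and_congr ⟨fun a i hi => (a i i.2).resolve_left hi, fun a i hi => ?_⟩ Iff.rfl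
    by_cases e : J.testBit i = true
    · exact Or.inl e
    · exact Or.inr (a ⟨i, hi⟩ e)
  have hA : ∀ (j : Fin D.rank) (r : Fin D.nroots), h.toRS.A j r = c.ca j r := fun j r => h.ca_eq j.2 r.2
  rw [RS.Sym.poinc_cert (σ := σ) (J := {i : Fin D.rank | J.testBit i}) (θ := ⟨θ, hθ⟩)
    (fun j => by simp only [Set.mem_ofPred_eq, hπI, (h3 j j.2).1])
    (Fin.ext (by rw [hπ]; exact h1)) (fun j hj => by rw [hA]; exact (h3 j j.2).2.1 hj)
    (fun ρ : Fin D.nroots => look dT 8 ρ) h2 (fun ρ hρ => by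
      rcases h4 ρ ρ.2 ((hin ρ).2 hρ) with e | ⟨j, hj, a1, a2, a3⟩
      · exact Or.inl (Fin.ext e)
      · exact Or.inr ⟨⟨j, hj⟩, a1, by rw [hA]; simp only; omega, a3⟩)
    (Finset.univ.filter fun ρ : Fin D.nroots => band (inOB D.rank c J θ ρ) (Nat.beq (π ρ) ρ))
    (fun ρ => by simp [hin, Fin.ext_iff, hπ]) q]
  have e : {j ∈ {i : Fin D.rank | J.testBit i} | h.toRS.A j ⟨θ, hθ⟩ = 0} = {i : Fin D.rank | K.testBit i} := by
    ext j
    simp only [Set.mem_ofPred_eq, (h3 j j.2).2.2, band_iff, intBeq_iff, hA]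
  rw [e, pe_psum, stepL]
  push_cast
  congr 1
  rw [Finset.sum_filter, Fin.sum_univ_eq_sum_range (fun ρ => if band (inOB D.rank c J θ ρ)
    (Nat.beq (π ρ) ρ) = true then (q : ℤ) ^ look dT 8 ρ else 0), List.map_map]
  generalize D.nroots = n
  induction n with
  | zero => simp
  | succ n ih =>
    rw [Finset.sum_range_succ, ih, List.range_succ, List.filter_append, List.map_append,
      List.sum_append]
    congr 1
    split_ifs with h5
    · rw [List.filter_cons_of_pos (by exact h5)]; simp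
    · rw [List.filter_cons_of_neg (by exact h5)]; simp

theorem chain_spec (σ : h.toRS.Sym) {π πI : ℕ → ℕ} (hπ : ∀ r, (σ.ρ r).val = π r)
    (hπI : ∀ i, (σ.ρI i).val = πI i) {L : List (ℕ × ℕ × ℕ)}
    (hs : chainB D.rank D.nroots c π πI L = true) (q : ℕ) :
    (σ.poinc {i : Fin D.rank | (headJ L).testBit i} q : ℤ) = pe q (pprod (chainP D.rank D.nroots c π L)) := by
  induction L with
  | nil => simp [headJ, RS.Sym.poinc_empty, chainP, pprod, pe]
  | cons x L ih =>
    simp only [chainB, band_iff] at hs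
    rw [show headJ (x :: L) = x.1 from rfl, h.step_spec σ hπ hπI hs.1, ih hs.2, pe_pprod, pe_pprod]
    simp [chainP]

theorem wp_smul (L : List (Fin D.rank)) (r : Fin D.nroots) :
    (wp h.toRS.s L • r).val = wact c (L.map Fin.val) r := by
  induction L with
  | nil => rfl
  | cons i L ih => rw [wp_cons, mul_smul, RS.s_smul]; exact congrArg (c.w i) ih

theorem orderOf_wp (L : List (Fin D.rank)) {m : ℕ}
    (hm : ordB D.rank D.simple c (L.map Fin.val) m = true) : orderOf (wp h.toRS.s L) = m := by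
  simp only [ordB, band_iff, Nat.blt_eq, Nat.beq_eq, allLt_iff, bimp_iff, bor_iff, anyLt_iff] at hm
  have key : ∀ (k : ℕ) (r : Fin D.nroots),
      (wp h.toRS.s L ^ k • r).val = (wact c (L.map Fin.val))^[k] r := by
    intro k
    induction k with
    | zero => simp
    | succ k ih => intro r; rw [pow_succ', mul_smul, wp_smul, ih, Function.iterate_succ_apply']
  refine RS.orderOf_eq hm.1 (fun i => Fin.ext (by rw [key]; exact hm.2.1 i i.2)) fun k hk hk0 => ?_
  obtain ⟨i, hi, e⟩ := (hm.2.2 k hk).resolve_left hk0.ne'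
  refine ⟨⟨i, hi⟩, fun e' => ?_⟩
  have := congrArg Fin.val e'
  rw [key] at this
  simpa using e this

theorem coxeterSystem (M : CoxeterMatrix (Fin D.rank))
    (hM : ∀ i j : Fin D.rank, ordB D.rank D.simple c [i.val, j.val] (M i j) = true) :
    ∃ cs : CoxeterSystem M h.toRS.W, ∀ i, cs.simple i = h.toRS.s i :=
  h.toRS.invGen.exists_coxeterSystem h.toRS.exchange M fun i j => by
    simpa using (h.orderOf_wp [i, j] (hM i j)).symm

end Checked

end Cfsg.Agent.Chev
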