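import Cfsg.Agent.Lib.Chev.Univ

set_option autoImplicit false
set_option linter.unusedSectionVars false
set_option linter.style.haveILetI false

/-! Root elements of square zero in an associative ring. -/

namespace Cfsg.Agent.Chev

section Ring
variable {A : Type*} [Ring A]

/-- the Weyl element of a pair of elements of square zero -/
def nn (a f : A) : A := 1 + a - f - a * f - f * a

theorem nn_swap (a f : A) : nn (-f) (-a) = nn a f := by simp only [nn]; noncomm_ring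

variable {a f y w : A} (ha : a * a = 0) (hf : f * f = 0) (haf : a * f * a = a) (hfa : f * a * f = f)
include ha hf haf hfa

theorem nn_eq : (1 + a) * (1 - f) * (1 + a) = nn a f := by
  simp only [nn]; linear_combination (norm := noncomm_ring) ha - haf
theorem nn_a : nn a f * a = -(f * a) := by
  simp only [nn]; linear_combination (norm := noncomm_ring) ha - haf - f * ha
theorem a_nn : a * nn a f = -(a * f) := by
  simp only [nn]; linear_combination (norm := noncomm_ring) ha - haf - ha * f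
theorem nn_f : nn a f * f = a * f := by
  simp only [nn]; linear_combination (norm := noncomm_ring) -hf - hfa - a * hf
theorem f_nn : f * nn a f = f * a := by
  simp only [nn]; linear_combination (norm := noncomm_ring) -hf - hfa - hf * a
theorem nn_inv : nn a f * nn f a = 1 := by
  have h1 := nn_a ha hf haf hfa
  have h2 := nn_f ha hf haf hfa
  conv_lhs => enter [2]; rw [nn]
  linear_combination (norm := (simp only [nn]; noncomm_ring)) h2 - h1 - h2 * a - h1 * f - haf + hfa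
theorem nn_sq : nn a f * nn a f = 1 - 2 * (a * f - f * a) ^ 2 := by
  have h1 := nn_a ha hf haf hfa
  have h2 := nn_f ha hf haf hfa
  conv_lhs => enter [2]; rw [nn]
  linear_combination (norm := (simp only [nn]; noncomm_ring)) h1 - h2 - h2 * a - h1 * f - haf + hfa + 2 * haf * f + 2 * hfa * a -
    2 * a * hf * a - 2 * f * ha * f
theorem h_cube : (a * f - f * a) ^ 3 = a * f - f * a := by
  have h1 : (a * f - f * a) ^ 2 = a * f + f * a := by
    linear_combination (norm := noncomm_ring) haf * f + hfa * a - a * hf * a - f * ha * f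
  rw [pow_succ, h1]
  linear_combination (norm := noncomm_ring) haf * f - hfa * a - a * hf * a + f * ha * f
theorem nn_one (h1 : a * y = y * a) (h2 : (a * f - f * a) * y - y * (a * f - f * a) = y) :
    nn a f * y = -(f * y - y * f) * nn a f := by
  have h3 : a * y = 0 := by
    linear_combination (norm := noncomm_ring) -a * h2 + ha * f * y - haf * y - h1 - ha * y * f + a * h1 * f + h1 * f * a + y * haf
  have h4 : f * y * f = 0 := by
    linear_combination (norm := noncomm_ring) f * h2 * f - hfa * y * f + hf * a * y * f + f * y * a * hf - f * y * hfa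
  have h5 : y * a = 0 := h1 ▸ h3
  simp only [nn]
  linear_combination (norm := noncomm_ring) -h2 + h3 - 2 * f * h3 - h5 * f + f * h5 - h4 - f * h5 * f - h4 * a + y * hf - y * hfa * 0 +
    y * hfa + y * hf * a
theorem nn_two (h : y = a * w * a) : nn a f * y = -(f * y * f) * nn a f := by
  rw [neg_mul, mul_assoc _ f, f_nn ha hf haf hfa, h, ← mul_assoc, ← mul_assoc, nn_a ha hf haf hfa]
  linear_combination (norm := noncomm_ring) f * a * w * haf
theorem nn_zero (h : y = a * w * a) : nn a f * (f * y - y * f) = -(f * y - y * f) * nn a f := by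
  have h1 := nn_a ha hf haf hfa
  have h2 := nn_f ha hf haf hfa
  have h3 := a_nn ha hf haf hfa
  have h4 := f_nn ha hf haf hfa
  subst h
  linear_combination (norm := noncomm_ring) h2 * a * w * a - h1 * w * a * f + f * a * w * h3 - a * w * a * h4 + haf * w * a - a * w * haf
theorem nn_h {c : ℤ} (h1 : y * a - a * y = c • a) (h2 : y * f - f * y = -(c • f)) :
    nn a f * y = (y - c • (a * f - f * a)) * nn a f := by
  have h3 := a_nn ha hf haf hfa
  have h4 := f_nn ha hf haf hfa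
  rw [sub_mul, smul_mul_assoc, sub_mul, mul_assoc a, h4, mul_assoc f, h3, nn]
  simp only [zsmul_eq_mul] at *
  have e : ∀ x : A, x * c = c * x := fun x => (Int.cast_commute c x).eq.symm
  linear_combination (norm := noncomm_ring) -h1 + h2 + h1 * f + a * h2 + h2 * a + f * h1 + c * haf + c * hfa - e a * f + e f * a
end Ring

variable {I R : Type} [Fintype I] [DecidableEq I] [Fintype R] [DecidableEq R]

/-- root elements of square zero -/
structure RS.QZ (Φ : RS I R) {A : Type*} [Ring A] (e : R → A) : Prop where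
  bd : ∀ r s, Φ.pair r s ≤ 2
  sq : ∀ r, e r * e r = 0
  tri : ∀ r, e r * e (Φ.neg r) * e r = e r
  he : ∀ r s, (e r * e (Φ.neg r) - e (Φ.neg r) * e r) * e s - e s * (e r * e (Φ.neg r) - e (Φ.neg r) * e r) = Φ.pair r s • e s
  br : ∀ r s, s ≠ Φ.neg r → e r * e s = e s * e r ∨ ∃ k, ∃ N : ℤ, Φ.rv k = Φ.rv r + Φ.rv s ∧ e r * e s - e s * e r = N • e k ∧
    N * N = if Φ.ln r < Φ.ln k ∧ Φ.ln s < Φ.ln k then 4 else 1
  tr : ∀ r s, s ≠ Φ.neg r → e r * e s * e r = 0 ∨ ∃ k, ∃ M : ℤ, Φ.rv k = 2 • Φ.rv r + Φ.rv s ∧ e r * e s * e r = M • e k ∧ M * M = 1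
  tf : ∀ r (n : ℤ), n • e r = 0 → n = 0

theorem RS.pair_comb {Φ : RS I R} {k a b : R} {i j : ℤ} (h : Φ.rv k = i • Φ.rv a + j • Φ.rv b) (r : R) :
    Φ.pair r k = i * Φ.pair r a + j * Φ.pair r b := by
  simp only [← Φ.pl_rv, h, map_add, map_zsmul, smul_eq_mul]

theorem RS.ln_add {Φ : RS I R} {k a b : R} (h : Φ.rv k = Φ.rv a + Φ.rv b) :
    Φ.ln k = Φ.ln a + Φ.ln b + Φ.ln a * Φ.pair a b := by
  have h1 := RS.pair_add h k
  have h2 := RS.pair_add h a
  have h3 := RS.pair_add h b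
  have h4 := Φ.ln_pair_symm k a
  have h5 := Φ.ln_pair_symm k b
  have h6 := Φ.ln_pair_symm a b
  rw [RS.pair_same] at h1 h2 h3
  rw [h2] at h4
  rw [h3] at h5
  have : 2 * Φ.ln k = 2 * (Φ.ln a + Φ.ln b + Φ.ln a * Φ.pair a b) := by linear_combination Φ.ln k * h1 + h4 + h5 - h6
  omega

namespace RS.QZ
variable {Φ : RS I R} {A : Type*} [Ring A] {e : R → A} (q : Φ.QZ e)
include q

theorem neg : Φ.QZ fun r => - e r where
  bd := q.bd
  sq r := by simp [q.sq]
  tri r := by simp [q.tri]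
  he r s := by rw [smul_neg]; linear_combination (norm := noncomm_ring) -q.he r s
  br r s h := (q.br r s h).imp (by simp) fun ⟨k, N, a, b, c⟩ => ⟨k, -N, a, by simpa using b, by simpa using c⟩
  tr r s h := (q.tr r s h).imp (by simp) fun ⟨k, N, a, b, c⟩ => ⟨k, N, a, by simpa using b, c⟩
  tf r n h := q.tf r n (by simpa using h)

theorem tri' (r : R) : e (Φ.neg r) * e r * e (Φ.neg r) = e (Φ.neg r) := by simpa [Φ.neg_neg] using q.tri (Φ.neg r)

theorem bd' (r s : R) : -2 ≤ Φ.pair r s := by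
  have := q.bd r (Φ.neg s)
  rw [Φ.pair_neg_right] at this
  omega

theorem comm_of_pos {r s : R} (h : 0 < Φ.pair r s) : e r * e s = e s * e r :=
  (q.br r s (by rintro rfl; simp [Φ.pair_neg_right, Φ.pair_same] at h)).resolve_right fun ⟨k, _, a, _⟩ => by
    have := q.bd r k
    rw [RS.pair_add a, Φ.pair_same] at this
    omega

theorem comm_of_neg {r s : R} (h : Φ.pair r s < 0) : e (Φ.neg r) * e s = e s * e (Φ.neg r) :=
  q.comm_of_pos (by rw [Φ.pair_neg_left]; omega)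

theorem not_comm {r s k : R} (h : Φ.rv k = Φ.rv r + Φ.rv s) : e r * e s ≠ e s * e r := fun h1 => by
  have h2 := RS.pair_add h r
  rw [Φ.pair_same] at h2
  rcases (q.bd' r s).eq_or_lt with h3 | h3
  · have h4 := q.comm_of_neg (r := r) (s := s) (by omega)
    have := q.tf s (Φ.pair r s) (by
      linear_combination (norm := noncomm_ring) -q.he r s + e r * h4 + h1 * e (Φ.neg r) - e (Φ.neg r) * h1 - h4 * e r)
    omega
  have h4 := q.comm_of_pos (r := r) (s := k) (by omega)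
  have h5 : e r * (e (Φ.neg r) * e k - e k * e (Φ.neg r)) = (e (Φ.neg r) * e k - e k * e (Φ.neg r)) * e r := by
    rcases q.br (Φ.neg r) k (by rw [Φ.neg_neg]; rintro rfl; exact Φ.rv_ne_zero s (by simpa using h)) with a | ⟨k', N, a, b, -⟩
    · simp [a]
    · rw [b, Φ.rv_inj (show Φ.rv k' = Φ.rv s by rw [a, h, Φ.rv_neg]; abel), mul_smul_comm, smul_mul_assoc, h1]
  have := q.tf k (Φ.pair r k) (by
    linear_combination (norm := noncomm_ring) -q.he r k + h5 + h4 * e (Φ.neg r) - e (Φ.neg r) * h4)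
  omega

theorem tr_ne {r s k : R} (h : Φ.rv k = 2 • Φ.rv r + Φ.rv s) : e r * e s * e r ≠ 0 := fun h1 => by
  have h2 := RS.pair_comb (j := 1) (i := 2) (by simpa using h) r
  have h3 := q.bd r k
  have h4 := q.bd' r s
  rw [Φ.pair_same] at h2
  have h5 := q.comm_of_neg (r := r) (s := s) (by omega)
  have h6 := q.he r s
  rw [show Φ.pair r s = -2 by omega] at h6
  have h7 := q.tri r
  have h8 := q.tri' r
  have h9 := q.sq r
  have h0 := q.sq (Φ.neg r)
  suffices (4 : ℤ) • e s = 0 by simpa using q.tf s 4 this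
  generalize e r = a, e (Φ.neg r) = f, e s = y at *
  have b1 : 2 * (f * y) = 0 := by
    linear_combination (norm := noncomm_ring) f * h6 - h8 * y + h0 * a * y + h5 * a * f + y * h8 - h5 * f * a - y * h0 * a - h5
  have b2 : f * a * y + f * y * a = 0 := by
    linear_combination (norm := noncomm_ring) f * a * h6 - f * h9 * f * y + f * h7 * y + f * h1 * f + f * a * h5 * a - h8 * y * a
  have b3 : y * a * f + a * f * y = 0 := by
    linear_combination (norm := noncomm_ring) h6 * a * f - a * h5 * a * f - a * y * h8 + f * h1 * f + y * h7 * f - y * f * h9 * f + a * h5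
  linear_combination (norm := noncomm_ring) 2 * h6 + 2 * b2 + 2 * b3 - 2 * a * b1 - 2 * b1 * a + 2 * h5 * a

/-- conjugation by the Weyl elements -/
theorem nn_pos {r s k : R} (h1 : s ≠ r) (h : 0 ≤ Φ.pair r s) (hk : Φ.rv k = Φ.rv s - Φ.pair r s • Φ.rv r)
    (hl : Φ.ln k = Φ.ln s) : ∃ η : ℤ, η * η = 1 ∧ nn (e r) (e (Φ.neg r)) * e s = η • e k * nn (e r) (e (Φ.neg r)) := by
  have a1 := q.sq r
  have a2 := q.sq (Φ.neg r)
  have a3 := q.tri r
  have a4 := q.tri' r
  have a5 : ∀ {s k}, Φ.pair r s = 2 → s ≠ r → Φ.rv k = Φ.rv s - 2 • Φ.rv r → ∃ w, e s = e r * w * e r := fun {s k} b1 b2 b3 => by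
    have b4 : Φ.rv s = 2 • Φ.rv r + Φ.rv k := by rw [b3]; abel
    obtain ⟨k', M, c1, c2, c3⟩ := (q.tr r k (by
      rintro rfl; exact b2 (Φ.rv_inj (by rw [b4, Φ.rv_neg]; abel)))).resolve_left (q.tr_ne b4)
    obtain rfl := Φ.rv_inj (c1.trans b4.symm)
    exact ⟨M • e k, by rw [mul_smul_comm, smul_mul_assoc, c2, smul_smul, c3, one_smul]⟩
  have a6 : s ≠ Φ.neg (Φ.neg r) := by rwa [Φ.neg_neg]
  obtain b | b | b : Φ.pair r s = 0 ∨ Φ.pair r s = 1 ∨ Φ.pair r s = 2 := by have := q.bd r s; omega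
  · obtain rfl : k = s := Φ.rv_inj (by simpa [b] using hk)
    obtain ⟨w, hw⟩ := RS.exists_refl (Φ := Φ) r
    by_cases c : ∃ k', Φ.rv k' = Φ.rv r + Φ.rv k
    · obtain ⟨k', c⟩ := c
      have c1 : Φ.pair r k' = 2 := by rw [RS.pair_add c, b, Φ.pair_same, add_zero]
      have c2 : k' ≠ r := by rintro rfl; exact Φ.rv_ne_zero k (by simpa using c)
      obtain ⟨v, c3⟩ := a5 c1 c2 (k := w • k') (by rw [hw, c1]; rfl)
      have c4 : Φ.rv k = Φ.rv (Φ.neg r) + Φ.rv k' := by rw [c, Φ.rv_neg]; abel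
      obtain ⟨k'', N, c5, c6, c7⟩ := (q.br _ k' (by rwa [Φ.neg_neg])).resolve_left (q.not_comm c4)
      obtain rfl := Φ.rv_inj (c5.trans c4.symm)
      have c8 := RS.ln_add c
      have c9 := Φ.ln_pos r
      rw [if_neg (by rw [b] at c8; omega)] at c7
      have := congrArg (N • ·) (nn_zero a1 a2 a3 a4 c3)
      simp only [c6, mul_smul_comm, neg_mul, smul_mul_assoc, smul_neg, smul_smul, c7, one_smul] at this
      exact ⟨-1, by simp, by simpa using this⟩
    have c1 := (q.br r k (by rintro rfl; simp [Φ.pair_neg_right, Φ.pair_same] at b)).resolve_right fun ⟨k', _, d, _⟩ => c ⟨k', d⟩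
    have c2 := (q.br _ k a6).resolve_right fun ⟨k', _, d, _⟩ => c ⟨w • k', by
      rw [hw, RS.pair_add d, Φ.pair_neg_right, Φ.pair_same, b, d, Φ.rv_neg]; module⟩
    refine ⟨1, by simp, ?_⟩
    rw [nn]
    linear_combination (norm := noncomm_ring) c1 - c2 - e r * c2 - c1 * e (Φ.neg r) - e (Φ.neg r) * c1 - c2 * e r
  · have c1 : Φ.rv k = Φ.rv (Φ.neg r) + Φ.rv s := by rw [hk, b, Φ.rv_neg]; abel
    obtain ⟨k', N, c2, c3, c4⟩ := (q.br _ s a6).resolve_left (q.not_comm c1)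
    obtain rfl := Φ.rv_inj (c2.trans c1.symm)
    rw [if_neg (by omega)] at c4
    exact ⟨-N, by simpa, by rw [nn_one a1 a2 a3 a4 (q.comm_of_pos (by omega)) (by rw [q.he, b, one_smul]), c3, _root_.neg_smul]⟩
  · obtain ⟨v, c⟩ := a5 b h1 (k := k) (by rw [hk, b]; rfl)
    have c1 : Φ.rv k = 2 • Φ.rv (Φ.neg r) + Φ.rv s := by rw [hk, b, Φ.rv_neg]; module
    obtain ⟨k', N, c2, c3, c4⟩ := (q.tr _ s a6).resolve_left (q.tr_ne c1)
    obtain rfl := Φ.rv_inj (c2.trans c1.symm)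
    exact ⟨-N, by simpa, by rw [nn_two a1 a2 a3 a4 c, c3, _root_.neg_smul]⟩

/-- the Weyl element of a simple root -/
def _root_.Cfsg.Agent.Chev.RS.nq (Φ : RS I R) (e : R → A) (i : I) : A := nn (e (Φ.sim i)) (e (Φ.neg (Φ.sim i)))

/-- the coroot elements -/
def _root_.Cfsg.Agent.Chev.RS.hq (Φ : RS I R) (e : R → A) (r : R) : A := e r * e (Φ.neg r) - e (Φ.neg r) * e r

theorem nq_sim (i : I) : Φ.nq e i * e (Φ.sim i) = -e (Φ.neg (Φ.sim i)) * Φ.nq e i := by
  rw [RS.nq, nn_a (q.sq _) (q.sq _) (q.tri _) (q.tri' _), neg_mul, f_nn (q.sq _) (q.sq _) (q.tri _) (q.tri' _)]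

theorem exists_η (i : I) (s : R) : ∃ η : ℤ, η * η = 1 ∧ Φ.nq e i * e s = η • e (Φ.rf i s) * Φ.nq e i := by
  have h1 : Φ.rv (Φ.rf i s) = Φ.rv s - Φ.pair (Φ.sim i) s • Φ.rv (Φ.sim i) := by
    rw [Φ.rv_rf, Φ.rv_sim, Φ.pair_sim, ← Pi.single_smul, smul_eq_mul, mul_one]
  by_cases h2 : s = Φ.sim i
  · exact ⟨-1, by simp, by rw [h2, q.nq_sim, Φ.rf_sim, neg_one_smul]⟩
  by_cases h3 : s = Φ.neg (Φ.sim i)
  · exact ⟨-1, by simp, by rw [h3, Φ.rf_neg_sim, RS.nq, nn_f (q.sq _) (q.sq _) (q.tri _) (q.tri' _), neg_one_smul, neg_mul,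
      a_nn (q.sq _) (q.sq _) (q.tri _) (q.tri' _), _root_.neg_neg]⟩
  rcases le_total 0 (Φ.pair (Φ.sim i) s) with h | h
  · exact q.nn_pos h2 h h1 (Φ.ln_rf i s)
  · obtain ⟨η, a, b⟩ := q.neg.nn_pos h3 (by rw [Φ.pair_neg_left]; omega) (k := Φ.rf i s)
      (by rw [h1, Φ.pair_neg_left, Φ.rv_neg]; simp) (Φ.ln_rf i s)
    exact ⟨η, a, by simpa [Φ.neg_neg, nn_swap, RS.nq] using b⟩

theorem nq_inv (i : I) : Φ.nq e i * nn (e (Φ.neg (Φ.sim i))) (e (Φ.sim i)) = 1 := nn_inv (q.sq _) (q.sq _) (q.tri _) (q.tri' _)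

theorem eq_zero_of_nq {i : I} {r : R} {n : ℤ} (h : n • e r * Φ.nq e i = 0) : n = 0 :=
  q.tf r n (by simpa [mul_assoc, q.nq_inv] using congrArg (· * nn (e (Φ.neg (Φ.sim i))) (e (Φ.sim i))) h)

/-- the signs -/
noncomputable def η (i : I) (s : R) : ℤ := (q.exists_η i s).choose
theorem η_sq (i : I) (s : R) : q.η i s * q.η i s = 1 := (q.exists_η i s).choose_spec.1
theorem nq_e (i : I) (s : R) : Φ.nq e i * e s = q.η i s • e (Φ.rf i s) * Φ.nq e i := (q.exists_η i s).choose_spec.2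

theorem η_sim (i : I) : q.η i (Φ.sim i) = -1 := by
  have := q.eq_zero_of_nq (i := i) (r := Φ.neg (Φ.sim i)) (n := q.η i (Φ.sim i) + 1) (by
    rw [add_smul, add_mul, ← Φ.rf_sim, ← q.nq_e, q.nq_sim, Φ.rf_sim]; simp)
  omega

theorem η_neg (i : I) (r : R) : q.η i (Φ.neg r) = q.η i r := by
  have h := q.nq_e i r
  have h' := q.nq_e i (Φ.neg r)
  have h1 := h
  rw [← q.tri r, ← mul_assoc, ← mul_assoc, h, mul_assoc _ (Φ.nq e i), h', ← mul_assoc, mul_assoc _ (Φ.nq e i), h, ← mul_assoc,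
    Φ.rf_neg, smul_mul_smul_comm, smul_mul_smul_comm, q.tri, mul_right_comm, q.η_sq, one_mul, ← sub_eq_zero, ← sub_mul, ← sub_smul] at h1
  have := q.eq_zero_of_nq h1
  omega

theorem η_rf (i : I) (r : R) : q.η i r * q.η i (Φ.rf i r) = (-1) ^ (Φ.A i r).natAbs := by
  have h1 : Φ.nq e i * Φ.nq e i * e r = (q.η i r * q.η i (Φ.rf i r)) • e r * (Φ.nq e i * Φ.nq e i) := by
    rw [mul_assoc, q.nq_e, smul_mul_assoc, mul_smul_comm, ← mul_assoc, q.nq_e, Φ.rf_rf]; simp [mul_smul, mul_assoc]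
  have h2 := q.he (Φ.sim i) r
  have h3 := h_cube (q.sq _) (q.sq _) (q.tri (Φ.sim i)) (q.tri' _)
  have h4 := q.bd (Φ.sim i) r
  have h5 := q.bd' (Φ.sim i) r
  rw [RS.nq, nn_sq (q.sq _) (q.sq _) (q.tri _) (q.tri' _)] at h1
  rw [Φ.pair_sim] at h2 h4 h5
  suffices (12 * (q.η i r * q.η i (Φ.rf i r) - (-1) ^ (Φ.A i r).natAbs) : ℤ) • e r = 0 by have := q.tf r _ this; omega
  generalize e (Φ.sim i) * e (Φ.neg (Φ.sim i)) - e (Φ.neg (Φ.sim i)) * e (Φ.sim i) = h, e r = y, q.η i r * q.η i (Φ.rf i r) = c,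
    Φ.A i r = a at *
  have h6 : (1 - 2 * h ^ 2) * (1 - 2 * h ^ 2) = 1 := by linear_combination (norm := noncomm_ring) 4 * h3 * h
  suffices (12 : ℤ) • ((1 - 2 * h ^ 2) * y) = (12 * (-1) ^ a.natAbs : ℤ) • y * (1 - 2 * h ^ 2) by
    have := congrArg (· * (1 - 2 * h ^ 2)) this
    simp only [h1, smul_mul_assoc, mul_assoc, h6, mul_one, smul_smul] at this
    rw [mul_sub, sub_smul, this, sub_self]
  have h7 : h * y = y * (h + a) := by rw [mul_add, ← Int.cast_comm, ← zsmul_eq_mul, ← h2]; abel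
  have h8 : h ^ 2 * y = y * (h + a) ^ 2 := by rw [pow_two, mul_assoc, h7, ← mul_assoc, h7, mul_assoc, pow_two]
  have h9 : y * ((h + a) ^ 3 - (h + a)) = 0 := by
    rw [mul_sub, ← h7, pow_succ, ← mul_assoc, ← h8, mul_assoc, ← h7, ← mul_assoc, ← pow_succ, h3, sub_self]
  interval_cases a <;> norm_num only [Int.natAbs_neg, Int.natAbs_ofNat', Int.natAbs_one, Int.natAbs_zero] <;> push_cast at h8 h9
  · linear_combination (norm := noncomm_ring) -24 * h8 + 8 * h9 * (h + 2) - 8 * y * h3 * (h - 4)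
  · linear_combination (norm := noncomm_ring) -24 * h8 + 16 * h9 - 16 * y * h3
  · linear_combination (norm := noncomm_ring) -24 * h8
  · linear_combination (norm := noncomm_ring) -24 * h8 - 16 * h9 + 16 * y * h3
  · linear_combination (norm := noncomm_ring) -24 * h8 + 8 * h9 * (h - 2) - 8 * y * h3 * (h + 4)

theorem nq_hq (i : I) (r : R) : Φ.nq e i * Φ.hq e r = (Φ.hq e r - Φ.pair r (Φ.sim i) • Φ.hq e (Φ.sim i)) * Φ.nq e i :=
  nn_h (q.sq _) (q.sq _) (q.tri _) (q.tri' _) (q.he _ _) ((q.he _ _).trans (by rw [Φ.pair_neg_right, _root_.neg_smul]))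

theorem hq_eq (r : R) : Φ.hq e r = ∑ j, Φ.cv r j • Φ.hq e (Φ.sim j) := by
  induction r using RS.root_induction (Φ := Φ) with
  | h1 i => simp [Φ.cv_sim, Pi.single_apply, ite_smul]
  | h2 i r ih =>
    have h1 : Φ.nq e i * Φ.hq e r = Φ.hq e (Φ.rf i r) * Φ.nq e i := by
      simp only [RS.hq, mul_sub, sub_mul, ← mul_assoc, q.nq_e]
      simp only [mul_assoc _ (Φ.nq e i), q.nq_e, q.η_neg, Φ.rf_neg, ← mul_assoc, smul_mul_smul_comm, q.η_sq, one_smul]
    have := congrArg (· * nn (e (Φ.neg (Φ.sim i))) (e (Φ.sim i))) (h1.symm.trans (q.nq_hq i r))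
    simp only [mul_assoc, q.nq_inv, mul_one] at this
    rw [this, ih, Φ.cv_rf]
    simp [sub_smul, Finset.sum_sub_distrib, Pi.single_apply, ite_smul]

end RS.QZ

end Cfsg.Agent.Chev
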