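import Cfsg.Agent.Lib.Chev.QR
import Cfsg.Agent.Lib.Chev.CT3

set_option autoImplicit false
set_option linter.unusedSectionVars false
set_option linter.style.haveILetI false

/-! Chevalley data from root elements of square zero. -/

namespace Cfsg.Agent.Chev

variable {I R : Type} [Fintype I] [DecidableEq I] [Fintype R] [DecidableEq R]

open Classical in
/-- the root with given coordinates, as a list -/
noncomputable def RS.rt (Φ : RS I R) (v : I → ℤ) : List R := if h : ∃ k, Φ.rv k = v then [h.choose] else []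

theorem RS.rt_eq {Φ : RS I R} {v : I → ℤ} {k : R} (h : Φ.rv k = v) : Φ.rt v = [k] := by
  rw [RS.rt, dif_pos ⟨k, h⟩, Φ.rv_inj ((Exists.choose_spec (⟨k, h⟩ : ∃ k, Φ.rv k = v)).trans h.symm)]

theorem RS.rt_nil {Φ : RS I R} {v : I → ℤ} (h : ∀ k, Φ.rv k ≠ v) : Φ.rt v = [] := dif_neg fun ⟨k, a⟩ => h k a

theorem RS.rv_of_mem_rt {Φ : RS I R} {v : I → ℤ} {k : R} (h : k ∈ Φ.rt v) : Φ.rv k = v := by
  by_cases a : ∃ k, Φ.rv k = v
  · obtain ⟨k', a⟩ := a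
    rw [RS.rt_eq a, List.mem_singleton] at h
    rwa [h]
  · simp [RS.rt_nil (not_exists.1 a)] at h

namespace RS.QZ
variable {Φ : RS I R} {A : Type*} [Ring A] {e : R → A} (q : Φ.QZ e)
include q

theorem exists_N (r s : R) : ∃ N : ℤ, ∀ k, Φ.rv k = Φ.rv r + Φ.rv s → e r * e s - e s * e r = N • e k ∧
    N * N = if Φ.ln r < Φ.ln k ∧ Φ.ln s < Φ.ln k then 4 else 1 := by
  by_cases h : ∃ k, Φ.rv k = Φ.rv r + Φ.rv s
  · obtain ⟨k, h⟩ := h
    obtain ⟨k', N, a, b⟩ := (q.br r s (by rintro rfl; exact Φ.rv_ne_zero k (by simpa [Φ.rv_neg] using h))).resolve_left (q.not_comm h)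
    exact ⟨N, fun k c => by rwa [Φ.rv_inj (c.trans a.symm)]⟩
  · exact ⟨0, fun k a => absurd ⟨k, a⟩ h⟩

theorem exists_M (r s : R) : ∃ M : ℤ, ∀ k, Φ.rv k = 2 • Φ.rv r + Φ.rv s → e r * e s * e r = M • e k ∧ M * M = 1 := by
  by_cases h' : s = Φ.neg r
  · exact ⟨1, fun k a => by simp [h', q.tri, Φ.rv_inj (show Φ.rv k = Φ.rv r by rw [a, h', Φ.rv_neg]; abel)]⟩
  by_cases h : ∃ k, Φ.rv k = 2 • Φ.rv r + Φ.rv s
  · obtain ⟨k, h⟩ := h
    obtain ⟨k', N, a, b⟩ := (q.tr r s h').resolve_left (q.tr_ne h)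
    exact ⟨N, fun k c => by rwa [Φ.rv_inj (c.trans a.symm)]⟩
  · exact ⟨0, fun k a => absurd ⟨k, a⟩ h⟩

/-- structure constants -/
noncomputable def N (r s : R) : ℤ := (q.exists_N r s).choose
/-- structure constants -/
noncomputable def M (r s : R) : ℤ := (q.exists_M r s).choose

/-- the commutator terms -/
noncomputable def ct (r s : R) : List (R × ℤ × ℕ × ℕ) := (Φ.rt (Φ.rv r + Φ.rv s)).map (·, q.N r s, 1, 1) ++
  ((Φ.rt (2 • Φ.rv r + Φ.rv s)).map (·, -q.M r s, 2, 1) ++ (Φ.rt (2 • Φ.rv s + Φ.rv r)).map (·, -q.M s r, 1, 2))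

theorem N_sq {r s k : R} (h : Φ.rv k = Φ.rv r + Φ.rv s) :
    q.N r s * q.N r s = if Φ.ln r < Φ.ln k ∧ Φ.ln s < Φ.ln k then 4 else 1 := ((q.exists_N r s).choose_spec k h).2
theorem M_sq {r s k : R} (h : Φ.rv k = 2 • Φ.rv r + Φ.rv s) : q.M r s * q.M r s = 1 := ((q.exists_M r s).choose_spec k h).2
theorem N_eq {r s k : R} (h : Φ.rv k = Φ.rv r + Φ.rv s) : e r * e s - e s * e r = q.N r s • e k := ((q.exists_N r s).choose_spec k h).1
theorem M_eq {r s k : R} (h : Φ.rv k = 2 • Φ.rv r + Φ.rv s) : e r * e s * e r = q.M r s • e k := ((q.exists_M r s).choose_spec k h).1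

theorem pair_of_two {r s k : R} (h : Φ.rv k = 2 • Φ.rv r + Φ.rv s) : Φ.pair r s = -2 := by
  have h2 := RS.pair_comb (j := 1) (i := 2) (by simpa using h) r
  have h3 := q.bd r k
  have h4 := q.bd' r s
  rw [Φ.pair_same] at h2
  omega

theorem witIn {i j : I} (h : Φ.A j (Φ.sim i) < 0) {p : R} (hp : p = Φ.sim i ∨ p = Φ.neg (Φ.sim i)) :
    ∃ (a b : R) (f : I → ℤ) (L₁ L₂ : List (R × ℤ × ℕ × ℕ)) (c : ℤ) (n : ℕ), Φ.InJ {i, j} a ∧ Φ.InJ {i, j} b ∧ b ≠ a ∧ 0 < Φ.fn f a ∧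
    0 < Φ.fn f b ∧ q.ct a b = L₁ ++ (p, c, n, 1) :: L₂ ∧ c * c = 1 ∧ (∀ c ∈ L₁, c.1 ≠ p) ∧ ∀ c ∈ L₂, c.1 ≠ p := by
  have h0 : i ≠ j := by rintro rfl; simp [Φ.A_self] at h
  obtain ⟨a, a1, a2, a3, a4⟩ : ∃ a, Φ.InJ {i, j} a ∧ 0 < Φ.pair a p ∧ Φ.rv (Φ.rf j p) = Φ.rv p - Φ.pair a p • Φ.rv a ∧ p ≠ a := by
    have b := RS.inJ_sim (Φ := Φ) (J := {i, j}) (j := j).2 (by simp)
    rcases hp with rfl | rfl
    · exact ⟨_, b.neg, by rw [Φ.pair_neg_left, Φ.pair_sim]; omega, by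
        simp [Φ.rv_rf, Φ.pair_neg_left, Φ.pair_sim, Φ.rv_neg, Φ.rv_sim, ← Pi.single_smul], fun c => Φ.not_pos_neg_sim j (c ▸ Φ.pos_sim i)⟩
    · exact ⟨_, b, by rw [Φ.pair_neg_right, Φ.pair_sim]; omega, by
        simp [Φ.rv_rf, Φ.pair_sim, Φ.rv_sim, ← Pi.single_smul], fun c => Φ.not_pos_neg_sim i (c ▸ Φ.pos_sim j)⟩
  have a5 : Φ.InJ {i, j} (Φ.rf j p) := by
    have b := RS.inJ_sim (Φ := Φ) (J := {i, j}) (j := i).2 (by simp)
    exact (show Φ.InJ {i, j} p by rcases hp with rfl | rfl; exacts [b, b.neg]).smul (RS.s_mem_WJ (j := j) (by simp))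
  have a6 : Φ.pair a (Φ.rf j p) = -Φ.pair a p := by
    rw [RS.pair_comb (k := Φ.rf j p) (a := p) (b := a) (i := 1) (j := -Φ.pair a p) (by rw [a3]; module), Φ.pair_same]; ring
  have a7 : Φ.rf j p ≠ a := fun c => by rw [c, Φ.pair_same] at a6; omega
  have a8 : Φ.rf j p ≠ Φ.neg a := fun c => a4 (Φ.rv_inj (by
    rw [c, Φ.pair_neg_right, Φ.pair_same, _root_.neg_inj] at a6
    rw [c, ← a6, Φ.rv_neg] at a3
    linear_combination -a3))
  obtain ⟨f, b1, b2⟩ := RS.exists_fn_pos a8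
  have b3 := Φ.rv_ne_zero a
  have b4 := Φ.rv_ne_zero (Φ.rf j p)
  obtain c | c : Φ.pair a p = 1 ∨ Φ.pair a p = 2 := by have := q.bd a p; omega
  · have d : Φ.rv p = Φ.rv a + Φ.rv (Φ.rf j p) := by rw [a3, c]; module
    refine ⟨a, _, f, [], (Φ.rt (2 • _ + _)).map _ ++ (Φ.rt (2 • _ + _)).map _, _, 1, a1, a5, a7, b1, b2, by rw [ct, RS.rt_eq d]; rfl, by
      rw [q.N_sq d, Φ.ln_rf, if_neg (by simp)], by simp, ?_⟩
    simp only [List.mem_append, List.mem_map]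
    rintro _ (⟨k, g, rfl⟩ | ⟨k, g, rfl⟩) (rfl : k = p) <;> replace g := RS.rv_of_mem_rt g
    exacts [b3 (by linear_combination d - g), b4 (by linear_combination d - g)]
  · have d : Φ.rv p = 2 • Φ.rv a + Φ.rv (Φ.rf j p) := by rw [a3, c]; module
    refine ⟨a, _, f, (Φ.rt (Φ.rv a + _)).map _, (Φ.rt (2 • Φ.rv (Φ.rf j p) + _)).map _, _, 2, a1, a5, a7, b1, b2, by rw [ct, RS.rt_eq d]; rfl, by simp [q.M_sq d], ?_, ?_⟩ <;>
      simp only [List.mem_map] <;> rintro _ ⟨k, g, rfl⟩ (rfl : k = p) <;> replace g := RS.rv_of_mem_rt g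
    exacts [b3 (by linear_combination g - d), a7 (Φ.rv_inj (by linear_combination d - g))]

/-- the Chevalley datum -/
noncomputable abbrev cd (hc : ∀ i, ∃ j, Φ.A j (Φ.sim i) < 0) : CD I R where
  toRS := Φ
  ct := q.ct
  η := q.η
  ct_rv r s c h := by
    simp only [ct, List.mem_append, List.mem_map] at h
    rcases h with ⟨k, h, rfl⟩ | ⟨k, h, rfl⟩ | ⟨k, h, rfl⟩ <;> simp [RS.rv_of_mem_rt h, add_comm]
  η_sq := q.η_sq
  η_neg := q.η_neg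
  η_sim := q.η_sim
  η_rf := q.η_rf
  wit i := by
    obtain ⟨j, h⟩ := hc i
    obtain ⟨a, b, f, L, L', c, n, -, -, h1⟩ := q.witIn h (.inl rfl)
    obtain ⟨a', b', f', K, K', c', n', -, -, h2⟩ := q.witIn h (.inr rfl)
    exact ⟨⟨a, b, f, L, L', c, n, h1⟩, a', b', f', K, K', c', n', h2⟩

variable (hc : ∀ i, ∃ j, Φ.A j (Φ.sim i) < 0)

theorem wit2 : (q.cd hc).Wit2 := fun i b => (hc i).imp fun _ h => q.witIn h (by cases b; exacts [.inr rfl, .inl rfl])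

theorem ct_nil {r s : R} (h0 : s ≠ Φ.neg r) (h : ∀ k, Φ.rv k ≠ Φ.rv r + Φ.rv s) : (q.cd hc).ct r s = [] := by
  have a : ∀ {r s}, s ≠ Φ.neg r → (∀ k, Φ.rv k ≠ Φ.rv r + Φ.rv s) → ∀ k, Φ.rv k ≠ 2 • Φ.rv r + Φ.rv s := fun {r s} h0 h k b =>
    q.tr_ne b (by rw [(q.br r s h0).resolve_right fun ⟨k, _, a, _⟩ => h k a, mul_assoc, q.sq, mul_zero])
  change q.ct r s = _
  rw [ct, RS.rt_nil h, RS.rt_nil (a h0 h), RS.rt_nil (a (r := s) (s := r) (fun b => h0 (by rw [b, Φ.neg_neg])) (by simpa [add_comm] using h))]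
  rfl

theorem cz {r s : R} (h0 : s ≠ Φ.neg r) (h : ∀ k, Φ.rv k ≠ Φ.rv r + Φ.rv s) (p : ℕ) : (q.cd hc).Cz p r s :=
  .inr ⟨h0, by rw [q.ct_nil hc h0 h]; simp⟩

theorem cz_of_pos {r s : R} (h : 0 < Φ.pair r s) (p : ℕ) : (q.cd hc).Cz p r s :=
  q.cz hc (by rintro rfl; simp [Φ.pair_neg_right, Φ.pair_same] at h) (fun _ a => q.not_comm a (q.comm_of_pos h)) p

theorem ct_one {r s k : R} (h : Φ.rv k = Φ.rv r + Φ.rv s) (h1 : Φ.pair r s ≠ -2) (h2 : Φ.pair s r ≠ -2) :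
    (q.cd hc).ct r s = [(k, q.N r s, 1, 1)] := by
  change q.ct r s = _
  rw [ct, RS.rt_eq h, RS.rt_nil fun k a => h1 (q.pair_of_two a), RS.rt_nil fun k a => h2 (q.pair_of_two a)]
  rfl

theorem ct_two (hΦ : Φ.Good) {r s k k' : R} (h : Φ.rv k = Φ.rv r + Φ.rv s) (h1 : Φ.rv k' = 2 • Φ.rv r + Φ.rv s) :
    (q.cd hc).ct r s = [(k, q.N r s, 1, 1), (k', -q.M r s, 2, 1)] := by
  have a := q.pair_of_two h1
  have b := hΦ.str r (Φ.neg s) (by rw [Φ.pair_neg_right]; omega) (by rintro rfl; exact Φ.rv_ne_zero k (by simpa [Φ.rv_neg] using h))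
  rw [Φ.pair_neg_right, Φ.pair_neg_left] at b
  change q.ct r s = _
  rw [ct, RS.rt_eq h, RS.rt_eq h1, RS.rt_nil fun k c => by have := q.pair_of_two (r := s) (s := r) (k := k) c; omega]
  rfl

theorem one {r s k : R} (h : Φ.rv k = Φ.rv r + Φ.rv s) (h1 : Φ.ln r = Φ.ln k) (h2 : Φ.ln s = Φ.ln k) : (q.cd hc).One r s k := by
  have a := RS.ln_add h
  have b := Φ.ln_pair_symm r s
  have c := Φ.ln_pos k
  rw [h1, h2] at a b
  have d : Φ.pair r s = -1 := by nlinarith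
  have d' : Φ.pair s r = -1 := by nlinarith
  have g := q.N_sq h
  rw [if_neg (by omega), mul_self_eq_one_iff] at g
  refine ⟨by rintro rfl; simp [Φ.pair_same] at d, fun (e : s = Φ.neg r) =>
    Φ.rv_ne_zero k (by simpa [e, Φ.rv_neg] using h), ?_⟩
  rw [q.ct_one hc h (by omega) (by omega)]
  exact g.imp (by rintro e; rw [e]) (by rintro e; rw [e])

end RS.QZ

end Cfsg.Agent.Chev
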