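import Cfsg.Agent.Lib.Chev.QR2

set_option autoImplicit false
set_option linter.unusedSectionVars false
set_option linter.style.haveILetI false

/-! Chevalley groups from root elements of square zero. -/

namespace Cfsg.Agent.Chev

variable {I R : Type} [Fintype I] [DecidableEq I] [Fintype R] [DecidableEq R]

theorem comm_ring_aux {B : Type*} [Ring B] {a b : B} (ha : a * a = 0) (hb : b * b = 0) (h : a * b * a = 0 ∨ b * a * b = 0) :
    (1 + b) * (1 + a) = (1 + a) * (1 + b) * ((1 - (a * b - b * a)) * ((1 - a * b * a) * (1 + b * a * b))) := by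
  have h1 : (1 - (a * b - b * a)) * ((1 - a * b * a) * (1 + b * a * b)) = 1 - (a * b - b * a) - a * b * a + b * a * b := by
    rcases h with h | h
    · simp only [h, sub_zero, one_mul]; linear_combination (norm := noncomm_ring) -a * hb * a * b + b * h * b
    · simp only [h, add_zero, mul_one]; linear_combination (norm := noncomm_ring) a * h * a - b * ha * b * a
  have h2 : b * a * b * a = 0 := by
    rcases h with h | h
    exacts [by rw [mul_assoc, mul_assoc, ← mul_assoc a, h, mul_zero], by rw [h, zero_mul]]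
  have h3 : (1 + b) * (1 - (a * b - b * a) - a * b * a + b * a * b) = 1 + b - (a * b - b * a) - a * b * a := by
    linear_combination (norm := noncomm_ring) hb * a - h2 + hb * a * b
  rw [h1, mul_assoc, h3]
  linear_combination (norm := noncomm_ring) ha * b + ha * b * a

/-- an algebra representation of root elements with independent coroots -/
structure QA {Φ : RS I R} {A : Type*} [Ring A] {e : R → A} (q : Φ.QZ e) (F B : Type*) [Field F] [Ring B] [Algebra F B] where
  φ : A →+* B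
  good : Φ.Good
  hc : ∀ i, ∃ j, Φ.A j (Φ.sim i) < 0
  ind : LinearIndependent F fun i => φ (Φ.hq e (Φ.sim i))

namespace QA
variable {Φ : RS I R} {A : Type*} [Ring A] {e : R → A} {q : Φ.QZ e} {F B : Type*} [Field F] [Ring B] [Algebra F B] (D : QA q F B)

/-- the root elements -/
def ee (r : R) : B := D.φ (e r)
/-- the Chevalley basis -/
def bv : I ⊕ R → B := Sum.elim (fun i => Φ.hq D.ee (Φ.sim i)) D.ee

theorem φ_hq (r : R) : D.φ (Φ.hq e r) = Φ.hq D.ee r := by simp [RS.hq, ee]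
theorem φ_nq (i : I) : D.φ (Φ.nq e i) = Φ.nq D.ee i := by simp [RS.nq, nn, ee]
theorem sq (r : R) : D.ee r * D.ee r = 0 := by simpa [ee] using congrArg D.φ (q.sq r)
theorem tri (r : R) : D.ee r * D.ee (Φ.neg r) * D.ee r = D.ee r := by simpa [ee] using congrArg D.φ (q.tri r)
theorem tri' (r : R) : D.ee (Φ.neg r) * D.ee r * D.ee (Φ.neg r) = D.ee (Φ.neg r) := by simpa [ee] using congrArg D.φ (q.tri' r)
theorem he (r s : R) : Φ.hq D.ee r * D.ee s - D.ee s * Φ.hq D.ee r = (Φ.pair r s : F) • D.ee s := by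
  simpa [ee, RS.hq, Int.cast_smul_eq_zsmul] using congrArg D.φ (q.he r s)
theorem hq_eq (r : R) : Φ.hq D.ee r = ∑ j, (Φ.cv r j : F) • Φ.hq D.ee (Φ.sim j) := by
  simpa [φ_hq, Int.cast_smul_eq_zsmul] using congrArg D.φ (q.hq_eq r)
theorem N_eq {r s k : R} (h : Φ.rv k = Φ.rv r + Φ.rv s) : D.ee r * D.ee s - D.ee s * D.ee r = (q.N r s : F) • D.ee k := by
  simpa [ee, Int.cast_smul_eq_zsmul] using congrArg D.φ (q.N_eq h)
theorem M_eq {r s k : R} (h : Φ.rv k = 2 • Φ.rv r + Φ.rv s) : D.ee r * D.ee s * D.ee r = (q.M r s : F) • D.ee k := by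
  simpa [ee, Int.cast_smul_eq_zsmul] using congrArg D.φ (q.M_eq h)
theorem N_zero {r s : R} (h0 : s ≠ Φ.neg r) (h : ∀ k, Φ.rv k ≠ Φ.rv r + Φ.rv s) : D.ee r * D.ee s - D.ee s * D.ee r = 0 := by
  simpa [ee, sub_eq_zero] using congrArg D.φ ((q.br r s h0).resolve_right fun ⟨k, _, a, _⟩ => h k a)
theorem M_zero {r s : R} (h : ∀ k, Φ.rv k ≠ 2 • Φ.rv r + Φ.rv s) : D.ee r * D.ee s * D.ee r = 0 := by
  simpa [ee] using congrArg D.φ ((q.tr r s (by rintro rfl; exact h r (by rw [Φ.rv_neg]; abel))).resolve_right fun ⟨k, _, a, _⟩ => h k a)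
theorem ehe (r s : R) : D.ee r * Φ.hq D.ee s * D.ee r = 0 := by
  rw [mul_assoc, sub_eq_iff_eq_add.1 (D.he s r), mul_add, mul_smul_comm, ← mul_assoc, D.sq]; simp

theorem ee_ne (r : R) : D.ee r ≠ 0 := fun h => by
  obtain ⟨i, hi⟩ := Φ.exists_cv_ne_zero F r
  exact hi (Fintype.linearIndependent_iff.1 D.ind (fun j => Φ.cv r j) (by simp only [φ_hq, ← hq_eq]; simp [RS.hq, h]) i)

theorem li : LinearIndependent F D.bv := by
  classical
  refine Fintype.linearIndependent_iff.2 fun g hg => ?_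
  have h1 : ∀ s, g (.inr s) = 0 := by
    by_contra! h
    obtain ⟨s, a, b⟩ := Finset.exists_max_image {s | g (.inr s) ≠ 0} Φ.ln (by simpa [Finset.Nonempty] using h)
    have c := congrArg (D.ee (Φ.neg s) * · * D.ee (Φ.neg s)) hg
    simp only [Fintype.sum_sum_type, bv, Sum.elim_inl, Sum.elim_inr, mul_add, add_mul, Finset.mul_sum, Finset.sum_mul, mul_smul_comm,
      smul_mul_assoc, ehe, smul_zero, Finset.sum_const_zero, zero_add, mul_zero, zero_mul] at c
    rw [Finset.sum_eq_single s (fun r _ d => ?_) (by simp), tri'] at c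
    · exact (smul_ne_zero (by simpa using a) (D.ee_ne _)) c
    by_contra d'
    have d1 := b r (by simpa using left_ne_zero_of_smul d')
    obtain ⟨k, d2⟩ : ∃ k, Φ.rv k = 2 • Φ.rv (Φ.neg s) + Φ.rv r := by_contra fun f => right_ne_zero_of_smul d' (D.M_zero (not_exists.1 f))
    have d3 := q.pair_of_two d2
    rw [Φ.pair_neg_left, neg_inj] at d3
    have d4 := Φ.ln_pair_symm r s
    have d5 := Φ.ln_pos s
    rw [d3, (D.good.str s r (by omega) (Ne.symm d)).resolve_left (by omega)] at d4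
    omega
  rintro (i | s)
  · exact Fintype.linearIndependent_iff.1 D.ind (fun j => g (.inl j)) (by simpa [φ_hq, bv, h1] using hg) i
  · exact h1 s

/-- the Lie algebra -/
abbrev L : Submodule F B := Submodule.span F (Set.range D.bv)

/-- the stabiliser of the Lie algebra -/
def Stab : Subgroup Bˣ where
  carrier := {g | ∀ y ∈ D.L, g * y * ↑g⁻¹ ∈ D.L ∧ ↑g⁻¹ * y * g ∈ D.L}
  one_mem' y hy := by simpa
  mul_mem' {a b} ha hb y hy := ⟨by simpa [mul_assoc] using (ha _ (hb y hy).1).1, by simpa [mul_assoc] using (hb _ (ha y hy).2).2⟩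
  inv_mem' ha y hy := by simpa using (ha y hy).symm

/-- the adjoint action -/
def ρ : D.Stab →* Module.End F D.L where
  toFun g := ⟨⟨fun y => ⟨g.1 * y * ↑g.1⁻¹, (g.2 y y.2).1⟩, fun a b => Subtype.ext (by simp [mul_add, add_mul])⟩,
    fun c a => Subtype.ext (by simp)⟩
  map_one' := by ext; simp
  map_mul' a b := by ext; simp [mul_assoc]

/-- the adjoint action in the Chevalley basis -/
noncomputable def θm : D.Stab →* Matrix (I ⊕ R) (I ⊕ R) F :=
  (LinearMap.toMatrixAlgEquiv (Module.Basis.span D.li)).toMonoidHom.comp D.ρ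

theorem θm_apply {g : D.Stab} {j : I ⊕ R} {c : I ⊕ R → F} (h : g.1 * D.bv j * ↑g.1⁻¹ = ∑ a, c a • D.bv a) (a : I ⊕ R) :
    D.θm g a j = c a := by
  have : D.ρ g (Module.Basis.span D.li j) = ∑ a, c a • Module.Basis.span D.li a := Subtype.ext (by
    simpa [ρ, Module.Basis.span_apply] using h)
  change LinearMap.toMatrixAlgEquiv (Module.Basis.span D.li) (D.ρ g) a j = _
  rw [LinearMap.toMatrixAlgEquiv_apply, this, Module.Basis.repr_sum_self]

theorem exists_col (r : R) (j : I ⊕ R) : ∃ c d : I ⊕ R → F, D.ee r * D.bv j - D.bv j * D.ee r = ∑ a, c a • D.bv a ∧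
    D.ee r * D.bv j * D.ee r = ∑ a, d a • D.bv a ∧ (∀ a, c a ≠ 0 → Φ.wt a = Φ.wt j + Φ.rv r) ∧
    (∀ a, d a ≠ 0 → Φ.wt a = Φ.wt j + 2 • Φ.rv r) ∧ (j = .inr (Φ.neg r) → ∀ i, c (.inl i) = Φ.cv r i) := by
  have h1 : ∀ (k : R) (m : F), m • D.ee k = ∑ a, (Pi.single (.inr k) m : I ⊕ R → F) a • D.bv a := fun k m => by
    simp only [Pi.single_apply, ite_smul, zero_smul, Finset.sum_ite_eq', Finset.mem_univ, if_true]; rfl
  have h2 : ∀ {k : R} {m : F} {a : I ⊕ R}, (Pi.single (.inr k) m : I ⊕ R → F) a ≠ 0 → Φ.wt a = Φ.rv k := fun {k m a} h => by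
    obtain rfl : a = .inr k := by_contra fun b => h (Pi.single_eq_of_ne b _)
    rfl
  rcases j with j | s
  · exact ⟨_, 0, (neg_sub _ _).symm.trans ((congrArg Neg.neg (D.he _ r)).trans ((neg_smul _ _).symm.trans (h1 _ _))), by simp [bv, ehe],
      fun a h => by rw [h2 h]; simp [RS.wt], by simp, by simp⟩
  obtain ⟨d, d1, d2⟩ : ∃ d : I ⊕ R → F, D.ee r * D.ee s * D.ee r = ∑ a, d a • D.bv a ∧ ∀ a, d a ≠ 0 → Φ.wt a = Φ.rv s + 2 • Φ.rv r := by
    by_cases h : ∃ k, Φ.rv k = 2 • Φ.rv r + Φ.rv s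
    · obtain ⟨k, h⟩ := h
      exact ⟨_, (D.M_eq h).trans (h1 _ _), fun a b => by rw [h2 b, h, add_comm]⟩
    · exact ⟨0, by simp [D.M_zero (not_exists.1 h)], by simp⟩
  by_cases h0 : s = Φ.neg r
  · refine ⟨Sum.elim (fun i => Φ.cv r i) 0, d, by simpa [bv, h0, RS.hq] using D.hq_eq r, d1, ?_, d2, fun _ _ => rfl⟩
    rintro (a | a) h
    exacts [by simp [RS.wt, h0, Φ.rv_neg], absurd rfl h]
  by_cases h : ∃ k, Φ.rv k = Φ.rv r + Φ.rv s
  · obtain ⟨k, h⟩ := h
    exact ⟨_, d, (D.N_eq h).trans (h1 _ _), d1, fun a b => by rw [h2 b, h, add_comm]; rfl, d2, by simp [h0]⟩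
  · exact ⟨0, d, by simpa [bv] using D.N_zero h0 (not_exists.1 h), d1, by simp, d2, by simp [h0]⟩

theorem one_add_mul (r : R) (t u : F) : (1 + t • D.ee r) * (1 + u • D.ee r) = 1 + (t + u) • D.ee r := by
  simp [mul_add, add_mul, D.sq, add_smul, add_assoc, add_comm (u • D.ee r)]

/-- the root elements as units -/
def xu (r : R) (t : F) : Bˣ := ⟨1 + t • D.ee r, 1 + (-t) • D.ee r, by simp [one_add_mul, -neg_smul], by simp [one_add_mul, -neg_smul]⟩

theorem xu_conj (r : R) (t : F) (y : B) : D.xu r t * y * ↑(D.xu r t)⁻¹ =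
    y + t • (D.ee r * y - y * D.ee r) - t ^ 2 • (D.ee r * y * D.ee r) := by
  simp [xu, mul_add, add_mul, smul_sub, smul_smul, pow_two]; abel

theorem xu_mem (r : R) (t : F) : D.xu r t ∈ D.Stab := by
  have : ∀ t, ∀ y ∈ D.L, D.xu r t * y * ↑(D.xu r t)⁻¹ ∈ D.L := fun t y hy => by
    induction hy using Submodule.span_induction with
    | mem y h =>
      obtain ⟨j, rfl⟩ := h
      obtain ⟨c, d, h1, h2, -⟩ := D.exists_col r j
      have a : ∀ c : I ⊕ R → F, ∑ a, c a • D.bv a ∈ D.L := fun c => Submodule.sum_smul_mem _ _ fun a _ => Submodule.subset_span ⟨a, rfl⟩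
      rw [xu_conj, h1, h2]
      exact sub_mem (add_mem (Submodule.subset_span ⟨j, rfl⟩) (Submodule.smul_mem _ _ (a c))) (Submodule.smul_mem _ _ (a d))
    | zero => simp
    | add a b _ _ h h' => simpa [mul_add, add_mul] using add_mem h h'
    | smul c a _ h => simpa using Submodule.smul_mem _ c h
  exact fun y hy => ⟨this t y hy, by simpa [xu] using this (-t) y hy⟩

/-- the root elements -/
def x (r : R) (t : F) : D.Stab := ⟨D.xu r t, D.xu_mem r t⟩

theorem x_val (r : R) (t : F) : ((D.x r t).1 : B) = 1 + t • D.ee r := rfl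

/-- the underlying algebra element -/
def val : D.Stab →* B := (Units.coeHom B).comp D.Stab.subtype

theorem val_inj : Function.Injective D.val := Units.val_injective.comp Subtype.val_injective
theorem val_x (r : R) (t : F) : D.val (D.x r t) = 1 + t • D.ee r := rfl

/-- the Chevalley datum -/
noncomputable abbrev cd : CD I R := q.cd D.hc

theorem rel : D.cd.Rel D.x := by
  refine ⟨fun r t u => D.val_inj (D.one_add_mul r t u), fun r s t u h1 h2 => D.val_inj ?_⟩
  have a1 : ∀ {v : I → ℤ} {y : B} {c : F} (f : R → R × ℤ × ℕ × ℕ), (∀ k, Φ.rv k = v → (f k).1 = k ∧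
      (((f k).2.1 : F) * (-t) ^ (f k).2.2.1 * u ^ (f k).2.2.2) • D.ee k = y) → ((∀ k, Φ.rv k ≠ v) → y = 0) →
      (((Φ.rt v).map f).map fun c => D.val (D.x c.1 ((c.2.1 : F) * (-t) ^ c.2.2.1 * u ^ c.2.2.2))).prod = 1 + y := fun {v y c} f a b => by
    by_cases h : ∃ k, Φ.rv k = v
    · obtain ⟨k, h⟩ := h
      simp [RS.rt_eq h, val_x, (a k h).1, ← (a k h).2]
    · simp [RS.rt_nil (not_exists.1 h), b (not_exists.1 h)]
  simp only [map_mul, map_list_prod, List.map_map]
  change _ = _ * ((q.ct r s).map fun c => D.val (D.x c.1 ((c.2.1 : F) * (-t) ^ c.2.2.1 * u ^ c.2.2.2))).prod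
  rw [RS.QZ.ct, List.map_append, List.map_append, List.prod_append, List.prod_append,
    a1 (c := 0) (y := -(t • D.ee r * u • D.ee s - u • D.ee s * t • D.ee r)) _ (fun k a => ⟨rfl, by
      simp only [smul_mul_smul_comm, mul_comm u, ← smul_sub, D.N_eq a]; module⟩) fun a => by
      simp only [smul_mul_smul_comm, mul_comm u, ← smul_sub, D.N_zero h2 a]; simp,
    a1 (c := 0) (y := -(t • D.ee r * u • D.ee s * t • D.ee r)) _ (fun k a => ⟨rfl, by
      simp only [smul_mul_smul_comm, D.M_eq a]; module⟩) fun a => by simp [D.M_zero a],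
    a1 (c := 0) (y := u • D.ee s * t • D.ee r * u • D.ee s) _ (fun k a => ⟨rfl, by
      simp only [smul_mul_smul_comm, D.M_eq a]; module⟩) fun a => by simp [D.M_zero a], ← sub_eq_add_neg, ← sub_eq_add_neg]
  refine comm_ring_aux (by simp [D.sq]) (by simp [D.sq]) ?_
  by_contra! a
  have b : ∀ {r s}, D.ee r * D.ee s * D.ee r ≠ 0 → Φ.pair r s = -2 := fun {r s} h => by_contra fun c =>
    h (D.M_zero fun k d => c (q.pair_of_two d))
  have c := b (r := r) (s := s) fun c => a.1 (by simp [c])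
  have d := b (r := s) (s := r) fun c => a.2 (by simp [c])
  have := D.good.str r (Φ.neg s) (by rw [Φ.pair_neg_right]; omega) fun f => h2 (Φ.neg_eq_iff.1 f.symm)
  rw [Φ.pair_neg_right, Φ.pair_neg_left] at this
  omega

theorem val_n (r : R) (c : Fˣ) : D.val (D.x r c * D.x (Φ.neg r) (-(c : F)⁻¹) * D.x r c) =
    nn ((c : F) • D.ee r) ((c : F)⁻¹ • D.ee (Φ.neg r)) := by
  rw [← nn_eq (by simp [D.sq]) (by simp [D.sq]) (by simp [D.tri, smul_smul]) (by simp [D.tri', smul_smul])]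
  simp [val_x, sub_eq_add_neg]

theorem conj_of {g : D.Stab} {y z : B} (h : D.val g * y = z * D.val g) : g.1 * y * ↑g.1⁻¹ = z :=
  (Units.mul_inv_eq_iff_eq_mul _).2 h

theorem n_e (i : I) (s : R) : Φ.nq D.ee i * D.ee s = (q.η i s : F) • D.ee (Φ.rf i s) * Φ.nq D.ee i := by
  simpa [φ_nq, ee, Int.cast_smul_eq_zsmul] using congrArg D.φ (q.nq_e i s)

theorem θm_n (i : I) : D.θm (D.x (Φ.sim i) 1 * D.x (Φ.neg (Φ.sim i)) (-1) * D.x (Φ.sim i) 1) = D.cd.nM i 1 := by
  have h : D.val (D.x (Φ.sim i) 1 * D.x (Φ.neg (Φ.sim i)) (-1) * D.x (Φ.sim i) 1) = Φ.nq D.ee i := by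
    simpa [RS.nq] using D.val_n (Φ.sim i) 1
  ext a j
  refine D.θm_apply (c := fun a => D.cd.nM i 1 a j) (D.conj_of ?_) a
  rw [h]
  rcases j with j | s
  · have := congrArg D.φ (q.nq_hq i (Φ.sim j))
    simp only [map_mul, map_sub, map_zsmul, φ_hq, φ_nq, Φ.pair_sim, ← Int.cast_smul_eq_zsmul F] at this
    simpa [bv, CD.nM, sub_smul, ite_smul, Finset.sum_sub_distrib] using this
  · simpa [bv, CD.nM, ite_smul] using D.n_e i s

theorem θm_x {r : R} {j : I ⊕ R} {c d : I ⊕ R → F} (h1 : D.ee r * D.bv j - D.bv j * D.ee r = ∑ a, c a • D.bv a)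
    (h2 : D.ee r * D.bv j * D.ee r = ∑ a, d a • D.bv a) (a : I ⊕ R) (t : F) :
    D.θm (D.x r t) a j = (1 : Matrix _ _ F) a j + t * c a - t ^ 2 * d a :=
  D.θm_apply (c := fun a => (1 : Matrix _ _ F) a j + t * c a - t ^ 2 * d a) ((D.xu_conj r t _).trans (by
    simp [h1, h2, Matrix.one_apply, add_smul, sub_smul, ite_smul, Finset.sum_add_distrib, Finset.smul_sum, smul_smul])) a

/-- the adjoint representation -/
noncomputable def adj : Adj D.cd F where
  X r t := D.θm (D.x r t)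
  add r t u := by rw [← map_mul, D.rel.add]
  comm r s t u h1 h2 := by rw [← map_mul, D.rel.comm r s t u h1 h2]; simp [map_list_prod, Function.comp_def]
  hom r a j := by
    obtain ⟨c, d, h1, h2, h3, h4, -⟩ := D.exists_col r j
    have h := D.θm_x h1 h2 a
    have h0 := Φ.rv_ne_zero r
    have h5 : ∀ {k : ℕ}, 0 < k → Φ.wt a = Φ.wt j + k • Φ.rv r → (1 : Matrix _ _ F) a j = 0 := fun a b => Matrix.one_apply_ne (by
      rintro rfl; exact (smul_ne_zero a.ne' h0) (left_eq_add.1 b))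
    by_cases a1 : c a = 0 <;> by_cases a2 : d a = 0
    · exact .inl (by simp [h, a1, a2])
    · exact .inr ⟨2, -d a, two_pos, h4 a a2, fun t => by rw [h, a1, h5 two_pos (h4 a a2)]; ring⟩
    · exact .inr ⟨1, c a, one_pos, by simpa using h3 a a1, fun t => by rw [h, a2, h5 one_pos (by simpa using h3 a a1)]; ring⟩
    · exact absurd (by linear_combination (h3 a a1) - h4 a a2) h0
  entry r t i := by
    obtain ⟨c, d, h1, h2, h3, h4, h5⟩ := D.exists_col r (.inr (Φ.neg r))
    have h6 : d (.inl i) = 0 := by_contra fun a => Φ.rv_ne_zero r (by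
      have := h4 _ a
      simp only [RS.wt, Sum.elim_inl, Sum.elim_inr, Φ.rv_neg] at this
      linear_combination -this)
    simp [D.θm_x h1 h2, h5 rfl, h6, mul_comm]
  n_eq i := by rw [← map_mul, ← map_mul]; exact D.θm_n i
  n_mul i s t := by
    rw [← D.θm_n, ← map_mul, ← map_mul]
    congr 1
    apply D.val_inj
    have h : D.val (D.x (Φ.sim i) 1 * D.x (Φ.neg (Φ.sim i)) (-1) * D.x (Φ.sim i) 1) = Φ.nq D.ee i := by
      simpa [RS.nq] using D.val_n (Φ.sim i) 1
    rw [map_mul, map_mul _ (D.x _ _), h, val_x, val_x, mul_add, mul_smul_comm, n_e, add_mul, mul_comm _ t, mul_smul]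
    simp

/-- the Chevalley group inside the stabiliser -/
noncomputable def st : St D.cd F D.Stab where
  ad := D.adj
  x := D.x
  add := D.rel.add
  comm := D.rel.comm
  θ := D.θm.toHomUnits
  θ_x _ _ := rfl

/-- the Chevalley group -/
noncomputable abbrev G : Type _ := D.st.Gx

/-- the Chevalley group -/
noncomputable def S : St D.cd F D.G := D.st.res

theorem S_Gx : D.S.Gx = ⊤ := St.res_Gx

/-- the underlying algebra element -/
noncomputable def v : D.G →* B := D.val.comp D.st.Gx.subtype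

theorem v_inj : Function.Injective D.v := D.val_inj.comp Subtype.val_injective
theorem v_x (r : R) (t : F) : D.v (D.S.x r t) = 1 + t • D.ee r := rfl

theorem v_h (r : R) (c : Fˣ) : D.v (D.S.h r c) =
    1 + ((c : F) - 1) • (D.ee r * D.ee (Φ.neg r)) + ((c : F)⁻¹ - 1) • (D.ee (Φ.neg r) * D.ee r) := by
  have h : ∀ c : Fˣ, D.v (D.S.n r c) = _ := D.val_n r
  rw [St.h, map_mul, h, h]
  have h1 := D.sq r
  have h2 := D.sq (Φ.neg r)
  have h3 := D.tri r
  have h4 := D.tri' r
  generalize D.ee r = a, D.ee (Φ.neg r) = f at *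
  have h5 : a * (f * a) = a := by rw [← mul_assoc, h3]
  have h6 : f * (a * f) = f := by rw [← mul_assoc, h4]
  have h7 : ∀ y, a * (a * y) = 0 := fun y => by rw [← mul_assoc, h1, zero_mul]
  have h8 : ∀ y, f * (f * y) = 0 := fun y => by rw [← mul_assoc, h2, zero_mul]
  simp [nn, mul_add, add_mul, mul_sub, sub_mul, smul_smul, mul_assoc, h1, h2, h5, h6, h7, h8, sub_smul]
  abel

end QA

end Cfsg.Agent.Chev
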