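import Cfsg.Agent.Lib.Chev.Cox

set_option autoImplicit false

/-! Abstract finite root systems with a base, and their Weyl groups. -/

namespace Cfsg.Agent.Chev

/-- a root system with a base, in coordinates -/
structure RS (I R : Type) [Fintype I] [DecidableEq I] where
  rv : R → I → ℤ
  cv : R → I → ℤ
  A : I → R → ℤ
  ln : R → ℤ
  neg : R → R
  sim : I → R
  rf : I → R → R
  rv_inj : Function.Injective rv
  rv_neg : ∀ r, rv (neg r) = - rv r
  cv_neg : ∀ r, cv (neg r) = - cv r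
  rv_sim : ∀ i, rv (sim i) = Pi.single i 1
  cv_sim : ∀ i, cv (sim i) = Pi.single i 1
  A_eq : ∀ i r, A i r = ∑ j, rv r j * A i (sim j)
  rv_rf : ∀ i r, rv (rf i r) = rv r - Pi.single i (A i r)
  ln_rf : ∀ i r, ln (rf i r) = ln r
  pos_or_neg : ∀ r, (∀ i, 0 ≤ rv r i) ∨ (∀ i, rv r i ≤ 0)
  ln_pos : ∀ r, 0 < ln r
  ln_cv : ∀ r i, ln r * cv r i = ln (sim i) * rv r i
  symm : ∀ i j, ln (sim i) * A i (sim j) = ln (sim j) * A j (sim i)
  pair_self : ∀ r, ∑ i, cv r i * A i r = 2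

namespace RS

variable {I R : Type} [Fintype I] [DecidableEq I] (Φ : RS I R)

/-- the linear form `v ↦ ⟨p_i^∨, v⟩` -/
def Al (i : I) : (I → ℤ) →ₗ[ℤ] ℤ where
  toFun v := ∑ j, v j * Φ.A i (Φ.sim j)
  map_add' v w := by simp [add_mul, Finset.sum_add_distrib]
  map_smul' c v := by simp [Finset.mul_sum, mul_assoc]

theorem Al_rv (i : I) (r : R) : Φ.Al i (Φ.rv r) = Φ.A i r := (Φ.A_eq i r).symm

theorem Al_single (i j : I) (a : ℤ) : Φ.Al i (Pi.single j a) = a * Φ.A i (Φ.sim j) := by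
  simp [Al, Pi.single_apply]

theorem A_self (i : I) : Φ.A i (Φ.sim i) = 2 := by
  have := Φ.pair_self (Φ.sim i)
  simpa [Φ.cv_sim, Pi.single_apply] using this

/-- the pairing `⟨r^∨, s⟩` -/
def pair (r s : R) : ℤ := ∑ i, Φ.cv r i * Φ.A i s

/-- the linear form `v ↦ ⟨r^∨, v⟩` -/
def pl (r : R) : (I → ℤ) →ₗ[ℤ] ℤ := ∑ i, Φ.cv r i • Φ.Al i

theorem pl_rv (r s : R) : Φ.pl r (Φ.rv s) = Φ.pair r s := by
  simp [pl, pair, Al_rv]

theorem pair_sim (i : I) (s : R) : Φ.pair (Φ.sim i) s = Φ.A i s := by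
  simp [pair, Φ.cv_sim, Pi.single_apply]

theorem pair_same (r : R) : Φ.pair r r = 2 := Φ.pair_self r

theorem rv_ne_zero (r : R) : Φ.rv r ≠ 0 := by
  intro h
  have := Φ.pl_rv r r
  rw [h, map_zero, pair_same] at this
  omega

theorem neg_neg (r : R) : Φ.neg (Φ.neg r) = r := Φ.rv_inj (by simp [Φ.rv_neg])

theorem neg_inj {r s : R} (h : Φ.neg r = Φ.neg s) : r = s := by
  rw [← Φ.neg_neg r, h, neg_neg]

theorem neg_eq_iff {r s : R} : Φ.neg r = s ↔ r = Φ.neg s :=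
  ⟨fun h => by rw [← h, neg_neg], fun h => by rw [h, neg_neg]⟩

theorem neg_ne (r : R) : Φ.neg r ≠ r := by
  intro h
  have := Φ.rv_neg r
  rw [h] at this
  apply Φ.rv_ne_zero r
  ext i
  have := congrFun this i
  simp at this ⊢
  omega

theorem A_neg (i : I) (r : R) : Φ.A i (Φ.neg r) = - Φ.A i r := by
  rw [← Al_rv, Φ.rv_neg, map_neg, Al_rv]

theorem pair_neg_right (r s : R) : Φ.pair r (Φ.neg s) = - Φ.pair r s := by
  rw [← pl_rv, Φ.rv_neg, map_neg, pl_rv]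

theorem pair_neg_left (r s : R) : Φ.pair (Φ.neg r) s = - Φ.pair r s := by
  simp [pair, Φ.cv_neg]

theorem ln_neg (r : R) : Φ.ln (Φ.neg r) = Φ.ln r := by
  obtain ⟨i, hi⟩ := Function.ne_iff.1 (Φ.rv_ne_zero r)
  have h1 := Φ.ln_cv r i
  have h2 := Φ.ln_cv (Φ.neg r) i
  simp only [Φ.cv_neg, Φ.rv_neg, Pi.neg_apply, mul_neg, _root_.neg_inj] at h2
  have h3 : Φ.cv r i ≠ 0 := by
    intro h; rw [h] at h1
    have := Φ.ln_pos (Φ.sim i)
    simp at h1 hi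
    omega
  exact mul_right_cancel₀ h3 (h2.trans h1.symm)

theorem sim_inj : Function.Injective Φ.sim := by
  intro i j h
  have := congrFun (congrArg Φ.rv h) i
  rw [Φ.rv_sim, Φ.rv_sim] at this
  by_contra hne
  simp [hne] at this

theorem A_rf (i j : I) (r : R) : Φ.A j (Φ.rf i r) = Φ.A j r - Φ.A i r * Φ.A j (Φ.sim i) := by
  rw [← Al_rv, Φ.rv_rf, map_sub, Al_rv, Al_single]

theorem A_rf_self (i : I) (r : R) : Φ.A i (Φ.rf i r) = - Φ.A i r := by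
  rw [A_rf, A_self]; ring

theorem rf_rf (i : I) (r : R) : Φ.rf i (Φ.rf i r) = r := by
  apply Φ.rv_inj
  rw [Φ.rv_rf, Φ.rv_rf, A_rf_self, Pi.single_neg]; abel

theorem rf_inj (i : I) {r s : R} (h : Φ.rf i r = Φ.rf i s) : r = s := by
  rw [← Φ.rf_rf i r, h, rf_rf]

theorem rf_neg (i : I) (r : R) : Φ.rf i (Φ.neg r) = Φ.neg (Φ.rf i r) := by
  apply Φ.rv_inj
  rw [Φ.rv_rf, Φ.rv_neg, Φ.rv_neg, Φ.rv_rf, A_neg, Pi.single_neg]; abel

theorem rf_sim (i : I) : Φ.rf i (Φ.sim i) = Φ.neg (Φ.sim i) := by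
  apply Φ.rv_inj
  rw [Φ.rv_rf, Φ.rv_neg, A_self, Φ.rv_sim]
  ext j; by_cases h : j = i <;> simp [h]

theorem rf_neg_sim (i : I) : Φ.rf i (Φ.neg (Φ.sim i)) = Φ.sim i := by
  rw [rf_neg, rf_sim, neg_neg]

theorem rf_of_A_eq_zero {i : I} {r : R} (h : Φ.A i r = 0) : Φ.rf i r = r :=
  Φ.rv_inj (by rw [Φ.rv_rf, h]; simp)

/-- the invariant form -/
theorem ln_pair (r s : R) :
    Φ.ln r * Φ.pair r s = ∑ i, Φ.rv r i * (Φ.ln (Φ.sim i) * Φ.A i s) := by
  rw [pair, Finset.mul_sum]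
  refine Finset.sum_congr rfl fun i _ => ?_
  rw [← mul_assoc, Φ.ln_cv]; ring

theorem ln_pair_symm (r s : R) : Φ.ln r * Φ.pair r s = Φ.ln s * Φ.pair s r := by
  rw [ln_pair, ln_pair]
  simp only [Φ.A_eq _ r, Φ.A_eq _ s, Finset.mul_sum]
  rw [Finset.sum_comm]
  refine Finset.sum_congr rfl fun i _ => Finset.sum_congr rfl fun j _ => ?_
  linear_combination (Φ.rv r j * Φ.rv s i) * Φ.symm j i

theorem pair_rf (i : I) (r s : R) : Φ.pair (Φ.rf i r) (Φ.rf i s) = Φ.pair r s := by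
  apply mul_left_cancel₀ (Φ.ln_pos r).ne'
  have h1 := Φ.ln_pair (Φ.rf i r) (Φ.rf i s)
  rw [Φ.ln_rf] at h1
  rw [h1, Φ.rv_rf]
  simp only [Pi.sub_apply, sub_mul, Finset.sum_sub_distrib, Pi.single_apply, ite_mul, zero_mul,
    Finset.sum_ite_eq', Finset.mem_univ, if_true, A_rf_self]
  rw [← ln_pair, ← pl_rv, Φ.rv_rf, map_sub, pl_rv]
  have h2 : Φ.pl r (Pi.single i (Φ.A i s)) = Φ.A i s * Φ.pair r (Φ.sim i) := by
    rw [← pl_rv, Φ.rv_sim, ← smul_eq_mul, ← map_smul]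
    congr 1; ext j; by_cases h : j = i <;> simp [h]
  have h3 := Φ.ln_pair_symm r (Φ.sim i)
  rw [pair_sim] at h3
  rw [h2]
  linear_combination (-Φ.A i s) * h3

theorem cv_rf (i : I) (r : R) :
    Φ.cv (Φ.rf i r) = Φ.cv r - Pi.single i (Φ.pair r (Φ.sim i)) := by
  ext j
  apply mul_left_cancel₀ (Φ.ln_pos r).ne'
  have h1 := Φ.ln_cv (Φ.rf i r) j
  have h3 := Φ.ln_pair_symm r (Φ.sim i)
  rw [pair_sim] at h3
  rw [Φ.ln_rf] at h1
  rw [h1, Φ.rv_rf, Pi.sub_apply, Pi.sub_apply, mul_sub, mul_sub, Φ.ln_cv]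
  by_cases h : j = i
  · subst h; simp [h3]
  · simp [h]

/-- positive roots -/
def Pos (r : R) : Prop := ∀ i, 0 ≤ Φ.rv r i

instance instDecPos : DecidablePred Φ.Pos := fun r => inferInstanceAs (Decidable (∀ i, 0 ≤ Φ.rv r i))

variable {Φ}

theorem Pos.not_neg {r : R} (h : Φ.Pos r) : ¬ Φ.Pos (Φ.neg r) := by
  intro h'
  apply Φ.rv_ne_zero r
  ext i
  have h1 := h i
  have h2 := h' i
  simp [Φ.rv_neg] at h2 ⊢
  omega

theorem pos_neg_iff {r : R} : Φ.Pos (Φ.neg r) ↔ ¬ Φ.Pos r := by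
  refine ⟨fun h h' => h'.not_neg h, fun h => ?_⟩
  rcases Φ.pos_or_neg r with h1 | h1
  · exact absurd h1 h
  · intro i; simpa [Φ.rv_neg] using h1 i

theorem not_pos_iff {r : R} : ¬ Φ.Pos r ↔ ∀ i, Φ.rv r i ≤ 0 := by
  rw [← pos_neg_iff]; simp [Pos, Φ.rv_neg]

theorem pos_of_pos {r : R} {i : I} (h : 0 < Φ.rv r i) : Φ.Pos r := by
  rcases Φ.pos_or_neg r with h1 | h1
  · exact h1
  · have := h1 i; omega

theorem not_pos_of_neg {r : R} {i : I} (h : Φ.rv r i < 0) : ¬ Φ.Pos r := fun h' => by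
  have := h' i; omega

variable (Φ) in
theorem pos_sim (i : I) : Φ.Pos (Φ.sim i) := by
  intro j; rw [Φ.rv_sim]; by_cases h : j = i <;> simp [h]

variable (Φ) in
theorem not_pos_neg_sim (i : I) : ¬ Φ.Pos (Φ.neg (Φ.sim i)) := (Φ.pos_sim i).not_neg

theorem cv_eq_zero_iff {r : R} {i : I} : Φ.cv r i = 0 ↔ Φ.rv r i = 0 := by
  have h1 := Φ.ln_cv r i
  have := Φ.ln_pos r
  have := Φ.ln_pos (Φ.sim i)
  constructor
  · intro h; rw [h] at h1; simp at h1; omega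
  · intro h; rw [h] at h1; simp at h1; omega

theorem cv_nonneg_iff {r : R} {i : I} : 0 ≤ Φ.cv r i ↔ 0 ≤ Φ.rv r i := by
  have h1 := Φ.ln_cv r i
  rw [← mul_nonneg_iff_of_pos_left (Φ.ln_pos r), h1,
    mul_nonneg_iff_of_pos_left (Φ.ln_pos (Φ.sim i))]

/-- a root supported on one node is `± p_i` -/
theorem eq_sim_of_support {r : R} {i : I} (hp : Φ.Pos r) (h : ∀ j, j ≠ i → Φ.rv r j = 0) :
    r = Φ.sim i := by
  have h1 := Φ.pair_self r
  rw [Finset.sum_eq_single i (fun j _ hj => by rw [cv_eq_zero_iff.2 (h j hj), zero_mul]) (by simp),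
    Φ.A_eq, Finset.sum_eq_single i (fun j _ hj => by rw [h j hj, zero_mul]) (by simp), A_self] at h1
  have h2 : Φ.cv r i * Φ.rv r i = 1 := by linarith
  have h3 : Φ.rv r i = 1 := by
    rcases Int.eq_one_or_neg_one_of_mul_eq_one' h2 with h4 | h4
    · exact h4.2
    · have := hp i; omega
  apply Φ.rv_inj
  rw [Φ.rv_sim]
  ext j; by_cases hj : j = i
  · simp [hj, h3]
  · simp [hj, h j hj]

theorem Pos.rf {r : R} {i : I} (hp : Φ.Pos r) (h : r ≠ Φ.sim i) : Φ.Pos (Φ.rf i r) := by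
  by_contra hn
  apply h
  apply eq_sim_of_support hp
  intro j hj
  have h1 := not_pos_iff.1 hn j
  have h2 := hp j
  rw [Φ.rv_rf] at h1
  simp [hj] at h1
  omega

theorem eq_sim_of_rf {r : R} {i : I} (hp : Φ.Pos r) (h : ¬ Φ.Pos (Φ.rf i r)) : r = Φ.sim i := by
  by_contra hne; exact h (hp.rf hne)

variable (Φ) in
/-- height -/
def ht (r : R) : ℤ := ∑ i, Φ.rv r i

theorem Pos.ht_pos {r : R} (h : Φ.Pos r) : 0 < Φ.ht r := by
  obtain ⟨i, hi⟩ := Function.ne_iff.1 (Φ.rv_ne_zero r)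
  exact Finset.sum_pos' (fun j _ => h j) ⟨i, by simp, lt_of_le_of_ne (h i) (Ne.symm hi)⟩

theorem ht_neg (r : R) : Φ.ht (Φ.neg r) = - Φ.ht r := by simp [ht, Φ.rv_neg]

theorem ht_pos_iff {r : R} : 0 < Φ.ht r ↔ Φ.Pos r := by
  refine ⟨fun h => ?_, Pos.ht_pos⟩
  by_contra hn
  have := (pos_neg_iff.2 hn).ht_pos
  rw [ht_neg] at this; omega

theorem ht_rf (i : I) (r : R) : Φ.ht (Φ.rf i r) = Φ.ht r - Φ.A i r := by
  simp [ht, Φ.rv_rf, Finset.sum_sub_distrib]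

theorem ht_sim (i : I) : Φ.ht (Φ.sim i) = 1 := by simp [ht, Φ.rv_sim]

theorem Pos.exists_A_pos {r : R} (h : Φ.Pos r) : ∃ i, 0 < Φ.rv r i ∧ 0 < Φ.A i r := by
  by_contra hn
  push Not at hn
  have : ∑ i, Φ.cv r i * Φ.A i r ≤ 0 := by
    refine Finset.sum_nonpos fun i _ => ?_
    rcases (h i).eq_or_lt with h1 | h1
    · rw [cv_eq_zero_iff.2 h1.symm, zero_mul]
    · exact mul_nonpos_of_nonneg_of_nonpos (cv_nonneg_iff.2 (h i)) (hn i h1)
  rw [Φ.pair_self] at this; omega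

/-- induction over the positive roots -/
theorem pos_induction {p : R → Prop} (h1 : ∀ i, p (Φ.sim i))
    (h2 : ∀ i r, Φ.Pos r → Φ.A i r < 0 → 0 < Φ.rv (Φ.rf i r) i → p r → p (Φ.rf i r))
    (r : R) (hr : Φ.Pos r) : p r := by
  generalize hn : (Φ.ht r).toNat = n
  induction n using Nat.strong_induction_on generalizing r with
  | h n ih =>
    obtain ⟨i, hi, hA⟩ := hr.exists_A_pos
    by_cases h : r = Φ.sim i
    · rw [h]; exact h1 i
    · have hp := hr.rf h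
      rw [← Φ.rf_rf i r]
      refine h2 i _ hp (by rw [A_rf_self]; omega) (by rwa [rf_rf]) (ih _ ?_ _ hp rfl)
      have := hp.ht_pos
      rw [ht_rf] at this ⊢
      omega

/-- every root is conjugate to a simple root -/
theorem root_induction {p : R → Prop} (h1 : ∀ i, p (Φ.sim i)) (h2 : ∀ i r, p r → p (Φ.rf i r))
    (r : R) : p r := by
  by_cases hr : Φ.Pos r
  · exact pos_induction h1 (fun i r _ _ _ h => h2 i r h) r hr
  · have := pos_induction (p := fun r => p (Φ.neg r))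
      (fun i => by rw [← rf_sim]; exact h2 _ _ (h1 i))
      (fun i r _ _ _ h => by rw [← rf_neg]; exact h2 _ _ h) _ (pos_neg_iff.2 hr)
    simpa [neg_neg] using this

theorem exists_cv_ne_zero (F : Type*) [Field F] (r : R) : ∃ i, (Φ.cv r i : F) ≠ 0 := by
  induction r using root_induction (Φ := Φ) with
  | h1 i => exact ⟨i, by simp [Φ.cv_sim]⟩
  | h2 i r ih =>
    by_contra hn
    push Not at hn
    obtain ⟨j, hj⟩ := ih
    apply hj
    have := congrFun (Φ.cv_rf i (Φ.rf i r)) j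
    rw [rf_rf] at this
    rw [this]
    have h0 : ((Φ.pair (Φ.rf i r) (Φ.sim i) : ℤ) : F) = 0 := by simp [pair, hn]
    by_cases h : j = i
    · subst h; simp [hn, h0]
    · simp [h, hn]

end RS

end Cfsg.Agent.Chev
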