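import Cfsg.Agent.Lib.Chev.Lift3

set_option autoImplicit false
set_option linter.unusedSectionVars false
set_option linter.style.haveILetI false

/-! Universal central extensions and Schur multipliers of the Chevalley groups. -/

namespace Cfsg.Agent.Chev

open scoped commutatorElement
open Cfsg.Lie

section Central
variable {E G : Type*} [Group E] [Group G] {π : E →* G}

/-- the `p`-elements over a `p`-subgroup form a complement to a central kernel of order prime to `p` -/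
theorem exists_pcompl (hc : π.ker ≤ Subgroup.center E) (hs : Function.Surjective π) {p : ℕ} [Fact p.Prime]
    (hk : (Nat.card π.ker).Coprime p) {Q : Subgroup G} [Finite Q] (hQ : IsPGroup p Q) :
    ∃ W : Subgroup E, (∀ w ∈ W, π w = 1 → w = 1) ∧ W.map π = Q ∧ ∀ e, e ∈ W ↔ π e ∈ Q ∧ ∃ k, e ^ p ^ k = 1 := by
  obtain ⟨n, hn⟩ := IsPGroup.iff_card.1 hQ
  have hle : π.ker ≤ Q.comap π := fun z hz => by simp [show π z = 1 from hz]
  obtain ⟨H, hH⟩ := Subgroup.exists_right_complement'_of_coprime (N := π.ker.subgroupOf (Q.comap π)) (by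
    rw [Nat.card_congr (Subgroup.subgroupOfEquivOfLe hle).toEquiv, ← Subgroup.relIndex, Subgroup.relIndex_ker,
      Subgroup.map_comap_eq_self_of_surjective hs, hn]
    exact hk.pow_right _)
  have h1 : ∀ w ∈ H.map (Q.comap π).subtype, π w = 1 → w = 1 := by
    rintro _ ⟨w, hw, rfl⟩ e
    exact congrArg Subtype.val (Subgroup.disjoint_def.1 hH.disjoint e hw)
  have h2 : ∀ e, π e ∈ Q → ∃ z, π z = 1 ∧ ∃ w ∈ H.map (Q.comap π).subtype, e = z * w := fun e he => by
    obtain ⟨⟨z, w⟩, h⟩ := hH.2 ⟨e, he⟩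
    exact ⟨z.1, z.2, w.1, ⟨_, w.2, rfl⟩, (congrArg Subtype.val h).symm⟩
  refine ⟨_, h1, le_antisymm (by rintro _ ⟨_, ⟨w, -, rfl⟩, rfl⟩; exact w.2) fun g hg => ?_, fun e => ⟨fun he => ?_, ?_⟩⟩
  · obtain ⟨e, rfl⟩ := hs g
    obtain ⟨z, hz, w, hw, rfl⟩ := h2 e hg
    exact ⟨w, hw, by simp [hz]⟩
  · have h3 : π e ∈ Q := by obtain ⟨w, -, rfl⟩ := he; exact w.2
    refine ⟨h3, n, h1 _ (pow_mem he _) ?_⟩
    rw [map_pow, ← hn]
    exact congrArg Subtype.val (pow_card_eq_one' (x := (⟨_, h3⟩ : Q)))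
  · rintro ⟨he, k, hk'⟩
    obtain ⟨z, hz, w, hw, rfl⟩ := h2 e he
    rw [(show Commute z w from (ker_comm hc hz w).symm).mul_pow] at hk'
    have h3 := h1 _ (pow_mem hw (p ^ k)) (by simpa [hz] using congrArg π hk')
    rw [h3, mul_one] at hk'
    have h4 : z ^ Nat.card π.ker = 1 := congrArg Subtype.val (pow_card_eq_one' (x := (⟨z, hz⟩ : π.ker)))
    have := pow_gcd_eq_one.2 ⟨h4, hk'⟩
    rw [hk.pow_right k, pow_one] at this
    rwa [this, one_mul]

/-- the pull-back of an extension -/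
def pb {U : Type*} [Group U] (π : E →* G) (σ : U →* G) : Subgroup (U × E) :=
  (σ.comp (MonoidHom.fst _ _)).eqLocus (π.comp (MonoidHom.snd _ _))

/-- the projection of the pull-back -/
def pbπ {U : Type*} [Group U] (π : E →* G) (σ : U →* G) : pb π σ →* U := (MonoidHom.fst _ _).comp (pb π σ).subtype

theorem pbπ_surj {U : Type*} [Group U] (hs : Function.Surjective π) (σ : U →* G) : Function.Surjective (pbπ π σ) :=
  fun u => (hs (σ u)).elim fun e he => ⟨⟨(u, e), he.symm⟩, rfl⟩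

theorem pbπ_ker {U : Type*} [Group U] (hc : π.ker ≤ Subgroup.center E) (σ : U →* G) :
    (pbπ π σ).ker ≤ Subgroup.center _ := by
  rintro ⟨⟨u, e⟩, h⟩ (rfl : u = 1)
  refine Subgroup.mem_center_iff.2 fun g => Subtype.ext (Prod.ext (by simp) ?_)
  exact ker_comm hc (h.symm.trans (map_one σ)) _

end Central

theorem exists_equiv_zmod {G : Type*} [Group G] {p n : ℕ} [Fact p.Prime] (h : Nat.card G = n) (hn : n ∣ p) :
    Nonempty (G ≃* Multiplicative (ZMod n)) :=
  h ▸ ⟨(zmodCyclicMulEquiv (isCyclic_of_card_dvd_prime (h ▸ hn))).symm⟩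

variable {I R : Type} [Fintype I] [DecidableEq I] [Fintype R] [DecidableEq R]

theorem St.lifts_coprime {Φ : CD I R} {F : Type*} [Field F] {G : Type*} [Group G] {S : St Φ F G} {E : Type*} [Group E]
    {π : E →* G} (hc : π.ker ≤ Subgroup.center E) (hs : Function.Surjective π) [Finite F] {p : ℕ} [Fact p.Prime]
    [CharP F p] (hk : (Nat.card π.ker).Coprime p) : S.Lifts π := by
  have h1 : ∀ f : I → ℤ, ∃ W : Subgroup E, (∀ w ∈ W, π w = 1 → w = 1) ∧ W.map π = S.Ux {r | 0 < Φ.fn f r} ∧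
      ∀ e, e ∈ W ↔ π e ∈ S.Ux {r | 0 < Φ.fn f r} ∧ ∃ k, e ^ p ^ k = 1 := fun f =>
    haveI := St.finite_Ux (S := S) (RS.unip_fn f)
    exists_pcompl hc hs hk (St.isPGroup_Ux p (RS.unip_fn f))
  choose W h1 h2 h3 using h1
  have h4 : ∀ r t, ∃ y, π y = S.x r t ∧ ∃ k, y ^ p ^ k = 1 := fun r t => by
    obtain ⟨f, h, -⟩ := RS.exists_fn_pos (Φ := Φ.toRS) (Φ.neg_ne r).symm
    obtain ⟨y, hy, e⟩ := (h2 f).ge (St.x_mem (S := S) (r := r) h t)
    exact ⟨y, e, ((h3 f y).1 hy).2⟩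
  choose y hy h4 using h4
  have h5 : ∀ {f r} t, 0 < Φ.fn f r → y r t ∈ W f := fun {f r} t h =>
    (h3 f _).2 ⟨by rw [hy]; exact St.x_mem (S := S) (r := r) h t, h4 r t⟩
  refine ⟨y, ⟨fun r t u => ?_, fun r s t u e1 e2 => ?_⟩, hy⟩
  · obtain ⟨f, h, -⟩ := RS.exists_fn_pos (Φ := Φ.toRS) (Φ.neg_ne r).symm
    exact mul_inv_eq_one.1 (h1 f _ (mul_mem (mul_mem (h5 _ h) (h5 _ h)) (inv_mem (h5 _ h))) (by rw [map_mul, map_inv, map_mul, hy, hy, hy, S.add, mul_inv_cancel]))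
  obtain ⟨f, a3, a4⟩ := RS.exists_fn_pos e2
  refine mul_inv_eq_one.1 (h1 f _ (mul_mem (mul_mem (h5 _ a4) (h5 _ a3))
    (inv_mem (mul_mem (mul_mem (h5 _ a3) (h5 _ a4)) (list_prod_mem ?_)))) ?_)
  · simp only [List.mem_map]
    rintro _ ⟨c, hc, rfl⟩
    exact h5 _ ((RS.unip_fn f).closed r a3 s a4 _ ⟨_, _, Φ.ct_rv r s c hc⟩)
  · simp only [map_mul, map_inv, hy, S.comm r s t u e1 e2, map_list_prod, List.map_map, Function.comp_def,
      mul_inv_cancel]

namespace Checked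
variable {D : ChevalleyDatum} {c : Cert} (h : Checked D c) {K : Type*} [Field K]

theorem cov_split {E : Type*} [Group E] {π : E →* D.SteinbergCover K} (hl : (h.cov K).Lifts π) :
    ∃ τ : D.SteinbergCover K →* E, ∀ g, π (τ g) = g := by
  obtain ⟨y, h1, h2⟩ := hl
  obtain ⟨τ, hτ⟩ := h.cov_lift h1
  exact ⟨τ, DFunLike.congr_fun (St.hom_ext h.cov_Gx (φ := π.comp τ) (ψ := MonoidHom.id _) fun r t => by simp [hτ, h2])⟩

theorem uni_lift_fin [Finite K] {G : Type*} [Group G] {y : Fin D.nroots → K → G} (hy : h.toCD.Rel y) :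
    ∃ φ : D.SteinbergGroup K →* G, ∀ r t, φ ((h.uni K).x r t) = y r t := by
  obtain ⟨ψ, hψ⟩ := h.cov_lift hy
  obtain ⟨φ, hφ⟩ := h.uni_lift' (h.cov K).hMul_of_finite (h.cov K).rel (ν := id) (f := fun _ => RingHom.id K)
    fun _ _ => ⟨rfl, rfl⟩
  exact ⟨ψ.comp φ, fun r t => by simp [hφ, hψ]⟩

include h in
theorem finite_uni [Finite K] : Finite (D.SteinbergGroup K) := by
  have := St.finite_PJ (h.uni_hMul (K := K)) Set.univ
  rw [St.PJ_univ, h.uni_Gx] at this
  exact Finite.of_equiv _ Subgroup.topEquiv.toEquiv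

universe u in
theorem hasSchur {K : Type u} [Field K] [Finite K] {G : Type u} [Group G] {S : St h.toCD K G}
    {p : D.SteinbergGroup K →* G} (hp : ∀ r t, p ((h.uni K).x r t) = S.x r t) (hs : Function.Surjective p)
    (hc : p.ker ≤ Subgroup.center _) (hd : commutator (D.SteinbergGroup K) = ⊤) {A : Type*} [CommGroup A]
    (e : Nonempty (p.ker ≃* A)) (hl : ∀ {Γ : Type u} [Group Γ] {σ : Γ →* G}, σ.ker ≤ Subgroup.center Γ →
      Function.Surjective σ → S.Lifts σ) : HasSchurMultiplier G A := by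
  haveI := h.finite_uni (K := K)
  refine hasSchur_of ⟨hs, hc, hd ▸ le_top⟩ e.some fun Γ _ _ σ hσ => ?_
  obtain ⟨y, h1, h2⟩ := hl hσ.2.1 hσ.1
  obtain ⟨φ, hφ⟩ := h.uni_lift_fin h1
  exact ⟨φ, St.hom_ext h.uni_Gx fun r t => by simp [hφ, h2, hp]⟩

universe u in
theorem hasSchur_adj {K : Type u} [Field K] [Finite K] (hd : commutator (D.SteinbergGroup K) = ⊤)
    (hi : Function.Injective (h.uni_hMul (K := K)).hT) {p n : ℕ} [Fact p.Prime]
    (e : Nat.card (zmap Kˣ h.toCD.cm).ker = n) (hn : n ∣ p) (hl : ∀ {Γ : Type u} [Group Γ] {σ : Γ →* D.group K},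
      σ.ker ≤ Subgroup.center Γ → Function.Surjective σ → (h.adj K).Lifts σ) : HasCyclicSchurMultiplier (D.group K) n :=
  h.hasSchur (h.proj_x h.uni_Gx h.uni_ad) (h.proj_surj _ _) (h.proj_ker _ _).le hd (exists_equiv_zmod (by
    rw [h.proj_ker, h.uni_hMul.center_eq h.uni_Gx, Subgroup.card_map_of_injective hi, e]) hn) hl

universe u in
theorem hasSchur_uni {K : Type u} [Field K] [Finite K] (hd : commutator (D.SteinbergGroup K) = ⊤)
    (hl : ∀ {Γ : Type u} [Group Γ] {σ : Γ →* D.SteinbergGroup K}, σ.ker ≤ Subgroup.center Γ → Function.Surjective σ →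
      (h.uni K).Lifts σ) : HasCyclicSchurMultiplier (D.SteinbergGroup K) 1 :=
  h.hasSchur (p := MonoidHom.id _) (fun _ _ => rfl) Function.surjective_id (by simp) hd
    (exists_equiv_zmod (p := 2) (by simp) (by simp)) hl

end Checked

theorem ne_of_big {K : Type*} [Field K] (hK : ∃ s : Finset K, 2 < s.card) : ∃ a : K, a ≠ 0 ∧ a ≠ 1 := by
  classical
  obtain ⟨s, hs⟩ := hK
  obtain ⟨a, -, h⟩ := Finset.exists_mem_notMem_of_card_lt_card ((Finset.card_le_two (a := (0 : K)) (b := 1)).trans_lt hs)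
  exact ⟨a, by simpa using h⟩

theorem perfect_of_mem {D : ChevalleyDatum} (hD : D ∈ [chevG2, chevB2, chevD4, chevF4, chevE6, chevE7, chevE8])
    {K : Type*} [Field K] (hK : D ∈ [chevB2, chevG2] → ∃ a : K, a ≠ 0 ∧ a ≠ 1) :
    commutator (D.SteinbergCover K) = ⊤ := by
  simp only [List.mem_cons, List.not_mem_nil, or_false] at hD
  rcases hD with rfl | rfl | rfl | rfl | rfl | rfl | rfl
  exacts [perfect_G2 checkedG2.cov_Gx (hK (by simp)), perfect_B2 checkedB2.cov_Gx (hK (by simp)),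
    perfect_D4 checkedD4.cov_Gx, perfect_F4 checkedF4.cov_Gx, perfect_E6 checkedE6.cov_Gx, perfect_E7 checkedE7.cov_Gx,
    perfect_E8 checkedE8.cov_Gx]

theorem cov_split_big {D : ChevalleyDatum} (hD : D ∈ [chevG2, chevB2, chevD4, chevF4, chevE6, chevE7, chevE8])
    {K : Type*} [Field K] (hK : ∃ s : Finset K, 4 < s.card) {E : Type*} [Group E] {π : E →* D.SteinbergCover K}
    (hc : π.ker ≤ Subgroup.center E) (hs : Function.Surjective π) : ∃ τ : D.SteinbergCover K →* E, ∀ g, π (τ g) = g := by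
  have h2 := ne_of_big (hK.imp fun s (h : 4 < s.card) => show 2 < s.card by omega)
  simp only [List.mem_cons, List.not_mem_nil, or_false] at hD
  rcases hD with rfl | rfl | rfl | rfl | rfl | rfl | rfl
  exacts [checkedG2.cov_split (lifts_G2 hc hs checkedG2.cov_Gx hK), checkedB2.cov_split (lifts_B2 hc hs checkedB2.cov_Gx h2),
    checkedD4.cov_split (lifts_D4 hc hs checkedD4.cov_Gx h2), checkedF4.cov_split (lifts_F4 hc hs checkedF4.cov_Gx h2),
    checkedE6.cov_split (St.lifts_sl hc hs checkedE6.cov_Gx sl_E6),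
    checkedE7.cov_split (St.lifts_sl hc hs checkedE7.cov_Gx sl_E7),
    checkedE8.cov_split (St.lifts_sl hc hs checkedE8.cov_Gx sl_E8)]

end Cfsg.Agent.Chev
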