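import Cfsg.Agent.Lib.Chev.StChar
import Cfsg.Agent.Lib.Block.Contrib

/-! Uniqueness of the character of defect zero of a Chevalley group in the defining characteristic. -/

set_option autoImplicit false
set_option linter.unusedSectionVars false

namespace Cfsg.Agent.Chev
open Cfsg.Agent.Char Finset

section Rep
variable {G k V : Type*} [Group G] [Field k] [AddCommGroup V] [Module k V] (ρ : Representation k G V)

/-- the stabilizer of a vector -/
def fixS (v : V) : Subgroup G where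
  carrier := {g | ρ g v = v}
  one_mem' := by simp
  mul_mem' {a b} ha hb := by simp only [Set.mem_ofPred_eq] at *; rw [map_mul, Module.End.mul_apply, hb, ha]
  inv_mem' {a} ha := by simp only [Set.mem_ofPred_eq] at *; conv_lhs => rw [← ha]
                        simp [← Module.End.mul_apply, ← map_mul]

theorem rep_mul (a b : G) (v : V) : ρ a (ρ b v) = ρ (a * b) v := by simp

theorem exists_fixed (p : ℕ) [Fact p.Prime] [CharP k p] {Q : Subgroup G} [Finite Q] (hQ : IsPGroup p Q) (N : Submodule k V)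
    (hN : ∀ g, ∀ v ∈ N, ρ g v ∈ N) {v : V} (hv : v ∈ N) (h0 : v ≠ 0) : ∃ w ∈ N, w ≠ 0 ∧ Q ≤ fixS ρ w := by
  let A := AddSubgroup.closure (Set.range fun q : Q => ρ q v)
  have hp : ∀ w : V, p • w = 0 := fun w => by rw [← Nat.cast_smul_eq_nsmul k, CharP.cast_eq_zero, zero_smul]
  have : Finite A := AddCommGroup.finite_of_fg_isAddTorsion _ fun w =>
    isOfFinAddOrder_iff_nsmul_eq_zero.2 ⟨p, (Fact.out : p.Prime).pos, Subtype.ext (hp _)⟩
  have hA : ∀ q : Q, ∀ w ∈ A, ρ q w ∈ A := fun q => by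
    have : A ≤ A.comap (ρ q).toAddMonoidHom := (AddSubgroup.closure_le _).2 (by
      rintro _ ⟨q', rfl⟩
      exact AddSubgroup.subset_closure ⟨q * q', by simp⟩)
    exact this
  let : MulAction Q A :=
    { smul q w := ⟨_, hA q w w.2⟩
      one_smul w := Subtype.ext (by change ρ (1 : Q) _ = _; simp)
      mul_smul a b w := Subtype.ext (rep_mul ρ a b w).symm }
  obtain ⟨w, h1, h2⟩ := hQ.exists_fixed_point_of_prime_dvd_card_of_fixed_point A (a := 0) (by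
    have h1 : v ∈ A := AddSubgroup.subset_closure ⟨1, by simp⟩
    rw [← addOrderOf_eq_prime (x := (⟨v, h1⟩ : A)) (Subtype.ext (hp v)) fun e => h0 (congrArg Subtype.val e)]
    exact addOrderOf_dvd_natCard _) fun q => Subtype.ext (map_zero (ρ q))
  exact ⟨w, (AddSubgroup.closure_le N.toAddSubgroup).2 (by rintro _ ⟨q, rfl⟩; exact hN _ _ hv) w.2,
    fun e => h2 (Subtype.ext e.symm), fun q hq => congrArg Subtype.val (h1 ⟨q, hq⟩)⟩

variable [Fintype G]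
open Classical

/-- the sum over a subgroup -/
noncomputable def sm (X : Subgroup G) (v : V) : V := ∑ x : X, ρ x v

theorem rep_sm {X : Subgroup G} {a : G} (ha : ∀ x ∈ X, a * x * a⁻¹ ∈ X) (v : V) : ρ a (sm ρ X v) = sm ρ X (ρ a v) := by
  rw [sm, map_sum]
  refine Fintype.sum_bijective (fun x : X => (⟨a * x * a⁻¹, ha x x.2⟩ : X)) (Finite.injective_iff_bijective.1 fun x y e => by simpa using e) _ _ fun x => ?_
  simp only [rep_mul, inv_mul_cancel_right]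

theorem le_fixS_sm (X : Subgroup G) (v : V) : X ≤ fixS ρ (sm ρ X v) := fun a ha => by
  change ρ a _ = _
  rw [sm, map_sum]
  exact Fintype.sum_bijective _ (Group.mulLeft_bijective (⟨a, ha⟩ : X)) _ _ fun x => rep_mul ..

theorem sum_coset {X : Subgroup G} (e : G → k) {v : V} (hv : X ≤ fixS ρ v) :
    ∑ g, e g • ρ g v = ∑ q : G ⧸ X, (∑ x : X, e (q.out * x)) • ρ q.out v := by
  simp only [sum_smul, ← Fintype.sum_prod_type']
  refine (Fintype.sum_bijective (fun y : (G ⧸ X) × X => y.1.out * y.2) ⟨?_, fun g => ?_⟩ _ _ fun y => by rw [← rep_mul, hv y.2.2]).symm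
  · rintro ⟨q, x⟩ ⟨q', x'⟩ e
    obtain rfl : q = q' := by simpa using congrArg (QuotientGroup.mk (s := X)) e
    simpa using e
  · obtain ⟨x, e⟩ := QuotientGroup.mk_out_eq_mul X g
    exact ⟨(g, x⁻¹), by simp [e]⟩

end Rep

variable {I R : Type} [Fintype I] [DecidableEq I] [Fintype R] [DecidableEq R]
namespace St
variable {Φ : CD I R} {F : Type*} [Field F] [Fintype F] {G : Type*} [Group G] [Fintype G] {S : St Φ F G} (hG : S.Gx = ⊤)
  (p : ℕ) [Fact p.Prime] [CharP F p] {k V : Type*} [Field k] [CharP k p] [AddCommGroup V] [Module k V] (ρ : Representation k G V)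
open Classical

theorem sum_U_eq_zero {e : G → k} (h1 : ∀ x g, e (x * g * x⁻¹) = e g)
    (h2 : ∀ g x, x ≠ 1 → x ^ p = 1 → x * g = g * x → e g = 0) {m : G} {w : Φ.W} (hw : S.Acts m w) (h : w ≠ Φ.w0 Set.univ) :
    ∑ u : S.U, e (m * u) = 0 := by
  obtain ⟨j, hj⟩ : ∃ j, Φ.Pos (w • Φ.sim j) := by
    by_contra! h'
    exact h (RS.eq_w0 (by simp [RS.WJ_univ]) fun j _ => h' j)
  have h3 := x_mem_U (S := S) (Φ.pos_sim j) 1
  have h4 : m * S.x (Φ.sim j) 1 * m⁻¹ ∈ S.U := hw.conj_mem (by simpa) (x_mem (Set.mem_singleton _) 1)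
  have h5 : ∀ n : ℕ, S.x (Φ.sim j) 1 ^ n = S.x (Φ.sim j) n := fun n => by induction n <;> simp [pow_succ, S.add, *]
  have h6 : (m * S.x (Φ.sim j) 1 * m⁻¹) ^ p = 1 := by simp [h5]
  have h7 : Subgroup.zpowers (m * S.x (Φ.sim j) 1 * m⁻¹) ≤ S.U ⊓ S.U.comap (MulAut.conj m⁻¹).toMonoidHom := by
    simpa [mul_assoc] using And.intro h4 h3
  rw [show ∑ u : S.U, e (m * u) = ∑ g, if m⁻¹ * g ∈ S.U then e g else 0 by
    rw [← Equiv.sum_comp (Equiv.mulLeft m), ← sum_filter]; simp [← Finset.sum_subtype_eq_sum_filter],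
    Blk.sum_eq_sum_Ce ((isPGroup_Ux p RS.unip_pos).to_le (h7.trans inf_le_left)) _ fun x hx g => by
      rw [h1, show m⁻¹ * (x * g * x⁻¹) = m⁻¹ * x * m⁻¹⁻¹ * (m⁻¹ * g) * x⁻¹ by group, S.U.mul_mem_cancel_right (inv_mem (h7 hx).1),
        S.U.mul_mem_cancel_left (x := m⁻¹ * x * m⁻¹⁻¹) (h7 hx).2]]
  refine sum_eq_zero fun g _ => ?_
  split_ifs with a _ <;> try rfl
  exact h2 g _ (by simp [x_eq_one_iff]) h6 (a _ (Subgroup.mem_zpowers _))

include hG in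
theorem sum_rep_eq {e : G → k} (h1 : ∀ x g, e (x * g * x⁻¹) = e g)
    (h2 : ∀ g x, x ≠ 1 → x ^ p = 1 → x * g = g * x → e g = 0) {m : G} (hm : m ∈ S.N) (hw : S.Acts m (Φ.w0 Set.univ))
    {v : V} (hv : S.U ≤ fixS ρ v) : ∑ g, e g • ρ g v = ∑ h : S.H, (∑ u : S.U, e (m * h * u)) • sm ρ S.U (ρ (m * h) v) := by
  have h3 : ∀ g, ∀ u ∈ S.U, ∑ x : S.U, e (g * u * x) = ∑ x : S.U, e (g * x) := fun g u hu =>
    Fintype.sum_bijective _ (Group.mulLeft_bijective (⟨u, hu⟩ : S.U)) _ _ fun x => by simp [mul_assoc]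
  have h4 : ∀ g, ∀ u ∈ S.U, ∑ x : S.U, e (u * g * x) = ∑ x : S.U, e (g * x) := fun g u hu =>
    Fintype.sum_bijective _ (Group.mulRight_bijective (⟨u, hu⟩ : S.U)) _ _ fun x => by rw [← h1 u⁻¹]; simp [mul_assoc]
  simp only [sum_coset ρ e hv, sm, smul_sum, ← Fintype.sum_prod_type']
  refine (Fintype.sum_of_injective (fun y : S.H × S.U => ((y.2 * (m * y.1) : G) : G ⧸ S.U)) ?_ _ _ (fun q hq => ?_) fun y => ?_).symm
  · rintro ⟨h, u⟩ ⟨h', u'⟩ e
    have a1 := fun h : S.H => H_le_B (conj_mem_H hm h.2)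
    have a2 := (normal_form_unique hw (mul_mem (U_le_B u.2) (a1 h)) (mul_mem (U_le_B u'.2) (a1 h')) (Uw_w0.ge (QuotientGroup.eq.1 e))
      (one_mem _) (by simp [mul_assoc])).1
    have a3 : (u' : G)⁻¹ * u = m * (h' * h⁻¹) * m⁻¹ := by
      rw [inv_mul_eq_iff_eq_mul, ← mul_left_inj (m * h * m⁻¹), a2]; simp [mul_assoc]
    have a4 := eq_one_of_mem_H RS.unip_pos (mul_mem (inv_mem u'.2) u.2) (a3 ▸ conj_mem_H hm (h' * h⁻¹).2)
    exact Prod.ext (Subtype.ext (mul_inv_eq_one.1 (conj_eq_one_iff.1 (a3.symm.trans a4))).symm) (Subtype.ext (inv_mul_eq_one.1 a4).symm)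
  · obtain ⟨b, a1, n, a2, w, a3, u, a4, a5⟩ := bruhat (hG.ge (Subgroup.mem_top q.out))
    obtain ⟨u', a6, h, a7, rfl⟩ := mem_B_iff.1 a1
    have a8 := (acts_of_mem_H a7).mul a3
    rw [a5, h3 _ _ (Uw_le_U w a4), mul_assoc, h4 _ _ a6, sum_U_eq_zero p h1 h2 a8, zero_smul]
    rintro e
    refine hq ⟨(⟨_, inv_mul_mem_H hm (mul_mem (H_le_N a7) a2) hw (e ▸ a8)⟩, ⟨u', a6⟩), ?_⟩
    rw [← q.out_eq', a5]
    exact QuotientGroup.eq.2 (by simpa [mul_assoc] using Uw_le_U w a4)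
  · obtain ⟨u, e⟩ := QuotientGroup.mk_out_eq_mul S.U (y.2 * (m * y.1) : G)
    rw [e, h3 _ _ u.2, h4 _ _ y.2.2, rep_mul, ← rep_mul ρ _ u, hv u.2]

theorem sm_U (i : I) (v : V) : sm ρ S.U v = ∑ t, ρ (S.x (Φ.sim i) t) (sm ρ (S.UJ {i}) v) := by
  simp only [sm, map_sum, rep_mul, ← Fintype.sum_prod_type']
  refine (Fintype.sum_bijective (fun y : F × S.UJ {i} =>
    (⟨S.x (Φ.sim i) y.1 * y.2, mul_mem (x_mem_U (Φ.pos_sim i) _) (Ux_mono (fun _ h => h.1) y.2.2)⟩ : S.U)) ⟨?_, ?_⟩ _ _ fun _ => rfl).symm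
  · rintro ⟨t, u⟩ ⟨t', u'⟩ e
    have a1 : S.x (Φ.sim i) (-t' + t) = u' * u⁻¹ := by
      rw [← S.add, ← S.x_inv, inv_mul_eq_iff_eq_mul, ← mul_assoc, ← Subtype.mk.inj e]; simp
    have a2 : S.x (Φ.sim i) (-t' + t) = 1 := (UJ_inf_LJ (S := S) {i}).le
      ⟨a1 ▸ (u' * u⁻¹).2, le_sup_left (b := S.H) (x_mem (RS.inJ_sim.2 (Set.mem_singleton i)) _)⟩
    exact Prod.ext (neg_add_eq_zero.1 (x_eq_one_iff.1 a2)).symm (Subtype.ext (mul_inv_eq_one.1 (a1.symm.trans a2)).symm)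
  · rintro ⟨u, hu⟩
    obtain ⟨a, h1, v, h2, rfl⟩ := exists_mul (B := {Φ.sim i}) (C := {r | Φ.Pos r ∧ ¬ Φ.InJ {i} r}) RS.unip_pos (fun r =>
      ⟨fun h => (_root_.em _).imp (RS.eq_sim_of_support h) fun h' => ⟨h, h'⟩, fun h => h.elim (fun e => e ▸ Φ.pos_sim i) And.left⟩) hu
    obtain ⟨t, rfl⟩ := mem_Ux_singleton.1 h1
    exact ⟨(t, ⟨v, h2⟩), rfl⟩

include p in
theorem h_T_T (i : I) (d : Fˣ) {v : V} (hv : S.U ≤ fixS ρ v) :
    S.h (Φ.sim i) d ∈ fixS ρ (∑ t, ρ (S.x (Φ.sim i) t * S.n (Φ.sim i) 1) (∑ t, ρ (S.x (Φ.sim i) t * S.n (Φ.sim i) 1) v)) := by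
  set n := S.n (Φ.sim i) 1
  have h1 : ∀ t, ρ (S.x (Φ.sim i) t * (n * n)) v = ρ (n * n) v := fun t => by
    rw [show S.x (Φ.sim i) t * (n * n) = n * n * ((n * n)⁻¹ * S.x (Φ.sim i) t * (n * n)⁻¹⁻¹) by simp [mul_assoc], ← rep_mul,
      hv (conj_H_Ux (inv_mem (n_mul_n_mem i 1 1)) (x_mem_U (Φ.pos_sim i) t))]
  have h2 : (∑ t, ρ (S.x (Φ.sim i) t * n) (∑ t, ρ (S.x (Φ.sim i) t * n) v)) =
      ∑ c : Fˣ, ∑ t, ρ (S.x (Φ.sim i) t * (S.n (Φ.sim i) c * (n * n))) v := by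
    simp only [map_sum, rep_mul]
    rw [sum_comm, ← add_sum_erase _ _ (mem_univ 0)]
    simp only [x_zero, one_mul, mul_assoc, h1, sum_const, card_univ, ← Nat.cast_smul_eq_nsmul k]
    rw [(CharP.cast_eq_zero_iff k p _).2 ((CharP.cast_eq_zero_iff F p _).1 (FiniteField.cast_card_eq_zero F)), zero_smul, zero_add]
    symm
    refine sum_bij (fun c _ => (c : F)⁻¹) (by simp) (by simp [Units.ext_iff]) (fun t ht => ⟨(Units.mk0 t (ne_of_mem_erase ht))⁻¹, by simp⟩) fun c _ => ?_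
    refine Fintype.sum_bijective _ (AddGroup.addRight_bijective (c : F)) _ _ fun t => ?_
    have := x_neg_eq (S := S) (Φ.sim i) (-c⁻¹)
    simp only [← mul_assoc n, n, n_mul_x]
    simp only [Units.val_neg, Units.val_inv_eq_inv_val, inv_neg, inv_inv, neg_neg] at this
    have h2 := h1 (-c)
    simp only [map_mul, Module.End.mul_apply, n] at h2
    simp [this, n, mul_assoc, ← mul_assoc (S.x _ _) (S.x _ _), S.add, h2]
  change ρ _ _ = _
  rw [h2, map_sum]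
  refine Fintype.sum_bijective _ (Group.mulLeft_bijective d) _ _ fun c => ?_
  rw [map_sum]
  refine Fintype.sum_bijective _ (mulLeft_bijective₀ ((d ^ Φ.pair (Φ.sim i) (Φ.sim i) : Fˣ) : F) (Units.ne_zero _)) _ _ fun t => ?_
  rw [rep_mul, ← h_conj_x, S.n_eq_h_mul _ (d * c), ← S.hMul_of_finite, S.n_eq_h_mul _ c]
  congr 2
  group

include hG in
theorem H_le_fixS {e : G → k} (h1 : ∀ x g, e (x * g * x⁻¹) = e g) (h2 : ∀ g x, x ≠ 1 → x ^ p = 1 → x * g = g * x → e g = 0)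
    {v : V} (hv : S.U ≤ fixS ρ v) (he : ∑ g, e g • ρ g v = v) : S.H ≤ fixS ρ v := by
  obtain ⟨m, hm, hw⟩ := exists_of_W (S := S) (Φ.w0 Set.univ)
  refine (Subgroup.closure_le _).2 ?_
  rintro _ ⟨i, d, rfl⟩
  have key : ∀ v, S.U ≤ fixS ρ v → ∑ g, e g • ρ g v = v → ∃ v', S.U ≤ fixS ρ v' ∧ ∑ g, e g • ρ g v' = v' ∧
      v = ∑ t, ρ (S.x (Φ.sim i) t * S.n (Φ.sim i) 1) v' := fun v hv he => by
    have h3 : ∀ a w, ∑ g, e g • ρ g (ρ a w) = ρ a (∑ g, e g • ρ g w) := fun a w => by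
      rw [map_sum]
      exact Fintype.sum_bijective _ (MulAut.conj a⁻¹).bijective _ _ fun g => by
        rw [map_smul, rep_mul, rep_mul, MulAut.conj_apply, h1]; simp [mul_assoc]
    refine ⟨∑ h : S.H, (∑ u : S.U, e (m * h * u)) • ρ (S.n (Φ.sim i) 1)⁻¹ (sm ρ (S.UJ {i}) (ρ (m * h) v)), fun u hu => ?_, ?_, ?_⟩
    · change ρ _ _ = _
      rw [map_sum]
      refine sum_congr rfl fun h _ => ?_
      have : S.Ux {r | Φ.Pos (Φ.s i • r)} ≤ fixS ρ (sm ρ (S.UJ {i}) (ρ (m * h) v)) := Ux_le.2 fun r hr t => by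
        by_cases a : Φ.Pos r
        · exact le_fixS_sm ρ _ _ (x_mem (A := {r | Φ.Pos r ∧ ¬ Φ.InJ {i} r}) ⟨a, fun b => by simp [RS.eq_sim_of_support a b, RS.rf_sim, RS.not_pos_neg_sim] at hr⟩ t)
        · change ρ _ _ = _
          have b : r = Φ.neg (Φ.sim i) := by
            rw [← RS.eq_sim_of_rf (r := Φ.neg r) (RS.pos_neg_iff.2 a) (by simpa [RS.rf_neg, RS.pos_neg_iff] using hr), RS.neg_neg]
          have c : (m * h)⁻¹ * S.x r t * (m * h) ∈ S.U := (hw.mul (acts_of_mem_H h.2)).conj_mem' (A := {r}) (by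
            rintro _ rfl
            rw [mul_one, RS.w0_inv]
            exact (RS.pos_w0_iff fun _ h => absurd trivial h).2 a) (x_mem (Set.mem_singleton r) t)
          have d : S.x r t ∈ S.PJ {i} := x_mem_PJ (.inr (by rw [b]; exact (RS.inJ_sim.2 (Set.mem_singleton i)).neg)) t
          rw [rep_sm ρ fun x hx => conj_UJ d hx, rep_mul,
            show S.x r t * (m * h) = m * h * ((m * h)⁻¹ * S.x r t * (m * h)) by simp [mul_assoc], ← rep_mul, hv c]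
      rw [map_smul, rep_mul, show u * (S.n (Φ.sim i) 1)⁻¹ = (S.n (Φ.sim i) 1)⁻¹ * (S.n (Φ.sim i) 1 * u * (S.n (Φ.sim i) 1)⁻¹) by group,
        ← rep_mul, this ((acts_n i 1).conj_mem (by simp [RS.rf_rf]) hu)]
    · simp only [map_sum, map_smul, smul_sum, sm]
      rw [sum_comm]
      refine sum_congr rfl fun h _ => ?_
      rw [sum_comm]
      refine sum_congr rfl fun x _ => ?_
      simp only [smul_comm (e _), ← smul_sum, h3, he]
    · refine (he.symm.trans (sum_rep_eq hG p ρ h1 h2 hm hw hv)).trans ?_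
      simp only [map_sum, map_smul, rep_mul, mul_inv_cancel_right, sm_U ρ i, smul_sum]
      exact sum_comm
  obtain ⟨v', a1, a2, rfl⟩ := key v hv he
  obtain ⟨v'', a3, -, rfl⟩ := key v' a1 a2
  exact h_T_T p ρ i d a3

open Blk in
include hG in
theorem mul_ne_zero_of_defect {e e' : MonoidAlgebra k G} (h0 : e ≠ 0) (h0' : e' ≠ 0) (hi : IsIdempotentElem e) (hi' : IsIdempotentElem e')
    (h1 : e ∈ Z k ⊤) (h1' : e' ∈ Z k ⊤) (h2 : ∀ g x, x ≠ 1 → x ^ p = 1 → x * g = g * x → e.coeff g = 0)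
    (h2' : ∀ g x, x ≠ 1 → x ^ p = 1 → x * g = g * x → e'.coeff g = 0) : e * e' ≠ 0 := by
  obtain ⟨m, hm, hw⟩ := exists_of_W (S := S) (Φ.w0 Set.univ)
  let ρ : Representation k G (MonoidAlgebra k G) := (Algebra.lmul k _).toMonoidHom.comp (MonoidAlgebra.of k G)
  have h3 : ∀ e v : MonoidAlgebra k G, ∑ g, e.coeff g • ρ g v = e * v := fun e v => by
    conv_rhs => rw [eq_sum_single e, sum_mul]
    exact sum_congr rfl fun g _ => (smul_mul_assoc ..).symm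
  have key : ∀ e : MonoidAlgebra k G, e ≠ 0 → IsIdempotentElem e → e ∈ Z k ⊤ →
      (∀ g x, x ≠ 1 → x ^ p = 1 → x * g = g * x → e.coeff g = 0) → ∃ v ≠ 0, e * v = v ∧ ∀ e' ∈ Z k ⊤,
      (∀ g x, x ≠ 1 → x ^ p = 1 → x * g = g * x → e'.coeff g = 0) →
        e' * v = (∑ h : S.H, ∑ u : S.U, e'.coeff (m * h * u)) • sm ρ S.U (ρ m v) := fun e h0 hi h1 h2 => by
    obtain ⟨v, a1, a2, a3⟩ := exists_fixed ρ p (isPGroup_Ux (S := S) p RS.unip_pos) (LinearMap.eqLocus (LinearMap.mulLeft k e) .id)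
      (fun g v hv => by
        change e * (_ * v) = _ * v
        rw [← mul_assoc, (Z_top_comm h1 _).eq, mul_assoc]; exact congrArg _ hv) (v := e) hi h0
    refine ⟨v, a2, a1, fun e' h1' h2' => ?_⟩
    rw [← h3, sum_rep_eq hG p ρ (mem_Z_top.1 h1') h2' hm hw a3, sum_smul]
    exact sum_congr rfl fun h _ => by rw [← rep_mul, H_le_fixS hG p ρ (mem_Z_top.1 h1) h2 a3 ((h3 ..).trans a1) h.2]
  obtain ⟨v, a1, a2, a3⟩ := key e h0 hi h1 h2
  obtain ⟨v', a1', a2', a3'⟩ := key e' h0' hi' h1' h2'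
  intro h
  have := a3' e h1 h2
  rw [← a2', ← mul_assoc, h, zero_mul, a2', eq_comm, smul_eq_zero] at this
  rcases this with b | b
  · exact a1 (by rw [← a2, a3 e h1 h2, b, zero_smul])
  · exact a1' (by rw [← a2', a3' e' h1' h2', b, smul_zero])

open Blk in
include hG in
theorem eq_stein {χ : G → ℂ} (hχ : IsIrrCharacter G χ) {d : ℕ} (hd : χ 1 = d) (h : p ^ (Nat.card G).factorization p ∣ d) :
    χ = (tits hG).stein := by
  obtain ⟨M, hM⟩ := exists_pmod p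
  have key : ∀ χ : IrrCharacter G, ∀ d : ℕ, χ.1 1 = d → p ^ (Nat.card G).factorization p ∣ d → IsUB M {χ} ∧
      ∀ g x, x ≠ 1 → x ^ p = 1 → x * g = g * x → (bar M {χ}).coeff g = 0 := fun χ d hd h => by
    have h0 : d ≠ 0 := by rintro rfl; exact χ.2.apply_one_ne_zero (by simpa using hd)
    have h1 : (d : ℂ) / Nat.card G ∈ O M := (natDiv_mem_O_iff h0 Nat.card_pos.ne').2 ((Nat.Prime.pow_dvd_iff_le_factorization Fact.out h0).1 h)
    have h2 : ∀ g, blockCoeff {χ} g = d / Nat.card G * χ.1 g⁻¹ := fun g => by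
      rw [blockCoeff, finsum_mem_singleton, hd, χ.2.isCharacter.apply_inv]; ring
    refine ⟨isUB_of_isInt fun g => by
      rw [coeff_fC, h2]; exact mul_mem h1 (mem_O_of_isIntegral M (χ.2.isCharacter.isIntegral _)), fun g x a1 a2 a3 => ?_⟩
    have h3 : χ.1 g⁻¹ = centralChar χ.1 g⁻¹ * (d / Nat.card G) * Nat.card (Ce1 g⁻¹) := by
      have := χ.2.apply_one_ne_zero
      have := card_ne_zero' (Ce1 g⁻¹)
      have : ((Ce1 g⁻¹).index : ℂ) ≠ 0 := Nat.cast_ne_zero.2 Subgroup.FiniteIndex.index_ne_zero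
      rw [centralChar, ← (Ce1 g⁻¹).card_mul_index, ← hd]; push_cast; field_simp
    have h4 := LI_mul_left h1 (LI_mul_left (mul_mem (centralChar_mem_O χ.2 g⁻¹) h1) (LI_natCast_iff.2
      (orderOf_eq_prime a2 a1 ▸ (Ce1 g⁻¹).orderOf_dvd_natCard (mem_Ce1.2 (Commute.inv_right a3)))))
    rw [coeff_bar, h2, h3, rd_eq_zero_iff (LI_mem_O h4)]
    exact h4
  obtain ⟨a1, a2⟩ := key ⟨χ, hχ⟩ d hd h
  obtain ⟨b1, b2⟩ := key ⟨_, isIrr_stein hG⟩ _ (stein_one hG) (card_U_eq hG p).symm.dvd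
  have h0 : ∀ χ : IrrCharacter G, IsUB M {χ} → bar M {χ} ≠ 0 := fun χ h e =>
    Set.singleton_ne_empty _ (h.bar_inj isUB_empty (e.trans bar_empty.symm))
  by_contra hne
  refine mul_ne_zero_of_defect hG p (h0 _ a1) (h0 _ b1) a1.bar_idem b1.bar_idem (bar_mem _) (bar_mem _) a2 b2 ?_
  rw [a1.bar_mul b1, Set.singleton_inter_of_notMem (by simpa), bar_empty]

end St
end Cfsg.Agent.Chev
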