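import Cfsg.Agent.Lib.Chev.BT
import Cfsg.Agent.Lib.Chev.StUniq
import Cfsg.Agent.Lib.Block.Cover

/-! The blocks of a Chevalley group in the defining characteristic. -/

set_option autoImplicit false
set_option linter.unusedSectionVars false

namespace Cfsg.Agent.Chev
open Blk MonoidAlgebra

section
variable {G : Type*} [Group G] [Finite G] {M : Ideal AlgInt} {p : ℕ} [PMod M p]

theorem isUnit_Br {D P Q : Subgroup G} (hD : IsPGroup p D) (h1 : D ≤ P) (h2 : Ce D ≤ P) (hQ : IsPGroup p Q) (h3 : Q ≤ P) (h4 : P ≤ No Q)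
    (h5 : IsPGroup p (P ⊓ Ce Q : Subgroup G)) {e : (kk M)[G]} (he : IsBlock ⊤ e) (h : Br D e ≠ 0) : ∃ c, Br D e * c = 1 := by
  have hp := Fact.mk (PMod.prime M)
  obtain ⟨b, hb⟩ := exists_isBlock (kk M) P
  obtain rfl : b = 1 := eq_one_of_mem_sup_bot hb.idem hb.ne (mem_sup.2 fun g hg => by_contra fun h0 => hg
    (eq_one_of_pelt_of_preg (pelt_of_mem h5 ⟨mem_of_coeff_ne_zero hb.sup h0, mem_of_coeff_ne_zero (hb.mem_sup_Ce hQ h3 h4) h0⟩)
      (preg_of_coeff_idem hb.mem hb.idem h0)))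
  have a1 := tr_mem_Z (le_top (a := P)) he.mem
  have a2 : Br D (tr (P : Set G) e) = Br D e := by rw [tr_tr, Set.inter_eq_left.2 h2]
  obtain ⟨c, a3, a4⟩ := (hb.lam_ne_zero_iff a1).1 fun a => not_isNilpotent_one (R := (kk M)[G]) (absurd (idem_eq_zero_of_nilpotent
    (Br_idem hD (inv_anti le_top he.inv) he.idem) (a2 ▸ Br_nilpotent hD (inv_anti h1 a1.2) (by simpa using (hb.lam_eq_zero_iff a1).1 a))) h)
  exact ⟨Br D c, by rw [← a2, ← Br_mul hD (inv_anti h1 a1.2) (inv_anti h1 a3.2), ← mul_one (_ * c), a4, Br_one]⟩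

end

variable {I R : Type} [Fintype I] [DecidableEq I] [Fintype R] [DecidableEq R]

theorem St.card_blocks {Φ : CD I R} {F : Type*} [Field F] [Fintype F] {G : Type*} [Group G] [Finite G] {S : St Φ F G} (hG : S.Gx = ⊤)
    (hΦ : Φ.Good) (hθ : Function.Injective S.θ) (p : ℕ) [Fact p.Prime] [CharP F p] {M : Ideal AlgInt} (hM : IsPModular p M) :
    Nat.card {B : Set (IrrCharacter G) // IsPBlock M B} = 2 := by
  have := Fintype.ofFinite G
  have : PMod M p := ⟨hM⟩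
  have h0 := isPBlock_principal (M := M) (G := G)
  let χ : IrrCharacter G := ⟨_, St.isIrr_stein hG⟩
  have h1 : nu p χ = (Nat.card G).factorization p := by
    rw [nu, charDegree, show χ.1 1 = _ from St.stein_one hG, Complex.natCast_re, Nat.floor_natCast, St.card_U_eq hG p, Nat.factorization_pow_self Fact.out]
  obtain ⟨E, hE⟩ := h0.isBlock.exists_isDef p
  refine Nat.card_eq_two_iff.2 ⟨⟨_, h0⟩, ⟨_, isPBlock_blockOf χ⟩, fun e => ?_, Set.eq_univ_of_forall fun ⟨B, hB⟩ => ?_⟩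
  · have a := ((isPBlock_blockOf (M := M) χ).defect_eq_zero_iff (mem_blockOf_self χ)).2 h1
    rw [← Subtype.mk.inj e, h0.defect_eq_zero_iff_isDef, isDef_principal_iff] at a
    obtain ⟨i⟩ := hΦ.ne
    simpa [St.x_eq_one_iff] using (a.max S.U le_top (St.isPGroup_Ux p RS.unip_pos) bot_le).le (St.x_mem_U (Φ.pos_sim i) 1)
  obtain ⟨D, hD⟩ := hB.isBlock.exists_isDef p
  rcases eq_or_ne D ⊥ with rfl | hne
  · obtain ⟨ψ, hψ⟩ := hB.nonempty
    have a := (hB.defect_eq_zero_iff hψ).1 (hB.defect_eq_zero_iff_isDef.2 hD)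
    obtain rfl : ψ = χ := Subtype.ext (St.eq_stein hG p ψ.2 ψ.2.isCharacter.cast_charDegree.symm (a ▸ Nat.ordProj_dvd _ _))
    exact .inr (Subtype.ext (hB.eq_blockOf hψ))
  obtain ⟨g, -, J, a1, a2, a3⟩ := St.borel_tits' p (hG ▸ le_top) hD.pg hne
  obtain ⟨i, hi⟩ := (Set.ne_univ_iff_exists_notMem _).1 a1
  rw [hG, inf_top_eq] at a2
  have a4 : S.UJ J ≤ S.PJ J := le_sup_left.trans (St.UJ_sup_LJ _).le
  have key : ∀ e : (kk M)[G], IsBlock ⊤ e → Br D e ≠ 0 → ∃ c, Br D e * c = 1 := fun e => isUnit_Br hD.pg (Subgroup.le_normalizer.trans a2)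
    ((Subgroup.centralizer_le_normalizer _).trans a2) (.map (by rw [St.UJ_eq]; exact St.isPGroup_Ux p (RS.unip_fn _)) _) (Subgroup.map_mono a4)
    (by rw [← cs_No]; exact Subgroup.map_mono (Subgroup.le_normalizer_iff.2 fun g hg u hu => St.conj_UJ hg hu))
    (by rw [← cs_Ce, ← cs_inf]; exact ((St.isPGroup_Ux p RS.unip_pos).to_le (St.inf_centralizer_UJ_le hΦ hθ hi)).map _)
  obtain ⟨x, -, b1⟩ := (isDef_principal_iff.1 hE).exists_cs_le hD.pg le_top
  obtain ⟨c, hc⟩ := key _ hB.isBlock hD.ne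
  obtain ⟨c', hc'⟩ := key _ h0.isBlock (by
    simpa [h0.isBlock.cj_eq (Subgroup.mem_top x⁻¹)] using Br_cs_ne_zero (Br_ne_zero_of_le b1 hE.ne) x⁻¹)
  refine .inl (Subtype.ext (hB.bar_inj h0 (hB.isBlock.eq_of_mul_ne_zero h0.isBlock fun e => ?_)))
  have := congrArg (fun a => Br D a * c') e
  simp only [Br_mul hD.pg (inv_anti le_top hB.isBlock.inv) (inv_anti le_top h0.isBlock.inv), mul_assoc, hc', map_zero, zero_mul, mul_one] at this
  exact hD.ne this

end Cfsg.Agent.Chev
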