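import Cfsg.Agent.Lib.Chev.FeitHigman
import Cfsg.Agent.Lib.Chev.TwoBlk
import Cfsg.Agent.Lib.Chev.Schur

set_option autoImplicit false
set_option linter.unusedSectionVars false
set_option linter.style.haveILetI false

/-! Split `BN`-pairs of characteristic `p`. -/

namespace Cfsg.Agent.Chev
open BN Finset

theorem InvGen.len_of_max {ι W : Type*} [Group W] {s : ι → W} (h : InvGen s) (hx : Exchange s) {w : W}
    (hw : ∀ i, ¬ len s w < len s (w * s i)) (v : W) : len s (w * v⁻¹) + len s v = len s w := by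
  induction v using h.induction_right with
  | h1 => simp
  | hs i v e ih =>
    obtain ⟨ω, a, b⟩ := h.exists_red v⁻¹
    obtain ⟨ω', a', b'⟩ := h.exists_red (w * v⁻¹)⁻¹
    have c : wp s (ω ++ ω') = w⁻¹ := by simp [b, b']
    have l1 : ω.length = len s v := by rw [← a, b, h.len_inv]
    have l2 : ω'.length = len s (w * v⁻¹) := by rw [← a', b', h.len_inv]
    have l3 : len s (s i * w⁻¹) = len s (w * s i) := by rw [← h.len_inv, mul_inv_rev, inv_inv, h.inv]
    have := hw i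
    have l4 := h.len_mul_le (w * (v * s i)⁻¹) (v * s i)
    obtain ⟨j, d, f⟩ := hx i (ω ++ ω') (by rw [Red, c, h.len_inv, List.length_append]; omega) (by rw [c, List.length_append]; omega)
    rw [inv_mul_cancel_right] at l4
    rcases lt_or_ge j ω.length with g | g
    · rw [List.eraseIdx_append_of_lt_length g, wp_append, wp_append, ← mul_assoc, mul_left_inj] at f
      have := len_wp_le s (ω.eraseIdx j)
      rw [← f, b, ← h.len_inv, mul_inv_rev, inv_inv, h.inv, List.length_eraseIdx_of_lt g] at this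
      omega
    · rw [List.eraseIdx_append_of_length_le g, c, wp_append, b] at f
      have := len_wp_le s (ω'.eraseIdx (j - ω.length))
      rw [List.length_append] at d
      rw [show wp s _ = (w * (v * s i)⁻¹)⁻¹ by rw [mul_inv_rev, inv_inv, mul_assoc, f]; simp, h.len_inv, List.length_eraseIdx_of_lt (by omega)] at this
      omega

theorem InvGen.eq_of_max {ι W : Type*} [Group W] {s : ι → W} (h : InvGen s) (hx : Exchange s) {w w' : W}
    (hw : ∀ i, ¬ len s w < len s (w * s i)) (hw' : ∀ i, ¬ len s w' < len s (w' * s i)) : w = w' := by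
  have a := h.len_of_max hx hw w'
  have b := h.len_of_max hx hw' w
  exact mul_inv_eq_one.1 (h.len_eq_zero.1 (by omega))

/-- a saturated split `BN`-pair of characteristic `p` -/
structure SBN₀ (p : ℕ) (G : Type*) [Group G] extends BNPair G where
  U : Subgroup G
  n₀ : N
  pU : IsPGroup p U
  U_le : U ≤ B
  conj_U : ∀ b ∈ B, ∀ u ∈ U, b * u * b⁻¹ ∈ U
  split : ∀ b ∈ B, ∃ u ∈ U, ∃ h ∈ B ⊓ N, b = u * h
  pH : ¬ p ∣ Nat.card (B ⊓ N : Subgroup G)
  sat : ∀ u ∈ U, (n₀ : G)⁻¹ * u * n₀ ∈ B → u = 1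

namespace SBN₀
variable {p : ℕ} {G : Type*} [Group G] (P : SBN₀ p G)

theorem conj_H (n : P.N) {h : G} (hh : h ∈ P.B ⊓ P.N) : (n : G)⁻¹ * h * n ∈ P.B := by
  simpa using P.conj_mem _ (inv_mem n.2) h hh

theorem mem_C_iff' (n : P.N) {g : G} : g ∈ C P.toBNPair (pr _ n) ↔ ∃ u ∈ P.U, ∃ b ∈ P.B, g = u * n * b := by
  rw [mem_C_iff n rfl]
  refine ⟨fun ⟨b, hb, b', hb', e⟩ => ?_, fun ⟨u, hu, h⟩ => ⟨u, P.U_le hu, h⟩⟩
  obtain ⟨u, hu, h, hh, rfl⟩ := P.split b hb
  exact ⟨u, hu, _, mul_mem (P.conj_H n hh) hb', by rw [e]; group⟩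

theorem exists_eq (g : G) : ∃ u ∈ P.U, ∃ n : P.N, ∃ b ∈ P.B, g = u * n * b := by
  obtain ⟨w, hw⟩ := exists_mem_C P.toBNPair g
  obtain ⟨n, rfl⟩ := pr_surj _ w
  obtain ⟨u, a, b, c⟩ := (P.mem_C_iff' n).1 hw
  exact ⟨u, a, n, b, c⟩

theorem exists_not_mem (i : P.S) : ∃ b ∈ P.B, (i : G)⁻¹ * b * i ∉ P.B := by
  obtain ⟨b, hb, h⟩ := exists_sq_mem_C i
  exact ⟨_, mul_mem (P.sq_mem _ i.2) hb, fun e => s_ne_one _ i (eq_of_mem_C h (mem_C_one.2 (by simpa [mul_assoc] using e)))⟩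

theorem max (i : P.S) : ¬ len (s P.toBNPair) (pr _ P.n₀) < len (s P.toBNPair) (pr _ P.n₀ * s _ i) := fun h => by
  have h1 : ∀ g ∈ C P.toBNPair (s _ i), ∀ g' ∈ C P.toBNPair (pr _ P.n₀), g' * g ∈ C P.toBNPair (pr _ P.n₀ * s _ i) := fun g a g' b =>
    mul_mem_C_of_len_add (by
      rw [(invGen _).len_simple (exchange _)]
      exact le_antisymm ((invGen _).len_mul_simple_le _ _) h) b a
  obtain ⟨v, hv, e⟩ := P.exists_not_mem i
  obtain ⟨u, hu, b, hb, f⟩ := (P.mem_C_iff' (P.n₀ * sN _ i)).1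
    (map_mul (pr _) P.n₀ _ ▸ h1 _ (mul_mem_C hv (simple_mem_C i)) _ (mem_C_self _))
  replace f : (P.n₀ : G)⁻¹ * u * P.n₀ = v * i * (b⁻¹ * (i : G)⁻¹) := by
    rw [← mul_assoc, eq_mul_inv_iff_mul_eq, eq_mul_inv_iff_mul_eq, eq_comm, ← mul_right_inj (P.n₀ : G), f]; simp [sN, mul_assoc]
  rcases mul_mem_C_union (mul_mem_C hv (simple_mem_C i)) (mul_mem_C (inv_mem hb) (inv_mem_C (simple_mem_C i))) with a | a
  · rw [mul_inv_cancel, ← f, mem_C_one] at a
    obtain rfl := P.sat u hu a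
    exact e (by rwa [show (i : G)⁻¹ * v * i = b by rw [← mul_left_inj (b⁻¹ * (i : G)⁻¹), mul_assoc, mul_assoc, ← mul_assoc v, ← f]; simp])
  · rw [(invGen _).inv, ← f] at a
    exact s_ne_one _ i (mul_eq_left.1 (eq_of_mem_C (h1 _ a _ (mem_C_self _))
      (by simpa [mul_assoc] using mul_mem_C (P.U_le hu) (mem_C_self P.n₀))))

theorem max_iff (w : W P.toBNPair) : (∀ i, ¬ len (s P.toBNPair) w < len (s P.toBNPair) (w * s _ i)) ↔ w = pr _ P.n₀ :=
  ⟨fun h => (invGen _).eq_of_max (exchange _) h P.max, fun e => e ▸ P.max⟩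

theorem w0_inv : (pr _ P.n₀)⁻¹ = pr P.toBNPair P.n₀ := by
  have := (invGen _).len_of_max (exchange _) P.max (pr _ P.n₀)⁻¹
  rw [(invGen _).len_inv, inv_inv, Nat.add_eq_right, (invGen _).len_eq_zero] at this
  exact inv_eq_of_mul_eq_one_right this

theorem sat' {u : G} (hu : u ∈ P.U) (h : P.n₀ * u * (P.n₀ : G)⁻¹ ∈ P.B) : u = 1 := by
  have a : (P.n₀ : G) * P.n₀ ∈ P.B := by simpa using (pr_eq_iff _ P.n₀⁻¹ P.n₀).1 (by rw [map_inv, w0_inv])
  exact P.sat u hu (by simpa [mul_assoc] using mul_mem (mul_mem (inv_mem a) h) a)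

theorem mem_H_iff (g : G) : g ∈ P.B ⊓ P.N ↔ g ∈ P.B ∧ (P.n₀ : G)⁻¹ * g * P.n₀ ∈ P.B := by
  refine ⟨fun h => ⟨h.1, P.conj_H _ h⟩, fun ⟨a, b⟩ => ?_⟩
  obtain ⟨u, hu, h, hh, rfl⟩ := P.split g a
  rwa [P.sat u hu (by simpa [mul_assoc] using mul_mem b (inv_mem (P.conj_H P.n₀ hh))), one_mul]

theorem mem_B_of_conj {g : G} (h : ∀ u ∈ P.U, g⁻¹ * u * g ∈ P.B) : g ∈ P.B := by
  obtain ⟨u, hu, n, b, hb, rfl⟩ := P.exists_eq g
  refine mul_mem (mul_mem (P.U_le hu) (inv_mem_iff.1 (mem_of_conj_le _ le_rfl (inv_mem n.2) fun c hc => ?_))) hb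
  obtain ⟨v, hv, k, hk, rfl⟩ := P.split c hc
  simpa [mul_assoc] using mul_mem (mul_mem (mul_mem hb (h _ (P.conj_U u (P.U_le hu) v hv))) (inv_mem hb)) (P.conj_H n hk)

theorem center_le : Subgroup.center G ≤ P.B ⊓ P.N := fun g hg => by
  have : g ∈ P.B := P.mem_B_of_conj fun u hu => by simpa [mul_assoc, Subgroup.mem_center_iff.1 hg u] using P.U_le hu
  exact (P.mem_H_iff g).2 ⟨this, by simpa [mul_assoc, ← Subgroup.mem_center_iff.1 hg] using this⟩

theorem eq_one_of_mem_H {u : G} (hu : u ∈ P.U) (h : u ∈ P.N) : u = 1 := P.sat u hu (P.conj_H _ ⟨P.U_le hu, h⟩)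

theorem normalizer_U : Subgroup.normalizer (P.U : Set G) = P.B :=
  le_antisymm (fun g hg => P.mem_B_of_conj fun u hu => P.U_le ((Subgroup.mem_normalizer_iff''.1 hg u).1 hu))
    (Subgroup.le_normalizer_iff.2 P.conj_U)

theorem card_B : Nat.card P.B = Nat.card P.U * Nat.card (P.B ⊓ P.N : Subgroup G) := by
  rw [← Nat.card_prod]
  refine (Nat.card_eq_of_bijective (fun x : P.U × (P.B ⊓ P.N : Subgroup G) => (⟨x.1 * x.2, mul_mem (P.U_le x.1.2) x.2.2.1⟩ : P.B))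
    ⟨fun x y e => ?_, fun ⟨b, hb⟩ => ?_⟩).symm
  · have e : (y.1 : G)⁻¹ * x.1 = y.2 * (x.2 : G)⁻¹ := by
      rw [inv_mul_eq_iff_eq_mul, ← mul_assoc, eq_mul_inv_iff_mul_eq]; exact congrArg Subtype.val e
    have := P.eq_one_of_mem_H (mul_mem (inv_mem y.1.2) x.1.2) (e ▸ mul_mem y.2.2.2 (inv_mem x.2.2.2))
    exact Prod.ext (Subtype.ext (inv_mul_eq_one.1 this).symm) (Subtype.ext (mul_inv_eq_one.1 (e ▸ this)).symm)
  · obtain ⟨u, hu, h, hh, rfl⟩ := P.split b hb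
    exact ⟨(⟨u, hu⟩, ⟨h, hh⟩), rfl⟩

variable [Finite G] [Fact p.Prime]

theorem not_dvd_index : ¬ p ∣ P.U.index := by
  have a : ¬ p ∣ P.B.index := fun h => by
    have := P.pU.card_modEq_card_fixedPoints (G ⧸ P.B)
    rw [show MulAction.fixedPoints P.U (G ⧸ P.B) = {((1 : G) : G ⧸ P.B)} from Set.ext fun x => by
      induction x using QuotientGroup.induction_on with
      | H g => exact ⟨fun a => (QuotientGroup.eq.2 (by
          simpa using P.mem_B_of_conj fun u hu => by simpa [mul_assoc] using QuotientGroup.eq.1 (a ⟨u⁻¹, inv_mem hu⟩))).symm,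
        fun a u => by rw [show (g : G ⧸ P.B) = (1 : G) from a]; exact QuotientGroup.eq.2 (by simpa using P.U_le u.2)⟩,
      Nat.card_unique (α := ({_} : Set _))] at this
    exact (Fact.out : p.Prime).one_lt.ne' (Nat.dvd_one.1 ((this.dvd_iff dvd_rfl).1 h))
  have b := P.U.card_mul_index
  rw [← P.B.card_mul_index, card_B, mul_assoc, mul_right_inj' Nat.card_pos.ne'] at b
  rw [b, (Fact.out : p.Prime).dvd_mul]
  exact fun h => h.elim P.pH a

/-- the Sylow subgroup -/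
noncomputable def syl : Sylow p G := P.pU.toSylow P.not_dvd_index

theorem exists_conj_le {D : Subgroup G} (hD : IsPGroup p D) : ∃ g : G, ∀ x ∈ D, g * x * g⁻¹ ∈ P.U := by
  obtain ⟨Q, hQ⟩ := hD.exists_le_sylow
  obtain ⟨g, rfl⟩ := MulAction.exists_smul_eq G P.syl Q
  exact ⟨g⁻¹, fun x hx => by simpa [syl] using Subgroup.mem_pointwise_smul_iff_inv_smul_mem.1 (hQ hx)⟩

include P in
theorem exists_stein : ∃ χ : G → ℂ, IsIrrCharacter G χ ∧ ∀ Q : Sylow p G, χ 1 = Nat.card Q ∧ ∀ x : G, x ∈ Q → x ≠ 1 → χ x = 0 := by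
  classical
  have := Fintype.ofFinite G
  have := Fintype.ofFinite P.S
  have h1 := (BN.tits P.toBNPair).isIrr_stein P.max_iff P.w0_inv
  have h2 : (BN.tits P.toBNPair).stein 1 = Nat.card P.U := by
    have a : (BN.tits P.toBNPair).δ P.n₀ = pr _ P.n₀ := eq_of_mem_C (exists_mem_C _ _).choose_spec (mem_C_self _)
    have b := (BN.tits P.toBNPair).card_cell_fix (one_mem _) P.mem_H_iff
    rw [Tits.stein_eq, Tits.stJ_B _ _ (one_mem _)]
    refine .trans ?_ (b.trans ?_)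
    · congr 3
      ext x
      simp only [coe_univ, Tits.P_univ, mem_univ, true_imp_iff, P.max_iff, a, Subgroup.mem_top, true_and, mem_filter, and_comm]
    · rw [div_eq_iff (Char.card_ne_zero' _), ← Nat.cast_mul, ← card_B, Nat.cast_inj, Nat.card_eq_fintype_card, Fintype.card_subtype]
      exact congrArg _ (filter_congr fun x _ => by simp [BN.tits])
  have h3 : ∀ Q : Sylow p G, Nat.card P.U = Nat.card Q := fun Q => (P.syl.card_eq_multiplicity).trans Q.card_eq_multiplicity.symm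
  refine ⟨_, h1, fun Q => ⟨h3 Q ▸ h2, fun x hx h => h1.eq_zero_of_defect_zero Fact.out
    (Nat.pow_succ_factorization_not_dvd Nat.card_pos.ne' Fact.out) h2 (P.syl.card_eq_multiplicity).symm.dvd ?_⟩⟩
  obtain ⟨k, hk⟩ := IsPGroup.iff_orderOf.1 Q.2 ⟨x, hx⟩
  rw [Subgroup.orderOf_mk] at hk
  exact hk ▸ dvd_pow_self p (by rintro rfl; exact h (by simpa using hk))

end SBN₀

end Cfsg.Agent.Chev
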