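import Cfsg.Agent.Lib.Chev.SBN
import Cfsg.Agent.S0953

set_option autoImplicit false
set_option linter.unusedSectionVars false
set_option linter.style.haveILetI false

/-! Split `BN`-pairs with the Borel–Tits property. -/

namespace Cfsg.Agent.Chev
open BN MonoidAlgebra
open Blk hiding pr

/-- a split `BN`-pair with the Borel–Tits property -/
structure SBN (p : ℕ) (G : Type*) [Group G] extends SBN₀ p G where
  bt : ∀ D : Subgroup G, IsPGroup p D → D ≠ ⊥ → ∃ g M, B ≤ M ∧ M ≠ ⊤ ∧ No D ≤ cs g M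
  rad : ∀ M, B ≤ M → M ≠ ⊤ → ∃ Q ≤ U, M ≤ No Q ∧ M ⊓ Ce Q ≤ U ⊔ Subgroup.center G

section Map
variable {p : ℕ} {G G' : Type*} [Group G] [Group G'] {φ : G →* G'}

theorem mem_map_of_ker {K : Subgroup G} (h : φ.ker ≤ K) {g : G} : φ g ∈ K.map φ ↔ g ∈ K :=
  show g ∈ (K.map φ).comap φ ↔ _ by rw [Subgroup.comap_map_eq_self h]

/-- the image of a split `BN`-pair -/
def SBN₀.map [Finite G] (P : SBN₀ p G) (hs : Function.Surjective φ) (hk : φ.ker ≤ Subgroup.center G) : SBN₀ p G' :=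
  have a : φ.ker ≤ P.B := (hk.trans P.center_le).trans inf_le_left
  have b : P.B.map φ ⊓ P.N.map φ = (P.B ⊓ P.N).map φ :=
    le_antisymm (by rintro _ ⟨c, x, d, rfl⟩; exact ⟨x, ⟨(mem_map_of_ker a).1 c, d⟩, rfl⟩) (Subgroup.map_inf_le _ _ _)
  { B := P.B.map φ
    N := P.N.map φ
    S := φ '' P.S
    sup_eq_top := by rw [← Subgroup.map_sup, P.sup_eq_top, Subgroup.map_top_of_surjective _ hs]
    conj_mem := by rw [b]; rintro _ ⟨n, c, rfl⟩ _ ⟨t, d, rfl⟩; exact ⟨_, P.conj_mem n c t d, by simp⟩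
    subset := Set.image_mono P.subset
    sq_mem := by rintro _ ⟨t, d, rfl⟩; exact ⟨_, P.sq_mem t d, by simp⟩
    inj := by
      rintro _ ⟨t, d, rfl⟩ _ ⟨t', d', rfl⟩ e
      rw [P.inj t d t' d' ((mem_map_of_ker a).1 (by simpa using e))]
    closure_sup := by rw [b, ← MonoidHom.map_closure, ← Subgroup.map_sup, P.closure_sup]
    mul_mem_union := by
      rintro _ ⟨t, d, rfl⟩ _ ⟨n, c, rfl⟩ _ ⟨x, e, rfl⟩
      refine (P.mul_mem_union t d n c x e).imp (fun h => ?_) fun h => ?_ <;>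
      · obtain ⟨y, f, z, g, h⟩ := DoubleCoset.mem_doubleCoset.1 h
        exact DoubleCoset.mem_doubleCoset.2 ⟨_, ⟨y, f, rfl⟩, _, ⟨z, g, rfl⟩, by simpa using congrArg φ h⟩
    conj_ne := by
      rintro _ ⟨t, d, rfl⟩ e
      obtain ⟨x, c, f⟩ := exists_sq_mem_C (P := P.toBNPair) ⟨t, d⟩
      exact s_ne_one _ _ (eq_of_mem_C f (mem_C_one.2 ((mem_map_of_ker a).1 (e.le ⟨_, ⟨x, c, rfl⟩, by simp⟩))))
    U := P.U.map φ
    n₀ := ⟨φ P.n₀, _, P.n₀.2, rfl⟩
    pU := P.pU.map φ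
    U_le := Subgroup.map_mono P.U_le
    conj_U := by rintro _ ⟨n, c, rfl⟩ _ ⟨t, d, rfl⟩; exact ⟨_, P.conj_U n c t d, by simp⟩
    split := by
      rintro _ ⟨x, c, rfl⟩
      obtain ⟨u, d, h, e, rfl⟩ := P.split x c
      exact ⟨_, ⟨u, d, rfl⟩, _, b.ge ⟨h, e, rfl⟩, map_mul _ _ _⟩
    pH := fun h => P.pH (h.trans (b ▸ Subgroup.card_map_dvd _ _))
    sat := by
      rintro _ ⟨u, c, rfl⟩ e
      rw [P.sat u c ((mem_map_of_ker a).1 (by simpa using e)), map_one] }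

/-- the image of a split `BN`-pair -/
def SBN.map [Finite G] [Fact p.Prime] (P : SBN p G) (hs : Function.Surjective φ) (hk : φ.ker ≤ Subgroup.center G) : SBN p G' :=
  have a : φ.ker ≤ P.B := (hk.trans P.center_le).trans inf_le_left
  { P.toSBN₀.map hs hk with
    bt := fun D hD h => by
      have := Finite.of_surjective φ hs
      obtain ⟨E, -, b, c⟩ := exists_pcompl hk hs (Nat.Coprime.symm ((Fact.out : p.Prime).coprime_iff_not_dvd.2 fun e =>
        P.pH (e.trans (Subgroup.card_dvd_of_le (hk.trans P.center_le))))) hD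
      have d : ∀ x : G, (∀ y ∈ D, φ x * y * (φ x)⁻¹ ∈ D) → ∀ y ∈ E, x * y * x⁻¹ ∈ E := fun x hx y hy => by
        obtain ⟨e, k, f⟩ := (c y).1 hy
        exact (c _).2 ⟨by simpa using hx _ e, k, by rw [conj_pow, f]; simp⟩
      obtain ⟨g, M, e, f, i⟩ := P.bt E (fun x => ((c _).1 x.2).2.imp fun _ => Subtype.ext) (by rintro rfl; exact h (by simp [← b]))
      refine ⟨φ g, M.map φ, Subgroup.map_mono e, fun j => f ?_, fun x hx => ?_⟩
      · rw [← Subgroup.comap_map_eq_self (a.trans e), j, Subgroup.comap_top]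
      · obtain ⟨x, rfl⟩ := hs x
        exact mem_cs.2 ⟨_, mem_cs.1 (i (Subgroup.mem_normalizer_fintype (d x fun y => (Subgroup.mem_normalizer_iff.1 hx y).1))), by simp⟩
    rad := fun M h h' => by
      obtain ⟨Q, b, c, d⟩ := P.rad (M.comap φ) (Subgroup.map_le_iff_le_comap.1 h) fun e => h' (by
        rw [← Subgroup.map_comap_eq_self_of_surjective hs M, e, Subgroup.map_top_of_surjective _ hs])
      refine ⟨Q.map φ, Subgroup.map_mono b, ?_, fun x hx => ?_⟩
      · rw [← Subgroup.map_comap_eq_self_of_surjective hs M]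
        exact (Subgroup.map_mono c).trans (Subgroup.le_normalizer_map _)
      obtain ⟨x, rfl⟩ := hs x
      have e := Subgroup.mem_map_of_mem φ (d ⟨hx.1, Subgroup.mem_centralizer_iff.2 fun y hy => by
        have f := Subgroup.mem_centralizer_iff.1 hx.2 _ ⟨y, hy, rfl⟩
        have := P.eq_one_of_mem_H (b (mul_mem ((Subgroup.mem_normalizer_iff.1 (c hx.1) y).1 hy) (inv_mem hy)))
          (P.center_le (hk (by simp [← f]))).2
        rwa [mul_inv_eq_one, mul_inv_eq_iff_eq_mul, eq_comm] at this⟩)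
      rw [Subgroup.map_sup] at e
      refine SetLike.le_def.1 (sup_le_sup_left ?_ _) e
      rintro _ ⟨z, hz, rfl⟩
      exact Subgroup.mem_center_iff.2 fun y => by obtain ⟨y, rfl⟩ := hs y; rw [← map_mul, Subgroup.mem_center_iff.1 hz, map_mul] }

end Map

namespace SBN
variable {p : ℕ} {G : Type*} [Group G] [Finite G] [Fact p.Prime] (P : SBN p G)

theorem mem_center {g : G} (h : g ∈ P.U ⊔ Subgroup.center G) (h' : ¬ p ∣ orderOf g) : g ∈ Subgroup.center G := by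
  obtain ⟨u, a, z, b, rfl⟩ := Subgroup.mem_sup_of_normal_right.1 h
  have c : Commute (u * z) z⁻¹ := Subgroup.mem_center_iff.1 (inv_mem b) _
  rw [eq_one_of_pelt_of_preg (pelt_of_mem P.pU a) fun e => ((Fact.out : p.Prime).dvd_mul.1 (e.trans (by
    simpa using c.orderOf_mul_dvd_mul_orderOf))).elim h' fun f => P.pH (f.trans (Subgroup.orderOf_dvd_natCard _ (P.center_le b))), one_mul]
  exact b

include P in
theorem exists_PQ {D : Subgroup G} (hD : IsPGroup p D) (h : D ≠ ⊥) : ∃ M Q : Subgroup G, No D ≤ M ∧ IsPGroup p Q ∧ Q ≤ M ∧ M ≤ No Q ∧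
    ∀ g ∈ M ⊓ Ce Q, ¬ p ∣ orderOf g → g ∈ Subgroup.center G := by
  obtain ⟨g, M, a, b, c⟩ := P.bt D hD h
  obtain ⟨Q, d, e, f⟩ := P.rad M a b
  refine ⟨cs g M, cs g Q, c, (P.pU.to_le d).map _, Subgroup.map_mono (d.trans (P.U_le.trans a)), cs_No g Q ▸ Subgroup.map_mono e, ?_⟩
  rw [← cs_Ce, ← cs_inf]
  rintro _ ⟨x, i, rfl⟩ j
  exact Subgroup.Normal.conj_mem inferInstance _ (P.mem_center (f i) (by rwa [orderOf_injective _ (MulAut.conj g).injective] at j)) g

include P in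
theorem defect {M : Ideal AlgInt} (hM : IsPModular p M) {B : Set (IrrCharacter G)} (hB : IsPBlock M B) :
    blockDefect p B = 0 ∨ blockDefect p B = (Nat.card G).factorization p := by
  have : PMod M p := ⟨hM⟩
  obtain ⟨D, hD⟩ := hB.isBlock.exists_isDef p
  rcases eq_or_ne D ⊥ with rfl | hne
  · exact .inl (hB.defect_eq_zero_iff_isDef.2 hD)
  have he := hB.isBlock
  have hc := hB.card_isDef hD
  generalize bar M B = e at hD he
  obtain ⟨K, Q, h1, h2, h3, h4, h5⟩ := P.exists_PQ hD.pg hne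
  have h6 : D ≤ K := Subgroup.le_normalizer.trans h1
  have a1 := tr_mem_Z (le_top (a := K)) he.mem
  have a2 : Br D (tr (K : Set G) e) = Br D e := by rw [tr_tr, Set.inter_eq_left.2 ((Subgroup.centralizer_le_normalizer _).trans h1)]
  obtain ⟨b, hb, a3⟩ : ∃ b, IsBlock K b ∧ lam b (tr (K : Set G) e) ≠ 0 := by_contra fun h => hD.ne (idem_eq_zero_of_nilpotent
    (Br_idem hD.pg (inv_anti le_top he.inv) he.idem) (a2 ▸ Br_nilpotent hD.pg (inv_anti h6 a1.2) (nilpotent_of_forall_lam a1 (by simpa using h))))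
  obtain ⟨c, a4, a5⟩ := (hb.lam_ne_zero_iff a1).1 a3
  have a6 : b ∈ Blk.sup (kk M) (Subgroup.center G) := mem_sup.2 fun g hg => by_contra fun h0 => hg (h5 g
    ⟨mem_of_coeff_ne_zero hb.sup h0, mem_of_coeff_ne_zero (hb.mem_sup_Ce h2 h3 h4) h0⟩ (preg_of_coeff_idem hb.mem hb.idem h0))
  have a7 : ∀ X : Subgroup G, Br X b = b := fun X => Br_of_mem_sup (sup_mono (Subgroup.center_le_centralizer _) a6)
  have a8 : b ∈ Z (kk M) ⊤ := ⟨mem_sup_top _, sup_le_inv_Ce _ (sup_mono (Subgroup.center_le_centralizer _) a6)⟩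
  have m : ∀ {X : Subgroup G}, IsPGroup p X → ∀ {x y : (kk M)[G]}, x ∈ Z (kk M) ⊤ → y ∈ Z (kk M) ⊤ → Br X (x * y) = Br X x * Br X y :=
    fun h _ _ a b => Br_mul h (inv_anti le_top a.2) (inv_anti le_top b.2)
  have a9 : Br D e * b = b := by
    have := congrArg (Br D) a5
    rw [Br_mul hD.pg (inv_anti h6 (mul_mem a1 a4).2) (inv_anti h6 hb.inv), Br_mul hD.pg (inv_anti h6 a1.2) (inv_anti h6 a4.2), a2, a7] at this
    rw [← this, ← mul_assoc, ← mul_assoc, (Br_idem hD.pg (inv_anti le_top he.inv) he.idem).eq]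
  have b1 : Br D e = b := by
    have := m hD.pg he.mem a8
    rw [a7, a9, (Z_comm he.mem a8).eq] at this
    rcases he.prim b a8 hb.idem with h | h <;> rw [h] at this
    exacts [absurd (this.symm.trans (map_zero _)) hb.ne, this]
  obtain ⟨S, hS⟩ := hD.pg.exists_le_sylow
  obtain ⟨f, hf, b2⟩ : ∃ f, IsBlock ⊤ f ∧ Br (S : Subgroup G) (b * f) ≠ 0 := by_contra fun h => hb.ne (by
    rw [← a7 S, eq_sum_mul_blocks ⊤ b, map_sum]
    exact Finset.sum_eq_zero fun f hf => by_contra fun h' => h ⟨f, mem_blocks.1 hf, h'⟩)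
  have b3 := (hf.prim b a8 hb.idem).resolve_left fun h => b2 (by rw [h, map_zero])
  rw [b3] at b2
  obtain rfl := he.eq_of_mul_ne_zero hf fun h => Br_ne_zero_of_le hS b2 (by
    rw [← b3, m hD.pg a8 hf.mem, a7, ← b1, ← m hD.pg he.mem hf.mem, h, map_zero])
  rw [← hD.eq_of_le le_top S.2 b2 hS, S.card_eq_multiplicity] at hc
  exact .inr (Nat.pow_right_injective (Fact.out : p.Prime).two_le hc).symm

theorem ce_U (h : P.B ≠ ⊤) : P.B ⊓ Ce P.U ≤ P.U ⊔ Subgroup.center G := by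
  obtain ⟨Q, a, -, b⟩ := P.rad _ le_rfl h
  exact (inf_le_inf_left _ (Subgroup.centralizer_le a)).trans b

theorem card_full (h : P.B ≠ ⊤) {M : Ideal AlgInt} (hM : IsPModular p M) :
    Nat.card {B : Set (IrrCharacter G) // IsPBlock M B ∧ blockDefect p B = (Nat.card G).factorization p} = Nat.card (Subgroup.center G) := by
  have : PMod M p := ⟨hM⟩
  have h1 : ∀ z : Subgroup.center G, ∀ n : No (P.syl : Subgroup G), ConjClasses.mk n = ConjClasses.mk ⟨z, Subgroup.center_le_normalizer _ z.2⟩ →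
      (n : G) = z := fun z n e => by
    obtain ⟨c, hc⟩ := isConj_iff.1 (ConjClasses.mk_eq_mk_iff_isConj.1 e.symm)
    rw [← hc]
    simp [Subgroup.mem_center_iff.1 z.2]
  have h2 : ∀ z : Subgroup.center G, ∀ n : No (P.syl : Subgroup G), ConjClasses.mk n = ConjClasses.mk ⟨z, Subgroup.center_le_normalizer _ z.2⟩ →
      ¬ p ∣ orderOf n ∧ (n : G) ∈ Ce P.syl := fun z n e => by
    rw [← Subgroup.orderOf_coe, h1 z n e]
    exact ⟨fun f => P.pH (f.trans (Subgroup.orderOf_dvd_natCard _ (P.center_le z.2))), Subgroup.center_le_centralizer _ z.2⟩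
  rw [(Nat.card_congr (Equiv.subtypeEquivRight fun B => and_congr_right fun hB => ?_)).trans (S0953.result p M hM P.syl)]
  refine (Nat.card_eq_of_bijective (fun z => ⟨ConjClasses.mk ⟨z, Subgroup.center_le_normalizer _ z.2⟩, h2 z⟩)
      ⟨fun z z' e => ?_, fun ⟨C, hC⟩ => ?_⟩).symm
  rotate_right
  · refine ⟨fun e => ?_, fun e => Nat.pow_right_injective (Fact.out : p.Prime).two_le
      ((hB.card_defectGroup e).symm.trans P.syl.card_eq_multiplicity)⟩
    obtain ⟨D, hD⟩ := hB.isBlock.exists_isDef p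
    obtain ⟨g, hg⟩ := P.toSBN₀.exists_conj_le hD.pg
    have a := hD.cs_of_mem hB.isBlock.inv (Subgroup.mem_top g)
    have b : cs g D ≤ P.syl := by rintro _ ⟨x, c, rfl⟩; exact hg x c
    rwa [hB.isDefectGroup_iff, ← Subgroup.eq_of_le_of_card_ge b (by rw [hB.card_isDef a, e, Sylow.card_eq_multiplicity])]
  · exact Subtype.ext (h1 z' ⟨z, _⟩ (congrArg Subtype.val e))
  · obtain ⟨n, rfl⟩ := ConjClasses.mk_surjective C
    obtain ⟨a, b⟩ := hC n rfl
    exact ⟨⟨n, P.mem_center (P.ce_U h ⟨P.normalizer_U.le n.2, b⟩) (by rwa [Subgroup.orderOf_coe])⟩, rfl⟩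

theorem le_of_U_le {M : Subgroup G} (h : P.U ≤ M) : (∃ K, P.B ≤ K ∧ K ≠ ⊤ ∧ M ≤ K) ∨ ∀ g, ∀ u ∈ P.U, g * u * g⁻¹ ∈ M := by
  have h1 : ∀ (i : P.S) w, ∀ m ∈ C P.toBNPair (s _ i), ∀ g ∈ C P.toBNPair w, ∃ u ∈ P.U, m * u * g ∈ C P.toBNPair (s _ i * w) := by
    intro i w m a g b
    obtain ⟨n, rfl⟩ := pr_surj _ w
    obtain ⟨u, c, x, d, e⟩ := (P.mem_C_iff' (sN _ i)⁻¹).1 (map_inv (pr P.toBNPair) (sN _ i) ▸ inv_mem_C a)
    obtain ⟨v, f, y, j, rfl⟩ := (P.mem_C_iff' n).1 b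
    refine ⟨u * v⁻¹, mul_mem c (inv_mem f), ?_⟩
    rw [← inv_inv m, e]
    have := mul_mem_C (inv_mem d) (mem_C_mul (mem_C_self (sN _ i * n)) j)
    rw [map_mul, Subgroup.coe_mul] at this
    simpa [mul_assoc, s] using this
  by_cases h2 : ∀ i : P.S, ∃ m ∈ M, m ∈ C P.toBNPair (s _ i)
  · have h3 : ∀ w, ∃ m ∈ M, m ∈ C P.toBNPair w := fun w => by
      induction w using (invGen _).induction_left with
      | h1 => exact ⟨1, one_mem _, mem_C_one.2 (one_mem _)⟩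
      | hs i w e ih =>
        obtain ⟨m, a, b⟩ := h2 i
        obtain ⟨g, c, d⟩ := ih
        exact ⟨_, mul_mem a c, mul_mem_C_of_lt (by omega) b d⟩
    refine .inr fun g u hu => ?_
    obtain ⟨v, a, n, b, c, rfl⟩ := P.exists_eq g
    obtain ⟨m, d, e⟩ := h3 (pr _ n)
    obtain ⟨v', f, b', i, rfl⟩ := (P.mem_C_iff' n).1 e
    simpa [mul_assoc] using mul_mem (mul_mem (mul_mem (h (mul_mem a (inv_mem f))) d) (h (P.conj_U _ (mul_mem (inv_mem i) c) u hu)))
      (inv_mem (mul_mem (h (mul_mem a (inv_mem f))) d))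
  obtain ⟨j, hj⟩ := not_forall.1 h2
  have hJ : {x | x ∈ P.S ∧ x ≠ j} ⊆ P.S := fun _ h => h.1
  refine .inl ⟨P.parabolic {x | x ∈ P.S ∧ x ≠ j}, B_le_parabolic _, fun e => (mem_of_mem_parabolic hJ j.2 (e ▸ trivial)).2 rfl, fun g hg => ?_⟩
  obtain ⟨w, hw⟩ := exists_mem_C P.toBNPair g
  induction w using (invGen _).induction_left generalizing g with
  | h1 => exact B_le_parabolic _ (mem_C_one.1 hw)
  | hs i w e ih =>
    obtain ⟨m, a, b⟩ : ∃ m ∈ M, m ∈ C P.toBNPair (s _ i) := by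
      obtain ⟨x, a, y, b, c⟩ := exists_mul_mem_C_of_le (i := i) (w := s _ i * w) (by rw [(invGen _).cancel_left]; omega)
      obtain ⟨n, hn⟩ := pr_surj _ (s P.toBNPair i * w)
      rw [← hn] at b c hw
      obtain ⟨u₁, d₁, b₁, e₁, f₁⟩ := (P.mem_C_iff' n).1 hw
      obtain ⟨b₂, d₂, b₃, e₂, f₂⟩ := (mem_C_iff n rfl).1 b
      obtain ⟨b₄, d₃, b₅, e₃, f₃⟩ := (mem_C_iff n rfl).1 c
      obtain ⟨u, d₄, k, e₄, f₄⟩ := P.split _ (mul_mem e₃ (inv_mem e₂))
      refine ⟨g * (b₁⁻¹ * u * b₁⁻¹⁻¹) * g⁻¹, mul_mem (mul_mem hg (h (P.conj_U _ (inv_mem e₁) u d₄))) (inv_mem hg), ?_⟩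
      have := mem_C_mul (mem_C_mul (mem_C_mul (mul_mem_C (mul_mem (P.U_le d₁) (inv_mem d₃)) a) d₂)
        (P.conj_mem n n.2 _ (inv_mem e₄))) (inv_mem (P.U_le d₁))
      rw [← mul_inv_cancel_right x y, f₃, f₂] at this
      simpa [f₁, mul_assoc, eq_mul_inv_of_mul_eq f₄.symm] using this
    obtain ⟨u, c, d⟩ := h1 i _ m b g hw
    rw [(invGen _).cancel_left] at d
    have f : m ∈ P.parabolic {x | x ∈ P.S ∧ x ≠ j} := (mem_parabolic_iff hJ m).2 ⟨[i], by
      simpa using fun e => hj ⟨m, a, (Subtype.ext e : i = j) ▸ b⟩, by simpa using b⟩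
    simpa [mul_assoc] using mul_mem (inv_mem (mul_mem f (B_le_parabolic _ (P.U_le c)))) (ih _ (mul_mem (mul_mem a (h c)) hg) d)

theorem eq_top [IsSimpleGroup G] (hU : P.U ≠ ⊥) {M : Subgroup G} (h : ¬ p ∣ M.index)
    (hM : ∀ Q ≤ M, IsPGroup p Q → M ≤ No Q → Q = ⊥) : M = ⊤ := by
  obtain ⟨S⟩ := Sylow.nonempty (p := p) (G := M)
  obtain ⟨g, hg⟩ := P.toSBN₀.exists_conj_le (S.2.map M.subtype)
  have a : P.U ≤ cs g M := (Subgroup.eq_of_le_of_card_ge (H := cs g ((S : Subgroup M).map M.subtype)) (by rintro _ ⟨x, c, rfl⟩; exact hg x c) (by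
    rw [Subgroup.card_map_of_injective (MulAut.conj g).injective, Subgroup.card_subtype, S.card_eq_multiplicity,
      show Nat.card P.U = _ from P.syl.card_eq_multiplicity, ← M.card_mul_index, Nat.factorization_mul Nat.card_pos.ne' M.index_ne_zero_of_finite]
    simp [Nat.factorization_eq_zero_of_not_dvd h])).ge.trans (Subgroup.map_mono (Subgroup.map_subtype_le _))
  have key : ∀ Q ≤ P.U, cs g M ≤ No Q → Q = ⊥ := fun Q b c => by
    have := hM (cs g⁻¹ Q) (fun x hx => by simpa [mul_assoc] using mem_cs.1 (a (b (mem_cs.1 hx)))) ((P.pU.to_le b).map _)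
      (cs_No g⁻¹ Q ▸ fun x hx => mem_cs.2 (c (mem_cs.2 (by simpa [mul_assoc] using hx))))
    rwa [Subgroup.map_eq_bot_iff_of_injective _ (MulAut.conj _).injective] at this
  rcases P.le_of_U_le a with ⟨K, b, c, d⟩ | b
  · obtain ⟨Q, e, f, i⟩ := P.rad K b c
    obtain rfl := key Q e (d.trans f)
    refine absurd (key _ le_rfl (d.trans fun x hx => ?_)) hU
    obtain ⟨u, j, z, k, rfl⟩ := Subgroup.mem_sup_of_normal_right.1 (i ⟨hx, by simp [Subgroup.mem_centralizer_iff]⟩)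
    exact mul_mem (Subgroup.le_normalizer j) (Subgroup.center_le_normalizer _ k)
  · have := (Subgroup.normalClosure_normal (s := (P.U : Set G))).eq_bot_or_eq_top.resolve_left fun e => hU (eq_bot_iff.2 (e ▸ Subgroup.le_normalClosure))
    have c : Subgroup.normalClosure (P.U : Set G) ≤ cs g M := (Subgroup.closure_le _).2 fun x hx => by
      obtain ⟨u, d, e⟩ := Group.mem_conjugatesOfSet_iff.1 hx
      obtain ⟨y, rfl⟩ := isConj_iff.1 e
      exact b y u d
    exact eq_top_iff.2 fun x _ => by simpa [mul_assoc] using mem_cs.1 (c (this.ge (Subgroup.mem_top (g * x * g⁻¹))))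

theorem aut_eq_one [IsSimpleGroup G] (hz : Subgroup.center G = ⊥) (hB : P.B ≠ ⊤) {α : MulAut G} (hα : ¬ p ∣ orderOf α) (h : ∀ u ∈ P.U, α u = u) :
    α = 1 := by
  have h0 : ∀ {x u b : G}, u ∈ P.U → α b = b → α x = u * x * b → ∃ k, ¬ p ∣ k ∧ x = u ^ k * x * b ^ k := fun {x u b} c d e => by
    have : ∀ k : ℕ, (α ^ k) x = u ^ k * x * b ^ k := fun k => by
      induction k with
      | zero => simp
      | succ k ih => rw [pow_succ', MulAut.mul_apply, ih, map_mul, map_mul, map_pow, map_pow, h u c, d, e, pow_succ, pow_succ']; group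
    exact ⟨_, hα, by rw [← this, pow_orderOf_eq_one]; rfl⟩
  have h1 : ∀ {u : G} {k}, u ∈ P.U → ¬ p ∣ k → u ^ k = 1 → u = 1 := fun a b c =>
    eq_one_of_pelt_of_preg (pelt_of_mem P.pU a) fun d => b (d.trans (orderOf_dvd_of_pow_eq_one c))
  have h2 : ∀ M, P.B ≤ M → M ≠ ⊤ → ∀ m ∈ M, α m = m := fun M a b => by
    obtain ⟨K, c, d⟩ := (eq_top_or_exists_le_coatom M).resolve_left b
    obtain ⟨Q, e, f, i⟩ := P.rad K (a.trans d) c.1
    rw [hz, sup_bot_eq] at i
    intro m hm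
    by_cases j : Q = ⊥
    · exact h m (i ⟨d hm, by simp [j, Subgroup.mem_centralizer_iff]⟩)
    have k : No Q = K := ((c.le_iff.1 f).resolve_left fun k => ((Subgroup.normalizer_eq_top_iff.1 k).eq_bot_or_eq_top).elim j fun l =>
      hB (eq_top_iff.2 (l.ge.trans (e.trans P.U_le))))
    have l : ∀ q ∈ Q, α m * q * (α m)⁻¹ = m * q * m⁻¹ := fun q hq => by
      rw [← h _ (e ((Subgroup.mem_normalizer_iff.1 (f (d hm)) q).1 hq)), map_mul, map_mul, h q (e hq), map_inv]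
    have n : α m * m⁻¹ ∈ P.U := i ⟨K.mul_mem (k.le (Subgroup.mem_normalizer_fintype fun q hq => by
      rw [l q hq]; exact (Subgroup.mem_normalizer_iff.1 (f (d hm)) q).1 hq)) (K.inv_mem (d hm)), Subgroup.mem_centralizer_iff.2 fun q hq => by
        have := l _ ((Subgroup.mem_normalizer_iff''.1 (f (d hm)) q).1 hq)
        rw [← mul_left_inj (m * (α m)⁻¹)]
        simpa [mul_assoc] using this.symm⟩
    obtain ⟨o, r, t⟩ := h0 (x := m) n (map_one _) (by simp)
    exact mul_inv_eq_one.1 (h1 n r (by simpa using t))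
  let E : Subgroup G := α.toMonoidHom.eqLocus (.id G)
  by_contra hne
  have h3 : E ≠ ⊤ := fun e => hne (MulEquiv.ext fun x => e.ge (Subgroup.mem_top x))
  have h4 : P.B ≤ E := h2 _ le_rfl hB
  obtain ⟨i, a, b⟩ : ∃ i ∈ P.S, P.parabolic {i} = ⊤ := by_contra fun e => h3 (by
    rw [eq_top_iff, ← parabolic_S (P := P.toBNPair)]
    exact sup_le h4 ((Subgroup.closure_le _).2 fun i a => h2 _ (B_le_parabolic _) (fun c => e ⟨i, a, c⟩) _ (mem_parabolic_of_mem rfl)))
  have h5 : ∀ g, g ∈ P.B ∨ g ∈ C P.toBNPair (pr _ P.n₀) := by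
    have c : ∀ g, g ∈ P.B ∨ g ∈ C P.toBNPair (s _ ⟨i, a⟩) := fun g => by
      obtain ⟨ω, c, d⟩ := (mem_parabolic_iff (Set.singleton_subset_iff.2 a) g).1 (b ▸ trivial)
      suffices wp (s _) ω = 1 ∨ wp (s _) ω = s _ ⟨i, a⟩ by
        rcases this with e | e <;> rw [e] at d
        exacts [.inl (mem_C_one.1 d), .inr d]
      clear d
      induction ω with
      | nil => simp
      | cons j ω ih =>
        obtain rfl : j = ⟨i, a⟩ := Subtype.ext (c j (by simp))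
        rcases ih fun k e => c k (by simp [e]) with e | e <;> simp [e, s_sq]
    rcases c P.n₀ with d | d
    · have := P.max ⟨i, a⟩
      rw [(pr_eq_one_iff _ _).2 d, one_mul, (invGen _).len_simple (exchange _)] at this
      simp at this
    · rwa [eq_of_mem_C (mem_C_self _) d]
  have h6 : P.n₀.1 ∉ P.B := fun e => hB (eq_top_iff.2 fun g _ => (h5 g).elim id fun d => mem_C_one.1 ((pr_eq_one_iff _ _).2 e ▸ d))
  obtain ⟨u, c, v, d, e⟩ := (P.mem_C_iff' P.n₀).1 ((h5 (α P.n₀)).resolve_left fun e => h6 (by rwa [← α.injective (h4 e)]))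
  obtain ⟨k, f, j⟩ := h0 c (h4 d) e
  obtain rfl := h1 c f (P.sat _ (pow_mem c k) (by
    rw [show _ * _ * _ = (v ^ k)⁻¹ by rw [eq_inv_iff_mul_eq_one, mul_assoc, mul_assoc, inv_mul_eq_one, ← mul_assoc, ← j]]
    exact inv_mem (pow_mem d k)))
  have h7 : ∀ g, g⁻¹ * α g ∈ P.B := fun g => by
    rcases h5 g with l | l
    · simp [show α g = g from h4 l]
    · obtain ⟨x, m, y, n, rfl⟩ := (P.mem_C_iff' P.n₀).1 l
      simpa [h x m, e, show α y = y from h4 n, mul_assoc] using mul_mem (mul_mem (inv_mem n) d) n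
  refine hne (MulEquiv.ext fun x => (inv_mul_eq_one.1 ?_).symm)
  have := (P.B.normalCore_normal.eq_bot_or_eq_top.resolve_right fun l => hB (eq_top_iff.2 (l.ge.trans P.B.normalCore_le))).le
    (show x⁻¹ * α x ∈ P.B.normalCore from fun y => by simpa [mul_assoc] using mul_mem (h7 (x * y⁻¹)) (inv_mem (h7 y⁻¹)))
  exact this

end SBN

end Cfsg.Agent.Chev
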