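import Cfsg.Agent.Lib.Classical.SpU
import Cfsg.Agent.Lib.Char.Orth
import Cfsg.Agent.S2390
import Cfsg.Agent.S0278

set_option autoImplicit false
set_option linter.unusedSectionVars false
set_option linter.style.haveILetI false

/-! Involutions of `SU₃(q)`, `q` odd. -/

namespace Cfsg.Agent.Chev.U3
open Cfsg.Agent.Classical Matrix

variable {F : Type*} [Field F] [Fintype F] {q : ℕ} (hF : Fintype.card F = q ^ 2)

local notation "σ" => frobq hF
local notation "H" => Cfsg.hermForm 3 F q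
local notation "G" => Cfsg.SU 3 F q

theorem H_eq (u v : Fin 3 → F) : H u v = u 0 * σ (v 0) + u 1 * σ (v 1) + u 2 * σ (v 2) := Fin.sum_univ_three _
theorem H2_eq (u v : Fin 2 → F) : Cfsg.hermForm 2 F q u v = u 0 * σ (v 0) + u 1 * σ (v 1) := Fin.sum_univ_two _
theorem ss (x : F) : σ (σ x) = x := frobq_frobq hF x
theorem H_inv (g : G) (u v : Fin 3 → F) : H (g.1.1 *ᵥ u) (g.1.1 *ᵥ v) = H u v := g.2 u v
theorem H_conj (u v : Fin 3 → F) : σ (H u v) = H v u := by
  simp only [H_eq hF, map_add, map_mul, ss]; ring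
theorem gext {a b : G} (h : ∀ x, a.1.1 *ᵥ x = b.1.1 *ᵥ x) : a = b := Subtype.ext (Subtype.ext (ext_of_mulVec_single fun _ => h _))
theorem mul_act (a b : G) (x : Fin 3 → F) : (a * b).1.1 *ᵥ x = a.1.1 *ᵥ (b.1.1 *ᵥ x) := (mulVec_mulVec _ _ _).symm

theorem r_aux (v x : Fin 3 → F) : ((2 / H v v) • vecMulVec v (fun i => σ (v i)) - 1) *ᵥ x = (2 / H v v * H x v) • v - x := by
  rw [sub_mulVec, one_mulVec, smul_mulVec, vecMulVec_mulVec, mul_smul, op_smul_eq_smul]
  simp [Cfsg.hermForm, dotProduct, mul_comm]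

/-- the involution attached to a non-isotropic vector -/
noncomputable def r (v : Fin 3 → F) (h : H v v ≠ 0) : G :=
  ⟨⟨(2 / H v v) • vecMulVec v (fun i => σ (v i)) - 1, by
    have := H_eq hF v v
    generalize H v v = c at *
    simp only [det_fin_three, Matrix.sub_apply, Matrix.smul_apply, vecMulVec_apply, Matrix.one_apply, smul_eq_mul]
    simp only [Fin.reduceEq, if_true, if_false]
    field_simp
    linear_combination (-2 * c ^ 2) * this⟩, fun x y => by
    refine (congrArg₂ H (r_aux hF v x) (r_aux hF v y)).trans ?_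
    have h1 := H_conj hF v v
    have h2 := H_conj hF y v
    have h3 := H_eq hF v v
    have h4 := H_eq hF x v
    have h5 := H_eq hF v y
    rw [H_eq hF (_ - _), H_eq hF x y]
    simp only [Pi.sub_apply, Pi.smul_apply, smul_eq_mul, map_sub, map_mul, map_div₀, h1, h2, map_ofNat]
    generalize H v v = c at *
    generalize H x v = a at *
    generalize H v y = b at *
    field_simp
    linear_combination (-4 * a * b) * h3 + (2 * a * c) * h5 + (2 * b * c) * h4⟩

theorem r_act (v : Fin 3 → F) (h : H v v ≠ 0) (x : Fin 3 → F) : (r hF v h).1.1 *ᵥ x = (2 / H v v * H x v) • v - x := r_aux hF v x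
theorem r_self (v : Fin 3 → F) (h : H v v ≠ 0) : (r hF v h).1.1 *ᵥ v = v := by
  rw [r_act, div_mul_cancel₀ _ h, two_smul, add_sub_cancel_right]
theorem H_smul_l (c : F) (u v : Fin 3 → F) : H (c • u) v = c * H u v := by simp only [Cfsg.hermForm, Pi.smul_apply, smul_eq_mul, mul_assoc, Finset.mul_sum]
theorem H_smul_r (c : F) (u v : Fin 3 → F) : H u (c • v) = σ c * H u v := by
  simp only [H_eq hF, Pi.smul_apply, smul_eq_mul, map_mul]; ring
theorem r_smul {v w : Fin 3 → F} (h : H v v ≠ 0) (h' : H w w ≠ 0) {c : F} (e : w = c • v) : r hF w h' = r hF v h := gext fun x => by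
  subst e
  rw [H_smul_l, H_smul_r hF] at h'
  rw [r_act, r_act, H_smul_l, H_smul_r hF, H_smul_r hF, smul_smul]
  have := left_ne_zero_of_mul h'
  have := left_ne_zero_of_mul (right_ne_zero_of_mul h')
  congr 2
  field_simp
theorem r_conj (g : G) (v : Fin 3 → F) (h : H v v ≠ 0) : g * r hF v h * g⁻¹ = r hF (g.1.1 *ᵥ v) (by rwa [H_inv]) :=
  mul_inv_eq_iff_eq_mul.2 (gext fun x => by rw [mul_act, mul_act, r_act, r_act, H_inv, H_inv, mulVec_sub, mulVec_smul])
theorem r_sq (v : Fin 3 → F) (h : H v v ≠ 0) : r hF v h * r hF v h = 1 := gext fun x => by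
  rw [mul_act, r_act _ _ _ x, mulVec_sub, mulVec_smul, r_self, r_act]
  simp

variable (hq : Odd q)
include hF hq

theorem two : (2 : F) ≠ 0 := two_ne_zero_of_odd (hF ▸ hq.pow)

theorem r_ne (v : Fin 3 → F) (h : H v v ≠ 0) : r hF v h ≠ 1 := fun e => by
  have h1 := r_act hF v h ![σ (v 1), -σ (v 0), 0]
  have h2 := r_act hF v h ![σ (v 2), 0, -σ (v 0)]
  rw [e, show (1 : G).1.1 = 1 from rfl, H_eq hF _ v, H_eq hF _ v] at h1 h2
  have a1 := congrFun h1 0
  have a2 := congrFun h2 0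
  have a3 := congrFun h1 1
  simp only [one_mulVec, Pi.sub_apply, Pi.smul_apply, smul_eq_mul, cons_val] at a1 a2 a3
  have b : ∀ x : F, 2 * σ x = 0 → σ x = 0 := fun x hx => (mul_eq_zero.1 hx).resolve_left (two hF hq)
  exact h (by rw [H_eq hF, b (v 1) (by linear_combination a1), b (v 2) (by linear_combination a2), b (v 0) (by linear_combination -a3)]; simp)

theorem of_r_eq {v w : Fin 3 → F} {h : H v v ≠ 0} {h' : H w w ≠ 0} (e : r hF w h' = r hF v h) : w = (H w v / H v v) • v := by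
  have := r_self hF w h'
  rw [e, r_act] at this
  refine smul_right_injective _ (two hF hq) ?_
  simp only [smul_smul]
  rw [← mul_div_assoc, mul_div_right_comm]
  linear_combination (norm := module) -this

theorem r_comm {v w : Fin 3 → F} {h : H v v ≠ 0} {h' : H w w ≠ 0} : Commute (r hF v h) (r hF w h') ↔ H w v = 0 ∨ r hF w h' = r hF v h := by
  rw [commute_iff_eq, ← mul_inv_eq_iff_eq_mul, r_conj]
  refine ⟨fun e => ?_, fun e => e.elim (fun e => r_smul hF _ _ (c := -1) (by rw [r_act, e]; simp)) fun e => r_smul hF _ _ (c := 1) (by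
    rw [one_smul]; exact e ▸ r_self hF w h')⟩
  have h1 := of_r_eq hF hq e
  generalize _ / H w w = c at h1
  rw [r_act] at h1
  refine or_iff_not_imp_left.2 fun h2 => (r_smul hF _ _ (c := (2 / H v v * H w v)⁻¹ * (c + 1)) ?_).symm
  rw [mul_smul, eq_inv_smul_iff₀ (mul_ne_zero (div_ne_zero (two hF hq) h) h2)]
  linear_combination (norm := module) h1

omit hF hq in
theorem charpoly3 (A : Matrix (Fin 3) (Fin 3) F) :
    A.charpoly = .X ^ 3 - .C A.trace * .X ^ 2 + .C A.adjugate.trace * .X - .C A.det := by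
  simp [charpoly, det_fin_three, trace_fin_three, adjugate_fin_three, charmatrix_apply_ne]
  ring

omit hF hq in
theorem charpoly_inv {x : G} (h : x ≠ 1) (h2 : x * x = 1) : x.1.1.charpoly = .X ^ 3 + .X ^ 2 - .X - 1 := by
  have e1 : x.1.1 * x.1.1 = 1 := congrArg (·.1.1) h2
  have e2 : x.1.1.adjugate = x.1.1 := by
    have := adjugate_mul x.1.1
    rw [x.1.2, one_smul] at this
    rw [← mul_one (adjugate _), ← e1, ← mul_assoc, this, one_mul]
  have e3 := aeval_self_charpoly x.1.1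
  rw [charpoly3, e2, x.1.2] at e3 ⊢
  have e4 : (1 + x.1.1.trace) • (x.1.1 - 1) = 0 := by
    simp only [map_sub, map_add, map_mul, map_pow, Polynomial.aeval_X, Polynomial.aeval_C, ← Algebra.smul_def, map_one, pow_succ, pow_zero, one_mul, e1] at e3
    linear_combination (norm := module) e3
  have e5 : x.1.1.trace = -1 := eq_neg_of_add_eq_zero_right ((smul_eq_zero.1 e4).resolve_right fun e => h (Subtype.ext (Subtype.ext (sub_eq_zero.1 e))))
  simp [e5]
  ring

theorem isConj {x y : G} (h : x ≠ 1) (h2 : x * x = 1) (h' : y ≠ 1) (h2' : y * y = 1) : IsConj x y := by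
  obtain ⟨p, _⟩ := CharP.exists F
  have := Fact.mk (CharP.char_is_prime F p)
  have hp : Nat.Coprime 2 p := (Nat.coprime_primes Nat.prime_two Fact.out).2 (by
    rintro rfl
    exact two hF hq CharTwo.two_eq_zero)
  exact S2390.result hF p 3 x y (by rwa [orderOf_eq_prime (p := 2) (by rwa [sq]) h]) (by rwa [orderOf_eq_prime (p := 2) (by rwa [sq]) h'])
    ((charpoly_inv h h2).trans (charpoly_inv h' h2').symm)

omit hq in
theorem H_e (v : Fin 3 → F) : H v ![1, 0, 0] = v 0 := by simp [H_eq hF, -frobq_apply]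
omit hq in
theorem He : H ![1, 0, 0] ![1, 0, 0] ≠ 0 := by simp [H_e hF]

/-- the standard involution -/
noncomputable abbrev t₀ : G := r hF _ (He hF)

theorem exists_r {x : G} (h : x ≠ 1) (h2 : x * x = 1) : ∃ v, ∃ e : H v v = 1, x = r hF v (e.trans_ne one_ne_zero) := by
  obtain ⟨g, rfl⟩ := isConj_iff.1 (isConj hF hq (r_ne hF hq _ (He hF)) (r_sq hF _ _) h h2)
  exact ⟨_, by rw [H_inv, H_e hF]; simp, r_conj hF _ _ _⟩

omit hq in
theorem card_N : Nat.card {c : F // c * σ c = 1} = q + 1 := by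
  have h := unit_cnt_ne hF one_ne_zero (one_pow q) 1 _ (uForm_nondeg hF 1) (by simp)
  have hq := two_le_of_card_sq hF
  rw [Form.cnt, Nat.card_congr ((Equiv.funUnique (Fin 1) F).subtypeEquiv (q := fun c => c * σ c = 1) fun v => by
    simp [uForm_N, Cfsg.hermForm])] at h
  zify
  exact mul_left_cancel₀ (a := (q : ℤ)) (by positivity) (by linear_combination h)

theorem card_inv (P : G → Prop) (Q : (Fin 3 → F) → Prop) (hPQ : ∀ v (e : H v v = 1), P (r hF v (e.trans_ne one_ne_zero)) ↔ Q v) :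
    Nat.card {x : G // x ≠ 1 ∧ x * x = 1 ∧ P x} * (q + 1) = Nat.card {v // H v v = 1 ∧ Q v} := by
  choose f f1 f2 using fun x : {x : G // x ≠ 1 ∧ x * x = 1 ∧ P x} => exists_r hF hq x.2.1 x.2.2.1
  have h1 : ∀ x (c : {c : F // c * σ c = 1}), H (c.1 • f x) (c.1 • f x) = 1 := fun x c => by
    rw [H_smul_l, H_smul_r hF, f1, mul_one, c.2]
  rw [← card_N hF, ← Nat.card_prod]
  refine Nat.card_eq_of_bijective (fun a => ⟨a.2.1 • f a.1, h1 _ _, (hPQ _ (h1 _ _)).1 (by
    rw [r_smul hF ((f1 a.1).trans_ne one_ne_zero) _ rfl, ← f2]; exact a.1.2.2.2)⟩) ⟨fun a b e => ?_, fun v => ?_⟩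
  · have e := congrArg Subtype.val e
    simp only at e
    have e1 : a.1 = b.1 := Subtype.ext (by
      rw [f2 a.1, f2 b.1, ← r_smul hF _ ((h1 a.1 a.2).trans_ne one_ne_zero) rfl, r_smul hF ((f1 b.1).trans_ne one_ne_zero) _ e])
    refine Prod.ext e1 (Subtype.ext ?_)
    have e2 := congrArg (H · (f b.1)) e
    simpa only [e1, H_smul_l, f1, mul_one] using e2
  · let x : {x : G // x ≠ 1 ∧ x * x = 1 ∧ P x} := ⟨r hF v.1 (v.2.1.trans_ne one_ne_zero), r_ne hF hq _ _, r_sq hF _ _, (hPQ _ v.2.1).2 v.2.2⟩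
    have e := of_r_eq hF hq (h' := v.2.1.trans_ne one_ne_zero) (f2 x)
    refine ⟨⟨x, _, ?_⟩, Subtype.ext e.symm⟩
    have := v.2.1
    rw [e, H_smul_l, H_smul_r hF] at this
    simpa only [f1, mul_one] using this

omit hq in
theorem card_two {c : F} (h : c ≠ 0) (h' : σ c = c) : Nat.card {w : Fin 2 → F // Cfsg.hermForm 2 F q w w = c ∧ True} = q * (q ^ 2 - 1) := by
  have h := unit_cnt_ne hF h h' 2 _ (uForm_nondeg hF 2) (by simp)
  have hq := two_le_of_card_sq hF
  have : 1 ≤ q ^ 2 := Nat.one_le_pow _ _ (by omega)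
  simp only [and_true]
  zify [this]
  exact mul_left_cancel₀ (a := (q : ℤ)) (by positivity) (h.trans (by ring))

omit hq in
theorem card_zero : Nat.card {w : Fin 2 → F // Cfsg.hermForm 2 F q w w = 0 ∧ w ≠ 0} = (q ^ 2 - 1) * (q + 1) := by
  classical
  have h := unit_cnt_zero_nat hF _ (uForm_nondeg hF 2) (n := 2) (by simp)
  have hq := two_le_of_card_sq hF
  rw [Form.cnt, Nat.card_eq_fintype_card, Fintype.card_subtype, ← Finset.card_erase_add_one (a := 0) (by simp [uForm_N, H2_eq hF, -frobq_apply])] at h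
  rw [Nat.card_eq_fintype_card, Fintype.card_subtype]
  simp only [even_two, if_true, Nat.add_right_cancel_iff, Nat.add_one_sub_one, pow_one] at h
  rw [← h]
  congr 1
  ext w
  simp only [Finset.mem_filter, Finset.mem_erase, Finset.mem_univ, true_and]
  exact and_comm

omit hq in
theorem card_split (R : F → Prop) (S : (Fin 2 → F) → Prop) {k : ℕ}
    (h : ∀ c, R c → Nat.card {w : Fin 2 → F // Cfsg.hermForm 2 F q w w = 1 - c * σ c ∧ S w} = k) :
    Nat.card {v // H v v = 1 ∧ R (v 0) ∧ S ![v 1, v 2]} = Nat.card {c // R c} * k := by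
  classical
  rw [Nat.card_congr (α := {v // H v v = 1 ∧ R (v 0) ∧ S ![v 1, v 2]}) (β := Σ c : {c // R c}, {w : Fin 2 → F // Cfsg.hermForm 2 F q w w = 1 - c.1 * σ c.1 ∧ S w})
    { toFun v := ⟨⟨v.1 0, v.2.2.1⟩, ![v.1 1, v.1 2], by
        have := v.2.1
        rw [H_eq hF] at this
        rw [H2_eq hF]
        simp only [cons_val]
        linear_combination this, v.2.2.2⟩
      invFun a := ⟨![a.1.1, a.2.1 0, a.2.1 1], by
        have := a.2.2.1
        rw [H2_eq hF] at this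
        rw [H_eq hF]
        simp only [cons_val]
        linear_combination this, a.1.2, by convert a.2.2.2; ext i; fin_cases i <;> rfl⟩
      left_inv v := Subtype.ext (by ext i; fin_cases i <;> rfl)
      right_inv a := by
        obtain ⟨c, w, h⟩ := a
        exact congrArg _ (Subtype.ext (by ext i; fin_cases i <;> rfl)) }, Nat.card_sigma]
  rw [Finset.sum_congr rfl fun c _ => h c.1 c.2, Finset.sum_const, Finset.card_univ, Nat.card_eq_fintype_card, smul_eq_mul]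

omit hq in
theorem card_N' : Nat.card {c : F // c ≠ 0 ∧ c * σ c ≠ 1} = (q - 2) * (q + 1) := by
  classical
  have h := card_N hF
  have hq := two_le_of_card_sq hF
  have h1 := Finset.card_filter_add_card_filter_not (s := (Finset.univ : Finset F).erase 0) (fun c => c * σ c = 1)
  rw [Nat.card_eq_fintype_card, Fintype.card_subtype] at h ⊢
  rw [Finset.card_erase_of_mem (Finset.mem_univ _), Finset.card_univ, hF, Finset.filter_erase, Finset.erase_eq_of_notMem (by simp [-frobq_apply]), h] at h1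
  obtain ⟨k, rfl⟩ : ∃ k, q = k + 2 := ⟨q - 2, by omega⟩
  have e : (k + 2) ^ 2 - 1 = k + 2 + 1 + k * (k + 2 + 1) := Nat.sub_eq_of_eq_add (by ring)
  rw [e, Nat.add_left_cancel_iff] at h1
  rw [Nat.add_sub_cancel, ← h1]
  congr 1
  ext c
  simp only [Finset.mem_filter, Finset.mem_erase, Finset.mem_univ, true_and, and_true]

theorem comm_t {v : Fin 3 → F} {h : H v v ≠ 0} : Commute (t₀ hF) (r hF v h) ↔ v 0 = 0 ∨ r hF v h = t₀ hF := by rw [r_comm hF hq, H_e hF]
theorem eq_t {v : Fin 3 → F} {h : H v v ≠ 0} : r hF v h = t₀ hF ↔ v 1 = 0 ∧ v 2 = 0 :=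
  ⟨fun e => by rw [of_r_eq hF hq e]; simp, fun e => r_smul hF _ _ (c := v 0) (by ext i; fin_cases i <;> simp [e])⟩

theorem dist_two {v : Fin 3 → F} {h : H v v ≠ 0} (h1 : ¬ Commute (t₀ hF) (r hF v h)) :
    (∃ y : G, y ≠ 1 ∧ y * y = 1 ∧ Commute (t₀ hF) y ∧ Commute y (r hF v h)) ↔ v 1 * σ (v 1) + v 2 * σ (v 2) ≠ 0 := by
  refine ⟨fun ⟨y, a, b, c, d⟩ e => ?_, fun e => ⟨r hF ![0, σ (v 2), -σ (v 1)] (by
    rw [H_eq hF]; simp only [cons_val, map_neg, ss]; exact fun f => e (by linear_combination f)), r_ne hF hq _ _, r_sq hF _ _,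
    (comm_t hF hq).2 (.inl rfl), (r_comm hF hq).2 (.inl (by rw [H_eq hF]; simp only [cons_val, map_neg, ss, map_zero]; ring))⟩⟩
  obtain ⟨w, f, rfl⟩ := exists_r hF hq a b
  have a1 := ((comm_t hF hq).1 c).resolve_right fun g => h1 (g ▸ d)
  have a2 := ((r_comm hF hq).1 d).resolve_right fun g => h1 (g ▸ c)
  have a3 := H_conj hF v w
  rw [a2, map_zero, H_eq hF, a1] at a3
  rw [H_eq hF, a1] at f a2
  have b1 : v 1 * σ (v 1) = 0 := by
    linear_combination (-(v 1 * σ (v 1))) * f + (w 1 * σ (v 1) - w 2 * σ (v 2) ) * a2 + (w 2 * σ (w 2)) * e + (v 2 * σ (w 2)) * a3 + (w 2 * σ (v 2)) * a2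
      - (v 1 * σ (v 1) * 0 + w 1 * σ (v 1) * v 0 ) * (map_zero σ)
  have b2 : ∀ x, x * σ x = 0 → x = 0 := fun x e => (mul_eq_zero.1 e).elim id (map_eq_zero σ).1
  exact h1 ((comm_t hF hq).2 (.inr ((eq_t hF hq).2 ⟨b2 _ b1, b2 _ (by linear_combination e - b1)⟩)))

theorem card_d1 : Nat.card {x : G // x ≠ 1 ∧ x * x = 1 ∧ x ≠ t₀ hF ∧ Commute (t₀ hF) x} = q * (q - 1) := by
  have h := card_inv hF hq (fun x => x ≠ t₀ hF ∧ Commute (t₀ hF) x) (fun v => v 0 = 0 ∧ True) fun v e => by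
    rw [comm_t hF hq, Ne, eq_t hF hq]
    refine ⟨fun h => ⟨h.2.resolve_right h.1, trivial⟩, fun h => ⟨fun f => ?_, .inl h.1⟩⟩
    simp [H_eq hF, h.1, f.1, f.2, -frobq_apply] at e
  rw [card_split hF (· = 0) (fun _ => True) (k := q * (q ^ 2 - 1)) fun c e => card_two hF (by simp [e]) (by simp [e, -frobq_apply])] at h
  obtain ⟨k, rfl⟩ : ∃ k, q = k + 1 := ⟨q - 1, by have := two_le_of_card_sq hF; omega⟩
  rw [show (k + 1) ^ 2 - 1 = k * (k + 1 + 1) from Nat.sub_eq_of_eq_add (by ring), Nat.card_unique (α := {c // c = _}), one_mul, ← mul_assoc] at h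
  exact Nat.eq_of_mul_eq_mul_right (Nat.succ_pos _) h

theorem card_d2 : Nat.card {x : G // x ≠ 1 ∧ x * x = 1 ∧ ¬ Commute (t₀ hF) x ∧ ∃ y : G, y ≠ 1 ∧ y * y = 1 ∧ Commute (t₀ hF) y ∧ Commute y x} =
    q * (q - 2) * (q ^ 2 - 1) := by
  have h := card_inv hF hq (fun x => ¬ Commute (t₀ hF) x ∧ ∃ y : G, y ≠ 1 ∧ y * y = 1 ∧ Commute (t₀ hF) y ∧ Commute y x)
    (fun v => (v 0 ≠ 0 ∧ v 0 * σ (v 0) ≠ 1) ∧ True) fun v e => by
    rw [and_congr_right fun h => dist_two hF hq h, comm_t hF hq, eq_t hF hq]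
    rw [H_eq hF] at e
    exact ⟨fun h => ⟨⟨fun f => h.1 (.inl f), fun f => h.2 (by linear_combination e - f)⟩, trivial⟩,
      fun h => ⟨fun f => f.elim h.1.1 fun f => h.1.2 (by simpa [f.1, f.2, -frobq_apply] using e), fun f => h.1.2 (by linear_combination e - f)⟩⟩
  rw [card_split hF (fun c => c ≠ 0 ∧ c * σ c ≠ 1) (fun _ => True) (k := q * (q ^ 2 - 1)) fun c e => card_two hF (sub_ne_zero.2 e.2.symm)
    (by simp [ss, mul_comm, -frobq_apply]), card_N' hF] at h
  exact Nat.eq_of_mul_eq_mul_right (Nat.succ_pos q) (h.trans (by simp only [Nat.succ_eq_add_one]; ring))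

theorem card_d3 : Nat.card {x : G // x ≠ 1 ∧ x * x = 1 ∧ ¬ Commute (t₀ hF) x ∧ ∀ y : G, y ≠ 1 → y * y = 1 → ¬ (Commute (t₀ hF) y ∧ Commute y x)} =
    (q + 1) * (q ^ 2 - 1) := by
  have h := card_inv hF hq (fun x => ¬ Commute (t₀ hF) x ∧ ∀ y : G, y ≠ 1 → y * y = 1 → ¬ (Commute (t₀ hF) y ∧ Commute y x))
    (fun v => v 0 * σ (v 0) = 1 ∧ ![v 1, v 2] ≠ 0) fun v e => by
    have h1 : ∀ x : G, (∀ y : G, y ≠ 1 → y * y = 1 → ¬ (Commute (t₀ hF) y ∧ Commute y x)) ↔ ¬ ∃ y : G, y ≠ 1 ∧ y * y = 1 ∧ Commute (t₀ hF) y ∧ Commute y x :=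
      fun x => by simp only [not_exists, not_and]
    rw [h1, and_congr_right fun h => not_congr (dist_two hF hq h), comm_t hF hq, eq_t hF hq, not_not]
    rw [H_eq hF] at e
    refine ⟨fun h => ⟨by linear_combination e - h.2, fun f => h.1 (.inr ⟨congrFun f 0, congrFun f 1⟩)⟩,
      fun h => ⟨fun f => f.elim (fun f => by simp [f] at h) fun f => h.2 (by simp [f.1, f.2]), by linear_combination e - h.1⟩⟩
  rw [card_split hF (fun c => c * σ c = 1) (· ≠ 0) (k := (q ^ 2 - 1) * (q + 1)) fun c e => by rw [e, sub_self, card_zero hF], card_N hF] at h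
  exact Nat.eq_of_mul_eq_mul_right (Nat.succ_pos q) (h.trans (by simp only [Nat.succ_eq_add_one]; ring))

theorem path {x : G} (h : x ≠ 1) (h2 : x * x = 1) :
    ∃ y z : G, y ≠ 1 ∧ y * y = 1 ∧ z ≠ 1 ∧ z * z = 1 ∧ Commute (t₀ hF) y ∧ Commute y z ∧ Commute z x := by
  obtain ⟨v, e, rfl⟩ := exists_r hF hq h h2
  have e' := e
  rw [H_eq hF] at e'
  have key : ∀ y z : Fin 3 → F, H y y ≠ 0 → H z z ≠ 0 → y 0 = 0 → H z y = 0 → H v z = 0 →
      ∃ y z : G, y ≠ 1 ∧ y * y = 1 ∧ z ≠ 1 ∧ z * z = 1 ∧ Commute (t₀ hF) y ∧ Commute y z ∧ Commute z (r hF v (e.trans_ne one_ne_zero)) :=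
    fun y z a b c d f => ⟨r hF y a, r hF z b, r_ne hF hq _ _, r_sq hF _ _, r_ne hF hq _ _, r_sq hF _ _, (comm_t hF hq).2 (.inl c),
      (r_comm hF hq).2 (.inl d), (r_comm hF hq).2 (.inl f)⟩
  by_cases h1 : v 1 * σ (v 1) = 1
  · by_cases h3 : v 2 * σ (v 2) = 1
    · refine ⟨r hF ![0, σ (v 2), -σ (v 1)] ?_, _, r_ne hF hq _ _, r_sq hF _ _, h, h2, (comm_t hF hq).2 (.inl rfl), (r_comm hF hq).2 (.inl ?_), .refl _⟩ <;>
        simp only [H_eq hF, cons_val, map_neg, ss, map_zero]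
      · exact fun f => two hF hq (by linear_combination f - h1 - h3)
      · ring
    refine key ![0, 0, 1] ![σ (v 1), -σ (v 0), 0] ?_ ?_ rfl ?_ ?_ <;> simp only [H_eq hF, cons_val, map_neg, ss, map_zero, map_one]
    · simp
    · exact fun f => h3 (by linear_combination e' - f)
    · simp
    · ring
  refine key ![0, 1, 0] ![σ (v 2), 0, -σ (v 0)] ?_ ?_ rfl ?_ ?_ <;> simp only [H_eq hF, cons_val, map_neg, ss, map_zero, map_one]
  · simp
  · exact fun f => h1 (by linear_combination e' - f)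
  · simp
  · ring

theorem card_all : Nat.card {x : G // x ≠ 1 ∧ x * x = 1} = q ^ 2 * (q ^ 2 - q + 1) := by
  have h := card_inv hF hq (fun _ => True) (fun _ => True) fun _ _ => .rfl
  have h1 := unit_cnt_ne hF one_ne_zero (one_pow q) 3 _ (uForm_nondeg hF 3) (by simp)
  have h2 := two_le_of_card_sq hF
  have : q ≤ q ^ 2 := by nlinarith
  simp only [and_true] at h
  refine Nat.eq_of_mul_eq_mul_right (Nat.succ_pos q) (h.trans ?_)
  zify [this]
  exact mul_left_cancel₀ (a := (q : ℤ)) (by positivity) (h1.trans (by push_cast; ring))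

theorem uniq {x y y' : G} (a : x ≠ 1 ∧ x * x = 1 ∧ x ≠ t₀ hF ∧ Commute (t₀ hF) x)
    (b : y ≠ 1 ∧ y * y = 1 ∧ y ≠ t₀ hF ∧ y ≠ x ∧ Commute (t₀ hF) y ∧ Commute x y)
    (c : y' ≠ 1 ∧ y' * y' = 1 ∧ y' ≠ t₀ hF ∧ y' ≠ x ∧ Commute (t₀ hF) y' ∧ Commute x y') : y = y' := by
  obtain ⟨v, e, rfl⟩ := exists_r hF hq a.1 a.2.1
  have a1 := ((comm_t hF hq).1 a.2.2.2).resolve_right a.2.2.1
  have e' := e
  rw [H_eq hF, a1] at e'
  have h0 : H ![0, σ (v 2), -σ (v 1)] ![0, σ (v 2), -σ (v 1)] ≠ 0 := by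
    rw [H_eq hF]; simp only [cons_val, map_neg, ss]; exact fun f => one_ne_zero (α := F) (by linear_combination f - e')
  have key : ∀ y : G, y ≠ 1 ∧ y * y = 1 ∧ y ≠ t₀ hF ∧ y ≠ r hF v (e.trans_ne one_ne_zero) ∧ Commute (t₀ hF) y ∧ Commute (r hF v (e.trans_ne one_ne_zero)) y →
      y = r hF _ h0 := fun y b => by
    obtain ⟨w, f, rfl⟩ := exists_r hF hq b.1 b.2.1
    have b1 := ((comm_t hF hq).1 b.2.2.2.2.1).resolve_right b.2.2.1
    have b2 := ((r_comm hF hq).1 b.2.2.2.2.2).resolve_right b.2.2.2.1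
    rw [H_eq hF, b1] at b2
    refine r_smul hF _ _ (c := w 1 * v 2 - w 2 * v 1) (funext fun i => ?_)
    fin_cases i
    · simpa using b1
    · simp only [Fin.mk_one, Pi.smul_apply, cons_val, smul_eq_mul]
      linear_combination (v 1) * b2 - w 1 * e'
    · simp only [Fin.reduceFinMk, Pi.smul_apply, cons_val, smul_eq_mul]
      linear_combination (v 2) * b2 - w 2 * e'
  exact (key y b).trans (key y' c).symm

theorem exists_aut {t : G} (h : t ≠ 1) (h2 : t * t = 1) : ∃ φ : G ≃* G, φ (t₀ hF) = t :=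
  let ⟨g, e⟩ := isConj_iff.1 (isConj hF hq (r_ne hF hq _ (He hF)) (r_sq hF _ _) h h2)
  ⟨MulAut.conj g, e⟩

end Cfsg.Agent.Chev.U3
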