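import Cfsg.Agent.Lib.Chev.LiftC
import Cfsg.Agent.Lib.Chev.Rk1SBN

set_option autoImplicit false
set_option linter.unusedSectionVars false
set_option linter.style.haveILetI false

/-! Schur multipliers of the linear groups. -/

namespace Cfsg.Agent.Chev

open scoped commutatorElement
open Matrix

section Fld
variable {F : Type*} [Field F] [Fintype F]

theorem prime_or_sq (p : ℕ) [Fact p.Prime] [CharP F p] : (∀ t : F, ∃ n : ℕ, t = n) ∨ ∃ k, 2 ≤ k ∧ Fintype.card F = p ^ k := by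
  obtain ⟨⟨k, h0⟩, -, h⟩ := FiniteField.card F p
  rcases (show 1 ≤ k from h0).eq_or_lt with rfl | a
  · refine .inl fun t => ?_
    obtain ⟨a, rfl⟩ := (ZMod.castHom_bijective F (by simpa using h)).2 t
    exact ⟨a.val, by simp⟩
  · exact .inr ⟨k, a, h⟩

open Polynomial in
theorem exists_pyth (h4 : Fintype.card F ≠ 4) (h9 : Fintype.card F ≠ 9) : (∀ t : F, ∃ n : ℕ, t = n) ∨
    ∃ a b c : F, a ≠ 0 ∧ b ≠ 0 ∧ c ≠ 0 ∧ a ^ 2 + b ^ 2 = c ^ 2 ∧ a ^ 4 + a ^ 2 * b ^ 2 + b ^ 4 ≠ 0 := by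
  obtain ⟨p, hp⟩ := CharP.exists F
  have := Fact.mk (CharP.char_is_prime F p)
  refine (prime_or_sq p).imp_right fun ⟨k, h1, h2⟩ => ?_
  have h3 : ∀ q : F[X], q.eval 0 = 1 → q.natDegree + 1 < Fintype.card F → ∃ v, v ≠ 0 ∧ q.eval v ≠ 0 := fun q a b => by
    obtain ⟨v, hv⟩ := exists_eval_ne_zero_of_natDegree_lt_card (X * q) (mul_ne_zero X_ne_zero (by rintro rfl; simp at a))
      (by rw [Cardinal.mk_fintype, Nat.cast_lt]; exact (natDegree_mul_le.trans (by simp [add_comm])).trans_lt b)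
    exact ⟨v, by simpa using hv⟩
  have h5 : 3 ≤ k → p ^ 3 ≤ p ^ k := Nat.pow_le_pow_right this.1.pos
  by_cases e : p = 2
  · subst e
    obtain ⟨v, a, b⟩ := h3 ((1 + X) * (1 + X ^ 2 + X ^ 4)) (by simp) (lt_of_le_of_lt (b := 6) (Nat.succ_le_succ (by compute_degree)) (by
      have : k ≠ 2 := by rintro rfl; exact h4 h2
      omega))
    simp only [eval_mul, eval_add, eval_one, eval_X, eval_pow, mul_ne_zero_iff] at b
    exact ⟨1, v, 1 + v, one_ne_zero, a, b.1, by rw [CharTwo.add_sq], by simpa using b.2⟩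
  have h6 : 3 ≤ p := by have := this.1.two_le; omega
  obtain ⟨v, a, b⟩ := h3 ((1 - X ^ 2) * (1 + X ^ 2) * ((2 * X) ^ 4 + (2 * X) ^ 2 * (1 - X ^ 2) ^ 2 + (1 - X ^ 2) ^ 4)) (by simp)
    (lt_of_le_of_lt (b := 13) (Nat.succ_le_succ (by compute_degree)) (by
      rcases h1.eq_or_lt with rfl | c
      · have : p ≠ 3 := by rintro rfl; exact h9 h2
        nlinarith [show 4 ≤ p by omega]
      · have := Nat.pow_le_pow_left h6 3
        omega))
  simp only [eval_mul, eval_add, eval_sub, eval_one, eval_X, eval_pow, eval_ofNat, mul_ne_zero_iff] at b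
  exact ⟨2 * v, 1 - v ^ 2, 1 + v ^ 2, mul_ne_zero (Ring.two_ne_zero (by rwa [ringChar.eq F p])) a, b.1.1, b.1.2, by ring, b.2⟩

theorem pairing_sq (h4 : Fintype.card F ≠ 4) (h9 : Fintype.card F ≠ 9) {E : Type*} [Group E] {f : F → F → E}
    (h1 : ∀ t t' u, f (t + t') u = f t' u * f t u) (h2 : ∀ t u u', f t (u + u') = f t u * f t u')
    (h3 : ∀ c, c ≠ 0 → ∀ t u, f (c ^ 2 * t) (c ^ 2 * u) = f t u) (h0 : f 1 1 = 1) (t u : F) : f t u = 1 := by
  rcases exists_pyth h4 h9 with h | ⟨a, b, c, ha, hb, hc, e, e'⟩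
  · obtain ⟨n, rfl⟩ := h t
    obtain ⟨m, rfl⟩ := h u
    induction n with
    | zero => simpa using h1 0 0 m
    | succ n ih =>
      rw [Nat.cast_succ, h1, ih, mul_one]
      clear ih
      induction m with
      | zero => simpa using h2 1 0 0
      | succ m ih => rw [Nat.cast_succ, h2, ih, h0, mul_one]
  have h5 : ∀ c, c ≠ 0 → ∀ t u, f (c ^ 2 * t) u = f t (u / c ^ 2) := fun c h t u => by rw [← h3 c h t, mul_div_cancel₀ _ (pow_ne_zero _ h)]
  have h6 := fun u => h1 (a ^ 2 * t) (b ^ 2 * t) u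
  simp only [← add_mul, e, h5 _ ha, h5 _ hb, h5 _ hc, ← h2] at h6
  have := h2 t (u * a ^ 2 * b ^ 2 * c ^ 2 / (a ^ 4 + a ^ 2 * b ^ 2 + b ^ 4) / c ^ 2) u
  rw [h6, show _ + u = _ from ?_, left_eq_mul] at this
  · exact this
  · generalize hD : a ^ 4 + a ^ 2 * b ^ 2 + b ^ 4 = D at e'
    field_simp
    rw [← hD, ← e]; ring

end Fld

theorem plift_unique {E G : Type*} [Group E] [Group G] {π : E →* G} (hc : π.ker ≤ Subgroup.center E) {p : ℕ} (hk : (Nat.card π.ker).Coprime p)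
    {a b : E} (h : π a = π b) {k l : ℕ} (ha : a ^ p ^ k = 1) (hb : b ^ p ^ l = 1) : a = b := by
  have h1 : π (b⁻¹ * a) = 1 := by simp [h]
  have h2 : (b⁻¹ * a) ^ p ^ (k + l) = 1 := by
    have := ((show Commute b (b⁻¹ * a) from ker_comm hc h1 b).mul_pow (p ^ (k + l))).symm
    rwa [mul_inv_cancel_left, pow_add, pow_mul a, ha, mul_comm (p ^ k), pow_mul b, hb, one_pow, one_pow, one_mul, mul_comm, ← pow_add] at this
  have := pow_gcd_eq_one.2 ⟨congrArg Subtype.val (pow_card_eq_one' (x := (⟨_, h1⟩ : π.ker))), h2⟩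
  rw [hk.pow_right, pow_one] at this
  exact (inv_mul_eq_one.1 this).symm

/-- lower unitriangular matrices -/
def sl2y {F : Type*} [Field F] (t : F) : SpecialLinearGroup (Fin 2) F := ⟨!![1, 0; t, 1], by simp⟩
@[simp] theorem sl2y_val {F : Type*} [Field F] (t : F) : (sl2y t).1 = !![1, 0; t, 1] := rfl

theorem schur_sl2 {F : Type*} [Field F] [Fintype F] (h4 : Fintype.card F ≠ 4) (h9 : Fintype.card F ≠ 9) :
    HasCyclicSchurMultiplier (SpecialLinearGroup (Fin 2) F) 1 := by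
  refine Suz.hasSchur_one fun E _ _ σ ⟨hs, hc, hd⟩ => ?_
  obtain ⟨p, hp⟩ := CharP.exists F
  have := Fact.mk (CharP.char_is_prime F p)
  obtain ⟨P, -, hP⟩ := exists_sbn_sl2 F p
  have a0 : ∀ t u : F, ⁅sl2x (.ofAdd t), sl2x (.ofAdd u)⁆ = 1 := fun t u => by rw [← map_commutatorElement, commutatorElement_eq_one_iff_commute.2 (.all _ _), map_one]
  have a1 := pairing_sq h4 h9 (f := fun t u => lc hs (sl2x (.ofAdd t)) (sl2x (.ofAdd u)))
    (fun t t' u => by rw [ofAdd_add, map_mul, lc_mul_left hc hs (by rw [a0]; exact mem_LC_one hc hs _)])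
    (fun t t' u => by rw [ofAdd_add, map_mul, lc_mul_right hc hs (by rw [a0]; exact mem_LC_one hc hs _)])
    (fun c h t u => by
      rw [← lc_conj' hc hs (sl2h (.mk0 c h)) (commutatorElement_eq_one_iff_commute.1 (a0 t u))]
      congr 1 <;> exact eq_mul_inv_of_mul_eq (Subtype.ext (by simp [h, pow_two, mul_right_comm c c])))
    ((lc_eq_one hc hs).2 (self_mem_LC hc hs _))
  have a2 : (Nat.card σ.ker).Coprime p := Nat.Coprime.symm (this.1.coprime_iff_not_dvd.2 fun h => by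
    obtain ⟨⟨z, hz⟩, e⟩ := exists_prime_orderOf_dvd_card' p h
    have b := Suz.pow_index_mem_der (H := P.U.comap σ) (by simp [MonoidHom.mem_ker.1 hz]) (hc hz) (hd hz)
    rw [show ⁅P.U.comap σ, P.U.comap σ⁆ = ⊥ from hP ▸ Subgroup.commutator_eq_bot_iff_le_centralizer.2 (fun a ⟨t, b⟩ c ⟨u, d⟩ => ((mem_LC hc).1 (by
      rw [← b, ← d]; exact (lc_eq_one hc hs).1 (a1 _ _))).eq), Subgroup.mem_bot,
      Subgroup.index_comap_of_surjective _ hs, ← orderOf_dvd_iff_pow_eq_one, ← Subgroup.orderOf_mk z hz, e] at b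
    exact P.not_dvd_index b)
  obtain ⟨W, b1, b2, b3⟩ := exists_pcompl hc hs a2 P.pU
  choose x c1 c2 using fun t : F => b2.ge (hP.ge ⟨.ofAdd t, rfl⟩)
  choose k c3 using fun t => ((b3 _).1 (c1 t)).2
  obtain ⟨m, hm⟩ := hs sl2n
  have c4 : ∀ t u, x t * x u = x (t + u) := fun t u => mul_inv_eq_one.1 (b1 _ (mul_mem (mul_mem (c1 t) (c1 u)) (inv_mem (c1 _))) (by simp [c2]))
  have c5 : ∀ t, σ (m * x (-t) * m⁻¹) = sl2y t := fun t => by
    rw [map_mul, map_mul, map_inv, hm, c2]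
    exact mul_inv_eq_of_eq_mul (Subtype.ext (by simp))
  let A : Rk1 F E := ⟨x, fun t => m * x (-t) * m⁻¹, c4, fun t u => by simp [c4, add_comm], fun c t => eq_mul_of_mul_inv_eq
    (plift_unique hc a2 (k := k t) (l := k _) (by
      rw [map_mul σ _ _⁻¹, map_inv, map_mul, map_mul, map_mul, c5, c5, c2, c2]
      exact mul_inv_eq_of_eq_mul (Subtype.ext (by simp [pow_two, mul_right_comm _ t]))) (by rw [conj_pow, c3, mul_one, mul_inv_cancel]) (by rw [conj_pow, c3]; simp))⟩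
  have c6 : ∀ c, σ (A.h c) = sl2h c := fun c => by
    have : ∀ t, σ (A.x t) = _ := c2
    simp only [Rk1.h, Rk1.n, map_mul, show ∀ t, σ (A.y t) = _ from c5, this]
    exact Subtype.ext (by simp)
  obtain ⟨φ, hφ⟩ := A.exists_hom (A.h_mul_of_finite fun t u g _ => (ker_comm hc (by simp [c6]) g).symm)
  have c7 : σ.comp φ = MonoidHom.id _ := MonoidHom.eq_of_eqOn_top (sl2_eq_top (K := (σ.comp φ).eqLocus (MonoidHom.id _)) (fun g t h =>
    h.elim (fun h => (congrArg σ ((hφ g t).1 h)).trans ((c2 t).trans (Subtype.ext h.symm)))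
      fun h => (congrArg σ ((hφ g t).2 h)).trans ((c5 t).trans (Subtype.ext h.symm)))).ge
  refine eq_bot_iff.2 fun z hz => ?_
  obtain ⟨u, rfl⟩ := surj_of_stem ⟨hs, hc, hd⟩ (φ := φ) (by rw [c7]; exact Function.surjective_id) z
  rw [show u = 1 from (DFunLike.congr_fun c7 u).symm.trans hz, map_one]
  exact one_mem _

variable {I R : Type} [Fintype I] [DecidableEq I] [Fintype R] [DecidableEq R]

namespace RS.QZ
variable {Φ : RS I R} {A : Type*} [Ring A] {e : R → A} (q : Φ.QZ e) (hc' : ∀ i, ∃ j, Φ.A j (Φ.sim i) < 0)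

theorem cz_of_ln {r s : R} (h : 0 ≤ Φ.pair r s) (h' : ∀ k, Φ.ln k < Φ.ln r + Φ.ln s) (p : ℕ) : (q.cd hc').Cz p r s :=
  q.cz hc' (by rintro rfl; simp [Φ.pair_neg_right, Φ.pair_same] at h) (fun k a => by
    have := RS.ln_add a
    have := h' k
    have := mul_nonneg (Φ.ln_pos r).le h
    omega) p

theorem _root_.Cfsg.Agent.Chev.RS.exists_split {k r : R} (h : Φ.pair k r = 1) : ∃ j, Φ.ln j = Φ.ln r ∧ Φ.rv r = Φ.rv k + Φ.rv j := by
  obtain ⟨w, hw⟩ := RS.exists_refl (Φ := Φ) k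
  exact ⟨w • r, RS.ln_smul .., by rw [hw, h]; simp⟩

theorem _root_.Cfsg.Agent.Chev.RS.pair_comm {r s : R} (h : Φ.ln r = Φ.ln s) : Φ.pair r s = Φ.pair s r :=
  mul_left_cancel₀ (Φ.ln_pos r).ne' ((Φ.ln_pair_symm r s).trans (by rw [h]))

variable {F : Type*} [Field F] {G : Type*} [Group G] {S : St (q.cd hc') F G} {E : Type*} [Group E] {π : E →* G}
  (hc : π.ker ≤ Subgroup.center E) (hs : Function.Surjective π) {l : ℤ} (hl : ∀ r, Φ.ln r = l)
include hl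

theorem cz_sl {r s : R} (h : 0 ≤ Φ.pair r s) (p : ℕ) : (q.cd hc').Cz p r s :=
  q.cz_of_ln hc' h (fun k => by have := Φ.ln_pos k; simp only [hl] at *; omega) p

theorem perfect_sl (hG : S.Gx = ⊤) (hd : ∀ r, ∃ k, Φ.pair k r = 1) : commutator G = ⊤ := St.eq_top_of_sim hG fun i t => by
  obtain ⟨k, h⟩ := hd (Φ.sim i)
  obtain ⟨j, -, b⟩ := RS.exists_split h
  obtain ⟨c, h1, h2⟩ := St.comm_one (S := S) (q.one hc' b (by simp [hl]) (by simp [hl]))
  simpa [h2, h1, commutator_def] using Subgroup.commutator_mem_commutator (Subgroup.mem_top (S.x k c)) (Subgroup.mem_top (S.x j t))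

include hc hs

theorem cm_sl {r s k : R} (h1 : Φ.pair k r = 1) (h2 : 0 ≤ Φ.pair s k) (h3 : Φ.pair s k ≤ Φ.pair s r) : S.Cm π r s := by
  obtain ⟨j, -, b⟩ := RS.exists_split h1
  have := RS.pair_add b s
  exact St.Cm.of_one hc hs (q.one hc' b (by simp [hl]) (by simp [hl])) Nat.cast_zero
    (q.cz_sl hc' hl (by rwa [RS.pair_comm (by simp [hl])]) 0) (q.cz_sl hc' hl (by rw [RS.pair_comm (by simp [hl])]; omega) 0)

theorem lifts_sl_two (hG : S.Gx = ⊤) (hΦ : Φ.Good) (hF : ∀ t : F, t = 0 ∨ t = 1) (hd : ∀ r, ∃ k, Φ.pair k r = 1)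
    (h : ∀ r s, 0 ≤ Φ.pair r s → S.Cm π r s) : S.Lifts π := by
  choose a ha using hd
  choose b _ hb using fun r => RS.exists_split (ha r)
  have h1 : ∀ {a b k}, Φ.rv k = Φ.rv a + Φ.rv b → (q.cd hc').One a b k := fun h => q.one hc' h (by simp [hl]) (by simp [hl])
  refine St.lifts_two_of hc hs hF hG (y := fun r => lc hs (S.x (a r) 1) (S.x (b r) 1)) (fun r => ⟨by rw [map_lc, St.comm_two hF (h1 (hb r))],
    lc_mem hs _ _, St.lc_sq hc hs hF (by rw [St.comm_two hF (h1 (hb r))]; exact h _ _ (by simp [ha]) 1 1)⟩) fun r s _ e => ?_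
  refine (le_or_gt 0 (Φ.pair r s)).imp (h r s) fun f => ?_
  obtain ⟨k, hk⟩ := hΦ.exists_sub (r := Φ.neg r) (s := s) (by rw [Φ.pair_neg_left]; omega) (Ne.symm e)
  replace hk : Φ.rv k = Φ.rv r + Φ.rv s := by rw [hk, Φ.rv_neg]; abel
  rw [← lc_eq hc hs, map_lc, map_lc, St.comm_two hF (h1 (hb r)), St.comm_two hF (h1 (hb s)), St.exists_two hc hs hF hΦ
    (fun r s _ _ a => ⟨h r s a, q.cz_sl hc' hl a 2⟩) (fun _ _ _ _ _ _ => h1) (hl k) (hl r) (hl s) (hl _) (hl _) hk (hb k)]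
  exact Subgroup.subset_closure ⟨k, ⟨1, 1, one_pos, one_pos, by simpa using hk⟩, rfl⟩

theorem lifts_sl_big (hG : S.Gx = ⊤) (hF : ∃ a : F, a ≠ 0 ∧ a ≠ 1) (hd : ∀ r, ∃ k, Φ.pair k r = 1)
    (h1 : ∀ r s, Φ.pair r s ≠ 0 → s ≠ r → s ≠ Φ.neg r → S.T1 r s) (h2 : ∀ r s, Φ.pair r s = 0 →
      ∃ k l, Φ.pair k r = 1 ∧ Φ.pair l r = 1 ∧ Φ.pair k l = 0 ∧ Φ.rv r = Φ.rv k + Φ.rv l + Φ.rv s) : S.Lifts π := by
  refine St.lifts_of hc hs hG (fun r => ?_) fun r s e1 e2 => ?_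
  · obtain ⟨k, h⟩ := hd r
    have := (RS.pair_comm ((hl r).trans (hl k).symm)).trans h
    exact ⟨q.cm_sl hc' hc hs hl h (by omega) (by rw [Φ.pair_same]; omega), k, h1 r k (by omega) (by rintro rfl; simp [Φ.pair_same] at h)
      (by rintro rfl; simp [Φ.pair_same, Φ.pair_neg_left] at h)⟩
  by_cases e : Φ.pair r s = 0
  swap
  · exact .inl (h1 r s e e1 e2)
  by_cases h : ∃ c : Fˣ, c ^ 2 ≠ 1
  · obtain ⟨c, h⟩ := h
    exact .inl (St.T1.of_h (k := r) (c := c) (by simp [e]) (by simpa [Φ.pair_same] using h))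
  obtain ⟨k, l, a, b, c, d⟩ := h2 r s e
  exact .inr (.inr (St.Cm.of_swap2 hc hs (three_of hF h).1 (three_of hF h).2.1 (q.cz_sl hc' hl e.ge 0) a b c d (by
    simp [q.cz_sl hc' hl, Φ.pair_neg_left, Φ.pair_neg_right, c])))

end RS.QZ

section TypeA
variable {n : ℕ}

theorem fresh (L : List (Fin (n + 1))) (h : L.length ≤ n) : ∃ z, z ∉ L := by_contra fun a => by
  simpa using (Finset.card_le_card (show (Finset.univ : Finset (Fin (n + 1))) ⊆ L.toFinset from fun z _ => by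
    simpa using not_exists.1 a z)).trans (L.toFinset_card_le.trans h)

theorem exA (hn : 2 ≤ n) (r : RA n) : ∃ k, (rsA n).pair k r = 1 := by
  obtain ⟨⟨a, b⟩, h⟩ := r
  obtain ⟨z, hz⟩ := fresh [a, b] hn
  exact ⟨⟨(a, z), by grind⟩, by rw [pairA]; grind⟩

theorem tdA (r s : RA n) (h : 4 ≤ n ∨ 3 ≤ n ∧ (rsA n).pair r s ≠ 0) (h1 : s ≠ r) (h2 : s ≠ (rsA n).neg r) :
    ∃ k, (rsA n).pair k s = 0 ∧ (rsA n).pair k r = 1 := by
  obtain ⟨⟨a, b⟩, hr⟩ := r
  obtain ⟨⟨c, d⟩, hs⟩ := s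
  simp only [negA, pairA, Prod.swap, ne_eq, Subtype.mk.injEq, Prod.mk.injEq] at *
  obtain ⟨z, hz⟩ : ∃ z, z ∉ [a, b, c, d] := by
    by_cases e : c = a ∨ c = b
    · exact (fresh [a, b, d] (by simp; omega)).imp (by grind)
    by_cases e' : d = a ∨ d = b
    · exact (fresh [a, b, c] (by simp; omega)).imp (by grind)
    exact fresh _ (by grind)
  by_cases e : a = c ∨ a = d
  · exact ⟨⟨(z, b), by grind⟩, by grind⟩
  · exact ⟨⟨(a, z), by grind⟩, by grind⟩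

variable (hn : 2 ≤ n) {F : Type*} [Field F] {G : Type*} [Group G] {S : St (cdA hn) F G} {E : Type*} [Group E] {π : E →* G}

theorem liftsA (hc : π.ker ≤ Subgroup.center E) (hs : Function.Surjective π) (hG : S.Gx = ⊤)
    (h : 4 ≤ n ∨ 3 ≤ n ∧ (∃ a : F, a ≠ 0 ∧ a ≠ 1) ∨ ∃ c : Fˣ, c ^ 3 ≠ 1) : S.Lifts π := by
  by_cases hF : ∃ a : F, a ≠ 0 ∧ a ≠ 1
  · refine (qzA n).lifts_sl_big _ hc hs lnA hG hF (exA hn) (fun r s e h1 h2 => ?_) fun ⟨(a, b), hr⟩ ⟨(c, d), hs⟩ e => ?_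
    · by_cases e' : 3 ≤ n
      · obtain ⟨k, a, b⟩ := tdA r s (.inr ⟨e', e⟩) h1 h2
        exact St.T1.of_td (one_pow_ne hF) ⟨k, a, by simp [b]⟩
      obtain ⟨c, h⟩ := (h.resolve_left (by omega)).resolve_left (by omega)
      obtain ⟨⟨a, b⟩, hr⟩ := r
      obtain ⟨⟨a', b'⟩, hs⟩ := s
      simp only [negA, Prod.swap, ne_eq, Subtype.mk.injEq, Prod.mk.injEq] at h1 h2
      obtain ⟨z, hz⟩ := fresh [a', b'] hn
      refine St.T1.of_two (k := ⟨(z, a'), by grind⟩) (k' := ⟨(z, b'), by grind⟩) (c := c) (by rw [pairA, pairA]; grind) fun f => h ?_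
      rw [pairA, pairA] at f
      obtain g | g : a = z ∨ b = z := by grind
      · rw [← f, ← zpow_natCast]; congr 1; grind
      · rw [← inv_eq_one, ← f, ← zpow_natCast, ← _root_.zpow_neg]; congr 1; grind
    · rw [pairA] at e
      exact ⟨⟨(a, c), by grind⟩, ⟨(d, b), by grind⟩, by rw [pairA]; grind, by rw [pairA]; grind, by rw [pairA]; grind,
        (eucA n).Λ_inj (by simp only [map_add, Euc.Λ_rv]; simp only [eucA]; abel)⟩
  have h4 : 4 ≤ n := by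
    rcases h with h | h | ⟨c, h⟩
    exacts [h, absurd h.2 hF, absurd ⟨c, c.ne_zero, fun e => h (by simp [Units.ext_iff, e])⟩ hF]
  refine (qzA n).lifts_sl_two _ hc hs lnA hG (goodA (by omega)) (by simpa [or_iff_not_imp_left] using hF) (exA hn) fun r s e => ?_
  have sy := fun r s : RA n => RS.pair_comm ((lnA r).trans (lnA s).symm)
  by_cases f : s = r
  · obtain ⟨k, h⟩ := exA hn r
    exact (qzA n).cm_sl _ hc hs lnA h (by rw [f, sy, h]; simp) (by rw [f, sy, h, RS.pair_same]; simp)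
  obtain ⟨k, a, b⟩ := tdA r s (.inl h4) f (by rintro rfl; simp [RS.pair_neg_right, RS.pair_same] at e)
  exact (qzA n).cm_sl _ hc hs lnA b (by rw [sy, a]) (by rwa [sy, a, sy])

theorem schur_sl {F : Type*} [Field F] [Finite F] (hn : 2 ≤ n) (h : 4 ≤ n ∨ 3 ≤ n ∧ (∃ a : F, a ≠ 0 ∧ a ≠ 1) ∨ ∃ c : Fˣ, c ^ 3 ≠ 1) :
    HasCyclicSchurMultiplier (SpecialLinearGroup (Fin (n + 1)) F) 1 := by
  obtain ⟨S, h1, -, h2⟩ := exists_stA hn F
  exact Suz.hasSchur_one fun E _ _ σ ⟨hs, hc, hd⟩ => St.split_of_lifts hc hs h1 (h2 _) hd (liftsA hn hc hs h1 h)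

end TypeA

theorem hasSchur_center {U : Type*} [Group U] [Finite U] (hp : commutator U = ⊤) (h : HasCyclicSchurMultiplier U 1) {A : Type*} [CommGroup A]
    (e : Nonempty (Subgroup.center U ≃* A)) : HasSchurMultiplier (U ⧸ Subgroup.center U) A :=
  hasSchur_quot (p := QuotientGroup.mk' _) ⟨QuotientGroup.mk'_surjective _, (QuotientGroup.ker_mk' _).le, hp ▸ le_top⟩ h (by rwa [QuotientGroup.ker_mk'])

end Cfsg.Agent.Chev
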