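import Cfsg.Agent.Lib.Classical.Orth2
import Cfsg.Prelude.Def_GeometricClasses

set_option autoImplicit false
set_option linter.unusedSectionVars false
set_option linter.style.haveILetI false

/-! Elements of the special linear group that are not symplectic similarities. -/

namespace Cfsg.Agent.Chev.SimD
open Cfsg.Agent.Classical Matrix Module

variable {F : Type*} [Field F] [Fintype F] {n : ℕ}

/-- `x` is not a similarity of any nondegenerate alternating form -/
def Bad (x : Matrix (Fin n) (Fin n) F) : Prop := ∀ B : LinearMap.BilinForm F (Fin n → F), B.IsAlt → (∀ v, (∀ u, B u v = 0) → v = 0) →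
  ∀ c : F, (∀ u v, B (x *ᵥ u) (x *ᵥ v) = c * B u v) → False

theorem mult {x : Matrix (Fin n) (Fin n) F} {r : ℕ} (hx : x ^ r = 1) (h : ∀ c : F, c ^ r = 1 → c = 1) {B : LinearMap.BilinForm F (Fin n → F)}
    (nd : ∀ v, (∀ u, B u v = 0) → v = 0) (i : Fin n) {c : F} (hc : ∀ u v, B (x *ᵥ u) (x *ᵥ v) = c * B u v) : c = 1 := by
  have a : ∀ k u v, B ((x ^ k) *ᵥ u) ((x ^ k) *ᵥ v) = c ^ k * B u v := fun k => by
    induction k with
    | zero => simp
    | succ k ih => exact fun u v => by rw [pow_succ', ← mulVec_mulVec, ← mulVec_mulVec, hc, ih, pow_succ', mul_assoc]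
  obtain ⟨u, hu⟩ := not_forall.1 fun f => one_ne_zero (congrFun (nd (fun _ => 1) f) i)
  have := a r u fun _ => 1
  rw [hx, one_mulVec, one_mulVec, eq_comm] at this
  exact h c ((mul_left_eq_self₀.1 this).resolve_right hu)

theorem row {B : LinearMap.BilinForm F (Fin n → F)} (nd : ∀ v, (∀ u, B u v = 0) → v = 0) (i : Fin n) : ∃ j, B (Pi.single j 1) (Pi.single i 1) ≠ 0 :=
  not_forall.1 fun f => by
    have : B.flip (Pi.single i 1) = 0 := (Pi.basisFun F _).ext fun j => by simpa using f j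
    simpa using congrFun (nd _ fun u => LinearMap.congr_fun this u) i

theorem unip (p : ℕ) [Fact p.Prime] [CharP F p] (h2 : p ≠ 2) : ∃ x : Matrix (Fin (n + 3)) (Fin (n + 3)) F, x ^ p = 1 ∧ x.det = 1 ∧ Bad x := by
  have h : ∀ c : F, c ^ p = 1 → c = 1 := fun c e => frobenius_inj F p (by simpa [frobenius_def] using e)
  let N : Matrix (Fin (n + 3)) (Fin (n + 3)) F := single 0 1 1 + single 1 2 1
  have d1 : (0 : Fin (n + 3)) ≠ 1 := by simp
  have d2 : (0 : Fin (n + 3)) ≠ 2 := Fin.ne_of_val_ne (by rw [Fin.val_two]; simp)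
  have d3 : (1 : Fin (n + 3)) ≠ 2 := Fin.ne_of_val_ne (by rw [Fin.val_two]; simp)
  have a : N ^ 3 = 0 := by simp [N, pow_succ, mul_add, add_mul, d1.symm, d2.symm, d3.symm]
  have b : (1 + N) ^ p = 1 := by
    rw [add_pow_char_of_commute p (Commute.one_left N), pow_eq_zero_of_le (by have := (Fact.out : p.Prime).two_le; omega) a]; simp
  refine ⟨1 + N, b, h _ (by rw [← det_pow, b, det_one]), fun B al nd c hc => ?_⟩
  obtain rfl := mult b h nd 0 hc
  have e : ∀ v, (1 + N) *ᵥ v = v + v 1 • Pi.single 0 1 + v 2 • Pi.single 1 1 := fun v => by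
    ext i; simp [N, add_mulVec, single_mulVec, Function.update_apply, Pi.single_apply, add_assoc]
  obtain ⟨j, hj⟩ := row nd 0
  have a1 := hc (Pi.single 2 1) (Pi.single 0 1)
  have a2 := hc (Pi.single 2 1) (Pi.single 1 1)
  have a3 := hc (Pi.single j 1) (Pi.single 1 1)
  by_cases j1 : j = 1
  · simp [e, d1.symm, d2.symm, d3] at a1
    exact hj (j1 ▸ a1)
  by_cases j2 : j = 2
  · simp [e, d1.symm, d2.symm, d3, d3.symm, al.self_eq_zero] at a1 a2
    exact hj (j2 ▸ by linear_combination a2 - a1)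
  simp [e, d3.symm, Ne.symm j1, Ne.symm j2] at a3
  exact hj a3

theorem iso_le {B : LinearMap.BilinForm F (Fin n → F)} (al : B.IsAlt) (nd : ∀ v, (∀ u, B u v = 0) → v = 0) {k : ℕ} {f : Fin k → Fin n}
    (hf : Function.Injective f) (h : ∀ i j, B (Pi.single (f i) 1) (Pi.single (f j) 1) = 0) : 2 * k ≤ n := by
  have a := finrank_span_eq_card ((Pi.basisFun F _).linearIndependent.comp f hf)
  have b := Form.Nondeg.finrank_perp (Φ := Form.ofAlt B al) nd (Submodule.span F (Set.range (Pi.basisFun F _ ∘ f)))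
  have c := Submodule.finrank_mono (Form.TS.le_perp (Φ := Form.ofAlt B al) (W := Submodule.span F (Set.range (Pi.basisFun F _ ∘ f))) ⟨fun _ _ => rfl, fun u hu v hv => by
    obtain ⟨c, rfl⟩ := (Submodule.mem_span_range_iff_exists_fun F).1 hu
    obtain ⟨d, rfl⟩ := (Submodule.mem_span_range_iff_exists_fun F).1 hv
    change B _ _ = 0
    simp [h]⟩)
  simp only [Fintype.card_fin, finrank_fin_fun] at a b
  omega

theorem diag {r : ℕ} [Fact r.Prime] (h2 : r ≠ 2) (hr : r ∣ Fintype.card F - 1) (h6 : ¬(n + 4 = 6 ∧ r = 3)) :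
    ∃ x : Matrix (Fin (n + 4)) (Fin (n + 4)) F, x ^ r = 1 ∧ x.det = 1 ∧ Bad x := by
  have hr' : r.Prime := Fact.out
  obtain ⟨z, hz⟩ := exists_prime_orderOf_dvd_card' (G := Fˣ) r (by rwa [Nat.card_units, Nat.card_eq_fintype_card])
  have h : ∀ k, z.1 ^ k = 1 → r ∣ k := fun k e => hz ▸ orderOf_dvd_of_pow_eq_one (Units.ext (by simpa using e))
  have z4 : z.1 ^ 4 ≠ 1 := fun e => h2 ((Nat.prime_dvd_prime_iff_eq hr' Nat.prime_two).1 (hr'.dvd_of_dvd_pow (n := 2) (h _ e)))
  have z2 : z.1 * z.1 ≠ 1 := fun e => z4 (by linear_combination (z.1 * z.1 + 1) * e)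
  have z1 : z.1 ≠ 1 := fun e => z2 (by simp [e])
  have zr : z.1 ^ r = 1 := by rw [← Units.val_pow_eq_pow_val, ← hz, pow_orderOf_eq_one]; rfl
  obtain ⟨w, hw, wr⟩ : ∃ w : F, z.1 * (z.1 * w) = 1 ∧ w ^ r = 1 := ⟨z.1⁻¹ * z.1⁻¹, by field_simp, by simp [mul_pow, zr]⟩
  let d : Fin (n + 4) → F := vecCons z (vecCons z (vecCons w 1))
  have d0 : ∀ j, d j = z ∨ (j = 2 ∧ d j = w) ∨ d j = 1 := by simp [Fin.forall_fin_succ, d]
  refine ⟨diagonal d, ?_, by simp [d, Fin.prod_univ_succ, hw], fun B al nd c hc => ?_⟩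
  · rw [diagonal_pow, ← diagonal_one]
    exact congrArg _ (funext fun j => by rcases d0 j with e | ⟨-, e⟩ | e <;> simp [e, zr, wr])
  have k : ∀ i j, d i * d j ≠ c → B (Pi.single i 1) (Pi.single j 1) = 0 := fun i j e => by
    have := hc (Pi.single i 1) (Pi.single j 1)
    rw [diagonal_mulVec_single, diagonal_mulVec_single, ← smul_eq_mul, ← smul_eq_mul (d j), Pi.single_smul', Pi.single_smul'] at this
    simp only [map_smul, LinearMap.smul_apply, smul_eq_mul] at this
    exact (mul_eq_zero.1 (show (d i * d j - c) * _ = 0 by linear_combination this)).resolve_left (sub_ne_zero.2 e)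
  have l : ∀ i, ∃ j ≠ i, d j * d i = c := fun i => (row nd i).imp fun j e => ⟨fun f => e (f ▸ al _), by_contra fun f => e (k _ _ f)⟩
  obtain ⟨i, -, a⟩ := l 0
  obtain ⟨j, j2, b⟩ := l 2
  obtain ⟨t, -, e⟩ := l (Fin.succ 2)
  change _ * z.1 = c at a
  change _ * w = c at b
  change _ * 1 = c at e
  have : w = z ∧ c = z := by
    rcases d0 t with f | ⟨-, f⟩ | f <;> rw [f, mul_one] at e <;> subst e
    · rcases d0 j with f | ⟨f, -⟩ | f
      · exact (z2 (by rw [f] at b; linear_combination hw - z.1 * b)).elim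
      · exact (j2 f).elim
      · exact ⟨by simpa [f] using b, rfl⟩
    · rcases d0 i with f | ⟨-, f⟩ | f <;> rw [f] at a
      · exact (z4 (by linear_combination hw + z.1 * z.1 * a)).elim
      · exact (z2 (by linear_combination (z.1 + 1) * (z.1 * z.1 * a - (z.1 - 1) * hw))).elim
      · exact ⟨by simpa using a.symm, by simpa using a.symm⟩
    rcases d0 i with f | ⟨-, f⟩ | f <;> rw [f] at a
    · exact (z2 a).elim
    · exact (z1 (by linear_combination hw - z.1 * a)).elim
    · exact (z1 (by simpa using a)).elim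
  obtain ⟨rfl, rfl⟩ := this
  have a1 := iso_le al nd (f := Fin.castLE (show 3 ≤ n + 4 by omega)) (Fin.castLE_injective _) fun i j => k _ _ (by
    have : ∀ i, d (Fin.castLE (show 3 ≤ n + 4 by omega) i) = z := fun i => by fin_cases i <;> rfl
    simpa [this] using z1)
  have a2 := iso_le al nd (f := fun i : Fin (n + 1) => i.succ.succ.succ) (fun i j e => by simpa using e) fun i j => k _ _ (by simpa [d] using z1.symm)
  exact h6 ⟨by omega, (Nat.prime_dvd_prime_iff_eq hr' Nat.prime_three).1 (h 3 (by linear_combination hw))⟩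

theorem field (p : ℕ) [Fact p.Prime] [CharP F p] {r i : ℕ} [Fact r.Prime] (hr : r ∣ Fintype.card F ^ (2 * i + 1) - 1) (h1 : ¬r ∣ Fintype.card F - 1)
    (hi : 2 * i + 1 ≤ n) : ∃ x : Matrix (Fin n) (Fin n) F, x ^ r = 1 ∧ x.det = 1 ∧ Bad x := by
  have hr' : r.Prime := Fact.out
  have h : ∀ c : F, c ^ r = 1 → c = 1 := fun c e => by
    have c0 : c ≠ 0 := fun f => by simp [f, hr'.ne_zero] at e
    exact orderOf_eq_one_iff.1 (Nat.eq_one_of_dvd_coprimes (hr'.coprime_iff_not_dvd.2 h1) (orderOf_dvd_of_pow_eq_one e)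
      (orderOf_dvd_of_pow_eq_one (FiniteField.pow_card_sub_one_eq_one c c0)))
  let K := FiniteField.Extension F p (2 * i + 1)
  have d : finrank F K = 2 * i + 1 := FiniteField.finrank_extension ..
  have c : Nat.card K = Nat.card F ^ (2 * i + 1) := FiniteField.natCard_extension ..
  obtain ⟨z, hz⟩ := exists_prime_orderOf_dvd_card' (G := Kˣ) r (by rwa [Nat.card_units, c, Nat.card_eq_fintype_card])
  obtain ⟨e⟩ : Nonempty ((K × (Fin (n - (2 * i + 1)) → F)) ≃ₗ[F] (Fin n → F)) := FiniteDimensional.nonempty_linearEquiv_of_finrank_eq (by simp [d]; omega)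
  let g := (LinearMap.mulLeft F z.1).prodMap (LinearMap.id (R := F) (M := Fin (n - (2 * i + 1)) → F))
  let x := LinearMap.toMatrix' (e.toLinearMap ∘ₗ g ∘ₗ e.symm.toLinearMap)
  have a : ∀ v, x *ᵥ e v = e (z.1 * v.1, v.2) := fun v => by rw [LinearMap.toMatrix'_mulVec]; simp [g, Prod.map]
  have b : ∀ k v, (x ^ k) *ᵥ e v = e ((z ^ k).1 * v.1, v.2) := fun k => by
    induction k with
    | zero => simp
    | succ k ih => exact fun v => by rw [pow_succ, ← mulVec_mulVec, a, ih, pow_succ, Units.val_mul, mul_assoc]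
  have x1 : x ^ r = 1 := toLin'.injective (LinearMap.ext fun v => by
    obtain ⟨v, rfl⟩ := e.surjective v
    rw [toLin'_apply, b, ← hz, pow_orderOf_eq_one]; simp)
  refine ⟨x, x1, h _ (by rw [← det_pow, x1, det_one]), fun B al nd c hc => ?_⟩
  obtain rfl := mult x1 h nd ⟨0, by omega⟩ hc
  let j : K →ₗ[F] Fin n → F := e.toLinearMap ∘ₗ LinearMap.inl F _ _
  have z1 : z.1 - 1 ≠ 0 := sub_ne_zero.2 fun f => hr'.ne_one (by rw [← hz, orderOf_eq_one_iff]; exact Units.ext f)
  obtain ⟨k, hk⟩ := symp_even _ (Form.ofAlt (B.compl₁₂ j j) fun v => al _) (fun v f => by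
    obtain ⟨v, rfl⟩ := mul_left_surjective₀ z1 v
    refine congrArg Prod.fst (e.map_eq_zero_iff.1 (nd (j _) fun u => ?_))
    obtain ⟨⟨u, w⟩, rfl⟩ := e.surjective u
    have a1 : B (e (u, 0)) (j _) = 0 := f u
    have a2 := hc (e (0, w)) (e (v, 0))
    rw [a, a, mul_zero, one_mul] at a2
    rw [show (u, w) = (u, 0) + (0, w) by simp, map_add, map_add, LinearMap.add_apply]
    refine (congrArg (· + _) a1).trans ((zero_add _).trans ?_)
    change B _ (e ((z.1 - 1) * v, 0)) = 0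
    rw [show ((z.1 - 1) * v, (0 : Fin (n - (2 * i + 1)) → F)) = (z.1 * v, 0) - (v, 0) by simp [sub_mul], map_sub, map_sub]
    exact sub_eq_zero.2 a2) d
  omega

theorem arith {N q m : ℕ} (hq : 1 < q) (h : N * (q ^ (m ^ 2) * ∏ i ∈ Finset.range m, (q ^ (2 * (i + 1)) - 1)) = ∏ i : Fin (2 * m), (q ^ (2 * m) - q ^ (i : ℕ))) :
    ∃ s, N ∣ q ^ s * ∏ i ∈ Finset.range m, (q ^ (2 * i + 1) - 1) := by
  have a : ∀ (f : ℕ → ℕ) m, ∏ i ∈ Finset.range (2 * m), f i = (∏ i ∈ Finset.range m, f (2 * i)) * ∏ i ∈ Finset.range m, f (2 * i + 1) := fun f m => by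
    induction m with
    | zero => simp
    | succ m ih => rw [mul_add_one, Finset.prod_range_succ, Finset.prod_range_succ, ih, Finset.prod_range_succ, Finset.prod_range_succ]; ring
  rw [Fin.prod_univ_eq_prod_range (fun i => q ^ (2 * m) - q ^ i), Finset.prod_congr rfl (f := fun i => q ^ (2 * m) - q ^ i)
      (g := fun i => q ^ i * (q ^ (2 * m - 1 - i + 1) - 1)) fun i hi => by
      rw [Nat.mul_sub_one, ← pow_add, show i + (2 * m - 1 - i + 1) = 2 * m by have := Finset.mem_range.1 hi; omega],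
    Finset.prod_mul_distrib, Finset.prod_pow_eq_pow_sum, Finset.prod_range_reflect (fun i => q ^ (i + 1) - 1), a, ← mul_assoc, ← mul_assoc] at h
  exact ⟨_, _, (Nat.eq_of_mul_eq_mul_right (Finset.prod_pos fun i _ => Nat.sub_pos_of_lt (Nat.one_lt_pow (by omega) hq)) h).symm⟩

end Cfsg.Agent.Chev.SimD
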