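import Cfsg.Agent.Lib.Chev.Borel

set_option autoImplicit false
set_option linter.unusedSectionVars false
set_option linter.style.haveILetI false

/-! Morphisms, the BN-pair, simplicity and the order formula. -/

namespace Cfsg.Agent.Chev

open scoped commutatorElement

variable {I R : Type} [Fintype I] [DecidableEq I] [Fintype R] [DecidableEq R]

/-- the Dynkin diagram is connected -/
def RS.Conn (Φ : RS I R) : Prop :=
  ∀ J : Set I, J.Nonempty → Jᶜ.Nonempty → ∃ i ∈ J, ∃ j ∉ J, Φ.A i (Φ.sim j) ≠ 0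

theorem RS.A_eq_zero_symm {Φ : RS I R} {i j : I} (h : Φ.A i (Φ.sim j) = 0) : Φ.A j (Φ.sim i) = 0 := by
  have := Φ.symm i j
  rw [h, mul_zero] at this
  exact (mul_eq_zero.1 this.symm).resolve_left (Φ.ln_pos _).ne'

theorem RS.conn_of_full {Φ : RS I R} {θ : R} (h : ∀ i, Φ.rv θ i ≠ 0) : Φ.Conn := by
  intro J ⟨a, ha⟩ ⟨b, hb⟩
  by_contra hn
  push Not at hn
  have key : ∀ (K : Set I), (∀ i ∈ K, ∀ j ∉ K, Φ.A j (Φ.sim i) = 0) → ∀ i r, Φ.InJ K r →
      Φ.InJ K (Φ.rf i r) := by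
    intro K hK i r hr
    by_cases hi : i ∈ K
    · exact hr.smul (RS.s_mem_WJ hi)
    · rw [Φ.rf_of_A_eq_zero]
      · exact hr
      · rw [Φ.A_eq]
        refine Finset.sum_eq_zero fun j _ => ?_
        by_cases hj : j ∈ K
        · rw [hK j hj i hi, mul_zero]
        · rw [hr j hj, zero_mul]
  have : ∀ r, Φ.InJ J r ∨ Φ.InJ Jᶜ r := by
    intro r
    induction r using RS.root_induction (Φ := Φ) with
    | h1 i => simp [RS.inJ_sim, em]
    | h2 i r ih =>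
      exact ih.imp (key J (fun i hi j hj => RS.A_eq_zero_symm (hn i hi j hj)) i r)
        (key Jᶜ (fun i hi j hj => hn j (by simpa using hj) i hi) i r)
  rcases this θ with h1 | h1
  · exact h b (h1 b hb)
  · exact h a (h1 a (by simpa using ha))

theorem RS.A_eq_zero_of_commute {Φ : RS I R} {i j : I} (hij : i ≠ j)
    (h : Φ.s i * Φ.s j = Φ.s j * Φ.s i) : Φ.A i (Φ.sim j) = 0 := by
  have := congrFun (congrArg (fun w : Φ.W => Φ.rv (w • Φ.sim j)) h) i
  simp only [mul_smul, RS.s_smul, Φ.rf_sim, Φ.rv_rf, Φ.rv_neg, Φ.A_neg, Φ.rv_sim, Pi.sub_apply,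
    Pi.neg_apply, Pi.single_eq_same, Pi.single_eq_of_ne hij] at this
  omega

namespace St
variable {Φ : CD I R} {F : Type*} [Field F] {G : Type*} [Group G] {S : St Φ F G}

section Map
variable {G' : Type*} [Group G'] {S' : St Φ F G'} {φ : G →* G'} (hφ : ∀ r t, φ (S.x r t) = S'.x r t)
include hφ

theorem map_n (r : R) (c : Fˣ) : φ (S.n r c) = S'.n r c := by simp [n, hφ]
theorem map_h (r : R) (c : Fˣ) : φ (S.h r c) = S'.h r c := by simp [h, map_n hφ]
theorem map_P (L : List R) (t : R → F) : φ (S.P L t) = S'.P L t := by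
  induction L with
  | nil => simp
  | cons r L ih => simp [hφ, ih]

theorem map_Ux (A : Set R) : (S.Ux A).map φ = S'.Ux A := by
  rw [Ux, MonoidHom.map_closure, Ux]
  congr 1
  ext g
  constructor
  · rintro ⟨_, ⟨r, hr, t, rfl⟩, rfl⟩; exact ⟨r, hr, t, hφ r t⟩
  · rintro ⟨r, hr, t, rfl⟩; exact ⟨_, ⟨r, hr, t, rfl⟩, hφ r t⟩

theorem map_H : S.H.map φ = S'.H := by
  rw [H, MonoidHom.map_closure, H]
  congr 1
  ext g
  constructor
  · rintro ⟨_, ⟨r, t, rfl⟩, rfl⟩; exact ⟨r, t, map_h hφ _ _⟩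
  · rintro ⟨r, t, rfl⟩; exact ⟨_, ⟨r, t, rfl⟩, map_h hφ _ _⟩

theorem map_N : S.N.map φ = S'.N := by
  rw [N, MonoidHom.map_closure, N]
  congr 1
  ext g
  constructor
  · rintro ⟨_, ⟨r, t, rfl⟩, rfl⟩; exact ⟨r, t, map_n hφ _ _⟩
  · rintro ⟨r, t, rfl⟩; exact ⟨_, ⟨r, t, rfl⟩, map_n hφ _ _⟩

theorem map_B : S.B.map φ = S'.B := by rw [B, Subgroup.map_sup, map_H hφ, U, map_Ux hφ]; rfl

theorem map_PJ (J : Set I) : (S.PJ J).map φ = S'.PJ J := by
  rw [PJ_eq, PJ_eq, Subgroup.map_sup, map_H hφ, map_Ux hφ]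

theorem Acts.map {g : G} {w : Φ.W} (h : S.Acts g w) : S'.Acts (φ g) w := by
  obtain ⟨χ, h1, h2⟩ := h
  exact ⟨χ, h1, fun r t => by rw [← hφ, ← hφ, ← h2]; simp⟩

end Map

variable (S) in
/-- restriction to the subgroup generated by the root elements -/
def res : St Φ F S.Gx where
  ad := S.ad
  x r t := ⟨S.x r t, x_mem_Gx r t⟩
  add r t u := Subtype.ext (S.add r t u)
  comm r s t u h1 h2 := by
    apply Subtype.ext
    simp only [Subgroup.coe_mul, S.comm r s t u h1 h2, SubmonoidClass.coe_list_prod, List.map_map]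
    rfl
  θ := S.θ.comp S.Gx.subtype
  θ_x := S.θ_x

theorem res_x (r : R) (t : F) : S.Gx.subtype (S.res.x r t) = S.x r t := rfl

theorem eq_subgroupOf {K : Subgroup S.Gx} {K' : Subgroup G} (h : K.map S.Gx.subtype = K') :
    K = K'.subgroupOf S.Gx := by
  rw [← h, Subgroup.subgroupOf, Subgroup.comap_map_eq_self_of_injective S.Gx.subtype_injective]

theorem res_Ux (A : Set R) : S.res.Ux A = (S.Ux A).subgroupOf S.Gx := eq_subgroupOf (map_Ux res_x A)
theorem res_H : S.res.H = S.H.subgroupOf S.Gx := eq_subgroupOf (map_H res_x)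
theorem res_N : S.res.N = S.N.subgroupOf S.Gx := eq_subgroupOf (map_N res_x)
theorem res_B : S.res.B = S.B.subgroupOf S.Gx := eq_subgroupOf (map_B res_x)
theorem res_PJ (J : Set I) : S.res.PJ J = (S.PJ J).subgroupOf S.Gx := eq_subgroupOf (map_PJ res_x J)
theorem res_Gx : S.res.Gx = ⊤ := (res_Ux _).trans (Subgroup.subgroupOf_self _)

theorem N_eq_sup : Subgroup.closure {g | ∃ i, g = S.n (Φ.sim i) 1} ⊔ S.H = S.N := by
  refine le_antisymm (sup_le ?_ H_le_N) ?_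
  · rw [Subgroup.closure_le]; rintro _ ⟨i, rfl⟩; exact n_sim_mem i 1
  · rw [N, Subgroup.closure_le]
    rintro _ ⟨i, c, rfl⟩
    rw [n_eq_h_mul]
    exact mul_mem (Subgroup.mem_sup_right (h_sim_mem i c))
      (Subgroup.mem_sup_left (Subgroup.subset_closure ⟨i, rfl⟩))

theorem n_not_mem_B (i : I) (c : Fˣ) : S.n (Φ.sim i) c ∉ S.B := by
  intro h
  have h1 : S.n (Φ.sim i) c ∈ S.H := by rw [← B_inf_N]; exact ⟨h, n_sim_mem i c⟩
  exact Φ.invGen.simple_ne_one Φ.exchange i ((acts_n i c).unique (acts_of_mem_H h1))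

theorem acts_one_of_mem_B {m : G} (hm : m ∈ S.N) (hB : m ∈ S.B) : S.Acts m 1 :=
  acts_of_mem_H (by rw [← B_inf_N]; exact ⟨hB, hm⟩)

theorem _root_.Cfsg.Agent.Chev.RS.s_inj (Φ : RS I R) : Function.Injective Φ.s := by
  intro i j h
  by_contra hne
  have h1 : Φ.Pos (Φ.s j • Φ.sim i) := (Φ.pos_sim i).rf fun e => hne (Φ.sim_inj e)
  rw [← h, RS.s_smul, Φ.rf_sim] at h1
  exact Φ.not_pos_neg_sim i h1

variable (S) in
/-- the BN-pair -/
def bn (hG : S.Gx = ⊤) : BNPair G where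
  B := S.B
  N := S.N
  S := {g | ∃ i, g = S.n (Φ.sim i) 1}
  sup_eq_top := B_sup_N.trans hG
  conj_mem m hm t ht := H_le_B (conj_mem_H hm (by rwa [B_inf_N] at ht))
  subset := by rintro _ ⟨i, rfl⟩; exact n_sim_mem i 1
  sq_mem := by rintro _ ⟨i, rfl⟩; exact H_le_B (n_mul_n_mem i 1 1)
  inj := by
    rintro _ ⟨i, rfl⟩ _ ⟨j, rfl⟩ h
    have := ((acts_n i 1).inv.mul (acts_n j 1)).unique
      (acts_one_of_mem_B (mul_mem (inv_mem (n_sim_mem i 1)) (n_sim_mem j 1)) h)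
    rw [Φ.s_inj (inv_mul_eq_one.1 this)]
  closure_sup := by rw [B_inf_N, N_eq_sup]
  mul_mem_union := by
    rintro _ ⟨i, rfl⟩ m hm b hb
    obtain ⟨w, hw⟩ := exists_acts hm
    rcases n_mul_B_mul i 1 hw hb with ⟨b₁, h1, b₂, h2, e⟩ | ⟨-, b₁, h1, b₂, h2, e⟩
    · exact Or.inl (DoubleCoset.mem_doubleCoset.2 ⟨b₁, h1, b₂, h2, e⟩)
    · exact Or.inr (DoubleCoset.mem_doubleCoset.2 ⟨b₁, h1, b₂, h2, e⟩)
  conj_ne := by
    rintro _ ⟨i, rfl⟩ h
    have h1 : S.n (Φ.sim i) 1 * S.x (Φ.sim i) 1 * S.n (Φ.sim i) 1 ∈ (S.B : Set G) := by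
      rw [← h]; exact ⟨_, U_le_B (x_mem_U (Φ.pos_sim i) 1), rfl⟩
    have h2 : S.n (Φ.sim i) 1 * S.x (Φ.sim i) 1 * (S.n (Φ.sim i) 1)⁻¹ ∈ S.B := by
      have := S.B.mul_mem h1 (inv_mem (H_le_B (n_mul_n_mem i 1 1)))
      simpa [mul_assoc] using this
    obtain ⟨χ, -, e⟩ := acts_n (S := S) i 1
    rw [e, RS.s_smul, Φ.rf_sim] at h2
    simpa [x_eq_one_iff] using eq_one_of_mem_B_V h2 (x_mem_V (Φ.not_pos_neg_sim i) _)

theorem bn_irreducible (hG : S.Gx = ⊤) (hc : Φ.Conn) : (S.bn hG).Irreducible := by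
  rintro J hJ ⟨a, ha⟩ ⟨b, ⟨j, rfl⟩, hb⟩
  obtain ⟨i, rfl⟩ := hJ ha
  obtain ⟨i, hi, j, hj, h⟩ := hc {i | S.n (Φ.sim i) 1 ∈ J} ⟨i, ha⟩ ⟨j, hb⟩
  refine ⟨_, hi, _, ⟨⟨j, rfl⟩, hj⟩, fun hB => h (RS.A_eq_zero_of_commute (by rintro rfl; exact hj hi) ?_)⟩
  have := ((((acts_n i 1).mul (acts_n j 1)).mul (acts_n i 1).inv).mul (acts_n j 1).inv).unique
    (acts_one_of_mem_B (mul_mem (mul_mem (mul_mem (n_sim_mem i 1) (n_sim_mem j 1))
      (inv_mem (n_sim_mem i 1))) (inv_mem (n_sim_mem j 1))) hB)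
  rw [← commutatorElement_def, commutatorElement_eq_one_iff_mul_comm] at this
  exact this

theorem isNilpotent_Ux {f : I → ℤ} {A : Set R} (hA : Φ.Unip f A) : Group.IsNilpotent (S.Ux A) := by
  obtain ⟨M, hM⟩ := exists_fn_bound (Φ := Φ) f
  have key : ∀ m : ℕ, (S.Ux A).lowerCentralSeries m ≤ S.Ux (Φ.Lev f A m) := by
    intro m
    induction m with
    | zero => exact Ux_mono fun r hr => RS.mem_lev hr (hA.pos r hr).le
    | succ m ih =>
      rw [Subgroup.lowerCentralSeries_succ, Subgroup.commutator_le]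
      intro g hg a ha
      exact_mod_cast comm_filt hA m ha (ih hg)
  refine Subgroup.isNilpotent_of_lowerCentralSeries_eq_bot (n := M) (le_bot_iff.1 ((key M).trans ?_))
  exact Ux_le.2 fun r hr => absurd hr.2 (not_le.2 (hM r))

variable (S) in
/-- the torus coordinates of an element of `H` -/
noncomputable def tor : S.H →* (I → Fˣ) where
  toFun g := (exists_isTor g.2).choose
  map_one' := (exists_isTor (one_mem _)).choose_spec.unique isTor_one
  map_mul' g g' := (exists_isTor (g * g').2).choose_spec.unique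
    ((exists_isTor g.2).choose_spec.mul (exists_isTor g'.2).choose_spec)

theorem isTor_tor (g : S.H) : S.IsTor g (S.tor g) := (exists_isTor g.2).choose_spec

theorem isNilpotent_H : Group.IsNilpotent S.H := by
  refine Subgroup.isNilpotent_of_ker_le_center S.tor fun g hg => ?_
  have h1 := isTor_tor g
  rw [MonoidHom.mem_ker.1 hg] at h1
  rw [Subgroup.mem_center_iff]
  intro g'
  exact Subtype.ext (h1.commute (H_le_Gx g'.2)).eq.symm

theorem isSolvable_B : Group.IsSolvable S.B := by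
  haveI : Group.IsNilpotent S.U := isNilpotent_Ux (S := S) RS.unip_pos
  haveI := isNilpotent_H (S := S)
  haveI : (S.U.subgroupOf S.B).Normal := ⟨fun _ hu b => conj_U b.2 hu⟩
  haveI : Group.IsSolvable (S.B ⧸ S.U.subgroupOf S.B) := by
    refine Group.isSolvable_of_surjective
      (f := (QuotientGroup.mk' _).comp (Subgroup.inclusion (H_le_B (S := S)))) ?_
    intro q
    obtain ⟨⟨b, hb⟩, rfl⟩ := QuotientGroup.mk_surjective q
    obtain ⟨h, hh, u, hu, rfl⟩ := mem_B_iff'.1 hb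
    exact ⟨⟨h, hh⟩, QuotientGroup.eq.2 (by simpa [Subgroup.mem_subgroupOf] using hu)⟩
  refine Group.isSolvable_of_ker_le_range (Subgroup.inclusion (U_le_B (S := S)))
    (QuotientGroup.mk' (S.U.subgroupOf S.B)) ?_
  intro b hb
  rw [QuotientGroup.ker_mk'] at hb
  exact ⟨⟨b, hb⟩, rfl⟩

theorem normalCore_B (hθ : Function.Injective S.θ) : S.B.normalCore = ⊥ := by
  rw [eq_bot_iff]
  intro k hk
  have := core_le S.B.normalCore_le (fun g _ k hk => (Subgroup.normalCore_normal _).conj_mem k hk g) hk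
  exact hθ (by simpa using this.2.1)

/-! ### perfectness -/

theorem x_mem_of_smul {K : Subgroup G} [hK : K.Normal] {r : R} (h : ∀ t, S.x r t ∈ K) (w : Φ.W) (t : F) :
    S.x (w • r) t ∈ K := by
  obtain ⟨m, -, χ, -, e⟩ := exists_of_W (S := S) w
  have := e r ((χ r)⁻¹ * t)
  rw [← mul_assoc (χ _ : F), Units.mul_inv, one_mul] at this
  rw [← this]
  exact hK.conj_mem _ (h _) _

theorem eq_top_of_sim (hG : S.Gx = ⊤) {K : Subgroup G} [K.Normal] (h : ∀ i t, S.x (Φ.sim i) t ∈ K) :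
    K = ⊤ := by
  rw [eq_top_iff, ← hG]
  refine Ux_le.2 fun r _ t => ?_
  obtain ⟨w, i, rfl⟩ := RS.exists_smul_sim (Φ := Φ.toRS) r
  exact x_mem_of_smul (h i) w t

theorem x_mem_commutator_of_sq {c : Fˣ} (hc : c ^ 2 ≠ 1) (r : R) (t : F) : S.x r t ∈ commutator G := by
  have h1 : (c : F) ^ 2 - 1 ≠ 0 := fun e => hc (Units.ext (by simpa [sub_eq_zero] using e))
  have := h_conj_x (S := S) r c r (t / ((c : F) ^ 2 - 1))
  have h2 : S.x r t = ⁅S.h r c, S.x r (t / ((c : F) ^ 2 - 1))⁆ := by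
    rw [commutatorElement_def, this, x_inv, S.add, Φ.pair_same]
    congr 1
    simp [zpow_ofNat]; field_simp; ring
  rw [h2]
  exact Subgroup.commutator_mem_commutator trivial trivial

theorem x_mem_commutator_of_ct {a b p : R} {e : ℤ} {L : List (R × ℤ × ℕ × ℕ)} (h1 : b ≠ a)
    (h2 : b ≠ Φ.neg a) (hct : Φ.ct a b = (p, e, 1, 1) :: L) (he : (e : F) ≠ 0)
    (hL : ∀ c ∈ L, (c.2.1 : F) = 0 ∨ ∀ t, S.x c.1 t ∈ commutator G) (t : F) :
    S.x p t ∈ commutator G := by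
  have := S.comm a b (-1) (t / e) h1 h2
  rw [hct, List.map_cons, List.prod_cons] at this
  have e1 : (e : F) * (- -1) ^ 1 * (t / e) ^ 1 = t := by field_simp
  simp only [e1] at this
  set P := (L.map fun c => S.x c.1 ((c.2.1 : F) * (- -1) ^ c.2.2.1 * (t / e) ^ c.2.2.2)).prod
  have hP : P ∈ commutator G := by
    refine Subgroup.list_prod_mem _ fun g hg => ?_
    obtain ⟨c, hc, rfl⟩ := List.mem_map.1 hg
    rcases hL c hc with h | h
    · simp [h]
    · exact h _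
  have e2 : S.x p t = ⁅(S.x b (t / e))⁻¹, (S.x a (-1))⁻¹⁆ * P⁻¹ := by
    rw [commutatorElement_def, inv_inv, inv_inv, mul_assoc _ (S.x b _), this]; group
  rw [e2]
  exact mul_mem (Subgroup.commutator_mem_commutator trivial trivial) (inv_mem hP)

theorem isSimpleGroup [Nonempty I] (hG : S.Gx = ⊤) (hθ : Function.Injective S.θ) (hc : Φ.Conn)
    (hp : commutator G = ⊤) : IsSimpleGroup G ∧ ¬ IsMulCommutative G := by
  obtain ⟨i⟩ := ‹Nonempty I›
  haveI : Nontrivial G := ⟨⟨S.x (Φ.sim i) 1, 1, by simp [x_eq_one_iff]⟩⟩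
  refine ⟨BN.simple_of_solvable (P := S.bn hG) (bn_irreducible hG hc) isSolvable_B hp
    (normalCore_B hθ), fun h => ?_⟩
  have : commutator G = ⊥ := by
    rw [commutator_def, Subgroup.commutator_eq_bot_iff_le_centralizer]
    intro g _ g' _
    exact h.is_comm.comm _ _
  rw [this] at hp
  exact bot_ne_top hp

/-! ### counting -/

theorem card_B : Nat.card S.B = Nat.card S.U * Nat.card S.H := by
  rw [← Nat.card_prod]
  symm
  refine Nat.card_eq_of_bijective (fun p : S.U × S.H => ⟨p.1 * p.2, Subgroup.mul_mem_sup p.1.2 p.2.2⟩)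
    ⟨?_, ?_⟩
  · rintro ⟨⟨u, hu⟩, ⟨h, hh⟩⟩ ⟨⟨u', hu'⟩, ⟨h', hh'⟩⟩ e
    replace e : u * h = u' * h' := congrArg Subtype.val e
    have h1 : u'⁻¹ * u = h' * h⁻¹ := by
      calc _ = u'⁻¹ * (u * h) * h⁻¹ := by group
        _ = _ := by rw [e]; group
    have h2 := eq_one_of_mem_H RS.unip_pos (mul_mem (inv_mem hu') hu) (h1 ▸ mul_mem hh' (inv_mem hh))
    rw [h2] at h1
    simp [(inv_mul_eq_one.1 h2), (mul_inv_eq_one.1 h1.symm)]
  · rintro ⟨b, hb⟩
    obtain ⟨u, hu, h, hh, rfl⟩ := mem_B_iff.1 hb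
    exact ⟨(⟨u, hu⟩, ⟨h, hh⟩), rfl⟩

theorem unip_invSet (w : Φ.W) : Φ.Unip 1 {r | Φ.Pos r ∧ ¬ Φ.Pos (w • r)} :=
  RS.unip_pos.subset (RS.unip_pos.closed.inter (RS.closed_smul_neg w)) fun _ h => h.1

theorem card_Uw (w : Φ.W) : Nat.card (S.Uw w) = Nat.card F ^ len Φ.s w := by
  rw [Uw, card_Ux (unip_invSet w), ← RS.card_invSet, ← Nat.card_eq_finsetCard]
  congr 1
  exact Nat.card_congr (Equiv.subtypeEquivRight fun r => RS.mem_invSet.symm)

theorem card_PJ [Finite F] (J : Set I) [Fintype (Φ.WJ J)] :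
    Nat.card (S.PJ J) = Nat.card S.B * ∑ w : Φ.WJ J, Nat.card F ^ len Φ.s (w : Φ.W) := by
  choose m hm ha using exists_of_W (S := S)
  have e : Nat.card (Σ w : Φ.WJ J, S.B × S.Uw w) = Nat.card (S.PJ J) := by
    refine Nat.card_eq_of_bijective (fun p => ⟨p.2.1 * m p.1 * p.2.2, mem_PJ_iff.2
      ⟨_, p.2.1.2, _, ⟨hm _, _, p.1.2, ha _⟩, _, U_le_B (Uw_le_U _ p.2.2.2), rfl⟩⟩) ⟨?_, ?_⟩
    · rintro ⟨w, b, u⟩ ⟨w', b', u'⟩ e
      simp only [Subtype.mk.injEq] at e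
      obtain rfl : w = w' := Subtype.ext (bruhat_unique' (hm _) (hm _) (ha _) (ha _) b.2
        (U_le_B (Uw_le_U _ u.2)) b'.2 (U_le_B (Uw_le_U _ u'.2)) e)
      obtain ⟨h1, h2⟩ := normal_form_unique (ha _) b.2 b'.2 u.2 u'.2 e
      rw [Subtype.ext h1, Subtype.ext h2]
    · rintro ⟨g, hg⟩
      obtain ⟨b, hb, m', ⟨hm', w, hw, ha'⟩, b', hb', rfl⟩ := mem_PJ_iff.1 hg
      obtain ⟨b'', h1, u, h2, e⟩ := exists_normal_form (hm w) (ha w)
        (mul_mem hb (H_le_B (mul_inv_mem_H hm' (hm w) ha' (ha w)))) hb'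
      exact ⟨⟨⟨w, hw⟩, ⟨b'', h1⟩, ⟨u, h2⟩⟩, Subtype.ext (by simp only [← e]; group)⟩
  by_cases hB : Finite S.B
  · haveI : ∀ w : Φ.W, Finite (S.Uw w) := fun w =>
      Nat.finite_of_card_ne_zero (by rw [card_Uw]; exact pow_ne_zero _ Nat.card_pos.ne')
    rw [← e, Nat.card_sigma, Finset.mul_sum]
    exact Finset.sum_congr rfl fun w _ => by rw [Nat.card_prod, card_Uw]
  · rw [not_finite_iff_infinite] at hB
    haveI : Infinite (S.PJ J) := Infinite.of_injective _ (Subgroup.inclusion_injective le_sup_left)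
    simp

end St

/-- the adjoint group inside the general linear group -/
def Adj.st {Φ : CD I R} {F : Type*} [Field F] (ad : Adj Φ F) : St Φ F (GL (I ⊕ R) F) where
  ad := ad
  x r t := ⟨ad.X r t, ad.X r (-t), by rw [ad.add]; simp [ad.zero], by rw [ad.add]; simp [ad.zero]⟩
  add r t u := Units.ext (ad.add r t u)
  comm r s t u h1 h2 := by
    apply Units.ext
    simp only [Units.val_mul, ad.comm r s t u h1 h2]
    congr 1
    rw [← Units.coeHom_apply, map_list_prod, List.map_map]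
    rfl
  θ := MonoidHom.id _
  θ_x _ _ := rfl

end Cfsg.Agent.Chev
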