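import Mathlib
import Cfsg.Prelude.Def_GeometricClasses

set_option autoImplicit false
set_option linter.unusedSectionVars false
set_option linter.style.haveILetI false

/-! Elements of prime order `n` and the normaliser of a Singer cycle in `SL_n(q)`. -/

namespace Cfsg.Agent.Chev.Singer
open Matrix Module Cfsg.Geo

variable {F : Type*} [Field F] [Fintype F] {n : ℕ} {K : Subalgebra F (Matrix (Fin n) (Fin n) F)}

theorem ev (hK : IsFieldSubalgebra n K) {v : Fin n → F} (hv : v ≠ 0) : ∃ e : K ≃ₗ[F] (Fin n → F), ∀ k, e k = k.1 *ᵥ v := by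
  let L : K →ₗ[F] (Fin n → F) := ⟨⟨fun k => k.1 *ᵥ v, fun a b => add_mulVec _ _ _⟩, fun c a => smul_mulVec c a.1 v⟩
  have a : Function.Injective L := (injective_iff_map_eq_zero _).2 fun k e => by_contra fun f => by
    obtain ⟨y, hy, h⟩ := hK.inv k.1 k.2 fun g => f (Subtype.ext g)
    exact hv (by rw [← one_mulVec v, ← h, hK.comm _ k.2 _ hy, ← mulVec_mulVec, show k.1 *ᵥ v = 0 from e, mulVec_zero])
  exact ⟨L.linearEquivOfInjective a (by simp [hK.finrank_eq]), fun _ => rfl⟩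

theorem isField (hK : IsFieldSubalgebra n K) [Nonempty (Fin n)] : IsField K :=
  ⟨exists_pair_ne _, fun a b => Subtype.ext (hK.comm _ a.2 _ b.2), fun {a} h =>
    (hK.inv _ a.2 fun e => h (Subtype.ext e)).elim fun y hy => ⟨⟨y, hy.1⟩, Subtype.ext hy.2⟩⟩

theorem not_norm (hn : n.Prime) (hK : IsFieldSubalgebra n K) {x : GL (Fin n) F} (hx : x ∈ subalgebraNormalizer K) {v w : Fin n → F} (hv : x.1 *ᵥ v = v)
    (hw : x.1 *ᵥ w = w) (v0 : v ≠ 0) (h : ∀ c : F, c • v ≠ w) : x = 1 := by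
  haveI : Nonempty (Fin n) := ⟨⟨0, hn.pos⟩⟩
  haveI := (isField hK).isDomain
  obtain ⟨e, he⟩ := ev hK v0
  obtain ⟨k, rfl⟩ := e.surjective w
  have a : (x⁻¹).1 *ᵥ v = v := by conv_lhs => rw [← hv, mulVec_mulVec, Units.inv_mul, one_mulVec]
  have b : x.1 * k.1 * (x⁻¹).1 = k.1 := congrArg Subtype.val (e.injective (a₁ := ⟨_, (hx _).1 k.2⟩) (by
    rw [he, ← mulVec_mulVec, ← mulVec_mulVec, a, ← he, hw]))
  rcases (Subalgebra.isSimpleOrder_of_finrank_prime F K (hK.finrank_eq.symm ▸ hn)).eq_bot_or_eq_top ((Subalgebra.centralizer F {x.1}).comap K.val) with c | c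
  · obtain ⟨c, rfl⟩ := Algebra.mem_bot.1 (c.le (show k ∈ _ from by
      rintro _ rfl
      exact (Units.mul_inv_eq_iff_eq_mul _).1 b))
    exact (h c (by rw [he, Subalgebra.coe_algebraMap, Algebra.algebraMap_eq_smul_one, smul_mulVec, one_mulVec])).elim
  refine Units.ext (toLin'.injective (LinearMap.ext fun u => ?_))
  obtain ⟨k, rfl⟩ := e.surjective u
  have : x.1 * k.1 = k.1 * x.1 := (c.ge (Algebra.mem_top (x := k))) _ rfl
  rw [toLin'_apply, he, mulVec_mulVec, this, ← mulVec_mulVec, hv]; simp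

theorem frob (hn : n.Prime) (hK : IsFieldSubalgebra n K) : ∃ y : GL (Fin n) F, y ∈ subalgebraNormalizer K ∧ y.1 ^ n = 1 ∧ y.1 ≠ 1 := by
  haveI : Nonempty (Fin n) := ⟨⟨0, hn.pos⟩⟩
  letI := (isField hK).toField
  haveI : Finite K := Module.finite_of_finite F
  obtain ⟨e, he⟩ := ev hK (v := fun _ => 1) fun f => one_ne_zero (congrFun f ⟨0, hn.pos⟩)
  let σ : K ≃ₐ[F] K := FiniteField.frobeniusAlgEquivOfAlgebraic F K
  have o : orderOf σ = n := (FiniteField.orderOf_frobeniusAlgEquivOfAlgebraic F K).trans hK.finrank_eq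
  let y := LinearMap.toMatrix' (e.toLinearMap ∘ₗ σ.toLinearMap ∘ₗ e.symm.toLinearMap)
  have a : ∀ k, y *ᵥ e k = e (σ k) := fun k => by rw [LinearMap.toMatrix'_mulVec]; simp
  have b : ∀ j k, (y ^ j) *ᵥ e k = e ((σ ^ j) k) := fun j => by
    induction j with
    | zero => simp
    | succ j ih => exact fun k => by rw [pow_succ, ← mulVec_mulVec, a, ih, pow_succ]; rfl
  have ext : ∀ {A B : Matrix (Fin n) (Fin n) F}, (∀ k, A *ᵥ e k = B *ᵥ e k) → A = B := fun h => toLin'.injective (LinearMap.ext fun v => by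
    obtain ⟨k, rfl⟩ := e.surjective v
    exact h k)
  have c : y ^ n = 1 := ext fun k => by rw [b, orderOf_dvd_iff_pow_eq_one.1 o.dvd]; simp
  have m : ∀ k l : K, k.1 *ᵥ e l = e (k * l) := fun k l => by rw [he, he, mulVec_mulVec]; rfl
  let Y := Units.ofPowEqOne y n c hn.ne_zero
  have d : ∀ k : K, Y.1 * k.1 * (Y⁻¹).1 = (σ k).1 := fun k => (Units.mul_inv_eq_iff_eq_mul _).2 (ext fun l => by
    change (y * _) *ᵥ _ = (_ * y) *ᵥ _
    rw [← mulVec_mulVec, ← mulVec_mulVec, m, a, a, m, map_mul])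
  refine ⟨Y, fun k => ⟨fun h => d ⟨k, h⟩ ▸ (σ _).2, fun h => ?_⟩, c, fun f => hn.ne_one (o.symm.trans (orderOf_eq_one_iff.2 (AlgEquiv.ext fun k => e.injective ?_)))⟩
  · obtain ⟨l, hl⟩ := σ.surjective ⟨_, h⟩
    have := (d l).trans (congrArg Subtype.val hl)
    rw [Units.mul_left_inj, Units.mul_right_inj] at this
    exact this ▸ l.2
  rw [← a, show y = 1 from f, one_mulVec]; rfl

theorem fix_dvd {r : ℕ} [Fact r.Prime] (hq : ¬r ∣ Fintype.card F) {y : Matrix (Fin n) (Fin n) F} (hy : y ^ r = 1) (U : Submodule F (Fin n → F))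
    (hP : ∀ v ∈ U, y *ᵥ v ∈ U) : ∃ j, finrank F U = finrank F ↥(U ⊓ LinearMap.ker (toLin' y - LinearMap.id)) + j ∧ r ∣ Fintype.card F ^ j - 1 := by
  classical
  let f : Function.End U := fun v => ⟨y *ᵥ v.1, hP _ v.2⟩
  have a : ∀ k v, ((f ^ k) v).1 = (y ^ k) *ᵥ v.1 := fun k => by
    induction k with
    | zero => exact fun v => (one_mulVec _).symm
    | succ k ih => exact fun v => by rw [pow_succ, pow_succ, ← mulVec_mulVec]; exact ih (f v)
  have b := Equiv.Perm.card_fixedPoints_modEq (f := f) (p := r) (n := 1) (funext fun v => Subtype.ext (by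
    rw [pow_one, a, hy]; exact one_mulVec _))
  have d : Nat.card ↥(U ⊓ LinearMap.ker (toLin' y - LinearMap.id)) = Nat.card (Function.fixedPoints f) :=
    Nat.card_eq_of_bijective (fun v => ⟨⟨v.1, v.2.1⟩, Subtype.ext (sub_eq_zero.1 v.2.2)⟩)
    ⟨fun a b e => Subtype.ext (congrArg (fun x : Function.fixedPoints f => x.1.1) e),
      fun v => ⟨⟨v.1.1, v.1.2, sub_eq_zero.2 (congrArg Subtype.val v.2)⟩, rfl⟩⟩
  rw [← Nat.card_eq_fintype_card, ← Nat.card_eq_fintype_card, ← d, Module.natCard_eq_pow_finrank (K := F) (V := U),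
    Module.natCard_eq_pow_finrank (K := F) (V := ↥(U ⊓ _)), Nat.card_eq_fintype_card] at b
  obtain ⟨j, hj⟩ := Nat.exists_eq_add_of_le (Submodule.finrank_mono (inf_le_left (a := U) (b := LinearMap.ker (toLin' y - LinearMap.id))))
  have c := (Nat.modEq_iff_dvd' (Nat.pow_le_pow_right Fintype.card_pos (hj.ge.trans' (Nat.le_add_right _ _)))).1 b.symm
  rw [hj, pow_add, ← Nat.mul_sub_one] at c
  exact ⟨j, hj, ((Nat.Prime.dvd_mul Fact.out).1 c).resolve_left fun e => hq ((Fact.out : r.Prime).dvd_of_dvd_pow e)⟩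

theorem cyc [Fact n.Prime] (h3 : 2 < n) (hq : ¬n ∣ Fintype.card F) (hn : (n : F) ≠ 0) (hi : ∀ j, n ∣ Fintype.card F ^ j - 1 → n - 1 ∣ j)
    {x : Matrix (Fin n) (Fin n) F} (hx : x ^ n = 1) (x1 : x ≠ 1) : ∃ (v : Fin n → F) (b : Basis (Fin n) F (Fin n → F)), ∀ i, b i = (x ^ i.1) *ᵥ v := by
  let C := LinearMap.ker (toLin' x - LinearMap.id)
  have c : ∀ v, v ∈ C ↔ x *ᵥ v = v := fun v => sub_eq_zero
  obtain ⟨w, hw⟩ : ∃ w, w ∉ C := not_forall.1 fun f => x1 (toLin'.injective (LinearMap.ext fun v => by simpa using (c v).1 (f v)))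
  have k : ∀ U : Submodule F (Fin n → F), (∀ v ∈ U, x *ᵥ v ∈ U) → (∃ v ∈ U, v ∉ C) → finrank F ↥(U ⊓ C) + (n - 1) ≤ finrank F U := fun U a ⟨v, b, d⟩ => by
    obtain ⟨j, e, f⟩ := fix_dvd hq hx U a
    change _ = finrank F ↥(U ⊓ C) + j at e
    have := Submodule.finrank_lt_finrank_of_lt (lt_of_le_of_ne (inf_le_left (a := U) (b := C)) fun g => d (inf_eq_left.1 g b))
    have := Nat.le_of_dvd (by omega) (hi j f)
    omega
  obtain ⟨u, u1, u0⟩ : ∃ u ∈ C, u ≠ 0 := (Submodule.ne_bot_iff _).1 fun e => by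
    obtain ⟨j, a, b⟩ := fix_dvd hq hx ⊤ fun _ _ => trivial
    rw [show LinearMap.ker _ = ⊥ from e, inf_bot_eq, finrank_bot, zero_add, finrank_top, finrank_fin_fun] at a
    have := Nat.le_of_dvd one_pos ((Nat.dvd_add_right (dvd_refl (n - 1))).1 (show n - 1 ∣ n - 1 + 1 by convert hi j b; omega))
    omega
  let S := ∑ i ∈ Finset.range n, x ^ i
  have s1 : x * S = S := by
    have := mul_geom_sum x n
    rwa [hx, sub_self, sub_mul, one_mul, sub_eq_zero] at this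
  have s2 : S *ᵥ u ≠ 0 := by
    have : ∀ i, (x ^ i) *ᵥ u = u := fun i => by
      induction i with
      | zero => simp
      | succ i ih => rw [pow_succ, ← mulVec_mulVec, (c u).1 u1, ih]
    simp [S, sum_mulVec, this, ← Nat.cast_smul_eq_nsmul F, hn, u0]
  obtain ⟨v, v1, v2⟩ : ∃ v, v ∉ C ∧ S *ᵥ v ≠ 0 := by
    by_cases e : S *ᵥ w = 0
    · exact ⟨w + u, fun f => hw ((C.add_mem_iff_left u1).1 f), by rwa [mulVec_add, e, zero_add]⟩
    exact ⟨w, hw, e⟩
  let U := Submodule.span F (Set.range fun i : Fin n => (x ^ i.1) *ᵥ v)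
  have m : ∀ i, (x ^ i) *ᵥ v ∈ U := fun i => by
    rw [pow_eq_pow_mod i hx]; exact Submodule.subset_span ⟨⟨_, Nat.mod_lt _ (by omega)⟩, rfl⟩
  have a1 := k U (fun w hw => (Submodule.span_le (p := U.comap (toLin' x))).2 (by
    rintro _ ⟨i, rfl⟩
    have := m (i + 1)
    rwa [pow_succ', ← mulVec_mulVec] at this) hw) ⟨v, by simpa using m 0, v1⟩
  have a2 : finrank F ↥(U ⊓ C) ≠ 0 := fun e => v2 ((Submodule.eq_bot_iff _).1 (Submodule.finrank_eq_zero.1 e) _
    ⟨by rw [sum_mulVec]; exact U.sum_mem fun i _ => m i, (c _).2 (by rw [mulVec_mulVec, s1])⟩)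
  have a3 : U = ⊤ := Submodule.eq_top_of_finrank_eq (le_antisymm (Submodule.finrank_le _) (by rw [finrank_fin_fun]; omega))
  exact ⟨v, basisOfTopLeSpanOfCardEqFinrank _ a3.ge (by simp), fun i => by simp⟩

theorem conj {x y : Matrix (Fin n) (Fin n) F} (hx : x ^ n = 1) (hy : y ^ n = 1) (h0 : 0 < n) {v w : Fin n → F} {b c : Basis (Fin n) F (Fin n → F)}
    (hb : ∀ i, b i = (x ^ i.1) *ᵥ v) (hc : ∀ i, c i = (y ^ i.1) *ᵥ w) : ∃ P : Matrix (Fin n) (Fin n) F, P.det ≠ 0 ∧ x * P = P * y := by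
  let e := c.equiv b (Equiv.refl _)
  have a : ∀ k, e ((y ^ k) *ᵥ w) = (x ^ k) *ᵥ v := fun k => by
    rw [pow_eq_pow_mod k hx, pow_eq_pow_mod k hy, ← hb ⟨_, Nat.mod_lt _ h0⟩, ← hc ⟨_, Nat.mod_lt _ h0⟩, Basis.equiv_apply]; rfl
  refine ⟨LinearMap.toMatrix' e.toLinearMap, by rw [LinearMap.det_toMatrix']; exact e.isUnit_det'.ne_zero, toLin'.injective (c.ext fun i => ?_)⟩
  simp only [toLin'_apply, ← mulVec_mulVec, LinearMap.toMatrix'_mulVec, LinearEquiv.coe_coe, hc]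
  rw [a, mulVec_mulVec, mulVec_mulVec, ← pow_succ', ← pow_succ', a]

theorem big_fix (p : ℕ) [Fact p.Prime] [CharP F p] {r i : ℕ} [Fact r.Prime] (hr : r ∣ Fintype.card F ^ (i + 1) - 1) (hi : i + 3 ≤ n) (h4 : 4 ≤ n) :
    ∃ x : Matrix (Fin n) (Fin n) F, x ^ r = 1 ∧ x.det = 1 ∧ x ≠ 1 ∧ ∃ v w, x *ᵥ v = v ∧ x *ᵥ w = w ∧ v ≠ 0 ∧ ∀ c : F, c • v ≠ w := by
  have hr' : r.Prime := Fact.out
  by_cases h1 : r ∣ Fintype.card F - 1
  · obtain ⟨z, hz⟩ := exists_prime_orderOf_dvd_card' (G := Fˣ) r (by rwa [Nat.card_units, Nat.card_eq_fintype_card])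
    have zr : z.1 ^ r = 1 := by rw [← Units.val_pow_eq_pow_val, ← hz, pow_orderOf_eq_one]; rfl
    obtain ⟨n, rfl⟩ : ∃ k, n = k + 4 := ⟨n - 4, by omega⟩
    refine ⟨diagonal (vecCons z.1 (vecCons z.1⁻¹ 1)), ?_, by simp [Fin.prod_univ_succ], fun e => hr'.ne_one ?_, Pi.single (Fin.succ (Fin.succ 0)) 1,
      Pi.single (Fin.succ (Fin.succ (Fin.succ 0))) 1, by rw [diagonal_mulVec_single]; simp [-Fin.succ_zero_eq_one],
      by rw [diagonal_mulVec_single]; simp [-Fin.succ_zero_eq_one], by simp, fun c e => ?_⟩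
    · rw [diagonal_pow, ← diagonal_one]
      exact congrArg _ (funext (by simp [Fin.forall_fin_succ, zr]))
    · rw [← hz, orderOf_eq_one_iff]
      exact Units.ext (by simpa using congrFun₂ e 0 0)
    have := congrFun e (Fin.succ (Fin.succ (Fin.succ 0)))
    rw [Pi.smul_apply, Pi.single_eq_same, Pi.single_eq_of_ne fun f => Fin.succ_ne_zero _ (Fin.succ_injective _ (Fin.succ_injective _ f)), smul_zero] at this
    exact zero_ne_one this
  have h : ∀ c : F, c ^ r = 1 → c = 1 := fun c e => by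
    have c0 : c ≠ 0 := fun f => by simp [f, hr'.ne_zero] at e
    exact orderOf_eq_one_iff.1 (Nat.eq_one_of_dvd_coprimes (hr'.coprime_iff_not_dvd.2 h1) (orderOf_dvd_of_pow_eq_one e)
      (orderOf_dvd_of_pow_eq_one (FiniteField.pow_card_sub_one_eq_one c c0)))
  let K := FiniteField.Extension F p (i + 1)
  have d : finrank F K = i + 1 := FiniteField.finrank_extension ..
  have c : Nat.card K = Nat.card F ^ (i + 1) := FiniteField.natCard_extension ..
  obtain ⟨z, hz⟩ := exists_prime_orderOf_dvd_card' (G := Kˣ) r (by rwa [Nat.card_units, c, Nat.card_eq_fintype_card])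
  obtain ⟨e⟩ : Nonempty ((K × (Fin (n - (i + 3) + 2) → F)) ≃ₗ[F] (Fin n → F)) := FiniteDimensional.nonempty_linearEquiv_of_finrank_eq (by simp [d]; omega)
  let g := (LinearMap.mulLeft F z.1).prodMap (LinearMap.id (R := F) (M := Fin (n - (i + 3) + 2) → F))
  let x := LinearMap.toMatrix' (e.toLinearMap ∘ₗ g ∘ₗ e.symm.toLinearMap)
  have a : ∀ v, x *ᵥ e v = e (z.1 * v.1, v.2) := fun v => by rw [LinearMap.toMatrix'_mulVec]; simp [g, Prod.map]
  have b : ∀ k v, (x ^ k) *ᵥ e v = e ((z ^ k).1 * v.1, v.2) := fun k => by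
    induction k with
    | zero => simp
    | succ k ih => exact fun v => by rw [pow_succ, ← mulVec_mulVec, a, ih, pow_succ, Units.val_mul, mul_assoc]
  have x1 : x ^ r = 1 := toLin'.injective (LinearMap.ext fun v => by
    obtain ⟨v, rfl⟩ := e.surjective v
    rw [toLin'_apply, b, ← hz, pow_orderOf_eq_one]; simp)
  refine ⟨x, x1, h _ (by rw [← det_pow, x1, det_one]), fun f => hr'.ne_one ?_, e (0, Pi.single 0 1), e (0, Pi.single 1 1), by rw [a, mul_zero],
    by rw [a, mul_zero], by simp, fun c f => ?_⟩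
  · have := a (1, 0)
    rw [f, one_mulVec, mul_one] at this
    rw [← hz, orderOf_eq_one_iff]
    exact Units.ext (congrArg Prod.fst (e.injective this)).symm
  rw [← map_smul] at f
  simpa using congrFun (congrArg Prod.snd (e.injective f)) 1

end Cfsg.Agent.Chev.Singer
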