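import Cfsg.Agent.Lib.Chev.Singer

set_option autoImplicit false
set_option linter.unusedSectionVars false
set_option linter.style.haveILetI false

/-! Elements of order three and the normaliser of a Singer cycle in `SL_3(q)`. -/

namespace Cfsg.Agent.Chev.Singer
open Matrix Module Cfsg.Geo Polynomial
open scoped MatrixGroups

variable {F : Type*} [Field F] [Fintype F] {n : ℕ} {K : Subalgebra F (Matrix (Fin n) (Fin n) F)}

theorem mem_norm (hn : n.Prime) (hK : IsFieldSubalgebra n K) {u : GL (Fin n) F} (hu : u.1 ∈ K) : u ∈ subalgebraNormalizer K := fun k => by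
  haveI : Nonempty (Fin n) := ⟨⟨0, hn.pos⟩⟩
  obtain ⟨y, a, b⟩ := hK.inv _ hu u.ne_zero
  have c : (u⁻¹).1 ∈ K := Units.inv_eq_of_mul_eq_one_right b ▸ a
  exact ⟨fun h => mul_mem (mul_mem hu h) c, fun h => by simpa [mul_assoc] using mul_mem (mul_mem c h) hu⟩

theorem not_norm' (hn : n.Prime) (hK : IsFieldSubalgebra n K) {x : GL (Fin n) F} (hx : x ∈ subalgebraNormalizer K) {v w : Fin n → F} {a : F}
    (hv : x.1 *ᵥ v = a • v) (hw : x.1 *ᵥ w = a • w) (v0 : v ≠ 0) (h : ∀ c : F, c • v ≠ w) : x.1 = a • 1 := by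
  have a0 : a ≠ 0 := fun e => v0 (by rw [← one_mulVec v, ← x.inv_mul, ← mulVec_mulVec, hv, e, zero_smul, mulVec_zero])
  let s : GL (Fin n) F := ⟨a⁻¹ • 1, a • 1, by simp [smul_smul, a0], by simp [smul_smul, a0]⟩
  have := congrArg (fun g : GL (Fin n) F => a • g.1) (not_norm hn hK (mul_mem (mem_norm hn hK (u := s) (K.smul_mem K.one_mem _)) hx) (v := v) (w := w)
    (by simp [s, smul_mulVec, hv, smul_smul, a0]) (by simp [s, smul_mulVec, hw, smul_smul, a0]) v0 h)
  simpa [s, smul_smul, a0] using this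

theorem bad (hn : n.Prime) (hK : IsFieldSubalgebra n K) {x P : SL(n, F)} {v w : Fin n → F} {a : F} (hv : x.1 *ᵥ v = a • v) (hw : x.1 *ᵥ w = a • w)
    (v0 : v ≠ 0) (h : ∀ c : F, c • v ≠ w) (hP : P⁻¹ * x * P ∈ (subalgebraNormalizer K).comap (Matrix.SpecialLinearGroup.toGL : SL(n, F) →* GL (Fin n) F)) :
    x.1 = a • 1 := by
  have k0 : P.1 * (P⁻¹).1 = 1 := congrArg Subtype.val (mul_inv_cancel P)
  have k1 : ∀ v, P.1 *ᵥ ((P⁻¹).1 *ᵥ v) = v := fun v => by rw [mulVec_mulVec, k0, one_mulVec]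
  have k2 : ∀ v, x.1 *ᵥ v = a • v → ((P⁻¹).1 * x.1 * P.1) *ᵥ ((P⁻¹).1 *ᵥ v) = a • (P⁻¹).1 *ᵥ v := fun v e => by
    rw [← mulVec_mulVec, ← mulVec_mulVec, k1, e, mulVec_smul]
  have : (P⁻¹).1 * x.1 * P.1 = a • 1 := not_norm' hn hK hP (k2 v hv) (k2 w hw) (fun f => v0 (by rw [← k1 v, f, mulVec_zero]))
    fun c f => h c (by rw [← k1 w, ← f, mulVec_smul, k1])
  have := congrArg (fun y => P.1 * y * (P⁻¹).1) this
  simp only [← mul_assoc, k0, one_mul, Matrix.mul_smul, Matrix.smul_mul, mul_one] at this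
  rwa [mul_assoc, k0, mul_one] at this

theorem adjust (hn : n.Prime) (hK : IsFieldSubalgebra n K) {x : SL(n, F)} {y : GL (Fin n) F} (hy : y ∈ subalgebraNormalizer K)
    (h : ∃ P : Matrix (Fin n) (Fin n) F, P.det ≠ 0 ∧ x.1 * P = P * y.1) :
    ∃ Q : SL(n, F), Q⁻¹ * x * Q ∈ (subalgebraNormalizer K).comap (Matrix.SpecialLinearGroup.toGL : SL(n, F) →* GL (Fin n) F) := by
  obtain ⟨P, p1, p2⟩ := h
  haveI : Nonempty (Fin n) := ⟨⟨0, hn.pos⟩⟩
  letI := (isField hK).toField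
  haveI : Finite K := Module.finite_of_finite F
  obtain ⟨e, he⟩ := ev hK (v := fun _ => 1) fun f => one_ne_zero (congrFun f ⟨0, hn.pos⟩)
  obtain ⟨k, hk⟩ := FiniteField.norm_surjective F K P.det⁻¹
  have a : k.1.det = P.det⁻¹ := by
    rw [← hk, Algebra.norm_apply, ← LinearMap.det_conj _ e, ← LinearMap.det_toLin']
    refine congrArg _ (LinearMap.ext fun v => ?_)
    obtain ⟨l, rfl⟩ := e.surjective v
    simp only [LinearMap.comp_apply, LinearEquiv.coe_coe, e.symm_apply_apply]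
    simp [he]
  let u : GL (Fin n) F := GeneralLinearGroup.mkOfDetNeZero k.1 (a ▸ inv_ne_zero p1)
  have b := mem_norm hn hK (u := u) k.2
  let Q : SL(n, F) := ⟨P * k.1, by rw [det_mul, a, mul_inv_cancel₀ p1]⟩
  refine ⟨Q, Subgroup.mem_comap.2 ?_⟩
  convert mul_mem (mul_mem (inv_mem b) hy) b
  rw [map_mul, map_mul, map_inv, mul_assoc, inv_mul_eq_iff_eq_mul]
  exact Units.ext (show x.1 * (P * u.1) = P * u.1 * ((u⁻¹).1 * y.1 * u.1) by simp [← mul_assoc, p2])

theorem frob' (hn : n.Prime) (hK : IsFieldSubalgebra n K) : ∃ y : GL (Fin n) F, y ∈ subalgebraNormalizer K ∧ y.1 ^ n = 1 ∧ y.1 ≠ 1 ∧ ∃ v, v ≠ 0 ∧ y.1 *ᵥ v = v := by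
  haveI : Nonempty (Fin n) := ⟨⟨0, hn.pos⟩⟩
  letI := (isField hK).toField
  haveI : Finite K := Module.finite_of_finite F
  obtain ⟨e, he⟩ := ev hK (v := fun _ => 1) fun f => one_ne_zero (congrFun f ⟨0, hn.pos⟩)
  let σ : K ≃ₐ[F] K := FiniteField.frobeniusAlgEquivOfAlgebraic F K
  have o : orderOf σ = n := (FiniteField.orderOf_frobeniusAlgEquivOfAlgebraic F K).trans hK.finrank_eq
  let y := LinearMap.toMatrix' (e.toLinearMap ∘ₗ σ.toLinearMap ∘ₗ e.symm.toLinearMap)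
  have a : ∀ k, y *ᵥ e k = e (σ k) := fun k => by rw [LinearMap.toMatrix'_mulVec]; simp
  have b : ∀ j k, (y ^ j) *ᵥ e k = e ((σ ^ j) k) := fun j => by
    induction j with
    | zero => simp
    | succ j ih => exact fun k => by rw [pow_succ, ← mulVec_mulVec, a, ih, pow_succ]; rfl
  have ext : ∀ {A B : Matrix (Fin n) (Fin n) F}, (∀ k, A *ᵥ e k = B *ᵥ e k) → A = B := fun h => toLin'.injective (LinearMap.ext fun v => by
    obtain ⟨k, rfl⟩ := e.surjective v
    exact h k)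
  have c : y ^ n = 1 := ext fun k => by rw [b, orderOf_dvd_iff_pow_eq_one.1 o.dvd]; simp
  have m : ∀ k l : K, k.1 *ᵥ e l = e (k * l) := fun k l => by rw [he, he, mulVec_mulVec]; rfl
  let Y := Units.ofPowEqOne y n c hn.ne_zero
  have d : ∀ k : K, Y.1 * k.1 * (Y⁻¹).1 = (σ k).1 := fun k => (Units.mul_inv_eq_iff_eq_mul _).2 (ext fun l => by
    change (y * _) *ᵥ _ = (_ * y) *ᵥ _
    rw [← mulVec_mulVec, ← mulVec_mulVec, m, a, a, m, map_mul])
  refine ⟨Y, fun k => ⟨fun h => d ⟨k, h⟩ ▸ (σ _).2, fun h => ?_⟩, c, fun f => hn.ne_one (o.symm.trans (orderOf_eq_one_iff.2 (AlgEquiv.ext fun k => e.injective ?_))),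
    e 1, e.map_ne_zero_iff.2 one_ne_zero, (a 1).trans (by rw [map_one])⟩
  · obtain ⟨l, hl⟩ := σ.surjective ⟨_, h⟩
    have := (d l).trans (congrArg Subtype.val hl)
    rw [Units.mul_left_inj, Units.mul_right_inj] at this
    exact this ▸ l.2
  rw [← a, show y = 1 from f, one_mulVec]; rfl

theorem cube_root {K : Subalgebra F (Matrix (Fin 3) (Fin 3) F)} (hK : IsFieldSubalgebra 3 K) (h : 9 ∣ Fintype.card F ^ 3 - 1) {z : F} (hz : z ^ 3 = 1) :
    ∃ k ∈ K, k ^ 3 = z • 1 := by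
  letI := (isField hK).toField
  haveI : Finite K := Module.finite_of_finite F
  obtain ⟨γ, hγ⟩ := IsCyclic.exists_ofOrder_eq_natCard (α := Kˣ)
  have o := orderOf_pow_orderOf_div (x := γ) (n := 9) (orderOf_pos γ).ne' (by
    rwa [hγ, Nat.card_units, Module.natCard_eq_pow_finrank (K := F), hK.finrank_eq, Nat.card_eq_fintype_card])
  generalize γ ^ (orderOf γ / 9) = g at o
  have a : IsPrimitiveRoot (g.1 ^ 3) 3 := (IsPrimitiveRoot.coe_units_iff.2 (o ▸ IsPrimitiveRoot.orderOf g)).pow (by norm_num) (by norm_num)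
  obtain ⟨i, -, hi⟩ := a.eq_pow_of_pow_eq_one (ξ := algebraMap F K z) (by rw [← map_pow, hz, map_one])
  rw [← pow_mul, mul_comm, pow_mul] at hi
  exact ⟨_, (g.1 ^ i).2, (congrArg Subtype.val hi).trans (Algebra.algebraMap_eq_smul_one z)⟩

theorem cyc3 {z : F} (hz : ∀ b, b ^ 3 ≠ z) {x : Matrix (Fin 3) (Fin 3) F} (hx : x ^ 3 = z • 1) :
    ∃ b : Basis (Fin 3) F (Fin 3 → F), x *ᵥ b 0 = b 1 ∧ x *ᵥ b 1 = b 2 ∧ x *ᵥ b 2 = z • b 0 := by
  let v : Fin 3 → F := fun _ => 1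
  have a : LinearIndependent F ![v, x *ᵥ v, x *ᵥ (x *ᵥ v)] := Fintype.linearIndependent_iff.2 fun c e => by
    by_contra f
    let g : F[X] := C (c 2) * X ^ 2 + C (c 1) * X + C (c 0)
    have g0 : g ≠ 0 := fun h => f fun i => by
      fin_cases i
      · simpa [g] using congrArg (coeff · 0) h
      · simpa [g] using congrArg (coeff · 1) h
      · simpa [g] using congrArg (coeff · 2) h
    obtain ⟨s, t, h⟩ := (X_pow_sub_C_irreducible_of_prime Nat.prime_three hz).coprime_iff_not_dvd.2 (not_dvd_of_degree_lt g0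
      (degree_quadratic_lt.trans_eq (degree_X_pow_sub_C (by norm_num) z).symm))
    have h1 := congrArg (fun p => aeval x p *ᵥ v) h
    have h2 : aeval x g *ᵥ v = 0 := by
      simpa [g, add_mulVec, Algebra.algebraMap_eq_smul_one, smul_mulVec, sq, Fin.sum_univ_three, add_comm, add_left_comm, add_assoc] using e
    simp only [map_add, map_mul, map_sub, map_pow, aeval_X, aeval_C, hx, Algebra.algebraMap_eq_smul_one, sub_self, mul_zero, zero_add, ← mulVec_mulVec, h2,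
      mulVec_zero, map_one, one_mulVec] at h1
    exact zero_ne_one (congrFun h1 0)
  refine ⟨basisOfLinearIndependentOfCardEqFinrank a (by simp), by simp, by simp, ?_⟩
  have := congrArg (· *ᵥ v) hx
  simpa [pow_succ, smul_mulVec, mul_assoc] using this

theorem conj3 {x y : Matrix (Fin n) (Fin n) F} (b c : Basis (Fin n) F (Fin n → F)) (h : ∀ i, c.equiv b (Equiv.refl _) (y *ᵥ c i) = x *ᵥ b i) :
    ∃ P : Matrix (Fin n) (Fin n) F, P.det ≠ 0 ∧ x * P = P * y := by
  let e := c.equiv b (Equiv.refl _)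
  refine ⟨LinearMap.toMatrix' e.toLinearMap, by rw [LinearMap.det_toMatrix']; exact e.isUnit_det'.ne_zero, toLin'.injective (c.ext fun i => ?_)⟩
  simp only [toLin'_apply, ← mulVec_mulVec, LinearMap.toMatrix'_mulVec, LinearEquiv.coe_coe]
  rw [h, Basis.equiv_apply]; rfl

theorem eig3 {ω : F} (h : IsPrimitiveRoot ω 3) {x : Matrix (Fin 3) (Fin 3) F} (hx : x ^ 3 = 1)
    (h1 : ∀ (a : F) v w, x *ᵥ v = a • v → x *ᵥ w = a • w → v ≠ 0 → ∃ c : F, c • v = w) : ∃ b : Basis (Fin 3) F (Fin 3 → F), ∀ i, x *ᵥ b i = ω ^ i.1 • b i := by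
  have k : ∀ a : F, finrank F (LinearMap.ker (toLin' x - a • LinearMap.id)) ≤ 1 := fun a => finrank_le_one_iff.2 (by
    by_cases e : ∀ v : LinearMap.ker (toLin' x - a • LinearMap.id), v = 0
    · exact ⟨0, fun w => ⟨0, by simp [e w]⟩⟩
    obtain ⟨v, e⟩ := not_forall.1 e
    exact ⟨v, fun w => (h1 a _ _ (sub_eq_zero.1 v.2) (sub_eq_zero.1 w.2) fun f => e (Subtype.ext f)).imp fun c f => Subtype.ext f⟩)
  have s : 1 + ω + ω ^ 2 = 0 := by simpa [Finset.sum_range_succ] using h.geom_sum_eq_zero (by norm_num)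
  have l : ∀ a : F, a ^ 3 = 1 → ∃ v, v ≠ 0 ∧ x *ᵥ v = a • v := fun a ha => by
    by_contra! f
    have a1 := (toLin' x - (a * ω) • LinearMap.id).finrank_range_add_finrank_ker
    have a2 : LinearMap.range (toLin' x - (a * ω) • LinearMap.id) ≤ LinearMap.ker (toLin' x - (a * ω ^ 2) • LinearMap.id) := by
      rintro _ ⟨v, rfl⟩
      by_contra e
      refine f _ e ?_
      have := congrArg (· *ᵥ v) hx
      simp only [pow_succ, pow_zero, one_mul, ← mulVec_mulVec, one_mulVec] at this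
      simp only [LinearMap.sub_apply, toLin'_apply, LinearMap.smul_apply, LinearMap.id_apply, mulVec_sub, mulVec_smul, this]
      linear_combination (norm := module) (-a * s) • (x *ᵥ (x *ᵥ v)) + (a ^ 2 * ω * s) • (x *ᵥ v) - (ha + a ^ 3 * h.pow_eq_one) • v
    have := Submodule.finrank_mono a2
    have := k (a * ω)
    have := k (a * ω ^ 2)
    rw [finrank_fin_fun] at a1
    omega
  choose v v0 v1 using fun i : Fin 3 => l (ω ^ i.1) (by rw [← pow_mul, mul_comm, pow_mul, h.pow_eq_one, one_pow])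
  have a := Module.End.eigenvectors_linearIndependent' (toLin' x) (fun i : Fin 3 => ω ^ i.1) (fun i j e => Fin.ext (h.pow_inj i.2 j.2 e)) v
    fun i => ⟨Module.End.mem_eigenspace_iff.2 (v1 i), v0 i⟩
  exact ⟨basisOfLinearIndependentOfCardEqFinrank a (by simp), fun i => by simpa using v1 i⟩

theorem one_dim (h3 : (3 : F) ≠ 0) {x : Matrix (Fin 3) (Fin 3) F} (hx : x ^ 3 = 1) (hd : x.det = 1) (x1 : ∀ z : F, x ≠ z • 1) (a : F) (v w : Fin 3 → F)
    (hv : x *ᵥ v = a • v) (hw : x *ᵥ w = a • w) (v0 : v ≠ 0) : ∃ c : F, c • v = w := by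
  by_contra! f
  obtain ⟨u, hu⟩ := exists_linearIndependent_cons_of_lt_finrank ((LinearIndependent.pair_iff' v0).2 f) (by simp)
  let b := basisOfLinearIndependentOfCardEqFinrank hu (by simp)
  obtain ⟨c, hc⟩ : ∃ c : Fin 3 → F, c 0 • u + c 1 • v + c 2 • w = x *ᵥ u := ⟨b.repr (x *ᵥ u), by
    simpa [b, Fin.sum_univ_three] using b.sum_repr (x *ᵥ u)⟩
  have d := (isUnit_iff_isUnit_det _).1 (linearIndependent_rows_iff_isUnit (A := of ![u, v, w]).1 hu)
  have e : of ![u, v, w] * xᵀ = of ![c 0 • u + c 1 • v + c 2 • w, a • v, a • w] := by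
    rw [hc, ← hv, ← hw]; ext i j; fin_cases i <;> simp [mul_apply, mulVec, dotProduct, mul_comm]
  have e1 : c 0 * a ^ 2 = 1 := mul_right_cancel₀ d.ne_zero (by
    have := congrArg det e
    rw [det_mul, det_transpose, hd] at this
    simp [det_fin_three] at this ⊢
    linear_combination -this)
  have x3 : ∀ t, x *ᵥ (x *ᵥ (x *ᵥ t)) = t := fun t => by simpa [pow_succ, mul_assoc] using congrArg (· *ᵥ t) hx
  have e2 : a ^ 3 = 1 := smul_left_injective F v0 (by simpa [hv, mulVec_smul, smul_smul, pow_succ, mul_assoc, -mulVec_mulVec] using x3 v)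
  have a0 : a ≠ 0 := fun e => by simp [e] at e2
  have e3 : c 0 = a := mul_right_cancel₀ (pow_ne_zero 2 a0) (by linear_combination e1 - e2)
  have e4 := x3 u
  simp only [← hc, mulVec_add, mulVec_smul, hv, hw, e3] at e4
  have e5 : c 1 • v + c 2 • w = 0 := (smul_eq_zero.1 (show (3 * a ^ 2) • (c 1 • v + c 2 • w) = 0 by
    linear_combination (norm := module) e4 - e2 • u)).resolve_left (mul_ne_zero h3 (pow_ne_zero 2 a0))
  rw [add_assoc, e5, add_zero, e3] at hc
  refine x1 a (toLin'.injective (b.ext fun i => ?_))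
  fin_cases i <;> simp [b, hv, hw, hc]

end Cfsg.Agent.Chev.Singer
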