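import Cfsg.Agent.Lib.Chev.StChar
import Cfsg.Agent.Lib.Chev.BT

/-! The Steinberg characters of the parabolic subgroups. -/

set_option autoImplicit false
set_option linter.unusedSectionVars false

namespace Cfsg.Agent.Chev
open Cfsg.Agent.Char Finset

section Cox
variable {ι W : Type*} [Group W] {s : ι → W} (K : Set ι)

variable (s) in
/-- the generators of a parabolic subgroup -/
def sK (k : K) : WS s K := ⟨s k, s_mem_WS k.2⟩

theorem wp_sK (ω : List K) : (wp (sK s K) ω).1 = wp s (ω.map Subtype.val) := by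
  induction ω <;> simp_all [sK]

variable (h : InvGen s) (hx : Exchange s)
include h hx

theorem exists_red_sK (w : WS s K) : ∃ ω : List K, Red s (ω.map Subtype.val) ∧ wp (sK s K) ω = w := by
  obtain ⟨ω, h1, h2, h3⟩ := h.exists_red_WS hx w.2
  lift ω to List K using h1
  exact ⟨ω, h2, Subtype.ext ((wp_sK K ω).trans h3)⟩

theorem invGen_sK : InvGen (sK s K) :=
  ⟨fun i => Subtype.ext (h.sq i), fun w => (exists_red_sK K h hx w).imp fun _ h => h.2⟩

theorem len_sK (w : WS s K) : len (sK s K) w = len s w.1 := by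
  refine le_antisymm ?_ ?_
  · obtain ⟨ω, h1, rfl⟩ := exists_red_sK K h hx w
    rw [wp_sK, h1, List.length_map]; exact len_wp_le _ _
  · obtain ⟨ω, h1, rfl⟩ := (invGen_sK K h hx).exists_red w
    rw [wp_sK, h1, ← List.length_map Subtype.val]; exact len_wp_le _ _

theorem exchange_sK : Exchange (sK s K) := fun i ω h1 h2 => by
  rw [Red, len_sK K h hx, wp_sK] at h1
  rw [len_sK K h hx, Subgroup.coe_mul, wp_sK] at h2
  obtain ⟨j, h3, h4⟩ := hx i (ω.map Subtype.val) (by rwa [Red, List.length_map]) (by rwa [List.length_map])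
  exact ⟨j, by simpa using h3, Subtype.ext (by rw [Subgroup.coe_mul, wp_sK, wp_sK, ← List.eraseIdx_map]; exact h4)⟩

omit h hx in
theorem mem_WS_sK {M : Set K} {w : WS s K} : w ∈ WS (sK s K) M ↔ w.1 ∈ WS s (Subtype.val '' M) := by
  have : (WS (sK s K) M).map (WS s K).subtype = WS s (Subtype.val '' M) := by
    exact (MonoidHom.map_closure _ _).trans (congrArg Subgroup.closure (by rw [Set.image_image, Set.image_image]; rfl))
  rw [← this]
  exact (Subgroup.mem_map_iff_mem (Subgroup.subtype_injective _)).symm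

end Cox

namespace Tits
variable {ι W G : Type*} [Group W] {s : ι → W} [Group G] (T : Tits s G)

/-- the Tits system of a parabolic subgroup -/
def sub (K : Set ι) : Tits (sK s K) (T.P K) where
  ig := invGen_sK K T.ig T.ex
  ex := exchange_sK K T.ig T.ex
  B := T.B.subgroupOf (T.P K)
  δ g := ⟨T.δ g, g.2⟩
  δ_eq_one := Subtype.ext_iff.trans T.δ_eq_one
  δ_left hb g := Subtype.ext (T.δ_left hb g)
  δ_inv g := Subtype.ext (T.δ_inv g)
  δ_eq e := by
    obtain ⟨b, h1, b', h2, e⟩ := T.δ_eq (Subtype.ext_iff.1 e)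
    exact ⟨⟨b, T.B_le_P K h1⟩, h1, ⟨b', T.B_le_P K h2⟩, h2, Subtype.ext e⟩
  surj w := by
    obtain ⟨g, e⟩ := T.surj w
    exact ⟨⟨g, T.mem_P.2 (e ▸ w.2)⟩, Subtype.ext e⟩
  mul hg h := (T.mul (Subtype.ext_iff.1 hg) h).imp Subtype.ext fun a =>
    ⟨Subtype.ext a.1, by rw [len_sK K T.ig T.ex, len_sK K T.ig T.ex]; exact a.2⟩

variable [Fintype G]
open Classical

theorem sub_stein (K : Finset ι) (g : T.P K) : (T.sub K).stein g = T.stJ K g := by
  rw [stein, stJ]
  refine sum_bij (fun M _ => M.map (Function.Embedding.subtype _)) (fun M _ => mem_powerset.2 fun i hi => property_of_mem_map_subtype _ hi)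
    (fun _ _ _ _ e => map_injective _ e) (fun M hM => ⟨M.subtype _, mem_univ _, subtype_map_of_mem (mem_powerset.1 hM)⟩) fun M _ => ?_
  have h1 : ∀ x : T.P K, x ∈ (T.sub K).P M ↔ x.1 ∈ T.P (M.map (Function.Embedding.subtype _)) := fun x => by
    rw [coe_map]; exact mem_WS_sK _
  have h2 : T.P (M.map (Function.Embedding.subtype _)) ≤ T.P K := T.P_mono fun i hi => property_of_mem_map_subtype _ hi
  rw [card_map, fixedPointCharacter_eq, show (T.sub K).P M = (T.P (M.map (Function.Embedding.subtype _))).subgroupOf (T.P K) from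
    Subgroup.ext h1, Nat.card_congr (Subgroup.subgroupOfEquivOfLe h2).toEquiv]
  congr 3
  exact card_bij (fun x _ => x.1) (by simp [Subgroup.mem_subgroupOf]) (by simp) fun x hx =>
    ⟨⟨x, (mem_filter.1 hx).2.1⟩, by simpa [Subgroup.mem_subgroupOf] using (mem_filter.1 hx).2.2, rfl⟩

theorem stJ_min {K : Finset ι} {g : G} (hg : g ∈ T.P K) (h : ∀ M ⊂ K, ∀ x ∈ T.P K, x⁻¹ * g * x ∉ T.P M) : T.stJ K g = (-1) ^ K.card := by
  rw [stJ, sum_eq_single_of_mem K (mem_powerset_self K) fun M hM hne => by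
    rw [filter_false_of_mem fun x _ hx => h M (ssubset_of_ne_of_subset hne (mem_powerset.1 hM)) x hx.1 hx.2]; simp]
  rw [filter_congr (q := (· ∈ T.P K)) fun x _ => and_iff_left_of_imp fun hx => mul_mem (mul_mem (inv_mem hx) hg) hx,
    ← Fintype.card_subtype, ← Nat.card_eq_fintype_card, div_self (card_ne_zero' _), mul_one]

theorem inner_stJ [Fintype ι] [Fintype W] {w₀ : W} (h : ∀ w, (∀ j, ¬ len s w < len s (w * s j)) ↔ w = w₀) (h' : w₀⁻¹ = w₀) (K : Finset ι) :
    classInner (fun g : T.P K => T.stein g) (fun g => T.stJ K g) = 1 := by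
  have h0 : indFun (T.P K) (fun g => T.stJ K g) = ∑ M ∈ K.powerset, ((-1 : ℂ) ^ M.card) • fixedPointCharacter (T.P M) := by
    ext g
    rw [indFun_apply, sum_congr rfl (g := fun x => T.stJ K (x⁻¹ * g * x)) fun x _ => by
      by_cases h : x⁻¹ * g * x ∈ T.P K
      exacts [extendByZero_of_mem _ _ h, (extendByZero_of_not_mem _ _ h).trans (T.stJ_eq_zero K h).symm], sum_stJ, inv_mul_cancel_left₀ (card_ne_zero' _)]
    simp
  have h1 : ∀ M : Finset ι, classInner T.stein (((-1 : ℂ) ^ M.card) • fixedPointCharacter (T.P M)) =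
      if ∀ k ∈ M, len s w₀ < len s (w₀ * s k) then (-1 : ℂ) ^ M.card else 0 := fun M => by
    rw [classInner_smul_right, classInner_stein_fix]
    rw [filter_congr (q := fun w => w = w₀ ∧ RedR s M w₀) fun w _ => by
      rw [h, and_comm]; exact and_congr_right fun e => by rw [e, h']]
    split_ifs with h1 <;> simp_all [RedR, card_eq_one, Finset.ext_iff]
  rw [← frobenius_right _ _ (T.isIrr_stein h h').isClassFunction, h0]
  simp only [classInner_sum_right, h1, sum_sign]
  exact if_pos fun j _ => (h w₀).2 rfl j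

end Tits

theorem sum_mul_eq_zero_of_char {G : Type*} [Group G] {ψ : G → ℂ} (hψ : IsCharacter G ψ) (U : Subgroup G) [Fintype U]
    (h : ∑ u : U, ψ u = 0) (g : G) : ∑ u : U, ψ (g * u) = 0 := by
  obtain ⟨n, ρ, rfl⟩ := hψ
  have h1 : IsIdempotentElem ((Nat.card U : ℂ)⁻¹ • ∑ u : U, ρ u) := by
    have : ∀ v : U, ρ v * ∑ u : U, ρ u = ∑ u : U, ρ u := fun v => by
      rw [mul_sum]; exact Fintype.sum_bijective _ (Group.mulLeft_bijective v) _ _ fun u => by simp
    rw [IsIdempotentElem, smul_mul_smul_comm, sum_mul, sum_congr rfl fun v _ => this v, sum_const, card_univ, ← Nat.cast_smul_eq_nsmul ℂ,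
      smul_smul, ← Nat.card_eq_fintype_card, inv_mul_cancel_right₀ (card_ne_zero' _)]
  have h2 := (smul_eq_zero.1 (LinearMap.IsIdempotentElem.eq_zero_of_trace_eq_zero h1 (by
    rw [map_smul, map_sum]; exact smul_eq_zero_of_right _ h))).resolve_left (inv_ne_zero (card_ne_zero' _))
  simp only [Representation.character, map_mul]
  rw [← map_sum, ← mul_sum, h2, mul_zero, map_zero]

theorem not_coprime_mul {G : Type*} [Group G] [Finite G] {p : ℕ} [hp : Fact p.Prime] {g c : G} (hg : ¬ p ∣ orderOf g) (h : Commute g c)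
    {k : ℕ} (hc : c ^ p ^ k = 1) (h1 : c ≠ 1) : p ∣ orderOf (g * c) := by_contra fun h2 => h1 (by
  have h3 : c ^ (orderOf g * orderOf (g * c)) = 1 := by
    have := h.mul_pow (orderOf g * orderOf (g * c))
    rw [pow_mul g, pow_orderOf_eq_one, one_pow, one_mul, mul_comm, pow_mul, pow_orderOf_eq_one, one_pow, mul_comm] at this
    exact this.symm
  rw [← pow_one c, ← (Nat.Coprime.pow_left k (hp.out.coprime_iff_not_dvd.2 (hp.out.not_dvd_mul hg h2))).gcd_eq_one]
  exact pow_gcd_eq_one.2 ⟨hc, h3⟩)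

theorem sum_coset_pgroup {G : Type*} [Group G] [Finite G] {p : ℕ} [hp : Fact p.Prime] {U : Subgroup G} [Fintype U] (hU : IsPGroup p U) {g : G}
    (hg : ¬ p ∣ orderOf g) (hn : ∀ u ∈ U, g⁻¹ * u * g ∈ U) {χ : G → ℂ} (h1 : IsClassFunction G χ) (h2 : ∀ x, p ∣ orderOf x → χ x = 0) :
    Nat.card ↥(Subgroup.centralizer {g} ⊓ U) * ∑ u : U, χ (g * u) = Nat.card U * χ g := by
  classical
  let C := (Subgroup.centralizer {g}).subgroupOf U
  have := Fintype.ofFinite (U ⧸ C)
  obtain ⟨k, hk⟩ := IsPGroup.iff_card.1 hU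
  have h3 : ∀ u : U, (u : G) ^ p ^ k = 1 := fun u => by rw [← hk]; exact congrArg Subtype.val (pow_card_eq_one' (x := u))
  have h4 : ∀ c : C, Commute g c.1.1 := fun c => c.2 g rfl
  obtain ⟨m, hm⟩ := exists_pow_eq_self_of_coprime (Nat.Coprime.pow_left k (hp.out.coprime_iff_not_dvd.2 hg))
  have h5 : ∀ (v : G) (c : C), ((v * (g * c.1.1) * v⁻¹) ^ p ^ k) ^ m = v * g * v⁻¹ := fun v c => by
    rw [conj_pow, (h4 c).mul_pow, h3, mul_one, conj_pow, hm]
  let f : (U ⧸ C) × C → U := fun y => ⟨g⁻¹ * (y.1.out.1 * (g * y.2.1.1) * y.1.out.1⁻¹), by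
    simpa [mul_assoc] using mul_mem (mul_mem (hn _ y.1.out.2) y.2.1.2) (inv_mem y.1.out.2)⟩
  have h6 : Function.Bijective f := (Nat.bijective_iff_injective_and_card f).2 ⟨by
    rintro ⟨q, c⟩ ⟨q', c'⟩ e
    have e := mul_left_cancel (congrArg Subtype.val e)
    have e1 := h5 q.out.1 c
    rw [e, h5] at e1
    obtain rfl : q = q' := by
      rw [← q.out_eq', ← q'.out_eq', QuotientGroup.eq]
      refine Subgroup.mem_centralizer_singleton_iff.2 ?_
      change q.out.1⁻¹ * q'.out.1 * g = g * (q.out.1⁻¹ * q'.out.1)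
      rw [← mul_left_inj (q'.out.1⁻¹), mul_assoc _ q'.out.1, mul_assoc _ _ q'.out.1⁻¹, e1]
      group
    simpa using e, by rw [Nat.card_prod, ← Subgroup.card_eq_card_quotient_mul_card_subgroup]⟩
  rw [← h6.sum_comp, Fintype.sum_prod_type, sum_congr rfl (g := fun _ => χ g) fun q _ => by
    simp only [f, mul_inv_cancel_left, h1 _ _]
    rw [Fintype.sum_eq_single 1 fun c hc => h2 _ (not_coprime_mul hg (h4 c) (h3 _) (by simpa using hc))]
    simp, Subgroup.card_eq_card_quotient_mul_card_subgroup C, sum_const, card_univ, nsmul_eq_mul, ← Nat.card_eq_fintype_card,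
    ← Nat.card_congr (Subgroup.subgroupOfEquivOfLe (inf_le_right (a := Subgroup.centralizer {g}) (b := U))).toEquiv, Subgroup.inf_subgroupOf_right]
  push_cast; ring

end Cfsg.Agent.Chev
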