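import Cfsg.Agent.Lib.Chev.StV1

/-! The values of the Steinberg character at semisimple elements. -/

set_option autoImplicit false
set_option linter.unusedSectionVars false

namespace Cfsg.Agent.Chev
open Cfsg.Agent.Char Finset

variable {I R : Type} [Fintype I] [DecidableEq I] [Fintype R] [DecidableEq R]
namespace St
variable {Φ : CD I R} {F : Type*} [Field F] [Finite F] {G : Type*} [Group G] [Fintype G] {S : St Φ F G} (hG : S.Gx = ⊤)
  (p : ℕ) [Fact p.Prime] [CharP F p]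
open Classical

theorem isIrr_stJ (K : Finset I) : IsIrrCharacter ((tits hG).P K) fun g => (tits hG).stJ K g := by
  rw [← funext ((tits hG).sub_stein K)]
  refine ((tits hG).sub K).isIrr_stein (w₀ := ⟨Φ.w0 K, RS.w0_mem _⟩) (fun w => ?_) (Subtype.ext (RS.w0_inv _))
  simp only [len_sK _ Φ.invGen Φ.exchange]
  rw [Subtype.ext_iff, ← w0_iff]
  exact ⟨fun h => ⟨w.2, fun j hj => h ⟨j, hj⟩⟩, fun h j => h.2 j j.2⟩

theorem UJ_le_P (J K : Set I) : S.UJ J ≤ (tits hG).P K := (Ux_mono fun _ h => h.1).trans (U_le_B.trans ((tits hG).B_le_P K))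

theorem stJ_mul (K : Finset I) (g : G) {u : G} (hu : u ∈ S.UJ K) : (tits hG).stJ K (g * u) = (tits hG).stJ K g :=
  sum_congr rfl fun M _ => by
    rw [filter_congr fun x _ => and_congr_right fun hx => by
      rw [show x⁻¹ * (g * u) * x = x⁻¹ * g * x * (x⁻¹ * u * x⁻¹⁻¹) by group,
        Subgroup.mul_mem_cancel_right _ (UJ_le_P hG K M (conj_UJ (tits_P hG K ▸ inv_mem hx) hu))]]

include p in
theorem sum_stein (K : Finset I) {g : G} (hg : g ∈ (tits hG).P K) :
    ∑ u : S.UJ K, (tits hG).stein (g * u) = Nat.card (S.UJ K) * (tits hG).stJ K g := by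
  have := Fintype.ofFinite Φ.W
  have h1 := ((isIrr_stein hG).isCharacter.res ((tits hG).P K)).sub_irr (isIrr_stJ hG K) (by
    rw [(tits hG).inner_stJ (fun w => by rw [← w0_iff (J := Set.univ)]; simp [RS.WJ_univ]) (RS.w0_inv _)]; exact one_ne_zero)
  have h2 : ∀ f : G → ℂ, ∑ u : (S.UJ K).subgroupOf ((tits hG).P K), f u = ∑ u : S.UJ K, f u := fun f =>
    Fintype.sum_equiv (Subgroup.subgroupOfEquivOfLe (UJ_le_P hG K K)).toEquiv _ _ fun _ => rfl
  have h3 : ∀ g, ∑ u : S.UJ K, (tits hG).stJ K (g * u) = Nat.card (S.UJ K) * (tits hG).stJ K g := fun g => by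
    simp [stJ_mul hG K g (Subtype.prop _)]
  have := sum_mul_eq_zero_of_char h1 ((S.UJ K).subgroupOf _) (by
    obtain ⟨k, hk⟩ := IsPGroup.iff_card.1 (isPGroup_Ux (S := S) p (unip_UJ K))
    refine (h2 fun x => (tits hG).stein x - (tits hG).stJ K x).trans ?_
    have := h3 1
    simp only [one_mul] at this
    rw [sum_sub_distrib, this, stJ_U hG K (one_mem _), if_pos (one_mem _), mul_div_cancel₀ _ (card_ne_zero' _),
      Fintype.sum_eq_single 1 fun u hu => stein_eq_zero hG p (by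
        simpa using not_coprime_mul (g := (1 : G)) (k := k) (by simpa using (Fact.out : p.Prime).ne_one) (Commute.one_left u.1)
          (by rw [← hk]; exact congrArg Subtype.val (pow_card_eq_one' (x := u))) (by simpa using hu))]
    simp [stein_one]) ⟨g, hg⟩
  rw [← h3, ← sub_eq_zero, ← sum_sub_distrib, ← h2 fun x => (tits hG).stein (g * x) - (tits hG).stJ K (g * x)]
  exact this

theorem stein_preg {g : G} (hg : ¬ p ∣ orderOf g) : ∃ n : ℕ,
    (tits hG).stein g = (-1) ^ n * (p ^ (Nat.card (Subgroup.centralizer {g})).factorization p : ℕ) := by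
  obtain ⟨Q⟩ := Sylow.nonempty (p := p) (G := Subgroup.centralizer {g})
  obtain ⟨⟨x, K⟩, ⟨h1, h2⟩, hmin⟩ := Set.exists_min_image {y : G × Finset I | y.1⁻¹ * g * y.1 ∈ (tits hG).P y.2 ∧
      ∀ q ∈ Q.1, y.1⁻¹ * q * y.1 ∈ S.UJ y.2} (fun y => y.2.card) (Set.toFinite _) (by
    by_cases h : Q.1.map (Subgroup.subtype _) = ⊥
    · exact ⟨(1, univ), by simp [Tits.P_univ], fun q hq => by simp [show (q : G) = 1 from Subgroup.mem_bot.1 (h.le ⟨q, hq, rfl⟩)]⟩
    · obtain ⟨x, -, J, -, h1, h2⟩ := borel_tits' (S := S) p (hG.ge.trans' le_top) (Q.2.map _) h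
      obtain ⟨y, h3, e⟩ := h1 (x := g) ⟨Subgroup.mem_normalizer_fintype (by
        rintro _ ⟨q, hq, rfl⟩
        exact ⟨q, hq, by rw [eq_mul_inv_iff_mul_eq]; exact (q.2 g rfl).symm⟩), hG.ge trivial⟩
      refine ⟨(x, J.toFinset), by simpa [tits_P, ← e, mul_assoc] using h3, fun q hq => ?_⟩
      obtain ⟨y, h3, e⟩ := h2 ⟨q, hq, rfl⟩
      simpa [show (q : G) = _ from e.symm, mul_assoc] using h3)
  dsimp only at h1 h2 hmin
  have h3 := sum_stein hG p K h1
  have h4 : orderOf (x⁻¹ * g * x) = orderOf g := by rw [← (MulAut.conj x⁻¹).orderOf_eq g]; simp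
  have hU : IsPGroup p (S.UJ K) := isPGroup_Ux (S := S) (f := 1) p (unip_UJ (Φ := Φ) K)
  have h5 := sum_coset_pgroup hU (h4 ▸ hg) (fun u hu => by
    have := conj_UJ (g := (x⁻¹ * g * x)⁻¹) (tits_P hG K ▸ inv_mem h1) hu
    rwa [inv_inv] at this) (isIrr_stein hG).isClassFunction fun _ => stein_eq_zero hG p
  rw [(tits hG).stJ_min h1 fun M hM y hy h => (hmin (x * y, M) ⟨by simpa [mul_assoc] using h, fun q hq => by
    simpa [mul_assoc, UJ] using Ux_mono (B := {r | Φ.Pos r ∧ ¬ Φ.InJ M r}) (fun r hr => ⟨hr.1, fun h => hr.2 (h.mono (coe_subset.2 hM.le))⟩)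
      (conj_UJ (g := y⁻¹) (tits_P hG K ▸ inv_mem hy) (h2 q hq))⟩).not_gt (card_lt_card hM)] at h3
  rw [h3, mul_left_comm, mul_right_inj' (card_ne_zero' _), show x⁻¹ * g * x = x⁻¹ * g * x⁻¹⁻¹ by simp, (isIrr_stein hG).isClassFunction] at h5
  refine ⟨K.card, ?_⟩
  rw [← h5, mul_comm, ← Q.card_eq_multiplicity]
  congr 2
  refine Nat.dvd_antisymm ?_ ?_
  · obtain ⟨k, hk⟩ := IsPGroup.iff_card.1 (hU.to_le
      (inf_le_right (a := Subgroup.centralizer {x⁻¹ * g * x⁻¹⁻¹})))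
    have h6 : Nat.card (Subgroup.centralizer {x⁻¹ * g * x⁻¹⁻¹}) = Nat.card (Subgroup.centralizer {g}) :=
      Nat.card_congr ((MulAut.conj x).toEquiv.subtypeEquiv fun y => by
        simp only [Subgroup.mem_centralizer_singleton_iff, MulEquiv.toEquiv_eq_coe, EquivLike.coe_coe, MulAut.conj_apply]
        rw [← mul_left_inj x⁻¹, ← mul_right_inj x]; simp [mul_assoc])
    have h7 := Subgroup.card_dvd_of_le (inf_le_left (a := Subgroup.centralizer {x⁻¹ * g * x⁻¹⁻¹}) (b := S.UJ K))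
    rw [Q.card_eq_multiplicity, hk]
    rw [hk, h6] at h7
    exact pow_dvd_pow _ (((Fact.out : p.Prime).pow_dvd_iff_le_factorization Nat.card_pos.ne').1 h7)
  · rw [← Subgroup.card_map_of_injective (f := (MulAut.conj x⁻¹).toMonoidHom.comp (Subgroup.subtype _))
      ((MulAut.conj x⁻¹).injective.comp (Subgroup.subtype_injective _))]
    refine Subgroup.card_dvd_of_le ?_
    rintro _ ⟨q, hq, rfl⟩
    refine ⟨Subgroup.mem_centralizer_singleton_iff.2 ?_, by simpa using h2 q hq⟩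
    simp [mul_assoc, ← mul_assoc q.1, ← q.2 g rfl]

end St
end Cfsg.Agent.Chev
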