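import Cfsg.Agent.Lib.Chev.Order
import Cfsg.Prelude.Def_SteinbergCover

set_option autoImplicit false
set_option linter.unusedSectionVars false

/-! Steinberg's presentation and homomorphisms defined on root elements. -/

namespace Cfsg.Agent.Chev

open Cfsg.Lie

section Abstract
variable {I R : Type} [Fintype I] [DecidableEq I] [Fintype R] [DecidableEq R]

/-- Steinberg's relations for a family of elements -/
structure CD.Rel (Φ : CD I R) {F : Type*} [Field F] {G : Type*} [Group G] (y : R → F → G) : Prop where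
  add : ∀ r t u, y r t * y r u = y r (t + u)
  comm : ∀ r s t u, s ≠ r → s ≠ Φ.neg r → y s u * y r t = y r t * y s u *
    ((Φ.ct r s).map fun c => y c.1 ((c.2.1 : F) * (-t) ^ c.2.2.1 * u ^ c.2.2.2)).prod

variable {Φ : CD I R} {F : Type*} [Field F] {G : Type*} [Group G]

theorem St.rel (S : St Φ F G) : Φ.Rel S.x := ⟨S.add, S.comm⟩

theorem CD.Rel.field {y : R → F → G} (h : Φ.Rel y) {F₀ : Type*} [Field F₀] (f : F₀ →+* F) :
    Φ.Rel fun r t => y r (f t) :=
  ⟨fun r t u => by rw [h.add, map_add], fun r s t u h1 h2 => by simp [h.comm r s _ _ h1 h2]⟩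

theorem CD.Rel.diag {y : R → F → G} (h : Φ.Rel y) (a : I → Fˣ) :
    Φ.Rel fun r t => y r (RS.chi a (Φ.rv r) * t) := by
  refine ⟨fun r t u => by rw [h.add, mul_add], fun r s t u h1 h2 => ?_⟩
  rw [h.comm r s _ _ h1 h2]
  congr 2
  refine List.map_congr_left fun c hc => ?_
  rw [(Φ.ct_rv r s c hc).2.2, RS.chi_add, RS.chi_smul, RS.chi_smul]
  congr 1
  simp only [zpow_natCast, Units.val_mul, Units.val_pow_eq_pow_val, neg_mul_eq_mul_neg, mul_pow]
  ring

theorem CD.Rel.map {y : R → F → G} (h : Φ.Rel y) {G' : Type*} [Group G'] (φ : G →* G') :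
    Φ.Rel fun r t => φ (y r t) :=
  ⟨fun r t u => by rw [← map_mul, h.add], fun r s t u h1 h2 => by
    rw [← map_mul, h.comm r s _ _ h1 h2]; simp [map_list_prod, Function.comp_def]⟩

theorem CD.Rel.of_inj {y : R → F → G} {G' : Type*} [Group G'] (φ : G →* G') (hφ : Function.Injective φ)
    (h : Φ.Rel fun r t => φ (y r t)) : Φ.Rel y :=
  ⟨fun r t u => hφ (by rw [map_mul, h.add]), fun r s t u h1 h2 => hφ (by
    rw [map_mul, h.comm r s _ _ h1 h2]; simp [map_list_prod, Function.comp_def])⟩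

namespace St
variable {S : St Φ F G}

theorem Gx_le_of_sim {K : Subgroup G}
    (h : ∀ i t, S.x (Φ.sim i) t ∈ K ∧ S.x (Φ.neg (Φ.sim i)) t ∈ K) : S.Gx ≤ K := by
  refine Ux_le.2 fun r _ => ?_
  induction r using RS.root_induction (Φ := Φ.toRS) with
  | h1 i => exact fun t => (h i t).1
  | h2 i r ih =>
    intro t
    obtain ⟨χ, -, e⟩ := acts_n (S := S) i 1
    have h1 : S.n (Φ.sim i) 1 ∈ K := mul_mem (mul_mem (h i _).1 (h i _).2) (h i _).1
    have := e r ((χ r)⁻¹ * t)
    rw [← mul_assoc (χ _ : F), Units.mul_inv, one_mul, RS.s_smul] at this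
    rw [← this]
    exact mul_mem (mul_mem h1 (ih trivial _)) (inv_mem h1)

theorem hom_ext (hG : S.Gx = ⊤) {G' : Type*} [Group G'] {φ ψ : G →* G'}
    (h : ∀ r t, φ (S.x r t) = ψ (S.x r t)) : φ = ψ :=
  MonoidHom.eq_of_eqOn_top fun g _ =>
    (Ux_le (A := Set.univ) (K := φ.eqLocus ψ)).2 (fun r _ t => h r t) (show g ∈ S.Gx from hG ▸ trivial)

theorem hom_ext_sim (hG : S.Gx = ⊤) {G' : Type*} [Group G'] {φ ψ : G →* G'}
    (h : ∀ i t, φ (S.x (Φ.sim i) t) = ψ (S.x (Φ.sim i) t) ∧
      φ (S.x (Φ.neg (Φ.sim i)) t) = ψ (S.x (Φ.neg (Φ.sim i)) t)) : φ = ψ :=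
  MonoidHom.eq_of_eqOn_top fun g _ =>
    Gx_le_of_sim (K := φ.eqLocus ψ) h (show g ∈ S.Gx from hG ▸ trivial)

theorem hmul_map {G' : Type*} [Group G'] (φ : G →* G')
    (hm : ∀ i c d, φ (S.h (Φ.sim i) c) * φ (S.h (Φ.sim i) d) = φ (S.h (Φ.sim i) (c * d))) (r : R) (c d : Fˣ) :
    φ (S.h r c) * φ (S.h r d) = φ (S.h r (c * d)) := by
  obtain ⟨w, i, rfl⟩ := RS.exists_smul_sim (Φ := Φ.toRS) r
  obtain ⟨g, -, hg⟩ := exists_of_W (S := S) w
  obtain ⟨χ, -, e⟩ := hg.conj_h (Φ.sim i)
  have key : ∀ c, φ (S.h (w • Φ.sim i) c) = φ g * φ (S.h (Φ.sim i) c) * (φ g)⁻¹ := by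
    intro c
    have h1 := congrArg φ (e (χ⁻¹ * c))
    have h2 := congrArg φ (e χ⁻¹)
    rw [mul_inv_cancel_left] at h1
    rw [mul_inv_cancel, h_one, one_mul] at h2
    simp only [map_mul, map_inv] at h1 h2
    rw [mul_comm χ⁻¹, ← hm, ← h2] at h1
    rw [← mul_inv_eq_iff_eq_mul.2 h1]
    group
  rw [key, key, key, ← hm]
  group

theorem HMul.all (hm : S.HMul) (r : R) (c d : Fˣ) : S.h r c * S.h r d = S.h r (c * d) :=
  hmul_map (MonoidHom.id G) hm r c d

section SimMap
variable {I' R' : Type} [Fintype I'] [DecidableEq I'] [Fintype R'] [DecidableEq R'] {Φ' : CD I' R'}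
  {F' : Type*} [Field F'] {G' : Type*} [Group G']

/-- a family of elements agreeing with root elements on the fundamental roots and their negatives -/
def SimMap (Φ : CD I R) (y : R → F → G') (S' : St Φ' F' G') (ν : I → I') (f : I → F →+* F') : Prop :=
  ∀ i t, y (Φ.sim i) t = S'.x (Φ'.sim (ν i)) (f i t) ∧
    y (Φ.neg (Φ.sim i)) t = S'.x (Φ'.neg (Φ'.sim (ν i))) (f i t)

variable {S' : St Φ' F' G'} {ν : I → I'} {f : I → F →+* F'} {φ : G →* G'}

theorem SimMap.n (h : SimMap Φ (fun r t => φ (S.x r t)) S' ν f) (i : I) (c : Fˣ) :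
    φ (S.n (Φ.sim i) c) = S'.n (Φ'.sim (ν i)) (Units.map (f i) c) := by
  have h1 := fun t => (h i t).1
  have h2 := fun t => (h i t).2
  simp only at h1 h2
  simp [St.n, h1, h2]

theorem SimMap.h (h : SimMap Φ (fun r t => φ (S.x r t)) S' ν f) (i : I) (c : Fˣ) :
    φ (S.h (Φ.sim i) c) = S'.h (Φ'.sim (ν i)) (Units.map (f i) c) := by
  rw [St.h, map_mul, h.n, h.n, St.h]
  congr 2
  ext; simp

theorem SimMap.hT_inj (h : SimMap Φ (fun r t => φ (S.x r t)) S' ν f) (hm : S.HMul) (g : F →+* F')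
    (hf : ∀ i, f i = g) {M' : Matrix I' I ℤ} (hM : Φ'.cm.submatrix ν id * M' = 1) :
    Function.Injective hm.hT := by
  have key := hm.hom_ext (φ := S'.θ.comp φ) (ψ := (Φ'.tG F').comp ((zmap F'ˣ (Φ'.cm.submatrix ν id)).comp
    (MonoidHom.compLeft (Units.map (g : F →* F')) I))) (fun i c => by
      simp only [MonoidHom.comp_apply, h.h, θ_h, hf]
      congr 1
      ext1 j
      rw [show (MonoidHom.compLeft (Units.map (g : F →* F')) I) (Pi.mulSingle i c) =
        Pi.mulSingle i (Units.map (g : F →* F') c) from by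
          ext1 k; by_cases e : k = i
          · subst e; simp
          · simp [e], zmap_mulSingle]
      rfl)
  intro a b e
  have := (key a).symm.trans ((congrArg _ e).trans (key b))
  have := zmap_inj hM (Φ'.tG_injective F' this)
  ext i
  exact g.injective (congrArg Units.val (congrFun this i))

end SimMap

theorem mem_center_iff (hG : S.Gx = ⊤) {g : G} : g ∈ Subgroup.center G ↔ S.θ g = 1 := by
  rw [θ_eq_one_iff (hG ▸ trivial), Subgroup.mem_center_iff, hG]
  exact ⟨fun h g' _ => (h g').symm, fun h g' => (h g' trivial).eq.symm⟩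

theorem eq_one_of_commute (hθ : Function.Injective S.θ) {g : G} (hg : g ∈ S.Gx)
    (h : ∀ r t, Commute g (S.x r t)) : g = 1 := by
  refine hθ (((θ_eq_one_iff hg).2 fun g' hg' => ?_).trans (map_one _).symm)
  exact Ux_induction (p := fun g' => Commute g g') (Commute.one_right g)
    (fun r _ t _ _ ih => ih.mul_right (h r t)) hg'

end St

end Abstract

section Free
variable {D : ChevalleyDatum} {K : Type*} {G : Type*} [Group G]

/-- evaluation of free words -/
def fl (y : Fin D.nroots → K → G) : FreeGroup (Fin D.nroots × K) →* G := FreeGroup.lift fun p => y p.1 p.2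

theorem fl_stX (y : Fin D.nroots → K → G) {r : ℕ} (hr : r < D.nroots) (t : K) :
    fl y (D.stX r t) = y ⟨r, hr⟩ t := by simp [fl, ChevalleyDatum.stX, hr]

theorem stX_fin (r : Fin D.nroots) (t : K) : D.stX r t = FreeGroup.of (r, t) := by
  simp [ChevalleyDatum.stX]

theorem fl_mk (rels : Set (FreeGroup (Fin D.nroots × K))) :
    fl (fun r t => PresentedGroup.mk rels (D.stX r t)) = PresentedGroup.mk rels := by
  ext p; simp [fl, stX_fin]

end Free

namespace Checked
variable {D : ChevalleyDatum} {c : Cert} (h : Checked D c) {K : Type*} [Field K] {G : Type*} [Group G]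

theorem fl_comm (y : Fin D.nroots → K → G) (r s : Fin D.nroots) (t u : K) :
    fl y (D.stWord (D.commWord K r s t u)) =
      ((h.toCD.ct r s).map fun q => y q.1 ((q.2.1 : K) * (-t) ^ q.2.2.1 * u ^ q.2.2.2)).prod := by
  have := h.prod_ct (fun r t => fl y (D.stX r t)) r s t u
  simp only [fl_stX y (Fin.is_lt _), Fin.eta] at this
  rw [this, ChevalleyDatum.stWord, map_list_prod, List.map_map]
  rfl

theorem rel_iff (y : Fin D.nroots → K → G) :
    (∀ g ∈ D.steinbergRelsAB K, fl y g = 1) ↔ h.toCD.Rel y := by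
  constructor
  · intro H
    refine ⟨fun r t u => ?_, fun r s t u h1 h2 => ?_⟩
    · have := H _ (Or.inl ⟨r, t, u, r.2, rfl⟩)
      simpa [fl_stX y r.2, mul_inv_eq_one] using this
    · have := H _ (Or.inr ⟨r, s, t, u, r.2, s.2, fun e => h1 (Fin.ext e), fun e => h2 (Fin.ext e), rfl⟩)
      simp only [map_mul, map_inv, fl_stX y (Fin.is_lt _), Fin.eta, h.fl_comm, mul_inv_eq_one] at this
      rw [← this]; group
  · rintro H g (⟨r, t, u, hr, rfl⟩ | ⟨r, s, t, u, hr, hs, h1, h2, rfl⟩)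
    · simp [fl_stX y hr, H.add]
    · have := h.fl_comm y ⟨r, hr⟩ ⟨s, hs⟩ t u
      simp only [map_mul, map_inv, fl_stX y hr, fl_stX y hs, this, mul_inv_eq_one]
      have := H.comm ⟨r, hr⟩ ⟨s, hs⟩ t u (fun e => h1 (congrArg Fin.val e)) (fun e => h2 (congrArg Fin.val e))
      rw [mul_assoc _ (y _ u), this]; group

theorem fl_stH (S : St h.toCD K G) (r : Fin D.nroots) (t : Kˣ) : fl S.x (D.stH r t) = S.h r t := by
  have e : ∀ t : K, fl S.x (D.stX (D.neg r) t) = S.x (h.toCD.neg r) t := fun t => fl_stX _ (h.neg_lt r.2) t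
  simp [ChevalleyDatum.stH, ChevalleyDatum.stWord, ChevalleyDatum.hWord, ChevalleyDatum.nWord,
    fl_stX _ r.2, e, St.h, St.n, mul_assoc]

theorem fl_rels {S : St h.toCD K G} (hm : S.HMul) : ∀ g ∈ D.steinbergRels K, fl S.x g = 1 := by
  rintro g (hg | ⟨r, t, u, hr, ht, hu, rfl⟩)
  · exact (h.rel_iff _).2 S.rel g hg
  · have h1 := h.fl_stH S ⟨r, hr⟩ (Units.mk0 t ht)
    have h2 := h.fl_stH S ⟨r, hr⟩ (Units.mk0 u hu)
    have h3 := h.fl_stH S ⟨r, hr⟩ (Units.mk0 t ht * Units.mk0 u hu)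
    simp only [Units.val_mk0, Units.val_mul] at h1 h2 h3
    simp only [map_mul, map_inv, h1, h2, h3, hm.all, mul_inv_cancel]

/-- a presented group as a group with root elements -/
noncomputable def pst (rels : Set (FreeGroup (Fin D.nroots × K))) (h1 : D.steinbergRelsAB K ⊆ rels)
    (h2 : ∀ g ∈ rels, fl (h.st K).x g = 1) : St h.toCD K (PresentedGroup rels) where
  ad := h.toAdj K
  x r t := PresentedGroup.mk rels (D.stX r t)
  add := ((h.rel_iff _).1 fun g hg => by rw [fl_mk]; exact PresentedGroup.one_of_mem (h1 hg)).add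
  comm := ((h.rel_iff _).1 fun g hg => by rw [fl_mk]; exact PresentedGroup.one_of_mem (h1 hg)).comm
  θ := PresentedGroup.toGroup h2
  θ_x r t := by rw [stX_fin]; exact congrArg Units.val (PresentedGroup.toGroup.of h2)

theorem pst_Gx {rels : Set (FreeGroup (Fin D.nroots × K))} (h1 : D.steinbergRelsAB K ⊆ rels)
    (h2 : ∀ g ∈ rels, fl (h.st K).x g = 1) : (h.pst rels h1 h2).Gx = ⊤ := by
  rw [eq_top_iff, ← PresentedGroup.closure_range_of, Subgroup.closure_le]
  rintro _ ⟨⟨r, t⟩, rfl⟩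
  have := St.x_mem_Gx (S := h.pst rels h1 h2) r t
  rwa [show (h.pst rels h1 h2).x r t = PresentedGroup.mk rels (D.stX r t) from rfl, stX_fin] at this

variable (K) in
/-- the group presented by the first two families of relations -/
noncomputable def cov : St h.toCD K (D.SteinbergCover K) :=
  h.pst _ subset_rfl ((h.rel_iff _).2 (h.st K).rel)

variable (K) in
/-- the group presented by all the relations -/
noncomputable def uni : St h.toCD K (D.SteinbergGroup K) :=
  h.pst _ Set.subset_union_left (h.fl_rels (St.hMul_of_inj h.st_inj))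

theorem cov_Gx : (h.cov K).Gx = ⊤ := h.pst_Gx _ _
theorem uni_Gx : (h.uni K).Gx = ⊤ := h.pst_Gx _ _
theorem cov_ad : (h.cov K).ad = h.toAdj K := rfl
theorem uni_ad : (h.uni K).ad = h.toAdj K := rfl
theorem cov_x (r : Fin D.nroots) (t : K) : (h.cov K).x r t = D.scGen K r t := rfl
theorem uni_x (r : Fin D.nroots) (t : K) : (h.uni K).x r t = D.stGen K r t := rfl

theorem uni_h (r : Fin D.nroots) (t : Kˣ) :
    (h.uni K).h r t = PresentedGroup.mk (D.steinbergRels K) (D.stH r t) := by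
  rw [← h.fl_stH, ← fl_mk]; rfl

theorem uni_hMul : (h.uni K).HMul := fun i t u => by
  rw [uni_h, uni_h, uni_h, ← mul_inv_eq_one, ← map_inv, ← map_mul, ← map_mul]
  exact PresentedGroup.one_of_mem (Or.inr ⟨_, t, u, (h.toCD.sim i).2, t.ne_zero, u.ne_zero, rfl⟩)

theorem cov_lift {y : Fin D.nroots → K → G} (hy : h.toCD.Rel y) :
    ∃ φ : D.SteinbergCover K →* G, ∀ r t, φ ((h.cov K).x r t) = y r t :=
  ⟨PresentedGroup.toGroup ((h.rel_iff y).2 hy), fun r t => by
    rw [cov_x, ChevalleyDatum.scGen, stX_fin]; exact PresentedGroup.toGroup.of _⟩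

theorem uni_lift {y : Fin D.nroots → K → G} (hy : h.toCD.Rel y)
    (hm : ∀ (r : Fin D.nroots) (t u : K), t ≠ 0 → u ≠ 0 →
      fl y (D.stH r t) * fl y (D.stH r u) = fl y (D.stH r (t * u))) :
    ∃ φ : D.SteinbergGroup K →* G, ∀ r t, φ ((h.uni K).x r t) = y r t := by
  have H : ∀ g ∈ D.steinbergRels K, fl y g = 1 := by
    rintro g (hg | ⟨r, t, u, hr, ht, hu, rfl⟩)
    · exact (h.rel_iff _).2 hy g hg
    · simp only [map_mul, map_inv, hm ⟨r, hr⟩ t u ht hu, mul_inv_cancel]
  exact ⟨PresentedGroup.toGroup H, fun r t => by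
    rw [uni_x, ChevalleyDatum.stGen, stX_fin]; exact PresentedGroup.toGroup.of _⟩

theorem uni_lift' {I' R' : Type} [Fintype I'] [DecidableEq I'] [Fintype R'] [DecidableEq R'] {Φ' : CD I' R'}
    {F' : Type*} [Field F'] {S' : St Φ' F' G} (hm : S'.HMul) {y : Fin D.nroots → K → G} (hy : h.toCD.Rel y)
    {ν : Fin D.rank → I'} {f : Fin D.rank → K →+* F'} (hs : St.SimMap h.toCD y S' ν f) :
    ∃ φ : D.SteinbergGroup K →* G, ∀ r t, φ ((h.uni K).x r t) = y r t := by
  obtain ⟨ψ, hψ⟩ := h.cov_lift hy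
  have e : fl y = ψ.comp (fl (h.cov K).x) := by ext p; simp [fl, hψ]
  have hs' : St.SimMap h.toCD (fun r t => ψ ((h.cov K).x r t)) S' ν f := by simpa only [hψ] using hs
  refine h.uni_lift hy fun r t u ht hu => ?_
  have := St.hmul_map ψ (fun i c d => by rw [hs'.h, hs'.h, hs'.h, hm, map_mul]) r (Units.mk0 t ht)
    (Units.mk0 u hu)
  simp only [← h.fl_stH] at this
  rw [e]; exact this

variable (K) in
/-- the Chevalley group itself -/
noncomputable def adj : St h.toCD K (D.group K) where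
  ad := h.toAdj K
  x r t := ⟨(h.st K).x r t, h.group_eq (F := K) ▸ St.x_mem_Gx r t⟩
  add r t u := Subtype.ext ((h.st K).add r t u)
  comm r s t u h1 h2 := by
    apply Subtype.ext
    simp only [Subgroup.coe_mul, (h.st K).comm r s t u h1 h2, SubmonoidClass.coe_list_prod, List.map_map]
    rfl
  θ := (D.group K).subtype
  θ_x _ _ := rfl

theorem adj_x (r : Fin D.nroots) (t : K) : (D.group K).subtype ((h.adj K).x r t) = (h.st K).x r t := rfl

theorem adj_val (r : Fin D.nroots) (t : K) :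
    (((h.adj K).x r t : GL D.Idx K) : Matrix D.Idx D.Idx K) = D.x K r t := rfl

theorem adj_inj : Function.Injective (h.adj K).θ := Subtype.val_injective

theorem eq_adj_x {g : D.group K} {r : ℕ} (hr : r < D.nroots) {t : K} :
    ((g : GL D.Idx K) : Matrix D.Idx D.Idx K) = D.x K r t ↔ g = (h.adj K).x ⟨r, hr⟩ t :=
  ⟨fun e => Subtype.ext (Units.ext e), fun e => e ▸ rfl⟩

omit h in
theorem eq_subgroupOf' {H : Subgroup G} {A : Subgroup H} {A' : Subgroup G} (e : A.map H.subtype = A') :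
    A = A'.subgroupOf H := by
  rw [← e, Subgroup.subgroupOf, Subgroup.comap_map_eq_self_of_injective H.subtype_injective]

theorem adj_Ux (A : Set (Fin D.nroots)) : (h.adj K).Ux A = ((h.st K).Ux A).subgroupOf (D.group K) :=
  eq_subgroupOf' (St.map_Ux h.adj_x A)
theorem adj_Gx : (h.adj K).Gx = ⊤ := by
  rw [St.Gx, adj_Ux, Subgroup.subgroupOf_eq_top, h.group_eq]; rfl
theorem adj_U : (h.adj K).U = (D.posUnipotent K).subgroupOf (D.group K) := by rw [h.U_eq]; exact h.adj_Ux _
theorem adj_V : (h.adj K).V = (D.negUnipotent K).subgroupOf (D.group K) := by rw [h.V_eq]; exact h.adj_Ux _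
theorem adj_H : (h.adj K).H = (D.diagonalSubgroup K).subgroupOf (D.group K) :=
  eq_subgroupOf' ((St.map_H h.adj_x).trans h.H_eq.symm)
theorem adj_N : (h.adj K).N = (D.monomialSubgroup K).subgroupOf (D.group K) :=
  eq_subgroupOf' ((St.map_N h.adj_x).trans h.N_eq.symm)
theorem adj_B : (h.adj K).B = (D.borelSubgroup K).subgroupOf (D.group K) :=
  eq_subgroupOf' ((St.map_B h.adj_x).trans h.B_eq.symm)

/-- the projection onto the Chevalley group -/
noncomputable def proj {S : St h.toCD K G} (hG : S.Gx = ⊤) (had : S.ad = h.toAdj K) : G →* D.group K :=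
  S.θ.codRestrict _ fun g => by
    have : S.Gx.map S.θ = (h.st K).Gx := St.map_Ux (fun r t => Units.ext (by rw [S.θ_x, had]; rfl)) _
    rw [h.group_eq, ← this, hG]
    exact ⟨g, trivial, rfl⟩

theorem proj_x {S : St h.toCD K G} (hG : S.Gx = ⊤) (had : S.ad = h.toAdj K) (r : Fin D.nroots) (t : K) :
    h.proj hG had (S.x r t) = (h.adj K).x r t := Subtype.ext (Units.ext (by
      have := S.θ_x r t
      rw [had] at this
      exact this))

theorem proj_surj {S : St h.toCD K G} (hG : S.Gx = ⊤) (had : S.ad = h.toAdj K) :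
    Function.Surjective (h.proj hG had) := by
  rw [← MonoidHom.range_eq_top, MonoidHom.range_eq_map, ← hG, ← h.adj_Gx]
  exact St.map_Ux (h.proj_x hG had) _

theorem proj_ker {S : St h.toCD K G} (hG : S.Gx = ⊤) (had : S.ad = h.toAdj K) :
    (h.proj hG had).ker = Subgroup.center G := by
  ext g
  rw [St.mem_center_iff hG, MonoidHom.mem_ker, Subtype.ext_iff]
  rfl

/-- homomorphisms from the Chevalley group -/
theorem adj_lift {y : Fin D.nroots → K → G} (hy : h.toCD.Rel y)
    (hc : ∀ g ∈ Subgroup.closure {g | ∃ r t, g = y r t}, (∀ r t, Commute g (y r t)) → g = 1) :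
    ∃ φ : D.group K →* G, ∀ r t, φ ((h.adj K).x r t) = y r t := by
  obtain ⟨ψ, hψ⟩ := h.cov_lift hy
  have hk : (h.proj h.cov_Gx h.cov_ad).ker ≤ ψ.ker := by
    intro g hg
    rw [proj_ker] at hg
    refine hc _ ?_ fun r t => ?_
    · have : (h.cov K).Gx ≤ (Subgroup.closure {g | ∃ r t, g = y r t}).comap ψ :=
        St.Ux_le.2 fun r _ t => Subgroup.subset_closure ⟨r, t, hψ r t⟩
      exact this (h.cov_Gx (K := K) ▸ trivial)
    · rw [← hψ]
      exact (show Commute g _ from (Subgroup.mem_center_iff.1 hg _).symm).map ψ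
  refine ⟨(h.proj h.cov_Gx h.cov_ad).liftOfSurjective (h.proj_surj _ _) ⟨ψ, hk⟩, fun r t => ?_⟩
  rw [← h.proj_x h.cov_Gx h.cov_ad, MonoidHom.liftOfRightInverse_comp_apply]
  exact hψ r t

/-- endomorphisms of the Chevalley group -/
theorem adj_endo {y : Fin D.nroots → K → D.group K} (hy : h.toCD.Rel y)
    (hs : ∀ r t, ∃ r' t', y r' t' = (h.adj K).x r t) :
    ∃ φ : D.group K →* D.group K, ∀ r t, φ ((h.adj K).x r t) = y r t :=
  h.adj_lift hy fun g _ hg => St.eq_one_of_commute h.adj_inj (h.adj_Gx (K := K) ▸ trivial) fun r t => by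
    obtain ⟨r', t', e⟩ := hs r t
    exact e ▸ hg r' t'

end Checked

end Cfsg.Agent.Chev
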