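import Mathlib
import Cfsg.Prelude.Def_ChevStructure

set_option autoImplicit false

/-! Action of the root elements on the basis, a symbolic evaluator for words in root elements, and
symmetries of the tables. -/

namespace Cfsg.Agent.Chev

open Cfsg.Lie Matrix

section Basic
variable (D : ChevalleyDatum)

/-- coroot coordinates -/
def cvN (r i : ℕ) : ℤ := (D.coroot.getD r #[]).getD i 0

/-- numbering of the basis -/
def enc : D.Idx → ℕ := Sum.elim (fun i => i.val) (fun r => D.rank + r.val)

theorem enc_inj : Function.Injective (enc D) := by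
  rintro (a | a) (b | b) h <;> simp only [enc, Sum.elim_inl, Sum.elim_inr] at h
  · rw [Fin.ext h]
  · have := a.2; omega
  · have := b.2; omega
  · rw [Fin.ext (show a.val = b.val by omega)]

theorem enc_lt (c : D.Idx) : enc D c < D.rank + D.nroots := by
  rcases c with a | a <;> simp only [enc, Sum.elim_inl, Sum.elim_inr] <;> have := a.2 <;> omega

/-- basis vectors -/
def bas (F : Type*) [Field F] (k : ℕ) : D.Idx → F := fun row => if enc D row = k then 1 else 0

variable {F : Type*} [Field F]

theorem bas_enc (c : D.Idx) : bas D F (enc D c) = Pi.single c 1 := by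
  ext row
  simp [bas, Pi.single_apply, (enc_inj D).eq_iff]

theorem bas_eq_zero {k : ℕ} (h : D.rank + D.nroots ≤ k) : bas D F k = 0 := by
  ext row
  have := enc_lt D row
  simp [bas]; omega

theorem mulVec_bas_enc (M : Matrix D.Idx D.Idx F) (c row : D.Idx) :
    (M *ᵥ bas D F (enc D c)) row = M row c := by
  rw [bas_enc]; simp

theorem ext_bas {M M' : Matrix D.Idx D.Idx F}
    (h : ∀ k < D.rank + D.nroots, M *ᵥ bas D F k = M' *ᵥ bas D F k) : M = M' := by
  ext row c
  rw [← mulVec_bas_enc D M c row, ← mulVec_bas_enc D M' c row, h _ (enc_lt D c)]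

theorem bas_inl (k : ℕ) (i : Fin D.rank) : bas D F k (.inl i) = if i.val = k then 1 else 0 := rfl
theorem bas_inr (k : ℕ) (r : Fin D.nroots) :
    bas D F k (.inr r) = if D.rank + r.val = k then 1 else 0 := rfl

/-- the keys of the chain table are distinct -/
def KeysNodup : Prop := ∀ r < D.nroots, ((D.chain.getD r #[]).toList.map Prod.fst).Nodup

theorem filter_key_eq {β : Type*} (L : List (ℕ × β)) (h : (L.map Prod.fst).Nodup) (s : ℕ) :
    L.filter (fun e => e.1 = s) = (L.find? (fun e => e.1 = s)).toList := by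
  induction L with
  | nil => simp
  | cons e L ih =>
    rw [List.map_cons, List.nodup_cons] at h
    by_cases he : e.1 = s
    · rw [List.filter_cons_of_pos (by simpa using he), List.find?_cons_of_pos (by simpa using he)]
      simp only [Option.toList_some, List.cons.injEq, true_and, List.filter_eq_nil_iff]
      intro a ha h2
      exact h.1 (List.mem_map.2 ⟨a, ha, by simpa [he] using h2⟩)
    · rw [List.filter_cons_of_neg (by simpa using he), List.find?_cons_of_neg (by simpa using he)]
      exact ih h.2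

theorem chainCoeff_eq (hk : KeysNodup D) {r : ℕ} (hr : r < D.nroots) (s u : ℕ) :
    D.chainCoeff r s u = (((D.chainEntry r s).zipIdx).filter (fun q => q.1.1 = u)).map
      fun q => (q.2 + 1, q.1.2) := by
  unfold ChevalleyDatum.chainCoeff ChevalleyDatum.chainEntry
  rw [filter_key_eq _ (hk r hr)]
  cases (D.chain.getD r #[]).toList.find? (fun e => e.1 = s) <;> simp

theorem x_bas_h {r j : ℕ} (hr : r < D.nroots) (hj : j < D.rank) (t : F) :
    D.x F r t *ᵥ bas D F j = bas D F j - ((D.cartan j r : F) * t) • bas D F (D.rank + r) := by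
  ext row
  have := mulVec_bas_enc D (D.x F r t) (.inl ⟨j, hj⟩) row
  rw [show enc D (.inl ⟨j, hj⟩) = j from rfl] at this
  rw [this]
  simp only [ChevalleyDatum.x, hr, dif_pos, ChevalleyDatum.xMat, Matrix.of_apply]
  rcases row with i | u
  · have := i.2
    simp [bas_inl, Fin.ext_iff, show ¬ (i.val = D.rank + r) by omega]
  · simp only [Pi.sub_apply, Pi.smul_apply, bas_inr, Fin.ext_iff, ChevalleyDatum.cartan,
      show ¬ (D.rank + u.val = j) by omega, add_right_inj, if_false]
    split_ifs <;> simp

theorem x_bas_self {r : ℕ} (hr : r < D.nroots) (t : F) :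
    D.x F r t *ᵥ bas D F (D.rank + r) = bas D F (D.rank + r) := by
  ext row
  have := mulVec_bas_enc D (D.x F r t) (.inr ⟨r, hr⟩) row
  rw [show enc D (.inr ⟨r, hr⟩) = D.rank + r from rfl] at this
  rw [this]
  simp only [ChevalleyDatum.x, hr, dif_pos, ChevalleyDatum.xMat, Matrix.of_apply, if_true]
  rcases row with i | u
  · have := i.2
    simp [bas_inl, show ¬ (i.val = D.rank + r) by omega]
  · simp [bas_inr, Fin.ext_iff]

theorem x_bas_neg {r : ℕ} (hr : r < D.nroots) (hn : D.neg r < D.nroots) (hne : D.neg r ≠ r) (t : F) :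
    D.x F r t *ᵥ bas D F (D.rank + D.neg r) = bas D F (D.rank + D.neg r) -
      t ^ 2 • bas D F (D.rank + r) +
      ∑ i ∈ Finset.range D.rank, ((cvN D r i : F) * t) • bas D F i := by
  ext row
  have := mulVec_bas_enc D (D.x F r t) (.inr ⟨_, hn⟩) row
  rw [show enc D (.inr ⟨_, hn⟩) = D.rank + D.neg r from rfl] at this
  rw [this]
  have h1 : ¬ ((⟨D.neg r, hn⟩ : Fin D.nroots) = ⟨r, hr⟩) := by simpa using hne
  have h3 : (D.neg r = D.negIdx.getD r 0) = True := eq_true rfl
  simp only [ChevalleyDatum.x, hr, dif_pos, ChevalleyDatum.xMat, Matrix.of_apply, h1, if_false,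
    h3, if_true]
  rcases row with i | u
  · have := i.2
    simp [bas_inl, show ¬ (i.val = D.rank + r) by omega, show ¬ (i.val = D.rank + D.neg r) by omega,
      Finset.sum_apply, cvN]
  · have : ∀ i ∈ Finset.range D.rank, ¬ (D.rank + u.val = i) := by
      intro i hi; simp at hi; omega
    simp only [Pi.add_apply, Pi.sub_apply, Pi.smul_apply, bas_inr, Fin.ext_iff, add_right_inj,
      Finset.sum_apply]
    rw [Finset.sum_eq_zero (fun i hi => by simp [this i hi])]
    by_cases h2 : u.val = D.neg r
    · simp [h2, hne]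
    · simp only [h2, if_false]; split_ifs <;> simp

theorem x_bas_chain (hk : KeysNodup D) {r s : ℕ} (hr : r < D.nroots) (hs : s < D.nroots)
    (h1 : s ≠ r) (h2 : s ≠ D.neg r) (t : F) :
    D.x F r t *ᵥ bas D F (D.rank + s) = bas D F (D.rank + s) +
      ((D.chainEntry r s).zipIdx.map fun q =>
        ((q.1.2 : F) * t ^ (q.2 + 1)) • bas D F (D.rank + q.1.1)).sum := by
  ext row
  have := mulVec_bas_enc D (D.x F r t) (.inr ⟨_, hs⟩) row
  rw [show enc D (.inr ⟨_, hs⟩) = D.rank + s from rfl] at this
  rw [this]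
  have h1' : ¬ ((⟨s, hs⟩ : Fin D.nroots) = ⟨r, hr⟩) := by simpa using h1
  have h2' : ¬ (s = D.negIdx.getD r 0) := h2
  simp only [ChevalleyDatum.x, hr, dif_pos, ChevalleyDatum.xMat, Matrix.of_apply, h1', h2', if_false]
  rw [Pi.add_apply]
  rcases row with i | u
  · have := i.2
    simp only [bas_inl, show ¬ (i.val = D.rank + s) by omega, if_false, zero_add]
    generalize (D.chainEntry r s).zipIdx = L
    induction L with
    | nil => simp
    | cons q L ih =>
      simp [← ih, bas_inl, show ¬ (i.val = D.rank + q.1.1) by omega]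
  · simp only [bas_inr, Fin.ext_iff, add_right_inj, chainCoeff_eq D hk hr]
    generalize (D.chainEntry r s).zipIdx = L
    induction L with
    | nil => simp
    | cons q L ih =>
      by_cases hq : q.1.1 = u.val
      · rw [List.filter_cons_of_pos (by simpa using hq)]
        simp only [List.map_cons, List.sum_cons, Pi.add_apply, Pi.smul_apply, bas_inr, hq, if_true]
        rw [ih]; simp
      · rw [List.filter_cons_of_neg (by simpa using hq)]
        simp only [List.map_cons, List.sum_cons, Pi.add_apply, Pi.smul_apply, bas_inr, add_right_inj]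
        rw [ih, if_neg (fun h => hq h.symm)]; simp

/-- the terms `(row, coefficient, power of t)` of `x_r(t)` applied to the `k`-th basis vector -/
def colG (l n : ℕ) (ng : ℕ → ℕ) (ca cv : ℕ → ℕ → ℤ) (ce : ℕ → ℕ → List (ℕ × ℤ)) (r k : ℕ) :
    List (ℕ × ℤ × ℕ) :=
  if n ≤ r then [(k, 1, 0)]
  else if k < l then [(k, 1, 0), (l + r, - ca k r, 1)]
  else if n ≤ k - l then []
  else if k - l = r then [(k, 1, 0)]
  else if k - l = ng r then
    (k, 1, 0) :: (l + r, -1, 2) :: (List.range l).map fun i => (i, cv r i, 1)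
  else (k, 1, 0) :: (ce r (k - l)).zipIdx.map fun q => (l + q.1.1, q.1.2, q.2 + 1)

theorem x_bas (hk : KeysNodup D) (ng : ℕ → ℕ) (ca cv : ℕ → ℕ → ℤ) (ce : ℕ → ℕ → List (ℕ × ℤ))
    (hng : ∀ r < D.nroots, D.neg r = ng r)
    (hca : ∀ i < D.rank, ∀ r < D.nroots, D.cartan i r = ca i r)
    (hcv : ∀ r < D.nroots, ∀ i < D.rank, cvN D r i = cv r i)
    (hce : ∀ r < D.nroots, ∀ s < D.nroots, D.chainEntry r s = ce r s) (r k : ℕ) (t : F) :
    D.x F r t *ᵥ bas D F k =
      ((colG D.rank D.nroots ng ca cv ce r k).map fun q =>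
        ((q.2.1 : F) * t ^ q.2.2) • bas D F q.1).sum := by
  unfold colG
  split_ifs with h1 h2 h3 h4 h5
  · simp [ChevalleyDatum.x, show ¬ r < D.nroots by omega]
  · rw [x_bas_h D (by omega) h2, hca k h2 r (by omega)]; simp [sub_eq_add_neg]
  · rw [bas_eq_zero D (by omega)]; simp
  · obtain rfl : k = D.rank + r := by omega
    rw [x_bas_self D (by omega)]; simp
  · rw [← hng r (by omega)] at h5
    obtain rfl : k = D.rank + D.neg r := by omega
    rw [x_bas_neg D (by omega) (by omega) (by omega)]
    simp only [List.map_cons, List.sum_cons, List.map_map, Int.cast_one, pow_zero, mul_one,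
      one_smul, Int.cast_neg, neg_mul, one_mul, neg_smul, sub_eq_add_neg, add_assoc]
    congr 2
    rw [← List.sum_toFinset _ List.nodup_range, List.toFinset_range]
    refine Finset.sum_congr rfl fun i hi => ?_
    simp [hcv r (by omega) i (Finset.mem_range.1 hi)]
  · rw [← hng r (by omega)] at h5
    obtain ⟨s, rfl⟩ : ∃ s, k = D.rank + s := ⟨k - D.rank, by omega⟩
    simp only [add_tsub_cancel_left] at *
    rw [x_bas_chain D hk (by omega) (by omega) h4 h5, hce r (by omega) s (by omega)]
    simp [Function.comp_def]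

end Basic

/-! ### the symbolic evaluator -/

/-- polynomials in two variables as lists of monomials -/
abbrev Pol := List (ℤ × ℕ × ℕ)

/-- vectors with polynomial coefficients -/
abbrev PVec := List (ℕ × ℤ × ℕ × ℕ)

def pmul (P Q : Pol) : Pol :=
  P.flatMap fun a => Q.map fun b => (a.1 * b.1, a.2.1 + b.2.1, a.2.2 + b.2.2)

def ppow (P : Pol) : ℕ → Pol
  | 0 => [(1, 0, 0)]
  | e + 1 => pmul P (ppow P e)

def applyX (col : ℕ → ℕ → List (ℕ × ℤ × ℕ)) (r : ℕ) (P : Pol) (v : PVec) : PVec :=
  (v.flatMap fun a => (col r a.1).flatMap fun b => (ppow P b.2.2).map fun c =>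
    (b.1, a.2.1 * b.2.1 * c.1, a.2.2.1 + c.2.1, a.2.2.2 + c.2.2)).filter fun a => a.2.1 != 0

def applyW (col : ℕ → ℕ → List (ℕ × ℤ × ℕ)) (w : List (ℕ × Pol)) (v : PVec) : PVec :=
  w.foldr (fun p v => applyX col p.1 p.2 v) v

def sameKey (a b : ℕ × ℤ × ℕ × ℕ) : Bool :=
  Nat.beq a.1 b.1 && Nat.beq a.2.2.1 b.2.2.1 && Nat.beq a.2.2.2 b.2.2.2

def isZeroF : ℕ → PVec → Bool
  | _, [] => true
  | 0, _ :: _ => false
  | f + 1, a :: v => (a.2.1 + ((v.filter (sameKey a)).map fun b => b.2.1).sum == 0) &&
      isZeroF f (v.filter fun b => !sameKey a b)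

def vneg (v : PVec) : PVec := v.map fun a => (a.1, -a.2.1, a.2.2)

def vecEq (v v' : PVec) : Bool := isZeroF 1000 (v ++ vneg v')

section Sound
variable (D : ChevalleyDatum) {F : Type*} [Field F] (t u : F)

def pev (P : Pol) : F := (P.map fun a => (a.1 : F) * t ^ a.2.1 * u ^ a.2.2).sum

def vev (v : PVec) : D.Idx → F :=
  (v.map fun a => ((a.2.1 : F) * t ^ a.2.2.1 * u ^ a.2.2.2) • bas D F a.1).sum

@[simp] theorem vev_nil : vev D t u [] = 0 := rfl
theorem vev_cons (a) (v : PVec) : vev D t u (a :: v) =
    ((a.2.1 : F) * t ^ a.2.2.1 * u ^ a.2.2.2) • bas D F a.1 + vev D t u v := by simp [vev]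
theorem vev_append (v v' : PVec) : vev D t u (v ++ v') = vev D t u v + vev D t u v' := by simp [vev]

theorem pev_pmul (P Q : Pol) : pev t u (pmul P Q) = pev t u P * pev t u Q := by
  induction P with
  | nil => simp [pmul, pev]
  | cons a P ih =>
    have : pmul (a :: P) Q = (Q.map fun b => (a.1 * b.1, a.2.1 + b.2.1, a.2.2 + b.2.2)) ++ pmul P Q := by
      simp [pmul]
    rw [this]
    simp only [pev, List.map_append, List.sum_append, List.map_cons, List.sum_cons, add_mul] at ih ⊢
    rw [ih]
    congr 1
    rw [← List.sum_map_mul_left, List.map_map]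
    congr 1
    apply List.map_congr_left
    intro b _
    simp [pow_add]; ring

theorem pev_ppow (P : Pol) (e : ℕ) : pev t u (ppow P e) = pev t u P ^ e := by
  induction e with
  | zero => simp [ppow, pev]
  | succ e ih => rw [ppow, pev_pmul, ih, pow_succ']

theorem vev_filter_ne (v : PVec) : vev D t u (v.filter fun a => a.2.1 != 0) = vev D t u v := by
  induction v with
  | nil => rfl
  | cons a v ih =>
    by_cases h : a.2.1 = 0
    · rw [List.filter_cons_of_neg (by simpa using h), ih, vev_cons, h]; simp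
    · rw [List.filter_cons_of_pos (by simpa using h), vev_cons, vev_cons, ih]

theorem vev_applyX (col : ℕ → ℕ → List (ℕ × ℤ × ℕ))
    (hcol : ∀ r k (t : F), D.x F r t *ᵥ bas D F k =
      ((col r k).map fun q => ((q.2.1 : F) * t ^ q.2.2) • bas D F q.1).sum)
    (r : ℕ) (P : Pol) (v : PVec) :
    vev D t u (applyX col r P v) = D.x F r (pev t u P) *ᵥ vev D t u v := by
  rw [applyX, vev_filter_ne]
  induction v with
  | nil => simp
  | cons a v ih =>
    rw [List.flatMap_cons, vev_append, ih, vev_cons, Matrix.mulVec_add, Matrix.mulVec_smul, hcol]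
    congr 1
    generalize col r a.1 = L
    induction L with
    | nil => simp
    | cons b L ihL =>
      rw [List.flatMap_cons, vev_append, ihL, List.map_cons, List.sum_cons, smul_add]
      congr 1
      rw [← pev_ppow]
      generalize ppow P b.2.2 = Q
      induction Q with
      | nil => simp [pev]
      | cons c Q ihQ =>
        rw [List.map_cons, vev_cons, ihQ]
        simp only [pev, List.map_cons, List.sum_cons, smul_smul, ← add_smul]
        congr 1
        simp [pow_add]; ring

theorem vev_applyW (col : ℕ → ℕ → List (ℕ × ℤ × ℕ))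
    (hcol : ∀ r k (t : F), D.x F r t *ᵥ bas D F k =
      ((col r k).map fun q => ((q.2.1 : F) * t ^ q.2.2) • bas D F q.1).sum)
    (w : List (ℕ × Pol)) (v : PVec) :
    vev D t u (applyW col w v) =
      D.wordMat F (w.map fun p => (p.1, pev t u p.2)) *ᵥ vev D t u v := by
  induction w with
  | nil => simp [applyW, ChevalleyDatum.wordMat]
  | cons p w ih =>
    have : applyW col (p :: w) v = applyX col p.1 p.2 (applyW col w v) := rfl
    rw [this, vev_applyX D t u col hcol, ih, Matrix.mulVec_mulVec]
    simp [ChevalleyDatum.wordMat]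

theorem vev_of_isZeroF (f : ℕ) (v : PVec) (h : isZeroF f v = true) : vev D t u v = 0 := by
  induction f generalizing v with
  | zero => cases v with
    | nil => rfl
    | cons a v => simp [isZeroF] at h
  | succ f ih => cases v with
    | nil => rfl
    | cons a v =>
      simp only [isZeroF, Bool.and_eq_true, beq_iff_eq] at h
      have h2 := ih _ h.2
      have key : ∀ v : PVec, vev D t u v =
          (((((v.filter (sameKey a)).map fun b => b.2.1).sum : ℤ) : F) * t ^ a.2.2.1 * u ^ a.2.2.2) •
            bas D F a.1 + vev D t u (v.filter fun b => !sameKey a b) := by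
        intro v
        induction v with
        | nil => simp
        | cons b v ihv =>
          by_cases hb : sameKey a b = true
          · rw [List.filter_cons_of_pos hb, List.filter_cons_of_neg (by simpa using hb), vev_cons, ihv]
            simp only [sameKey, Bool.and_eq_true, Nat.beq_eq] at hb
            rw [← hb.1.1, ← hb.1.2, ← hb.2, ← add_assoc, ← add_smul]
            simp [add_mul]
          · rw [List.filter_cons_of_neg hb, List.filter_cons_of_pos (by simpa using hb), vev_cons,
              vev_cons, ihv]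
            abel
      rw [vev_cons, key v, h2, add_zero, ← add_smul, ← add_mul, ← add_mul, ← Int.cast_add, h.1]
      simp

theorem vev_vneg (v : PVec) : vev D t u (vneg v) = - vev D t u v := by
  induction v with
  | nil => simp [vneg]
  | cons a v ih =>
    have : vneg (a :: v) = (a.1, -a.2.1, a.2.2) :: vneg v := rfl
    rw [this, vev_cons, vev_cons, ih]; simp [add_comm]

theorem vev_eq_of_vecEq {v v' : PVec} (h : vecEq v v' = true) : vev D t u v = vev D t u v' := by
  have := vev_of_isZeroF D t u _ _ h
  rw [vev_append, vev_vneg] at this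
  exact add_neg_eq_zero.1 this

theorem vev_single (k : ℕ) : vev D t u [(k, 1, 0, 0)] = bas D F k := by simp [vev]

end Sound

/-! ### symmetries of the tables -/

/-- transform of a chain entry under a signed permutation of the roots -/
def trL (w : ℕ → ℕ) (η : ℕ → ℤ) (er : ℤ) : ℤ → List (ℕ × ℤ) → List (ℕ × ℤ)
  | _, [] => []
  | acc, p :: L => (w p.1, p.2 * η p.1 * (acc * er)) :: trL w η er (acc * er) L

/-- a signed permutation of the roots together with a linear map of the coroot space which preserves
all the tables -/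
structure TabSym (D : ChevalleyDatum) (π : ℕ → ℕ) (ε : ℕ → ℤ) (ω : ℕ → ℕ → ℤ) : Prop where
  lt : ∀ r < D.nroots, π r < D.nroots
  inj : ∀ r < D.nroots, ∀ s < D.nroots, π r = π s → r = s
  neg : ∀ r < D.nroots, π (D.neg r) = D.neg (π r)
  sq : ∀ r < D.nroots, ε r * ε r = 1
  eneg : ∀ r < D.nroots, ε (D.neg r) = ε r
  hcol : ∀ j < D.rank, ∀ s < D.nroots,
    D.cartan j s = ∑ k ∈ Finset.range D.rank, ω k j * D.cartan k (π s)
  ncol : ∀ k < D.rank, ∀ s < D.nroots,
    ∑ i ∈ Finset.range D.rank, ω k i * cvN D s i = cvN D (π s) k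
  chain : ∀ r < D.nroots, ∀ s < D.nroots,
    D.chainEntry (π r) (π s) = trL π ε (ε r) (ε s) (D.chainEntry r s)

/-- elementary sanity conditions -/
structure TabOK (D : ChevalleyDatum) : Prop where
  keys : KeysNodup D
  neg_lt : ∀ r < D.nroots, D.neg r < D.nroots
  neg_ne : ∀ r < D.nroots, D.neg r ≠ r
  neg_neg : ∀ r < D.nroots, D.neg (D.neg r) = r
  tgt_lt : ∀ r < D.nroots, ∀ s < D.nroots, ∀ p ∈ D.chainEntry r s, p.1 < D.nroots

/-- the matrix of a signed permutation of the roots -/
def symMat (D : ChevalleyDatum) (F : Type*) [Field F] (π : ℕ → ℕ) (ε : ℕ → ℤ) (ω : ℕ → ℕ → ℤ) :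
    Matrix D.Idx D.Idx F :=
  Matrix.of fun row col =>
    Sum.elim
      (fun j' : Fin D.rank => Sum.elim (fun j : Fin D.rank => (ω j' j : F)) (fun _ => (0 : F)) col)
      (fun s' : Fin D.nroots => Sum.elim (fun _ => (0 : F))
        (fun s : Fin D.nroots => if (s' : ℕ) = π s then (ε s : F) else 0) col)
      row

section Sym
variable {D : ChevalleyDatum} {F : Type*} [Field F] {π : ℕ → ℕ} {ε : ℕ → ℤ} {ω : ℕ → ℕ → ℤ}

theorem symMat_bas_h {j : ℕ} (hj : j < D.rank) :
    symMat D F π ε ω *ᵥ bas D F j = ∑ k ∈ Finset.range D.rank, (ω k j : F) • bas D F k := by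
  ext row
  have := mulVec_bas_enc D (symMat D F π ε ω) (.inl ⟨j, hj⟩) row
  rw [show enc D (.inl ⟨j, hj⟩) = j from rfl] at this
  rw [this]
  rcases row with i | u
  · simp [symMat, Finset.sum_apply, bas_inl]
  · simp only [symMat, Matrix.of_apply, Sum.elim_inr, Sum.elim_inl, Finset.sum_apply, Pi.smul_apply,
      bas_inr]
    rw [Finset.sum_eq_zero]
    intro i hi
    simp at hi
    simp [show ¬ (D.rank + u.val = i) by omega]

theorem symMat_bas_e {s : ℕ} (hs : s < D.nroots) :
    symMat D F π ε ω *ᵥ bas D F (D.rank + s) = (ε s : F) • bas D F (D.rank + π s) := by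
  ext row
  have := mulVec_bas_enc D (symMat D F π ε ω) (.inr ⟨s, hs⟩) row
  rw [show enc D (.inr ⟨s, hs⟩) = D.rank + s from rfl] at this
  rw [this]
  rcases row with i | u
  · have := i.2
    simp [symMat, bas_inl, show ¬ (i.val = D.rank + π s) by omega]
  · simp [symMat, bas_inr]

theorem TabSym.mul_x (h : TabSym D π ε ω) (ok : TabOK D) {s : ℕ} (hs : s < D.nroots) (t : F) :
    symMat D F π ε ω * D.x F s t = D.x F (π s) ((ε s : F) * t) * symMat D F π ε ω := by
  have hes : (ε s : F) * (ε s : F) = 1 := by rw [← Int.cast_mul, h.sq s hs, Int.cast_one]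
  apply ext_bas
  intro k hk
  rw [← Matrix.mulVec_mulVec, ← Matrix.mulVec_mulVec]
  by_cases hk1 : k < D.rank
  · rw [x_bas_h D hs hk1, Matrix.mulVec_sub, Matrix.mulVec_smul, symMat_bas_h hk1, symMat_bas_e hs,
      Matrix.mulVec_sum]
    have e1 : ∀ i ∈ Finset.range D.rank, D.x F (π s) ((ε s : F) * t) *ᵥ ((ω i k : F) • bas D F i) =
        (ω i k : F) • bas D F i - (ω i k : F) • (((D.cartan i (π s) : F) * ((ε s : F) * t)) •
          bas D F (D.rank + π s)) := fun i hi => by
      rw [Matrix.mulVec_smul, x_bas_h D (h.lt s hs) (Finset.mem_range.1 hi), smul_sub]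
    rw [Finset.sum_congr rfl e1]
    rw [Finset.sum_sub_distrib, h.hcol k hk1 s hs]
    congr 1
    simp only [smul_smul, ← Finset.sum_smul]
    congr 1
    push_cast
    rw [Finset.sum_mul, Finset.sum_mul]
    exact Finset.sum_congr rfl fun i _ => by ring
  · obtain ⟨c, rfl⟩ : ∃ c, k = D.rank + c := ⟨k - D.rank, by omega⟩
    have hc : c < D.nroots := by omega
    by_cases h1 : c = s
    · subst h1
      rw [x_bas_self D hs, symMat_bas_e hs, Matrix.mulVec_smul, x_bas_self D (h.lt _ hs)]
    by_cases h2 : c = D.neg s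
    · subst h2
      rw [x_bas_neg D hs hc h1, symMat_bas_e hc, Matrix.mulVec_smul, h.neg s hs,
        x_bas_neg D (h.lt s hs) (ok.neg_lt _ (h.lt s hs)) (ok.neg_ne _ (h.lt s hs)),
        Matrix.mulVec_add, Matrix.mulVec_sub, Matrix.mulVec_smul, symMat_bas_e hc, symMat_bas_e hs,
        h.neg s hs, h.eneg s hs, Matrix.mulVec_sum, smul_add, smul_sub]
      congr 1
      · congr 1
        rw [smul_smul, smul_smul]
        congr 1
        rw [mul_pow, pow_two (ε s : F), hes]; ring
      · have e1 : ∀ i ∈ Finset.range D.rank, symMat D F π ε ω *ᵥ (((cvN D s i : F) * t) • bas D F i) =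
            ∑ k ∈ Finset.range D.rank, ((cvN D s i : F) * t) • ((ω k i : F) • bas D F k) :=
          fun i hi => by
            rw [Matrix.mulVec_smul, symMat_bas_h (Finset.mem_range.1 hi), Finset.smul_sum]
        rw [Finset.sum_congr rfl e1]
        rw [Finset.sum_comm, Finset.smul_sum]
        refine Finset.sum_congr rfl fun i hi => ?_
        simp only [smul_smul, ← Finset.sum_smul]
        congr 1
        rw [← h.ncol i (Finset.mem_range.1 hi) s hs]
        push_cast
        rw [Finset.sum_mul, Finset.mul_sum]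
        refine Finset.sum_congr rfl fun j _ => ?_
        linear_combination (-(ω i j : F) * (cvN D s j : F) * t) * hes
    · have h1' : π c ≠ π s := fun e => h1 (h.inj _ hc _ hs e)
      have h2' : π c ≠ D.neg (π s) := fun e => h2 (h.inj _ hc _ (ok.neg_lt s hs) (by rw [e, h.neg s hs]))
      rw [x_bas_chain D ok.keys hs hc h1 h2, symMat_bas_e hc, Matrix.mulVec_smul,
        x_bas_chain D ok.keys (h.lt s hs) (h.lt c hc) h1' h2', Matrix.mulVec_add, symMat_bas_e hc,
        smul_add, h.chain s hs c hc]
      congr 1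
      have hec : (ε c : F) * (ε c : F) = 1 := by rw [← Int.cast_mul, h.sq c hc, Int.cast_one]
      have htl := ok.tgt_lt s hs c hc
      have key : ∀ (L : List (ℕ × ℤ)) (k : ℕ) (acc : ℤ), (∀ p ∈ L, p.1 < D.nroots) →
          (acc : F) * (ε s : F) ^ k * (ε c : F) = 1 →
          symMat D F π ε ω *ᵥ ((L.zipIdx k).map fun q =>
            ((q.1.2 : F) * t ^ (q.2 + 1)) • bas D F (D.rank + q.1.1)).sum =
          (ε c : F) • (((trL π ε (ε s) acc L).zipIdx k).map fun q =>
            ((q.1.2 : F) * ((ε s : F) * t) ^ (q.2 + 1)) • bas D F (D.rank + q.1.1)).sum := by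
        intro L
        induction L with
        | nil => intro k acc _ _; simp [trL]
        | cons p L ih =>
          intro k acc hL hacc
          simp only [trL, List.zipIdx_cons, List.map_cons, List.sum_cons, Matrix.mulVec_add,
            Matrix.mulVec_smul, smul_add]
          rw [ih (k + 1) (acc * ε s) (fun p hp => hL p (by simp [hp])) (by
            push_cast
            linear_combination ((acc : F) * (ε s : F) ^ k * (ε c : F)) * hes + hacc),
            symMat_bas_e (hL p (by simp)), smul_smul, smul_smul]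
          congr 2
          push_cast
          rw [mul_pow]
          linear_combination (-(p.2 : F) * (ε p.1 : F) * t ^ (k + 1)) * hacc +
            (-(p.2 : F) * (ε p.1 : F) * t ^ (k + 1) * (acc : F) * (ε s : F) ^ k * (ε c : F)) * hes
      exact key _ 0 (ε c) htl (by simpa using hec)

end Sym

end Cfsg.Agent.Chev
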