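import Cfsg.Agent.Lib.Chev.Cox
import Cfsg.Agent.Lib.Char.Induce
import Cfsg.Prelude.Def_ParabolicCharacters

/-! Tits systems given by their cell function, and the Steinberg character. -/

set_option autoImplicit false
set_option linter.unusedSectionVars false

namespace Cfsg.Agent.Chev
open Cfsg.Agent.Char Finset

section Cox
variable {ι W : Type*} [Group W] {s : ι → W}

variable (s) in
/-- the standard parabolic subgroup of a group generated by involutions -/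
def WS (J : Set ι) : Subgroup W := Subgroup.closure (s '' J)

variable (s) in
/-- no right descent in `K` -/
def RedR (K : Set ι) (w : W) : Prop := ∀ k ∈ K, len s w < len s (w * s k)

theorem s_mem_WS {J : Set ι} {j : ι} (h : j ∈ J) : s j ∈ WS s J := Subgroup.subset_closure ⟨j, h, rfl⟩

theorem WS_mono {J K : Set ι} (h : J ⊆ K) : WS s J ≤ WS s K := Subgroup.closure_mono (Set.image_mono h)

theorem wp_mem_WS {J : Set ι} {ω : List ι} (h : ∀ i ∈ ω, i ∈ J) : wp s ω ∈ WS s J := by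
  induction ω with
  | nil => exact one_mem _
  | cons i ω ih => exact mul_mem (s_mem_WS (h i (by simp))) (ih fun j hj => h j (by simp [hj]))

variable (h : InvGen s) (hx : Exchange s)
include h

theorem InvGen.WS_univ : WS s Set.univ = ⊤ :=
  eq_top_iff.2 fun w _ => by obtain ⟨ω, rfl⟩ := h.gen w; exact wp_mem_WS (by simp)

include hx
theorem InvGen.exists_red_WS {J : Set ι} {w : W} (hw : w ∈ WS s J) :
    ∃ ω : List ι, (∀ i ∈ ω, i ∈ J) ∧ Red s ω ∧ wp s ω = w := by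
  obtain ⟨ω, h1, rfl⟩ : ∃ ω : List ι, (∀ i ∈ ω, i ∈ J) ∧ wp s ω = w := by
    induction hw using Subgroup.closure_induction with
    | mem x hx => obtain ⟨j, hj, rfl⟩ := hx; exact ⟨[j], by simpa, by simp⟩
    | one => exact ⟨[], by simp, rfl⟩
    | mul _ _ _ _ a b =>
      obtain ⟨α, a, rfl⟩ := a
      obtain ⟨β, b, rfl⟩ := b
      exact ⟨α ++ β, fun i hi => (List.mem_append.1 hi).elim (a i) (b i), by simp⟩
    | inv _ _ a =>
      obtain ⟨α, a, rfl⟩ := a
      exact ⟨α.reverse, by simpa using a, h.wp_reverse α⟩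
  obtain ⟨ω', h2, h3⟩ := h.exists_red_sublist hx ω
  exact ⟨ω', fun i hi => h1 i (h2.subset hi), h3⟩

theorem InvGen.dc_min (J K : Set ι) (w : W) : ∃ u₀ ∈ WS s J, ∃ v₀ ∈ WS s K, ∀ u ∈ WS s J, ∀ v ∈ WS s K,
    ∃ u' ∈ WS s J, ∃ v' ∈ WS s K, u * w * v = u' * (u₀ * w * v₀) * v' ∧
      len s (u * w * v) = len s u' + len s (u₀ * w * v₀) + len s v' := by
  obtain ⟨⟨u₀, v₀⟩, hm⟩ := exists_minimalFor_of_wellFoundedLT (fun _ : WS s J × WS s K => True)
    (fun p => len s (p.1 * w * p.2 : W)) ⟨1, trivial⟩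
  refine ⟨u₀, u₀.2, v₀, v₀.2, fun u hu v hv => ?_⟩
  obtain ⟨α, a1, -, a2⟩ := h.exists_red_WS hx (mul_mem hu (inv_mem u₀.2))
  obtain ⟨β, b1, -, b2⟩ := h.exists_red_WS hx (mul_mem (inv_mem v₀.2) hv)
  obtain ⟨ω, c1, c2⟩ := h.exists_red (u₀ * w * v₀ : W)
  obtain ⟨_, d1, d2, d3⟩ := h.exists_red_sublist hx (α ++ ω ++ β)
  obtain ⟨_, β', rfl, d1, e3⟩ := List.sublist_append_iff.1 d1
  obtain ⟨α', ω', rfl, e1, e2⟩ := List.sublist_append_iff.1 d1
  have f1 := wp_mem_WS (s := s) fun i hi => a1 i (e1.subset hi)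
  have f2 := wp_mem_WS (s := s) fun i hi => b1 i (e3.subset hi)
  simp only [wp_append, a2, b2, c2] at d3
  have f3 : u * w * v = wp s α' * wp s ω' * wp s β' := by rw [d3]; group
  obtain rfl : ω' = ω := e2.eq_of_length_le (by
    refine le_trans ?_ (len_wp_le s ω')
    have := hm.le (j := (⟨_, mul_mem (inv_mem f1) hu⟩, ⟨_, mul_mem hv (inv_mem f2)⟩)) trivial
    rw [← c1, c2]
    convert this using 2
    simp only
    rw [show (wp s α')⁻¹ * u * w * (v * (wp s β')⁻¹) = (wp s α')⁻¹ * (u * w * v) * (wp s β')⁻¹ by group, f3]; group)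
  refine ⟨_, f1, _, f2, c2 ▸ f3, ?_⟩
  have g1 := h.red_of_append d2
  rw [f3, ← c2, ← wp_append, ← wp_append, d2, c1, g1.2, (h.red_of_append g1.1).1]
  simp [add_assoc]

theorem InvGen.eq_one_of_redR {K : Set ι} {w v : W} (hv : v ∈ WS s K) (h1 : RedR s K (w * v))
    (h2 : len s (w * v) = len s w + len s v) : v = 1 := by
  obtain ⟨ω, a1, a2, rfl⟩ := h.exists_red_WS hx hv
  rcases ω.eq_nil_or_concat with rfl | ⟨ω, k, rfl⟩
  · rfl
  have := h1 k (a1 k (by simp))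
  have a3 := h.len_mul_le w (wp s ω)
  have a4 := len_wp_le s ω
  rw [h2, a2] at this
  simp [← mul_assoc, h.cancel_right] at this
  omega

/-- the minimal element of a double coset -/
theorem InvGen.exists_red_dc (J K : Set ι) (w : W) : ∃ w₀, RedR s J w₀⁻¹ ∧ RedR s K w₀ ∧
    (∃ u ∈ WS s J, ∃ v ∈ WS s K, w = u * w₀ * v ∧ len s w = len s u + len s w₀ + len s v) ∧
    ∀ u ∈ WS s J, ∀ v ∈ WS s K, RedR s J (u * w * v)⁻¹ → RedR s K (u * w * v) → u * w * v = w₀ := by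
  obtain ⟨u₀, a1, v₀, a2, a3⟩ := h.dc_min hx J K w
  refine ⟨u₀ * w * v₀, fun j hj => ?_, fun k hk => ?_, by simpa using a3 1 (one_mem _) 1 (one_mem _), fun u hu v hv b1 b2 => ?_⟩
  · obtain ⟨_, -, _, -, -, e⟩ := a3 _ (mul_mem (s_mem_WS hj) a1) _ a2
    have := h.len_simple_mul hx j (u₀ * w * v₀)
    rw [← h.inv j, ← mul_inv_rev, h.len_inv, h.len_inv]
    simp only [mul_assoc] at *
    omega
  · obtain ⟨_, -, _, -, -, e⟩ := a3 _ a1 _ (mul_mem a2 (s_mem_WS hk))
    have := h.len_mul_simple hx k (u₀ * w * v₀)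
    simp only [mul_assoc] at *
    omega
  obtain ⟨u', c1, v', c2, c3, c4⟩ := a3 u hu v hv
  rw [c3] at b1 b2 c4 ⊢
  have d1 := h.len_mul_le u' (u₀ * w * v₀)
  have d2 := h.len_mul_le (u' * (u₀ * w * v₀)) v'
  obtain rfl := h.eq_one_of_redR hx c2 b2 (by omega)
  rw [mul_one, mul_inv_rev] at b1
  rw [inv_eq_one.1 (h.eq_one_of_redR hx (inv_mem c1) b1 (by
    rw [← mul_inv_rev, h.len_inv, h.len_inv, h.len_inv]; simp at c4; omega))]
  simp

theorem InvGen.eq_of_red_dc {J K : Set ι} {w u v : W} (hu : u ∈ WS s J) (hv : v ∈ WS s K) (h1 : RedR s J w⁻¹) (h2 : RedR s K w)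
    (h3 : RedR s J (u * w * v)⁻¹) (h4 : RedR s K (u * w * v)) : u * w * v = w := by
  obtain ⟨w₀, -, -, -, e⟩ := h.exists_red_dc hx J K w
  rw [e u hu v hv h3 h4, ← e 1 (one_mem _) 1 (one_mem _) (by simpa) (by simpa)]; simp

theorem InvGen.len_mul_of_redR {K : Set ι} {w v : W} (h1 : RedR s K w) (hv : v ∈ WS s K) : len s (w * v) = len s w + len s v := by
  obtain ⟨w₀, -, -, ⟨u, a1, v', a2, a3, a4⟩, e⟩ := h.exists_red_dc hx ∅ K (w * v)
  obtain rfl : u = 1 := by simpa [WS] using a1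
  obtain rfl : w = w₀ := by simpa using e 1 (one_mem _) v⁻¹ (inv_mem hv) (by simp [RedR]) (by simpa)
  obtain rfl : v = v' := by simpa using a3
  simpa using a4

end Cox

/-- a group with a (not necessarily thick) Tits system of type `(W, s)`, given by the cell function `δ` -/
structure Tits {ι W : Type*} [Group W] (s : ι → W) (G : Type*) [Group G] where
  ig : InvGen s
  ex : Exchange s
  B : Subgroup G
  δ : G → W
  δ_eq_one : ∀ {g}, δ g = 1 ↔ g ∈ B
  δ_left : ∀ {b}, b ∈ B → ∀ g, δ (b * g) = δ g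
  δ_inv : ∀ g, δ g⁻¹ = (δ g)⁻¹
  δ_eq : ∀ {g g'}, δ g = δ g' → ∃ b ∈ B, ∃ b' ∈ B, g' = b * g * b'
  surj : Function.Surjective δ
  mul : ∀ {i g}, δ g = s i → ∀ h, δ (g * h) = s i * δ h ∨ (δ (g * h) = δ h ∧ len s (s i * δ h) < len s (δ h))

namespace Tits
variable {ι W G : Type*} [Group W] {s : ι → W} [Group G] (T : Tits s G)

theorem δ_one : T.δ 1 = 1 := T.δ_eq_one.2 (one_mem _)

theorem δ_right {b : G} (hb : b ∈ T.B) (g : G) : T.δ (g * b) = T.δ g := by
  rw [← inv_inj, ← T.δ_inv, mul_inv_rev, T.δ_left (inv_mem hb), T.δ_inv]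

theorem exists_split {w v : W} {g : G} (hl : ∀ a b, T.δ a = w → T.δ b = v → T.δ (a * b) = w * v) (hg : T.δ g = w * v) :
    ∃ a b, T.δ a = w ∧ T.δ b = v ∧ g = a * b := by
  obtain ⟨a, ha⟩ := T.surj w
  obtain ⟨b, hb⟩ := T.surj v
  obtain ⟨c, hc, c', hc', rfl⟩ := T.δ_eq ((hl a b ha hb).trans hg.symm)
  exact ⟨c * a, b * c', by rwa [T.δ_left hc], by rwa [T.δ_right hc'], by group⟩

theorem mul_of_lt {i : ι} {g h : G} (hg : T.δ g = s i) (hl : len s (T.δ h) < len s (s i * T.δ h)) : T.δ (g * h) = s i * T.δ h :=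
  (T.mul hg h).resolve_right fun e => by omega

theorem δ_mul (ω : List ι) (hr : Red s ω) {g : G} (hg : T.δ g = wp s ω) (h : G) : ∃ ω' : List ι, ω'.Sublist ω ∧
    T.δ (g * h) = wp s ω' * T.δ h ∧ (len s (wp s ω * T.δ h) = ω.length + len s (T.δ h) → ω' = ω) := by
  induction ω generalizing g with
  | nil => exact ⟨[], by simp, by simp [T.δ_left (T.δ_eq_one.1 hg)], fun _ => rfl⟩
  | cons i ω ih =>
    have h1 := T.ig.red_tail hr
    obtain ⟨a, b, ha, hb, rfl⟩ := T.exists_split (w := s i) (v := wp s ω) (fun a b ha hb => hb ▸ T.mul_of_lt ha (by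
      rw [hb, ← wp_cons, hr, h1]; simp)) hg
    obtain ⟨ω', c1, c2, c3⟩ := ih h1 hb
    have c4 := T.ig.len_simple_mul_le i (wp s ω * T.δ h)
    have c5 := T.ig.len_mul_le (wp s ω) (T.δ h)
    rw [mul_assoc]
    simp only [wp_cons, mul_assoc, List.length_cons]
    rw [h1] at c5
    rcases T.mul ha (b * h) with e | ⟨e, e'⟩
    · exact ⟨i :: ω', c1.cons_cons i, by simp [e, c2, mul_assoc], fun l => by rw [c3 (by omega)]⟩
    · refine ⟨ω', c1.cons i, e.trans c2, fun l => ?_⟩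
      obtain rfl := c3 (by omega)
      rw [c2] at e'
      omega

theorem δ_mul_of_len {g h : G} (hl : len s (T.δ g * T.δ h) = len s (T.δ g) + len s (T.δ h)) : T.δ (g * h) = T.δ g * T.δ h := by
  obtain ⟨ω, h1, h2⟩ := T.ig.exists_red (T.δ g)
  obtain ⟨_, -, h3, h4⟩ := T.δ_mul ω h1 h2.symm h
  rw [h3, h4 (by rw [← h1, h2, hl]), h2]

theorem δ_mul_WS {J : Set ι} {g : G} (hg : T.δ g ∈ WS s J) (h : G) : ∃ u ∈ WS s J, T.δ (g * h) = u * T.δ h := by
  obtain ⟨ω, h0, h1, h2⟩ := T.ig.exists_red_WS T.ex hg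
  obtain ⟨ω', h3, h4, -⟩ := T.δ_mul ω h1 h2.symm h
  exact ⟨_, wp_mem_WS fun i hi => h0 i (h3.subset hi), h4⟩

/-- the standard parabolic subgroups -/
def P (J : Set ι) : Subgroup G where
  carrier := {g | T.δ g ∈ WS s J}
  one_mem' := by simp [δ_one]
  mul_mem' ha hb := by
    obtain ⟨u, hu, e⟩ := T.δ_mul_WS ha _
    exact (e ▸ mul_mem hu hb :)
  inv_mem' ha := by simpa [T.δ_inv] using ha

theorem mem_P {J : Set ι} {g : G} : g ∈ T.P J ↔ T.δ g ∈ WS s J := Iff.rfl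

theorem P_mono {J K : Set ι} (h : J ⊆ K) : T.P J ≤ T.P K := fun _ hg => WS_mono h hg

theorem P_empty : T.P ∅ = T.B := by ext; simp [mem_P, WS, T.δ_eq_one]

theorem B_le_P (J : Set ι) : T.B ≤ T.P J := T.P_empty ▸ T.P_mono J.empty_subset

theorem P_univ : T.P Set.univ = ⊤ := by ext; simp [mem_P, T.ig.WS_univ]

theorem δ_dc {J K : Set ι} {a p : G} (ha : a ∈ T.P J) (hp : p ∈ T.P K) (x : G) :
    ∃ u ∈ WS s J, ∃ v ∈ WS s K, T.δ (a * x * p) = u * T.δ x * v := by
  obtain ⟨u, hu, e⟩ := T.δ_mul_WS ha x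
  obtain ⟨v, hv, e'⟩ := T.δ_mul_WS (inv_mem hp) (a * x)⁻¹
  exact ⟨u, hu, v⁻¹, inv_mem hv, by rw [← inv_inj, ← T.δ_inv, mul_inv_rev, e', T.δ_inv, e]; group⟩

theorem exists_dc (J K : Set ι) (y : G) :
    ∃ a ∈ T.P J, ∃ p ∈ T.P K, ∃ x, RedR s J (T.δ x)⁻¹ ∧ RedR s K (T.δ x) ∧ y = a * x * p := by
  obtain ⟨w, h1, h2, ⟨u, hu, v, hv, h3, h4⟩, -⟩ := T.ig.exists_red_dc T.ex J K (T.δ y)
  have d1 := T.ig.len_mul_le u w
  have d2 := T.ig.len_mul_le (u * w) v
  rw [h3] at h4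
  obtain ⟨c, p, hc, rfl, rfl⟩ := T.exists_split (fun a b ha hb => by
    rw [← ha, ← hb]; exact T.δ_mul_of_len (by rw [ha, hb]; omega)) h3
  obtain ⟨a, x, rfl, rfl, rfl⟩ := T.exists_split (fun a b ha hb => by
    rw [← ha, ← hb]; exact T.δ_mul_of_len (by rw [ha, hb]; omega)) hc
  exact ⟨a, hu, p, hv, x, h1, h2, rfl⟩

theorem mem_B_of_redR {K : Set ι} {x p : G} (h1 : RedR s K (T.δ x)) (hp : p ∈ T.P K) (h2 : RedR s K (T.δ (x * p))) : p ∈ T.B := by
  have := T.ig.len_mul_of_redR T.ex h1 hp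
  rw [T.δ_mul_of_len this] at h2
  exact T.δ_eq_one.1 (T.ig.eq_one_of_redR T.ex hp h2 this)

theorem card_orbits (J K : Set ι) : Nat.card (MulAction.orbitRel.Quotient (T.P J) (G ⧸ T.P K)) =
    Nat.card {w // RedR s J w⁻¹ ∧ RedR s K w} := by
  choose n hn using T.surj
  refine (Nat.card_congr (.ofBijective (fun w => Quotient.mk'' (n w.1 : G ⧸ T.P K)) ⟨?_, ?_⟩)).symm
  · rintro ⟨w, h1, h2⟩ ⟨w', h1', h2'⟩ e
    obtain ⟨a, e⟩ := Quotient.exact' e
    obtain ⟨u, hu, v, hv, e'⟩ := T.δ_dc a.2 (QuotientGroup.eq.1 e) (n w')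
    have : T.δ (n w) = u * T.δ (n w') * v := by rw [← e']; simp [mul_assoc]
    rw [hn, hn] at this
    subst this
    exact Subtype.ext (T.ig.eq_of_red_dc T.ex hu hv h1' h2' h1 h2)
  · rintro ⟨⟨y⟩⟩
    obtain ⟨a, ha, p, hp, x, h1, h2, rfl⟩ := T.exists_dc J K y
    obtain ⟨b, hb, b', hb', e⟩ := T.δ_eq (hn (T.δ x)).symm
    refine ⟨⟨_, h1, h2⟩, Quotient.sound' ⟨⟨b * a⁻¹, mul_mem (T.B_le_P J hb) (inv_mem ha)⟩, QuotientGroup.eq.2 ?_⟩⟩
    simpa [e, mul_assoc] using mul_mem (inv_mem hp) (T.B_le_P K hb')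

theorem sum_sign (J : Finset ι) (p : ι → Prop) {_ : ∀ K : Finset ι, Decidable (∀ k ∈ K, p k)} [Decidable (∀ j ∈ J, ¬ p j)] :
    ∑ K ∈ J.powerset, (if ∀ k ∈ K, p k then (-1 : ℂ) ^ K.card else 0) = if ∀ j ∈ J, ¬ p j then 1 else 0 := by
  classical
  rw [← sum_filter, show J.powerset.filter (fun K => ∀ k ∈ K, p k) = (J.filter p).powerset by
    ext; simp [subset_iff, forall_and]]
  have := congrArg (Int.cast : ℤ → ℂ) (sum_powerset_neg_one_pow_card (x := J.filter p))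
  simpa [filter_eq_empty_iff] using this

section Fin
variable [Fintype G]
open Classical

/-- the Steinberg character of the parabolic subgroup `P J`, extended by zero -/
noncomputable def stJ (J : Finset ι) (g : G) : ℂ :=
  ∑ K ∈ J.powerset, (-1) ^ K.card * (#{x | x ∈ T.P J ∧ x⁻¹ * g * x ∈ T.P K} / Nat.card (T.P K))

theorem card_coset (H : Subgroup G) (x : G) : #{y | x⁻¹ * y ∈ H} = Nat.card H := by
  rw [Nat.card_eq_fintype_card, Fintype.card_subtype]
  exact card_bijective _ (Group.mulLeft_bijective x⁻¹) (by simp)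

theorem card_fix {J K : Set ι} (hK : K ⊆ J) {b : G} (hb : b ∈ T.B) :
    #{x | x ∈ T.P J ∧ x⁻¹ * b * x ∈ T.B ∧ RedR s K (T.δ x)} * Nat.card (T.P K) =
      #{x | x ∈ T.P J ∧ x⁻¹ * b * x ∈ T.P K} * Nat.card T.B := by
  refine card_mul_eq_card_mul (fun x y => x⁻¹ * y ∈ T.P K) (fun x hx => ?_) fun y hy => ?_
  · rw [← card_coset _ x]
    congr 1
    ext y
    simp only [mem_bipartiteAbove, mem_filter, mem_univ, true_and, and_iff_right_iff_imp] at hx ⊢
    exact fun h => ⟨by simpa using mul_mem hx.1 (T.P_mono hK h), by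
      simpa [mul_assoc] using mul_mem (mul_mem (inv_mem h) (T.B_le_P K hx.2.1)) h⟩
  obtain ⟨a, ha, p, hp, x, -, h2, rfl⟩ := T.exists_dc ∅ K y
  rw [← T.δ_left (T.P_empty ▸ ha)] at h2
  generalize a * x = x at *
  rw [← card_coset _ x]
  congr 1
  ext z
  simp only [mem_bipartiteBelow, mem_filter, mem_univ, true_and] at hy ⊢
  have h3 : x ∈ T.P J := by simpa using mul_mem hy.1 (inv_mem (T.P_mono hK hp))
  have h4 : x⁻¹ * b * x ∈ T.B := T.mem_B_of_redR h2 (by simpa [mul_assoc] using mul_mem (mul_mem hp hy.2) (inv_mem hp))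
    (by simpa [mul_assoc, T.δ_left hb])
  refine ⟨fun ⟨h, h'⟩ => T.mem_B_of_redR h2 (by simpa [mul_assoc] using mul_mem hp (inv_mem h')) (by simpa using h.2.2), fun h => ?_⟩
  exact ⟨⟨by simpa using mul_mem h3 (T.B_le_P J h), by simpa [mul_assoc] using mul_mem (mul_mem (inv_mem h) h4) h,
    by rw [← T.δ_right h] at h2; simpa using h2⟩, by simpa [mul_assoc] using mul_mem (inv_mem (T.B_le_P K h)) hp⟩

theorem stJ_B (J : Finset ι) {b : G} (hb : b ∈ T.B) : T.stJ J b =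
    #{x | x ∈ T.P J ∧ x⁻¹ * b * x ∈ T.B ∧ ∀ j ∈ J, ¬ len s (T.δ x) < len s (T.δ x * s j)} / Nat.card T.B := by
  have h1 : ∀ K ∈ J.powerset, ((-1) ^ K.card * (#{x | x ∈ T.P J ∧ x⁻¹ * b * x ∈ T.P K} / Nat.card (T.P K)) : ℂ) =
      (∑ x ∈ {x | x ∈ T.P J ∧ x⁻¹ * b * x ∈ T.B}, if ∀ k ∈ K, len s (T.δ x) < len s (T.δ x * s k) then (-1) ^ K.card else 0) /
        Nat.card T.B := fun K hK => by
    have := congrArg (Nat.cast : ℕ → ℂ) (T.card_fix (J := J) (K := K) (by simpa using hK) hb)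
    rw [← sum_filter, sum_const, filter_filter, nsmul_eq_mul, mul_comm _ ((-1) ^ _), mul_div_assoc]
    congr 1
    rw [div_eq_div_iff (card_ne_zero' _) (card_ne_zero' _)]
    simpa [RedR, and_assoc] using this.symm
  rw [stJ, sum_congr rfl h1, ← sum_div, sum_comm]
  simp only [sum_sign, sum_boole, filter_filter, and_assoc]

theorem card_cell_fix {m b : G} (hb : b ∈ T.B) {K : Subgroup G} (hK : ∀ g, g ∈ K ↔ g ∈ T.B ∧ m⁻¹ * g * m ∈ T.B) :
    (#{x | T.δ x = T.δ m ∧ x⁻¹ * b * x ∈ T.B} / Nat.card T.B : ℂ) = #{y | y ∈ T.B ∧ y⁻¹ * b * y ∈ K} / Nat.card K := by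
  rw [div_eq_div_iff (card_ne_zero' _) (card_ne_zero' _), ← Nat.cast_mul, ← Nat.cast_mul, Nat.cast_inj]
  refine card_mul_eq_card_mul (fun x y => (y * m)⁻¹ * x ∈ T.B) (fun x hx => ?_) fun y hy => ?_
  · simp only [mem_filter, mem_univ, true_and] at hx
    obtain ⟨c, hc, c', hc', rfl⟩ := T.δ_eq hx.1.symm
    rw [← card_coset _ c]
    congr 1
    ext y
    simp only [mem_bipartiteAbove, mem_filter, mem_univ, true_and, hK]
    refine ⟨fun ⟨h, h'⟩ => ⟨mul_mem (inv_mem hc) h.1, by simpa [mul_assoc] using mul_mem hc' (inv_mem h')⟩, fun h => ?_⟩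
    have h1 : y ∈ T.B := by simpa using mul_mem hc h.1
    have h2 : (y * m)⁻¹ * (c * m * c') ∈ T.B := by simpa [mul_assoc] using mul_mem (inv_mem h.2) hc'
    exact ⟨⟨h1, mul_mem (mul_mem (inv_mem h1) hb) h1, by simpa [mul_assoc] using mul_mem (mul_mem h2 hx.2) (inv_mem h2)⟩, h2⟩
  rw [← card_coset _ (y * m)]
  congr 1
  ext x
  simp only [mem_bipartiteBelow, mem_filter, mem_univ, true_and, hK, and_iff_right_iff_imp] at hy ⊢
  exact fun h => ⟨by rw [← T.δ_left hy.1 m, ← T.δ_right h (y * m)]; simp [mul_assoc], by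
    simpa [mul_assoc] using mul_mem (mul_mem (inv_mem h) hy.2.2) h⟩

theorem stJ_conj (J : Finset ι) {a : G} (ha : a ∈ T.P J) (g : G) : T.stJ J (a⁻¹ * g * a) = T.stJ J g := by
  refine sum_congr rfl fun K _ => ?_
  congr 3
  exact card_bijective _ (Group.mulLeft_bijective a) (by simp [mul_assoc, (T.P J).mul_mem_cancel_left ha])

theorem stJ_eq_zero (J : Finset ι) {g : G} (hg : g ∉ T.P J) : T.stJ J g = 0 := by
  refine sum_eq_zero fun K hK => ?_
  rw [filter_eq_empty_iff.2 fun x _ h => hg (by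
    simpa [mul_assoc] using mul_mem (mul_mem h.1 (T.P_mono (by simpa using hK) h.2)) (inv_mem h.1))]
  simp

theorem fixedPointCharacter_eq (H : Subgroup G) (g : G) : fixedPointCharacter H g = #{x | x⁻¹ * g * x ∈ H} / Nat.card H := by
  rw [fixedPointCharacter, ← indFun_one_eq_card_fixedBy_quotient]
  simp [indFun_apply, extendByZero_eq, div_eq_inv_mul]

theorem sum_stJ (J : Finset ι) (g : G) :
    ∑ y, T.stJ J (y⁻¹ * g * y) = Nat.card (T.P J) * ∑ K ∈ J.powerset, (-1) ^ K.card * fixedPointCharacter (T.P K) g := by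
  simp only [stJ]
  rw [sum_comm, mul_sum]
  refine sum_congr rfl fun K _ => ?_
  rw [← mul_sum, ← sum_div, fixedPointCharacter_eq, mul_left_comm, ← mul_div_assoc (Nat.card _ : ℂ), ← Nat.cast_sum, ← Nat.cast_mul]
  congr 3
  simp only [card_filter]
  rw [sum_comm, Nat.card_eq_fintype_card, Fintype.card_subtype, card_filter, sum_mul]
  refine sum_congr rfl fun x _ => ?_
  split_ifs with h
  · rw [one_mul, ← Equiv.sum_comp (Equiv.mulRight x) fun y => if y⁻¹ * g * y ∈ T.P K then 1 else 0]; simp [h, mul_assoc]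
  · simp [h]

variable [Fintype ι]

/-- the Steinberg character -/
noncomputable def stein (g : G) : ℂ := ∑ K : Finset ι, (-1) ^ K.card * fixedPointCharacter (T.P K) g

theorem stein_eq (g : G) : T.stein g = T.stJ univ g := by
  simp [stein, stJ, fixedPointCharacter_eq, T.P_univ]

theorem sum_sum_stJ [DecidableEq ι] (g : G) : ∑ J : Finset ι, (-1) ^ (Jᶜ).card * ((∑ y, T.stJ J (y⁻¹ * g * y)) / Nat.card (T.P J)) =
    (-1) ^ Fintype.card ι := by
  have h1 : ∀ J : Finset ι, (-1) ^ (Jᶜ).card * ((∑ y, T.stJ J (y⁻¹ * g * y)) / Nat.card (T.P J)) =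
      ∑ K : Finset ι, (if ∀ k ∈ Jᶜ, k ∉ K then (-1 : ℂ) ^ (Jᶜ).card else 0) * ((-1) ^ K.card * fixedPointCharacter (T.P K) g) := fun J => by
    rw [sum_stJ, mul_div_cancel_left₀ _ (card_ne_zero' _), mul_sum]
    simp only [ite_mul, zero_mul, ← sum_filter]
    congr 1
    ext K
    simp [subset_iff, not_imp_not]
  rw [sum_congr rfl fun J _ => h1 J, sum_comm]
  simp only [← sum_mul]
  have h2 : ∀ K : Finset ι, (∑ J : Finset ι, if ∀ k ∈ Jᶜ, k ∉ K then (-1 : ℂ) ^ (Jᶜ).card else 0) = if K = univ then 1 else 0 := fun K => by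
    rw [← (Equiv.ofBijective _ (compl_bijective (α := Finset ι))).sum_comp]
    simpa [eq_univ_iff_forall] using sum_sign univ (· ∉ K)
  simp only [h2]
  simp [fixedPointCharacter_eq, T.P_univ, card_univ]

theorem isGen_stein : IsGeneralizedCharacter G T.stein := by
  have := IsGeneralizedCharacter.sum (s := univ) fun (K : Finset ι) _ =>
    (isCharacter_perm (G := G) (G ⧸ T.P K)).isGen.intCast_smul ((-1) ^ K.card)
  convert this using 1
  ext g
  simp [stein, fixedPointCharacter]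

theorem classInner_fix (J K : Set ι) : classInner (fixedPointCharacter (T.P K)) (fixedPointCharacter (T.P J)) =
    Nat.card {w // RedR s J w⁻¹ ∧ RedR s K w} := by
  rw [show fixedPointCharacter (T.P J) = indFun (T.P J) fun _ => 1 from funext fun g => (indFun_one_eq_card_fixedBy_quotient ..).symm,
    frobenius_right _ _ (χ := fixedPointCharacter (T.P K)) (isCharacter_perm (G := G) (G ⧸ T.P K)).isClassFunction, classInner_one_right, ← T.card_orbits,
    inv_mul_eq_iff_eq_mul₀ (card_ne_zero' _)]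
  have := congrArg (Nat.cast : ℕ → ℂ) (MulAction.sum_card_fixedBy_eq_card_orbits_mul_card_group (T.P J) (G ⧸ T.P K))
  simp only [mul_comm, ← Nat.card_eq_fintype_card, Nat.cast_mul, Nat.cast_sum] at this
  exact this

theorem classInner_stein_fix [Fintype W] (J : Set ι) : classInner T.stein (fixedPointCharacter (T.P J)) =
    #{w | RedR s J w⁻¹ ∧ ∀ j, ¬ len s w < len s (w * s j)} := by
  rw [show T.stein = ∑ K : Finset ι, ((-1 : ℂ) ^ K.card) • fixedPointCharacter (T.P K) by ext; simp [stein], classInner_sum_left]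
  have h1 : ∀ K : Finset ι, classInner (((-1 : ℂ) ^ K.card) • fixedPointCharacter (T.P K)) (fixedPointCharacter (T.P J)) =
      ∑ w ∈ {w | RedR s J w⁻¹}, if ∀ k ∈ K, len s w < len s (w * s k) then (-1 : ℂ) ^ K.card else 0 := fun K => by
    rw [classInner_smul_left, classInner_fix, ← sum_filter, filter_filter, Nat.card_eq_fintype_card, Fintype.card_subtype]
    rw [sum_const, nsmul_eq_mul, mul_comm]
    congr!
  rw [sum_congr rfl fun K _ => h1 K, sum_comm]
  simp only [← powerset_univ, sum_sign]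
  simp [filter_filter]

theorem isIrr_stein [Finite W] {w₀ : W} (h : ∀ w, (∀ j, ¬ len s w < len s (w * s j)) ↔ w = w₀) (h' : w₀⁻¹ = w₀) :
    IsIrrCharacter G T.stein := by
  have := Fintype.ofFinite W
  refine T.isGen_stein.isIrr_of_re_nonneg ?_ (by
    rw [stein_eq, T.stJ_B _ (one_mem _), ← Complex.ofReal_natCast, ← Complex.ofReal_natCast, ← Complex.ofReal_div, Complex.ofReal_re]
    positivity)
  nth_rw 2 [show T.stein = ∑ K : Finset ι, ((-1 : ℂ) ^ K.card) • fixedPointCharacter (T.P K) by ext; simp [stein]]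
  have h1 : ∀ K : Finset ι, classInner T.stein (((-1 : ℂ) ^ K.card) • fixedPointCharacter (T.P K)) =
      if ∀ k ∈ K, len s w₀ < len s (w₀ * s k) then (-1 : ℂ) ^ K.card else 0 := fun K => by
    rw [classInner_smul_right, classInner_stein_fix]
    rw [filter_congr (q := fun w => w = w₀ ∧ RedR s K w₀) fun w _ => by
      rw [h, and_comm]; exact and_congr_right fun e => by rw [e, h']]
    split_ifs with h1 <;> simp_all [RedR, card_eq_one, Finset.ext_iff]
  simp only [classInner_sum_right, h1, ← powerset_univ, sum_sign]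
  simpa using (h w₀).2 rfl

end Fin
end Tits
end Cfsg.Agent.Chev
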