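import Cfsg.Agent.Lib.Chev.Simple
import Cfsg.Agent.Lib.Chev.Poinc

set_option autoImplicit false
set_option linter.unusedSectionVars false

/-! The diagonal subgroup as the image of a torus. -/

namespace Cfsg.Agent.Chev

section Zmap
variable {I J K : Type*} [Fintype I] [Fintype J] (A : Type*) [CommGroup A]

/-- the monomial map of an integer matrix -/
def zmap (M : Matrix I K ℤ) : (I → A) →* (K → A) where
  toFun c j := ∏ i, c i ^ M i j
  map_one' := by ext; simp
  map_mul' a b := by ext; simp [mul_zpow, Finset.prod_mul_distrib]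

variable {A}

theorem zmap_apply (M : Matrix I K ℤ) (c : I → A) (j : K) : zmap A M c j = ∏ i, c i ^ M i j := rfl

theorem zpow_finsum {ι : Type*} (a : A) (s : Finset ι) (f : ι → ℤ) :
    a ^ (∑ i ∈ s, f i) = ∏ i ∈ s, a ^ f i := by
  classical
  induction s using Finset.induction_on with
  | empty => simp
  | insert i s hi ih => rw [Finset.sum_insert hi, Finset.prod_insert hi, zpow_add, ih]

theorem zmap_mul (M : Matrix I J ℤ) (N : Matrix J K ℤ) (c : I → A) :
    zmap A (M * N) c = zmap A N (zmap A M c) := by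
  ext k
  simp only [zmap_apply, Matrix.mul_apply, zpow_finsum, ← Finset.prod_zpow, ← zpow_mul]
  exact Finset.prod_comm

theorem zmap_diagonal [DecidableEq I] (d : I → ℤ) (c : I → A) (j : I) :
    zmap A (Matrix.diagonal d) c j = c j ^ d j := by
  rw [zmap_apply, Finset.prod_eq_single j (fun i _ hi => by simp [hi]) (by simp)]; simp

theorem zmap_one [DecidableEq I] (c : I → A) : zmap A (1 : Matrix I I ℤ) c = c := by
  ext j; rw [← Matrix.diagonal_one, zmap_diagonal]; simp

theorem zmap_mulSingle [DecidableEq I] (M : Matrix I K ℤ) (i : I) (c : A) (j : K) :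
    zmap A M (Pi.mulSingle i c) j = c ^ M i j := by
  rw [zmap_apply, Finset.prod_eq_single i (fun i _ hi => by simp [hi]) (by simp)]; simp

theorem zmap_inj [DecidableEq I] {M : Matrix I J ℤ} {M' : Matrix J I ℤ} (h : M * M' = 1) :
    Function.Injective (zmap A M) := fun a b e => by
  rw [← zmap_one a, ← zmap_one b, ← h, zmap_mul, zmap_mul, e]

theorem zmap_bij [DecidableEq I] {M M' : Matrix I I ℤ} (h : M * M' = 1) :
    Function.Bijective (zmap A M) :=
  ⟨zmap_inj h, fun a => ⟨zmap A M' a, by rw [← zmap_mul, mul_eq_one_comm.1 h, zmap_one]⟩⟩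

theorem card_ker_zmap [DecidableEq I] [Finite A] [IsCyclic A] {M P P' Q Q' : Matrix I I ℤ} {d : I → ℕ}
    (hP : P * P' = 1) (hQ : Q * Q' = 1) (hM : M = P * Matrix.diagonal (fun i => (d i : ℤ)) * Q) :
    Nat.card (zmap A M).ker = ∏ i, Nat.gcd (d i) (Nat.card A) := by
  have e1 : ∀ c, c ∈ (zmap A M).ker ↔ ∀ i, zmap A P c i ∈ (powMonoidHom (d i) : A →* A).ker := by
    intro c
    simp only [MonoidHom.mem_ker, hM, zmap_mul, map_eq_one_iff _ (zmap_inj hQ), funext_iff,
      zmap_diagonal, powMonoidHom_apply, zpow_natCast, Pi.one_apply]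
  rw [Nat.card_congr (((Equiv.ofBijective _ (zmap_bij (A := A) hP)).subtypeEquiv
    (q := fun c => ∀ i, c i ∈ (powMonoidHom (d i) : A →* A).ker) e1).trans Equiv.subtypePiEquivPi),
    Nat.card_pi]
  exact Finset.prod_congr rfl fun i _ => by rw [IsCyclic.card_powMonoidHom_ker, Nat.gcd_comm]

end Zmap

variable {I R : Type} [Fintype I] [DecidableEq I] [Fintype R] [DecidableEq R]

/-- the Cartan matrix -/
def RS.cm (Φ : RS I R) : Matrix I I ℤ := Matrix.of fun i j => Φ.A i (Φ.sim j)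

namespace St
variable {Φ : CD I R} {F : Type*} [Field F] {G : Type*} [Group G] {S : St Φ F G}

variable (S) in
/-- the elements `h_p(c)` are multiplicative -/
def HMul : Prop := ∀ i c d, S.h (Φ.sim i) c * S.h (Φ.sim i) d = S.h (Φ.sim i) (c * d)

theorem IsTor.eq_of_inj (hθ : Function.Injective S.θ) {g g' : G} {a : I → Fˣ} (h : S.IsTor g a)
    (h' : S.IsTor g' a) : g = g' := hθ (h.1.trans h'.1.symm)

theorem hMul_of_inj (hθ : Function.Injective S.θ) : S.HMul := fun i c d =>
  IsTor.eq_of_inj hθ ((isTor_h_sim i c).mul (isTor_h_sim i d)) (by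
    convert isTor_h_sim (S := S) i (c * d) using 1
    ext; simp [mul_zpow])

theorem HMul.conj (hm : S.HMul) {g : G} (hg : S.Acts g 1) (j : I) (d : Fˣ) :
    g * S.h (Φ.sim j) d * g⁻¹ = S.h (Φ.sim j) d := by
  obtain ⟨χ, -, e⟩ := hg.conj_h (Φ.sim j)
  rw [e, one_smul, mul_comm χ, ← hm, mul_inv_cancel_right]

theorem HMul.commute (hm : S.HMul) (i j : I) (c d : Fˣ) :
    Commute (S.h (Φ.sim i) c) (S.h (Φ.sim j) d) :=
  mul_inv_eq_iff_eq_mul.1 (hm.conj (isTor_h_sim i c).acts j d)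

/-- the one-parameter subgroups of `H` -/
def HMul.hom (hm : S.HMul) (i : I) : Fˣ →* G where
  toFun c := S.h (Φ.sim i) c
  map_one' := S.h_one _
  map_mul' c d := (hm i c d).symm

theorem HMul.pairwise (hm : S.HMul) :
    Pairwise fun i j => ∀ x y : Fˣ, Commute (hm.hom i x) (hm.hom j y) :=
  fun i j _ c d => hm.commute i j c d

/-- the parametrisation of `H` -/
noncomputable def HMul.hT (hm : S.HMul) : (I → Fˣ) →* G :=
  MonoidHom.noncommPiCoprod (N := fun _ => Fˣ) hm.hom hm.pairwise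

theorem HMul.hT_single (hm : S.HMul) (i : I) (c : Fˣ) : hm.hT (Pi.mulSingle i c) = S.h (Φ.sim i) c :=
  MonoidHom.noncommPiCoprod_mulSingle (N := fun _ => Fˣ) hm.hom i c

theorem HMul.hT_range (hm : S.HMul) : hm.hT.range = S.H := by
  rw [HMul.hT, MonoidHom.noncommPiCoprod_range]
  refine le_antisymm (iSup_le ?_) ?_
  · rintro i _ ⟨c, rfl⟩; exact h_sim_mem i c
  · rw [H, Subgroup.closure_le]
    rintro _ ⟨i, c, rfl⟩
    exact Subgroup.mem_iSup_of_mem i ⟨c, rfl⟩

theorem HMul.hT_mem (hm : S.HMul) (c : I → Fˣ) : hm.hT c ∈ S.H := hm.hT_range ▸ ⟨c, rfl⟩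

theorem HMul.exists_hT (hm : S.HMul) {g : G} (hg : g ∈ S.H) : ∃ c, hm.hT c = g := by
  rwa [← hm.hT_range] at hg

theorem pi_units_induction {p : (I → Fˣ) → Prop} (h1 : ∀ i c, p (Pi.mulSingle i c))
    (h0 : p 1) (h2 : ∀ a b, p a → p b → p (a * b)) (a : I → Fˣ) : p a := by
  rw [← Finset.univ_prod_mulSingle a]
  exact Finset.prod_induction _ p h2 h0 fun i _ => h1 i _

theorem HMul.isTor_hT (hm : S.HMul) (c : I → Fˣ) : S.IsTor (hm.hT c) (zmap Fˣ Φ.cm c) := by
  induction c using pi_units_induction with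
  | h1 i c =>
    rw [hm.hT_single]
    convert isTor_h_sim (S := S) i c using 1
    ext1 j; exact zmap_mulSingle _ _ _ _
  | h0 => simpa using isTor_one
  | h2 a b ha hb => simpa using ha.mul hb

theorem HMul.hom_ext (hm : S.HMul) {G' : Type*} [Group G'] {φ : G →* G'} {ψ : (I → Fˣ) →* G'}
    (h : ∀ i c, φ (S.h (Φ.sim i) c) = ψ (Pi.mulSingle i c)) (c : I → Fˣ) : φ (hm.hT c) = ψ c := by
  induction c using pi_units_induction with
  | h1 i c => rw [hm.hT_single, h]
  | h0 => simp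
  | h2 a b ha hb => simp [ha, hb]

theorem HMul.commute_H (hm : S.HMul) {g g' : G} (hg : g ∈ S.H) (hg' : g' ∈ S.H) : Commute g g' := by
  obtain ⟨c, rfl⟩ := hm.exists_hT hg
  obtain ⟨d, rfl⟩ := hm.exists_hT hg'
  exact (Commute.all c d).map _

theorem HMul.hT_eq_list (hm : S.HMul) {L : List I} (hL : L.Nodup) (hL' : ∀ i, i ∈ L) (c : I → Fˣ) :
    hm.hT c = (L.map fun i => S.h (Φ.sim i) (c i)).prod := by
  conv_lhs => rw [← Finset.univ_prod_mulSingle c, show (Finset.univ : Finset I) = L.toFinset by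
    ext; simp [hL'], List.prod_toFinset _ hL, map_list_prod, List.map_map]
  congr 1
  exact List.map_congr_left fun i _ => hm.hT_single i _

theorem HMul.ker_hT (hm : S.HMul) (hθ : Function.Injective S.θ) : hm.hT.ker = (zmap Fˣ Φ.cm).ker := by
  ext c
  rw [MonoidHom.mem_ker, MonoidHom.mem_ker]
  exact ⟨fun h => (hm.isTor_hT c).unique (h ▸ isTor_one),
    fun h => IsTor.eq_of_inj hθ (hm.isTor_hT c) (h ▸ isTor_one)⟩

theorem HMul.card_H (hm : S.HMul) [Finite F] :
    Nat.card hm.hT.ker * Nat.card S.H = (Nat.card F - 1) ^ Fintype.card I := by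
  rw [← hm.hT_range, mul_comm, ← Subgroup.index_ker, Subgroup.index_mul_card, Nat.card_pi]
  simp [Nat.card_units]

theorem card_H (hθ : Function.Injective S.θ) [Finite F] :
    Nat.card (zmap Fˣ Φ.cm).ker * Nat.card S.H = (Nat.card F - 1) ^ Fintype.card I := by
  rw [← (hMul_of_inj hθ).ker_hT hθ, HMul.card_H]

theorem card_Gx [Finite F] : Nat.card S.Gx = Nat.card F ^ Nat.card {r | Φ.Pos r} * Nat.card S.H *
    (RS.Sym.one Φ.toRS).poinc Set.univ (Nat.card F) := by
  classical
  rw [← PJ_univ, card_PJ, card_B, RS.poinc_one_eq, U, card_Ux RS.unip_pos]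

/-- the centre of a group with multiplicative `h` -/
theorem HMul.center_eq (hm : S.HMul) (hG : S.Gx = ⊤) :
    Subgroup.center G = (zmap Fˣ Φ.cm).ker.map hm.hT := by
  ext g
  have hg : g ∈ S.Gx := hG ▸ trivial
  have e : g ∈ Subgroup.center G ↔ S.θ g = 1 := by
    rw [θ_eq_one_iff hg, Subgroup.mem_center_iff, hG]
    exact ⟨fun h g' _ => (h g').symm, fun h g' => (h g' trivial).eq.symm⟩
  rw [e]
  constructor
  · intro h
    obtain ⟨c, rfl⟩ := hm.exists_hT (mem_H_of_θ hg ⟨1, by simpa using h⟩)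
    exact ⟨c, Φ.tG_injective F (by rw [← (hm.isTor_hT c).1, h]; simp), rfl⟩
  · rintro ⟨c, hc, rfl⟩
    rw [(hm.isTor_hT c).1, MonoidHom.mem_ker.1 hc, map_one]

end St

end Cfsg.Agent.Chev
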