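import Cfsg.Agent.Lib.Chev.TwE6

set_option autoImplicit false
set_option linter.unusedSectionVars false
set_option linter.style.haveILetI false

/-! Tools for the Suzuki and Ree groups. -/

namespace Cfsg.Agent.Chev

open Cfsg.Lie
open scoped commutatorElement

theorem exists_dihedral {W : Type*} [Group W] {t : Fin 2 → W} (ht : InvGen t) {n : ℕ} [NeZero n]
    (ho : orderOf (t 0 * t 1) = n) (hn : 2 < n) : ∃ e : DihedralGroup n ≃* W,
      (∀ i, e (.r i) = (t 0 * t 1) ^ i.val) ∧ ∀ i, e (.sr i) = t 0 * (t 0 * t 1) ^ i.val := by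
  set c := t 0 * t 1 with hc
  have h1 : ∀ i j : ZMod n, c ^ (i + j).val = c ^ i.val * c ^ j.val := fun i j => by
    rw [ZMod.val_add, ← pow_add, ← pow_mod_orderOf c (i.val + j.val), ho]
  have h2 : ∀ i j : ZMod n, c ^ (j - i).val = (c ^ i.val)⁻¹ * c ^ j.val := fun i j => by
    rw [eq_inv_mul_iff_mul_eq, ← h1, add_sub_cancel]
  have h3 : t 0 * c * (t 0)⁻¹ = c⁻¹ := by
    rw [hc, ← mul_assoc, ht.sq, one_mul, mul_inv_rev, inv_eq_of_mul_eq_one_left (ht.sq 1)]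
  have h4 : ∀ k : ℕ, c ^ k * t 0 = t 0 * (c ^ k)⁻¹ := fun k => by
    rw [← inv_pow, ← h3, conj_pow, ← mul_assoc, ← mul_assoc, ht.sq, one_mul, inv_eq_of_mul_eq_one_left (ht.sq 0)]
  let φ : DihedralGroup n →* W := MonoidHom.mk' (fun g => match g with
    | .r i => c ^ i.val
    | .sr i => t 0 * c ^ i.val) (by
      rintro (i | i) (j | j)
      · exact h1 i j
      · simp only [DihedralGroup.r_mul_sr, h2]; rw [← mul_assoc, ← mul_assoc, h4]
      · simp only [DihedralGroup.sr_mul_r, h1, mul_assoc]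
      · simp only [DihedralGroup.sr_mul_sr, h2]
        rw [mul_assoc, ← mul_assoc (c ^ _), h4, ← mul_assoc, ← mul_assoc, ht.sq, one_mul])
  refine ⟨MulEquiv.ofBijective φ ⟨(injective_iff_map_eq_one φ).2 ?_, fun w => ?_⟩, fun _ => rfl, fun _ => rfl⟩
  · rintro (i | i) e
    · have : i.val = 0 := Nat.eq_zero_of_dvd_of_lt (orderOf_dvd_of_pow_eq_one e) (ho ▸ i.val_lt)
      rw [(ZMod.val_eq_zero i).1 this]; rfl
    · have e2 : t 0 = (c ^ i.val)⁻¹ := eq_inv_of_mul_eq_one_left e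
      have : c ^ 2 = 1 := by
        rw [e2, inv_inv, mul_assoc, ← pow_succ', pow_succ, inv_mul_cancel_left] at h3
        rw [sq]; exact mul_eq_one_iff_eq_inv.2 h3
      exact absurd (Nat.le_of_dvd two_pos (ho ▸ orderOf_dvd_of_pow_eq_one this)) (by omega)
  · obtain ⟨ω, rfl⟩ := ht.gen w
    have a0 : φ (.sr 0) = t 0 := by simp [φ]
    have a1 : φ (.sr 1) = t 1 := by
      haveI : Fact (1 < n) := ⟨by omega⟩
      simp only [φ, MonoidHom.mk'_apply, ZMod.val_one, pow_one, hc]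
      rw [← mul_assoc, ht.sq, one_mul]
    induction ω with
    | nil => exact ⟨1, map_one φ⟩
    | cons k ω ih =>
      obtain ⟨g, hg⟩ := ih
      fin_cases k
      · exact ⟨.sr 0 * g, by rw [map_mul, a0, hg]; rfl⟩
      · exact ⟨.sr 1 * g, by rw [map_mul, a1, hg]; rfl⟩

theorem wordMat_map (D : ChevalleyDatum) {K K' : Type*} [Field K] [Field K'] (f : K →+* K') (w : List (ℕ × K)) :
    (D.wordMat K w).map f = D.wordMat K' (w.map fun p => (p.1, f p.2)) := by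
  induction w with
  | nil => simp [ChevalleyDatum.wordMat]
  | cons p w ih =>
    simp only [ChevalleyDatum.wordMat, List.map_cons, List.prod_cons] at ih ⊢
    rw [Matrix.map_mul, ih, x_map]

theorem pow_eq_one_of_tw {A : Type*} [CommGroup A] {f : A →* A} {p : ℕ} (h1 : ∀ c, f (f c) ^ p = c) {s : A} {a b : ℤ}
    (h : f s ^ a * s ^ b = 1) {n : ℕ} (hn : a * a - p * b * b ∣ p * n) : s ^ n = 1 := by
  have h2 : s ^ a * f s ^ (p * b) = 1 := by
    have := congrArg (fun c => f c ^ p) h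
    simp only [map_mul, map_zpow, mul_pow, map_one, one_pow] at this
    rwa [← zpow_natCast, ← zpow_natCast, ← zpow_mul, ← zpow_mul, mul_comm a, zpow_mul, zpow_natCast, h1,
      mul_comm b] at this
  have h3 : s ^ (a * a - p * b * b) = (s ^ a * f s ^ (p * b)) ^ a * ((f s ^ a * s ^ b) ^ (p * b))⁻¹ := by
    simp only [mul_zpow, ← zpow_mul, zpow_sub, mul_inv]
    rw [mul_comm (p * b) a, mul_comm b (p * b), mul_assoc (s ^ _), mul_inv_cancel_left]
  rw [h, h2, one_zpow, one_zpow, inv_one, mul_one] at h3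
  obtain ⟨k, hk⟩ := hn
  have h4 : s ^ (p * n) = 1 := by rw [← zpow_natCast, Nat.cast_mul, hk, zpow_mul, h3, one_zpow]
  rw [← h1 (s ^ n), ← map_pow, ← map_pow, ← pow_mul', h4, map_one, map_one]

/-- the identity or the Frobenius map -/
def pwHom {F : Type*} [Field F] (p : ℕ) [Fact p.Prime] [CharP F p] {e : ℕ} (he : e = 1 ∨ e = p) : F →+* F where
  toFun t := t ^ e
  map_one' := one_pow e
  map_mul' a b := mul_pow a b e
  map_zero' := zero_pow (by have := (Fact.out : p.Prime).ne_zero; omega)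
  map_add' a b := by
    rcases he with rfl | rfl
    · simp
    · exact add_pow_char a b e

variable {I R : Type} [Fintype I] [DecidableEq I] [Fintype R] [DecidableEq R] {Φ : CD I R}

theorem chi_zmap {F : Type*} [Field F] (c : I → Fˣ) (r : R) :
    RS.chi (zmap Fˣ Φ.cm c) (Φ.rv r) = ∏ i, c i ^ Φ.A i r := by
  simp only [RS.chi, zmap_apply, ← Finset.prod_zpow, ← zpow_mul]
  rw [Finset.prod_comm]
  refine Finset.prod_congr rfl fun i _ => ?_
  rw [← zpow_finsum, Φ.A_eq]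
  simp [RS.cm, mul_comm]

namespace St
variable {F : Type*} [Field F] {G : Type*} [Group G] {S : St Φ F G}

/-- an exceptional graph-field endomorphism -/
abbrev mkRee (ρ : Φ.Sym) (p : ℕ) [Fact p.Prime] [CharP F p] (e : R → ℕ) (he : ∀ r, e r = 1 ∨ e r = p)
    (he' : ∀ i, e (Φ.neg (Φ.sim i)) = e (Φ.sim i)) (θ : F →+* F) (σ : G →* G)
    (hσ : ∀ r t, σ (S.x r t) = S.x (ρ.ρ r) (θ t ^ e r)) : S.Tw where
  ρ := ρ
  σ := σ
  τ r t := θ t ^ e r
  f i := (pwHom p (he (Φ.sim i))).comp θ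
  σ_x := hσ
  τ_sim _ _ := rfl
  τ_neg i t := by rw [he']; rfl

theorem mat_U_mul {δ : R} (hδ : ∀ a, Φ.dg 1 a ≤ Φ.dg 1 (.inr δ)) {u u' : G} (hu : u ∈ S.U) (hu' : u' ∈ S.U) (g : G) :
    S.mat (u * g * u') (.inr (Φ.neg δ)) (.inr δ) = S.mat g (.inr (Φ.neg δ)) (.inr δ) := by
  have h1 : ∀ u ∈ S.U, Raise (Φ.dg 1) 1 (S.mat u - 1) := fun u hu =>
    raise_Ux zero_le_one (fun r hr => RS.unip_pos.pos r hr) hu
  have h2 : ∀ a, Φ.dg 1 (.inr (Φ.neg δ)) ≤ Φ.dg 1 a := by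
    rintro (i | r)
    · have := hδ (.inl i)
      simp only [RS.dg_inl, RS.dg_inr, RS.fn_neg] at this ⊢; omega
    · have := hδ (.inr (Φ.neg r))
      simp only [RS.dg_inr, RS.fn_neg] at this ⊢; omega
  rw [mat_mul, mat_mul, ← sub_add_cancel (S.mat u) 1, ← sub_add_cancel (S.mat u') 1, mul_add, mul_one, add_mul,
    one_mul, Matrix.add_apply, Matrix.add_apply, Matrix.mul_apply, Matrix.mul_apply, Finset.sum_eq_zero,
    Finset.sum_eq_zero, zero_add, zero_add]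
  · exact fun a _ => by rw [h1 u hu _ _ (by have := h2 a; omega), zero_mul]
  · exact fun a _ => by rw [h1 u' hu' _ _ (by have := hδ a; omega), mul_zero]

theorem IsTor.mat_mul {h : G} {a : I → Fˣ} (ha : S.IsTor h a) (g : G) (r : R) (b : I ⊕ R) :
    S.mat (h * g) (.inr r) b = RS.chi a (Φ.rv r) * S.mat g (.inr r) b := by
  rw [St.mat_mul, St.mat, ha.1, RS.tG_val, RS.tM, Matrix.diagonal_mul]; rfl

namespace Tw.Sub
variable {T : S.Tw} {K : Type} {o : T.ρ.Orb K} {Γ : Type*} [Group Γ] {ι : Γ →* G} (hX : T.Sub o ι.range)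
include hX

theorem conj_mem (hG : ∀ Z : Subgroup Γ, S.U.comap ι ≤ Z → S.V.comap ι ≤ Z → Z = ⊤) {h : G} (hh : h ∈ S.H)
    (e : T.σ h = h) {g : G} (hg : g ∈ ι.range) : h * g * h⁻¹ ∈ ι.range := by
  obtain ⟨g, rfl⟩ := hg
  have := hG (ι.range.comap ((MulAut.conj h).toMonoidHom.comp ι))
    (fun u hu => hX.mem_of_U (conj_H_Ux hh hu) (by simp [e, hX.fix _ ⟨u, rfl⟩]))
    (fun u hu => hX.mem_of_V (conj_H_Ux hh hu) (by simp [e, hX.fix _ ⟨u, rfl⟩]))
  exact (this ▸ trivial : g ∈ ι.range.comap ((MulAut.conj h).toMonoidHom.comp ι))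

theorem sq_mem (hG : ∀ Z : Subgroup Γ, S.U.comap ι ≤ Z → S.V.comap ι ≤ Z → Z = ⊤) (hθ : Function.Injective S.θ)
    (hw : ∀ i, Φ.w0 Set.univ • Φ.sim i = Φ.neg (Φ.sim i)) {h : G} (hh : h ∈ S.H) (e : T.σ h = h) :
    h * h ∈ ι.range := by
  obtain ⟨m, h1, h2, h3, -⟩ := hX.exists_n0
  obtain ⟨a, ha⟩ := exists_isTor hh
  have h4 := ha.conj hh h2 h3
  simp only [RS.w0_inv, hw, Φ.rv_neg, Φ.rv_sim, RS.chi_neg, RS.chi_single, zpow_one] at h4
  have h5 : m * h * m⁻¹ = h⁻¹ := h4.eq_of_inj hθ ha.inv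
  have := mul_mem (hX.conj_mem hG hh e (inv_mem h1)) h1
  rwa [← h5, show h * m⁻¹ * (m * h * m⁻¹) * m = h * h by group] at this

theorem exists_H_ent (hW : ∀ w ∈ T.ρ.W1, w = 1 ∨ w = Φ.w0 Set.univ) {δ : R}
    (hδ : ∀ a, Φ.dg 1 a ≤ Φ.dg 1 (.inr δ)) {v v' : G} (hv : v ∈ ι.range) (hv' : v' ∈ ι.range)
    (h1 : v ∉ S.B) (h2 : v' ∉ S.B) : ∃ h ∈ S.H, h ∈ ι.range ∧ ∀ a, S.IsTor h a →
      S.mat v (.inr (Φ.neg δ)) (.inr δ) = RS.chi a (Φ.rv (Φ.neg δ)) * S.mat v' (.inr (Φ.neg δ)) (.inr δ) := by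
  obtain ⟨m, h3, h4, h5, -⟩ := hX.exists_n0
  have key : ∀ v ∈ ι.range, v ∉ S.B → ∃ h ∈ S.H, h ∈ ι.range ∧
      S.mat v (.inr (Φ.neg δ)) (.inr δ) = S.mat (h * m) (.inr (Φ.neg δ)) (.inr δ) := fun v hv h1 => by
    obtain ⟨w, hw, h⟩ := hX.bruhat hv
    rcases hW w hw with rfl | rfl
    · obtain ⟨b, hb, u, hu, -, -, rfl⟩ := h 1 (one_mem _) (one_mem _) acts_one
      exact absurd (mul_mem (mul_mem hb (one_mem _)) (U_le_B (Uw_le_U _ hu))) h1
    · obtain ⟨b, hb, u, hu, h6, -, rfl⟩ := h m h3 h4 h5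
      obtain ⟨u', hu', g, hg, -, h7, rfl⟩ := hX.split_B hb h6
      exact ⟨g, hg, h7, by rw [mul_assoc u', mat_U_mul hδ hu' (Uw_le_U _ hu)]⟩
  obtain ⟨g, hg, a1, a2⟩ := key v hv h1
  obtain ⟨g', hg', a3, a4⟩ := key v' hv' h2
  exact ⟨_, mul_mem hg (inv_mem hg'), mul_mem a1 (inv_mem a3), fun a ha => by
    rw [a2, a4, ← ha.mat_mul, mul_assoc g, inv_mul_cancel_left]⟩

variable (hι : Function.Injective ι)
include hι

omit hX in
theorem card_H_eq (hX : ∀ g ∈ ι.range, T.σ g = g) (hθ : Function.Injective S.θ) (hm : S.HMul)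
    (hi : Function.Injective hm.hT) (h : ∀ c ∈ T.tfix, hm.hT c ∈ ι.range) :
    Nat.card (S.H.comap ι) = Nat.card T.tfix := by
  have := card_H hι hθ hm _ h fun g hg => by
    obtain ⟨c, e⟩ := hm.exists_hT hg
    exact ⟨c, (T.mem_tfix_iff hm hi c).2 (e ▸ hX _ ⟨g, rfl⟩), e⟩
  rwa [← hm.ker_hT hθ, (MonoidHom.ker_eq_bot_iff _).2 hi, inf_bot_eq, Subgroup.card_bot, one_mul] at this

theorem card_Uw_sq {q : ℕ} (he : ∀ k, Nat.card ((S.UL (o.J k)).comap ι) ^ 2 = q ^ len Φ.s (Φ.w0 (o.J k)))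
    {w : Φ.W} (hw : w ∈ T.ρ.W1) {n : ℕ} (hn : (Φ.invSet w).card = 2 * n) : Nat.card ((S.Uw w).comap ι) = q ^ n :=
  Nat.pow_left_injective two_ne_zero (by
    simp only
    rw [hX.card_Uw hι he hw, ← RS.card_invSet, hn, pow_mul'])

omit hX in
theorem le_comm_hT [Finite F] (hm : S.HMul) {c : I → Fˣ} (hc : hm.hT c ∈ ι.range) (J : Set I)
    (h : ∀ r, Φ.Pos r → Φ.InJ J r → ∏ i, c i ^ Φ.A i r ≠ 1) : (S.UL J).comap ι ≤ commutator Γ := by
  obtain ⟨g, e⟩ := hc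
  exact le_commutator hι (unip_UL J) (e ▸ hm.hT_mem c) (e ▸ hm.isTor_hT c) fun r hr => by
    rw [chi_zmap]; exact h r hr.1 hr.2

end Tw.Sub
end St

theorem Checked.exists_ree {D : ChevalleyDatum} {c : Cert} (h : Checked D c) {K : Type*} [Field K]
    (ρ : h.toCD.Sym) (e : Fin D.nroots → ℕ) (f : K →+* K)
    (h1 : ∃ φ : D.group K →* D.group K, ∀ r t, φ ((h.adj K).x r t) = (h.adj K).x (ρ.ρ r) (t ^ e r)) :
    ∃ φ : D.group K →* D.group K, ∀ r t, φ ((h.adj K).x r t) = (h.adj K).x (ρ.ρ r) (f t ^ e r) := by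
  obtain ⟨φ, hφ⟩ := h1
  exact ⟨φ.comp (h.fieldHom f), fun r t => by rw [MonoidHom.comp_apply, h.fieldHom_x, hφ]⟩

theorem exists_theta {K : Type*} [Field K] [Fintype K] {p m : ℕ} [Fact p.Prime]
    (hK : Fintype.card K = p ^ (2 * m + 1)) :
    CharP K p ∧ ∃ θ : K →+* K, (∀ t, θ t = t ^ p ^ m) ∧ ∀ t, θ (θ t) ^ p = t := by
  haveI : CharP K p := charP_of_card_eq_prime_pow hK
  refine ⟨this, iterateFrobenius K p m, fun _ => rfl, fun t => ?_⟩
  rw [iterateFrobenius_def, iterateFrobenius_def, ← pow_mul, ← pow_mul, ← pow_succ, ← pow_add, ← add_assoc, ← two_mul,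
    ← hK, FiniteField.pow_card]

end Cfsg.Agent.Chev
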