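import Cfsg.Agent.Lib.Chev.Poinc
import Cfsg.Agent.Lib.Chev.Simple

set_option autoImplicit false
set_option linter.unusedSectionVars false

/-! The fixed points of a symmetry in the Weyl group. -/

namespace Cfsg.Agent.Chev.RS

variable {I R : Type} [Fintype I] [DecidableEq I] [Fintype R] [DecidableEq R] {Φ : RS I R}

theorem pos_smul_of_inJ {J : Set I} {w : Φ.W} (h : ∀ j ∈ J, Φ.Pos (w • Φ.sim j)) {r : R} (hr : Φ.Pos r)
    (hJ : Φ.InJ J r) : Φ.Pos (w • r) :=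
  pos_smul hr fun i hi => h i (by by_contra hn; exact hi (hJ i hn))

theorem neg_smul_of_inJ {J : Set I} {w : Φ.W} (h : ∀ j ∈ J, ¬ Φ.Pos (w • Φ.sim j)) {r : R} (hr : Φ.Pos r)
    (hJ : Φ.InJ J r) : ¬ Φ.Pos (w • r) :=
  neg_smul hr fun i hi => h i (by by_contra hn; exact hi (hJ i hn))

theorem w0_smul_smul (J : Set I) (r : R) : Φ.w0 J • Φ.w0 J • r = r := by rw [← mul_smul, w0_sq, one_smul]

theorem inJ_of_inv {J : Set I} {w : Φ.W} (hw : w ∈ Φ.WJ J) {r : R} (h1 : Φ.Pos r) (h2 : ¬ Φ.Pos (w • r)) :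
    Φ.InJ J r := by
  by_contra hn; exact h2 ((pos_smul_iff_of_not_inJ hw hn).2 h1)

theorem inv_mul_w0 {J : Set I} {w : Φ.W} (h : ∀ j ∈ J, Φ.Pos (w • Φ.sim j)) (r : R) :
    (Φ.Pos r ∧ ¬ Φ.Pos ((w * Φ.w0 J) • r)) ↔ (Φ.Pos r ∧ Φ.InJ J r) ∨
      (Φ.Pos (Φ.w0 J • r) ∧ ¬ Φ.Pos (w • Φ.w0 J • r)) := by
  rw [mul_smul]
  by_cases hJ : Φ.InJ J r
  · have h1 := hJ.smul (w0_mem J)
    constructor
    · exact fun h => Or.inl ⟨h.1, hJ⟩
    · rintro (⟨h2, -⟩ | ⟨h2, h3⟩)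
      · refine ⟨h2, ?_⟩
        rw [← pos_neg_iff, ← smul_neg']
        exact pos_smul_of_inJ h (pos_neg_iff.2 (w0_neg h2 hJ)) h1.neg
      · exact absurd (pos_smul_of_inJ h h2 h1) h3
  · simp [hJ, pos_smul_iff_of_not_inJ (w0_mem J) hJ]

theorem not_inJ_of_inv {J : Set I} {w : Φ.W} (h : ∀ j ∈ J, Φ.Pos (w • Φ.sim j)) {r : R}
    (h1 : Φ.Pos (Φ.w0 J • r)) (h2 : ¬ Φ.Pos (w • Φ.w0 J • r)) : ¬ Φ.InJ J r :=
  fun hJ => h2 (pos_smul_of_inJ h h1 (hJ.smul (w0_mem J)))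

theorem len_mul_w0 {J : Set I} {w : Φ.W} (h : ∀ j ∈ J, Φ.Pos (w • Φ.sim j)) :
    len Φ.s (w * Φ.w0 J) = len Φ.s (Φ.w0 J) + len Φ.s w := by
  rw [← card_invSet, ← card_invSet, ← card_invSet,
    ← Finset.card_image_of_injective (Φ.invSet w) (MulAction.injective (Φ.w0 J)), ← Finset.card_union_of_disjoint]
  · congr 1
    ext r
    simp only [Finset.mem_union, mem_invSet, inv_mul_w0 h, Finset.mem_image]
    refine or_congr (and_congr_right fun h1 => ⟨w0_neg h1, inJ_of_inv (w0_mem J) h1⟩) ⟨fun h1 =>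
      ⟨_, h1, w0_smul_smul J r⟩, ?_⟩
    rintro ⟨a, h1, rfl⟩
    rwa [w0_smul_smul]
  · rw [Finset.disjoint_left]
    intro r h1 h2
    obtain ⟨a, h3, rfl⟩ := Finset.mem_image.1 h2
    rw [mem_invSet] at h1 h3
    exact not_inJ_of_inv h (by rw [w0_smul_smul]; exact h3.1) (by rw [w0_smul_smul]; exact h3.2)
      (inJ_of_inv (w0_mem J) h1.1 h1.2)

theorem pos_mul_w0 {J : Set I} {w : Φ.W} (h : ∀ j ∈ J, ¬ Φ.Pos (w • Φ.sim j)) {j : I} (hj : j ∈ J) :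
    Φ.Pos ((w * Φ.w0 J) • Φ.sim j) := by
  have h1 := inJ_sim (Φ := Φ).2 hj
  have := neg_smul_of_inJ h (pos_neg_iff.2 (w0_neg (Φ.pos_sim j) h1)) (h1.smul (w0_mem J)).neg
  rwa [smul_neg', pos_neg_iff, not_not, ← mul_smul] at this

theorem w0_ne_one {J : Set I} {j : I} (hj : j ∈ J) : Φ.w0 J ≠ 1 := fun e =>
  w0_neg (Φ.pos_sim j) (inJ_sim.2 hj) (by rw [e, one_smul]; exact Φ.pos_sim j)

theorem conj_mem_WJ {J K : Set I} {v : Φ.W} (h : ∀ j ∈ J, Φ.InJ K (v • Φ.sim j)) {w : Φ.W} (hw : w ∈ Φ.WJ J) :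
    v * w * v⁻¹ ∈ Φ.WJ K := by
  refine WJ_induction (p := fun w => v * w * v⁻¹ ∈ Φ.WJ K) (by simp) (fun j hj w _ _ ih => ?_) hw
  obtain ⟨u, hu, k, hk, e⟩ := exists_smul_sim_of_inJ (h j hj)
  have := conj_of_smul_sim (w := u⁻¹ * v) (i := k) (j := j) (by rw [mul_smul, e, inv_smul_smul])
  have e2 : v * (w * Φ.s j) * v⁻¹ = (v * w * v⁻¹) * (u * Φ.s k * u⁻¹) := by
    calc _ = (v * w * v⁻¹) * (u * (u⁻¹ * v * Φ.s j) * v⁻¹) := by group
      _ = _ := by rw [← this]; group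
  rw [e2]
  exact mul_mem ih (mul_mem (mul_mem hu (s_mem_WJ hk)) (inv_mem hu))

theorem A_nonpos {i j : I} (h : i ≠ j) : Φ.A i (Φ.sim j) ≤ 0 := by
  have := ((Φ.pos_sim j).rf (i := i) fun e => h (Φ.sim_inj e).symm) i
  rw [Φ.rv_rf, Φ.rv_sim] at this
  simpa [h] using this

theorem A_eq_zero_of_commute_w0 {J K : Set I} (hJK : ∀ j ∈ J, j ∉ K) {i j : I} (hi : i ∈ J) (hj : j ∈ K)
    (h : Φ.w0 J * Φ.w0 K = Φ.w0 K * Φ.w0 J) : Φ.A i (Φ.sim j) = 0 := by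
  have hjK := inJ_sim (Φ := Φ).2 hj
  have nJ : ∀ r, Φ.InJ K r → ¬ Φ.InJ J r := fun r h1 h2 => Φ.rv_ne_zero r (funext fun k => by
    by_cases e : k ∈ J
    · exact h1 k (hJK k e)
    · exact h2 k e)
  have h1 : Φ.InJ K (Φ.w0 J • Φ.sim j) := by
    refine inJ_of_inv (w0_mem K) ((pos_smul_iff_of_not_inJ (w0_mem J) (nJ _ hjK)).2 (Φ.pos_sim j)) ?_
    rw [← mul_smul, ← h, mul_smul, pos_smul_iff_of_not_inJ (w0_mem J) (nJ _ (hjK.smul (w0_mem K)))]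
    exact w0_neg (Φ.pos_sim j) hjK
  have h2 : Φ.w0 J • Φ.sim j = Φ.sim j := Φ.rv_inj (funext fun k => by
    by_cases e : k ∈ J
    · rw [h1 k (hJK k e), hjK k (hJK k e)]
    · exact rv_smul_of_mem_WJ (w0_mem J) _ e)
  have hiJ := inJ_sim (Φ := Φ).2 hi
  have h3 : Φ.pair (Φ.neg (Φ.w0 J • Φ.sim i)) (Φ.sim j) ≤ 0 := by
    refine Finset.sum_nonpos fun k _ => ?_
    by_cases e : k ∈ J
    · exact mul_nonpos_of_nonneg_of_nonpos (cv_nonneg_iff.2 (pos_neg_iff.2 (w0_neg (Φ.pos_sim i) hiJ) k))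
        (A_nonpos fun e' => hJK k e (e' ▸ hj))
    · rw [cv_eq_zero_iff.2 ((hiJ.smul (w0_mem J)).neg k e), zero_mul]
  rw [pair_neg_left, ← h2, pair_smul, pair_sim] at h3
  have := A_nonpos (Φ := Φ) (i := i) (j := j) fun e' => hJK i hi (e' ▸ hj)
  omega

namespace Sym

/-- a labelling of the orbits on the nodes -/
structure Orb (σ : Φ.Sym) (K : Type) where
  κ : I → K
  surj : Function.Surjective κ
  inv : ∀ i, κ (σ.ρI i) = κ i
  cyc : ∀ i j, κ i = κ j → ∃ n : ℕ, σ.ρI^[n] i = j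

theorem stable_univ (σ : Φ.Sym) : σ.Stable Set.univ := fun _ => Iff.rfl

theorem pos_W1 {σ : Φ.Sym} {w : Φ.W} (hw : w ∈ σ.W1) (r : R) : Φ.Pos (w • σ.ρ r) ↔ Φ.Pos (w • r) := by
  rw [← mem_W1_iff.1 hw, σ.pos_iff]

namespace Orb
variable {σ : Φ.Sym} {K : Type} (o : σ.Orb K)

/-- the orbits -/
def J (k : K) : Set I := {i | o.κ i = k}

theorem mem_J (i : I) : i ∈ o.J (o.κ i) := rfl

theorem exists_mem (k : K) : ∃ i, i ∈ o.J k := o.surj k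

theorem stable (k : K) : σ.Stable (o.J k) := fun j => by simp [J, o.inv]

/-- the generators -/
noncomputable def t (k : K) : σ.W1 := ⟨Φ.w0 (o.J k), Sym.w0_mem (o.stable k)⟩

theorem pos_iff {w : Φ.W} (hw : w ∈ σ.W1) {k : K} {i j : I} (hi : i ∈ o.J k) (hj : j ∈ o.J k) :
    Φ.Pos (w • Φ.sim i) ↔ Φ.Pos (w • Φ.sim j) := by
  obtain ⟨n, rfl⟩ := o.cyc i j (hi.trans hj.symm)
  clear hj
  induction n with
  | zero => rfl
  | succ n ih => rw [ih, Function.iterate_succ_apply', ← σ.sim, pos_W1 hw]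

theorem eq_of_mem {w : Φ.W} (hw : w ∈ σ.W1) {k : K} (h : w ∈ Φ.WJ (o.J k)) : w = 1 ∨ w = Φ.w0 (o.J k) := by
  by_cases e : w = 1
  · exact Or.inl e
  · obtain ⟨j, hj, h1⟩ := exists_neg_of_mem_WJ h e
    exact Or.inr (eq_w0 h fun i hi => by rwa [o.pos_iff hw hi hj])

theorem W1_induction {p : Φ.W → Prop} (h1 : p 1)
    (h2 : ∀ k, ∀ w ∈ σ.W1, (∀ j ∈ o.J k, Φ.Pos (w • Φ.sim j)) → p w → p (w * Φ.w0 (o.J k)))
    {w : Φ.W} (hw : w ∈ σ.W1) : p w := by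
  generalize hn : len Φ.s w = n
  induction n using Nat.strong_induction_on generalizing w with
  | h n ih =>
    by_cases e : ∀ i, Φ.Pos (w • Φ.sim i)
    · rw [eq_one_of_pos e]; exact h1
    · obtain ⟨i, hi⟩ := not_forall.1 e
      have h3 : ∀ j ∈ o.J (o.κ i), Φ.Pos ((w * Φ.w0 (o.J (o.κ i))) • Φ.sim j) := fun j hj =>
        pos_mul_w0 (fun j hj => by rwa [o.pos_iff hw hj (o.mem_J i)]) hj
      have h4 := mul_mem hw (o.t (o.κ i)).2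
      have h5 := len_mul_w0 h3
      have h6 : w * Φ.w0 (o.J (o.κ i)) * Φ.w0 (o.J (o.κ i)) = w := by rw [mul_assoc, w0_sq, mul_one]
      have h7 := Φ.invGen.len_eq_zero.not.2 (w0_ne_one (Φ := Φ) (o.mem_J i))
      rw [h6] at h5
      rw [← h6]
      exact h2 _ _ h4 h3 (ih _ (by omega) h4 rfl)

theorem invGen : InvGen o.t where
  sq k := Subtype.ext (w0_sq _)
  gen := by
    rintro ⟨w, hw⟩
    have := o.W1_induction (p := fun w => ∃ ω : List K, ((wp o.t ω : σ.W1) : Φ.W) = w) ⟨[], rfl⟩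
      (fun k w _ _ ⟨ω, e⟩ => ⟨ω ++ [k], by simp [e, t]⟩) hw
    exact this.imp fun _ e => Subtype.ext e

theorem exchange_and : Exchange o.t ∧ ∀ k (w : σ.W1), (∀ j ∈ o.J k, Φ.Pos ((w : Φ.W)⁻¹ • Φ.sim j)) ↔
    len o.t w < len o.t (o.t k * w) := by
  refine o.invGen.exchange_of_pos (fun k w => ∀ j ∈ o.J k, Φ.Pos ((w : Φ.W)⁻¹ • Φ.sim j))
    (fun k j _ => by simpa using Φ.pos_sim j) (fun k w h1 h2 => ?_) fun k k' w h1 h2 => ?_
  · obtain ⟨j, hj⟩ := o.exists_mem k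
    refine ((inv_mul_w0 h1 (Φ.sim j)).2 (Or.inl ⟨Φ.pos_sim j, inJ_sim.2 hj⟩)).2 ?_
    simpa [t, w0_inv] using h2 j hj
  · have h3 : ∀ j ∈ o.J k, Φ.InJ (o.J k') ((w : Φ.W)⁻¹ • Φ.sim j) := by
      push Not at h2
      obtain ⟨i, hi, h2⟩ := h2
      intro j hj
      refine inJ_of_inv (RS.w0_mem _) (h1 j hj) ?_
      rw [o.pos_iff (inv_mem (w * o.t k').2) hi hj] at h2
      simpa [t, w0_inv, mul_smul] using h2
    have h4 := conj_mem_WJ h3 (RS.w0_mem (o.J k))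
    rcases o.eq_of_mem (mul_mem (mul_mem (inv_mem w.2) (o.t k).2) (inv_mem (inv_mem w.2))) h4 with e | e
    · obtain ⟨j, hj⟩ := o.exists_mem k
      exact absurd (by simpa [t, mul_assoc, inv_mul_eq_one] using e) (w0_ne_one (Φ := Φ) hj)
    · refine Subtype.ext ?_
      simp only [t, Subgroup.coe_mul] at e ⊢
      rw [← e]; group

theorem exchange : Exchange o.t := o.exchange_and.1

theorem t_inj : Function.Injective o.t := by
  intro k k' e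
  obtain ⟨j, hj⟩ := o.exists_mem k
  have h1 := w0_neg (Φ.pos_sim j) (inJ_sim.2 hj)
  rw [show Φ.w0 (o.J k) = Φ.w0 (o.J k') from congrArg Subtype.val e] at h1
  have h2 : j ∈ o.J k' := inJ_sim.1 (inJ_of_inv (RS.w0_mem _) (Φ.pos_sim j) h1)
  exact (show o.κ j = k from hj).symm.trans h2

theorem conn (hc : Φ.Conn) (A : Set K) (h1 : A.Nonempty) (h2 : Aᶜ.Nonempty) :
    ∃ k ∈ A, ∃ k' ∉ A, o.t k * o.t k' ≠ o.t k' * o.t k := by
  obtain ⟨i, hi, j, hj, h⟩ := hc (o.κ ⁻¹' A) (h1.preimage o.surj) (h2.preimage o.surj)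
  refine ⟨_, hi, _, hj, fun e => h (A_eq_zero_of_commute_w0 (J := o.J (o.κ i)) (K := o.J (o.κ j))
    (fun k h1 h2 => hj ?_) rfl rfl (congrArg Subtype.val e))⟩
  rw [Set.mem_preimage, ← h2, h1]; exact hi

end Orb
end Sym

end Cfsg.Agent.Chev.RS
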