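import Cfsg.Agent.Lib.Chev.TwW
import Cfsg.Agent.Lib.Chev.Stein

set_option autoImplicit false
set_option linter.unusedSectionVars false
set_option linter.style.haveILetI false

/-! Fixed points of an endomorphism permuting the root subgroups. -/

namespace Cfsg.Agent.Chev

open scoped commutatorElement

variable {I R : Type} [Fintype I] [DecidableEq I] [Fintype R] [DecidableEq R]

theorem fix_of_mul {G : Type*} [Group G] {σ : G →* G} {A B : Subgroup G} (h : ∀ g ∈ A, g ∈ B → g = 1) {a b : G}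
    (ha : a ∈ A) (ha' : σ a ∈ A) (hb : b ∈ B) (hb' : σ b ∈ B) (e : σ (a * b) = a * b) : σ a = a ∧ σ b = b := by
  rw [map_mul] at e
  have h1 : a⁻¹ * σ a = b * (σ b)⁻¹ := by
    calc _ = a⁻¹ * (σ a * σ b) * (σ b)⁻¹ := by group
      _ = _ := by rw [e]; group
  have h2 := h _ (mul_mem (inv_mem ha) ha') (h1 ▸ mul_mem hb (inv_mem hb'))
  exact ⟨(inv_mul_eq_one.1 h2).symm, (mul_inv_eq_one.1 (h1 ▸ h2)).symm⟩

namespace St
variable {Φ : CD I R} {F : Type*} [Field F] {G : Type*} [Group G] {S : St Φ F G}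

variable (S) in
/-- the unipotent subgroup of a Levi factor -/
def UL (J : Set I) : Subgroup G := S.Ux {r | Φ.Pos r ∧ Φ.InJ J r}

variable (S) in
/-- the opposite unipotent subgroup of a Levi factor -/
def VL (J : Set I) : Subgroup G := S.Ux {r | ¬ Φ.Pos r ∧ Φ.InJ J r}

theorem UL_le_U (J : Set I) : S.UL J ≤ S.U := Ux_mono fun _ h => h.1
theorem VL_le_V (J : Set I) : S.VL J ≤ S.V := Ux_mono fun _ h => h.1

theorem unip_UL (J : Set I) : Φ.Unip 1 {r | Φ.Pos r ∧ Φ.InJ J r} :=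
  RS.unip_pos.subset (RS.unip_pos.closed.inter (RS.closed_inJ J)) fun _ h => h.1

theorem mem_UL_of_LJ {J : Set I} {u : G} (hu : u ∈ S.U) (h : u ∈ S.LJ J) : u ∈ S.UL J := by
  obtain ⟨a, ha, c, hc, rfl⟩ := exists_mul (S := S) (B := {r | Φ.Pos r ∧ Φ.InJ J r})
    (C := {r | Φ.Pos r ∧ ¬ Φ.InJ J r}) RS.unip_pos (fun r => by simp only [Set.mem_ofPred_eq]; tauto) hu
  have h1 : a ∈ S.LJ J := Subgroup.mem_sup_left (Ux_mono (fun _ h => h.2) ha)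
  have h2 : c ∈ S.UJ J ⊓ S.LJ J := ⟨hc, by simpa using mul_mem (inv_mem h1) h⟩
  rw [UJ_inf_LJ, Subgroup.mem_bot] at h2
  rwa [h2, mul_one]

theorem bruhat_PJ {J : Set I} {g : G} (hg : g ∈ S.PJ J) :
    ∃ u ∈ S.U, ∃ m ∈ S.N, ∃ w ∈ Φ.WJ J, S.Acts m w ∧ ∃ u' ∈ S.Uw w, g = u * m * u' := by
  obtain ⟨b, hb, m, ⟨hm, w, hw, ha⟩, b', hb', rfl⟩ := mem_PJ_iff.1 hg
  obtain ⟨b'', h1, u', h2, e⟩ := exists_normal_form hm ha hb hb'
  obtain ⟨u, hu, h, hh, rfl⟩ := mem_B_iff.1 h1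
  exact ⟨u, hu, h * m, mul_mem (H_le_N hh) hm, w, hw, by simpa using (acts_of_mem_H hh).mul ha, u', h2,
    by rw [e]; group⟩

theorem Uw_w0 : S.Uw (Φ.w0 Set.univ) = S.U := by
  unfold Uw U
  congr 1
  ext r
  exact and_iff_left_of_imp fun h => RS.w0_neg h fun i hi => absurd trivial hi

theorem exists_mul_w0 {J : Set I} {w : Φ.W} (h : ∀ j ∈ J, Φ.Pos (w • Φ.sim j)) {m : G} (hm : S.Acts m (Φ.w0 J))
    {u : G} : u ∈ S.Uw (w * Φ.w0 J) ↔ ∃ a ∈ S.UL J, ∃ c ∈ S.Uw w, u = a * (m⁻¹ * c * m) := by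
  constructor
  · intro hu
    obtain ⟨a, ha, b, hb, rfl⟩ := exists_mul (unip_invSet _) (RS.inv_mul_w0 h) hu
    exact ⟨a, ha, m * b * m⁻¹, hm.conj_mem (fun _ h => h) hb, by group⟩
  · rintro ⟨a, ha, c, hc, rfl⟩
    refine mul_mem (Ux_mono (fun r hr => (RS.inv_mul_w0 h r).2 (Or.inl hr)) ha)
      (hm.conj_mem' (fun r hr => (RS.inv_mul_w0 h _).2 (Or.inr ?_)) hc)
    rwa [smul_inv_smul]

theorem eq_one_of_w0 {J : Set I} {w : Φ.W} {m : G} (hm : S.Acts m (Φ.w0 J))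
    {a : G} (ha : a ∈ S.UL J) (hc : m * a * m⁻¹ ∈ S.Uw w) : a = 1 := by
  have h1 : m * a * m⁻¹ ∈ S.V := hm.conj_mem (fun r hr => RS.w0_neg hr.1 hr.2) ha
  simpa using eq_one_of_mem_B_V (U_le_B (Uw_le_U _ hc)) h1

variable (S) in
/-- the coordinate at a fundamental root -/
def co (i : I) (g : G) : F := S.ent (Φ.sim i) i g

theorem co_mul (i : I) {g g' : G} (hg : g ∈ S.U) (hg' : g' ∈ S.U) : S.co i (g * g') = S.co i g + S.co i g' :=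
  ent_mul (f := 1) (by rw [RS.fn_one, RS.ht_sim]; exact one_pos) (fun s hs => by
    rw [RS.fn_one, RS.fn_one, RS.ht_sim]; exact RS.Pos.ht_pos hs) hg hg' i

theorem co_one (i : I) : S.co i 1 = 0 := ent_one _ _

theorem co_x (i : I) (r : R) (t : F) : S.co i (S.x r t) = if r = Φ.sim i then t else 0 := by
  split_ifs with h
  · rw [h, co, ent_x_self, Φ.cv_sim]; simp
  · rw [co, ent, mat_x]; exact S.ad.entry_ne' h t i

theorem co_conj {g : G} {a : I → Fˣ} (h : S.IsTor g a) (hg : g ∈ S.H) (i : I) {u : G} (hu : u ∈ S.U) :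
    S.co i (g * u * g⁻¹) = a i * S.co i u := by
  refine Ux_induction (p := fun u => S.co i (g * u * g⁻¹) = a i * S.co i u) (by simp [co_one]) ?_ hu
  intro r hr t u hu ih
  have : g * (u * S.x r t) * g⁻¹ = (g * u * g⁻¹) * (g * S.x r t * g⁻¹) := by group
  rw [this, h.2, co_mul i (conj_H_Ux hg hu) (x_mem_U hr _), co_mul i hu (x_mem_U hr _), ih, co_x, co_x]
  split_ifs with e
  · rw [e, Φ.rv_sim, RS.chi_single]; simp [mul_add]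
  · simp

variable (S) in
/-- an endomorphism permuting the root subgroups -/
structure Tw where
  ρ : Φ.Sym
  σ : G →* G
  τ : R → F → F
  f : I → F →+* F
  σ_x : ∀ r t, σ (S.x r t) = S.x (ρ.ρ r) (τ r t)
  τ_sim : ∀ i t, τ (Φ.sim i) t = f i t
  τ_neg : ∀ i t, τ (Φ.neg (Φ.sim i)) t = f i t

namespace Tw
variable (T : S.Tw)

theorem simMap : SimMap Φ (fun r t => T.σ (S.x r t)) S T.ρ.ρI T.f := fun i t =>
  ⟨by simp only [T.σ_x, T.τ_sim, T.ρ.sim], by simp only [T.σ_x, T.τ_neg, T.ρ.neg, T.ρ.sim]⟩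

theorem map_Ux {A B : Set R} (h : ∀ r ∈ A, T.ρ.ρ r ∈ B) {g : G} (hg : g ∈ S.Ux A) : T.σ g ∈ S.Ux B :=
  (Ux_le (K := (S.Ux B).comap T.σ)).2 (fun r hr t => by
    rw [Subgroup.mem_comap, T.σ_x]; exact x_mem (h r hr) _) hg

theorem map_N {m : G} (hm : m ∈ S.N) {w : Φ.W} (hw : S.Acts m w) : T.σ m ∈ S.N ∧ S.Acts (T.σ m) (T.ρ.cj w) := by
  obtain ⟨h1, w', h2, h3⟩ := N_induction (p := fun m => T.σ m ∈ S.N ∧ ∃ w, S.Acts m w ∧ S.Acts (T.σ m) (T.ρ.cj w))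
    ⟨by simp, 1, acts_one, by simpa using acts_one⟩ (fun i c g _ ⟨h1, w, h2, h3⟩ => by
      rw [map_mul, T.simMap.n]
      exact ⟨mul_mem (n_sim_mem _ _) h1, _, (acts_n i c).mul h2, by
        rw [map_mul, T.ρ.cj_s]; exact (acts_n _ _).mul h3⟩) hm
  exact ⟨h1, hw.unique h2 ▸ h3⟩

theorem map_H {g : G} (hg : g ∈ S.H) : T.σ g ∈ S.H := by
  have := T.map_N (H_le_N hg) (acts_of_mem_H hg)
  exact mem_H_of_acts this.1 (by simpa using this.2)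

theorem map_U {g : G} (hg : g ∈ S.U) : T.σ g ∈ S.U := T.map_Ux (fun _ h => T.ρ.pos h) hg

theorem map_B {g : G} (hg : g ∈ S.B) : T.σ g ∈ S.B := by
  obtain ⟨u, hu, h, hh, rfl⟩ := mem_B_iff.1 hg
  rw [map_mul]; exact mul_mem (U_le_B (T.map_U hu)) (H_le_B (T.map_H hh))

theorem map_Uw {w : Φ.W} (hw : w ∈ T.ρ.W1) {g : G} (hg : g ∈ S.Uw w) : T.σ g ∈ S.Uw w :=
  T.map_Ux (fun _ h => by exact ⟨T.ρ.pos h.1, by rw [RS.Sym.pos_W1 hw]; exact h.2⟩) hg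

theorem map_UL {J : Set I} (hJ : T.ρ.Stable J) {g : G} (hg : g ∈ S.UL J) : T.σ g ∈ S.UL J :=
  T.map_Ux (fun _ h => by exact ⟨T.ρ.pos h.1, RS.Sym.inJ hJ h.2⟩) hg

theorem mem_W1 {b m b' : G} (hb : b ∈ S.B) (hm : m ∈ S.N) {w : Φ.W} (hw : S.Acts m w) (hb' : b' ∈ S.B)
    (e : T.σ (b * m * b') = b * m * b') : w ∈ T.ρ.W1 := by
  rw [map_mul, map_mul] at e
  exact bruhat_unique' (T.map_N hm hw).1 hm (T.map_N hm hw).2 hw (T.map_B hb) (T.map_B hb') hb hb' e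

theorem fix_normal_form {u m u' : G} (hu : u ∈ S.U) (hm : m ∈ S.N) {w : Φ.W} (hw : S.Acts m w) (hu' : u' ∈ S.Uw w)
    (e : T.σ (u * m * u') = u * m * u') : w ∈ T.ρ.W1 ∧ T.σ u = u ∧ T.σ m = m ∧ T.σ u' = u' := by
  have h1 := T.mem_W1 (U_le_B hu) hm hw (U_le_B (Uw_le_U _ hu')) e
  obtain ⟨h2, h3⟩ := T.map_N hm hw
  rw [RS.Sym.mem_W1.1 h1] at h3
  have h4 := mul_inv_mem_H h2 hm h3 hw
  obtain ⟨h5, h6⟩ := normal_form_unique hw (mul_mem (U_le_B (T.map_U hu)) (H_le_B h4)) (U_le_B hu)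
    (T.map_Uw h1 hu') hu' (by rw [← e, map_mul, map_mul]; group)
  have h7 : T.σ m * m⁻¹ = 1 := eq_one_of_mem_H RS.unip_pos (by
    rw [eq_inv_mul_of_mul_eq h5]
    exact mul_mem (inv_mem (T.map_U hu)) hu) h4
  rw [h7, mul_one] at h5
  exact ⟨h1, h5, mul_inv_eq_one.1 h7, h6⟩

theorem co_σ (i : I) {u : G} (hu : u ∈ S.U) : S.co (T.ρ.ρI i) (T.σ u) = T.f i (S.co i u) := by
  refine Ux_induction (p := fun u => S.co (T.ρ.ρI i) (T.σ u) = T.f i (S.co i u)) (by simp [co_one]) ?_ hu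
  intro r hr t u hu ih
  rw [map_mul, co_mul _ (T.map_U hu) (T.map_U (x_mem_U hr _)), co_mul i hu (x_mem_U hr _), ih, T.σ_x, co_x, co_x,
    ← T.ρ.sim]
  by_cases e : r = Φ.sim i
  · simp [e, T.τ_sim]
  · simp [e]

theorem σ_hT (hm : S.HMul) (c : I → Fˣ) :
    T.σ (hm.hT c) = hm.hT fun j => Units.map (T.f (T.ρ.ρI⁻¹ j)) (c (T.ρ.ρI⁻¹ j)) := by
  induction c using pi_units_induction with
  | h1 i c =>
    rw [hm.hT_single, T.simMap.h, ← hm.hT_single]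
    congr 1
    ext1 j
    obtain ⟨j, rfl⟩ := T.ρ.ρI.surjective j
    by_cases e : j = i
    · subst e; simp
    · simp [e]
  | h0 => simp; exact (map_one _).symm
  | h2 a b ha hb => rw [map_mul, map_mul, ha, hb, ← map_mul]; congr 1; ext1; simp

variable {K : Type} (o : T.ρ.Orb K)

/-- a group of fixed points containing enough unipotent elements -/
structure Sub (X : Subgroup G) : Prop where
  le : X ≤ S.Gx
  fix : ∀ g ∈ X, T.σ g = g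
  UL : ∀ k, ∀ u ∈ S.UL (o.J k), T.σ u = u → u ∈ X
  VL : ∀ k, ∃ v ∈ X, v ∈ S.VL (o.J k) ∧ v ≠ 1

namespace Sub
variable {T o} {X : Subgroup G} (hX : T.Sub o X)
include hX

theorem exists_n (k : K) : ∃ m ∈ X, m ∈ S.N ∧ S.Acts m (Φ.w0 (o.J k)) := by
  obtain ⟨v, h1, h2, h3⟩ := hX.VL k
  have hL : v ∈ S.LJ (o.J k) := Subgroup.mem_sup_left (Ux_mono (fun _ h => h.2) h2)
  obtain ⟨u, hu, m, hm, w, hw, ha, u', hu', rfl⟩ := bruhat_PJ (UJ_sup_LJ (S := S) (o.J k) ▸ Subgroup.mem_sup_right hL)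
  obtain ⟨a1, a2, -, a4⟩ := T.fix_normal_form hu hm ha hu' (hX.fix _ h1)
  have b1 : u' ∈ S.UL (o.J k) := Ux_mono (fun r hr => by exact ⟨hr.1, RS.inJ_of_inv hw hr.1 hr.2⟩) hu'
  have b2 : u ∈ S.UL (o.J k) := by
    refine mem_UL_of_LJ hu ?_
    have := mul_mem (mul_mem hL (inv_mem (show u' ∈ S.LJ (o.J k) from
      Subgroup.mem_sup_left (Ux_mono (fun _ h => h.2) b1)))) (inv_mem (NJ_le _ ⟨hm, w, hw, ha⟩))
    simpa using this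
  refine ⟨m, ?_, hm, ?_⟩
  · simpa [mul_assoc] using mul_mem (mul_mem (inv_mem (hX.UL k u b2 a2)) h1) (inv_mem (hX.UL k u' b1 a4))
  · rcases o.eq_of_mem a1 hw with rfl | rfl
    · exact absurd (eq_one_of_mem_B_V (mul_mem (mul_mem (U_le_B hu) (H_le_B (mem_H_of_acts hm ha)))
        (U_le_B (Uw_le_U _ hu'))) (VL_le_V _ h2)) h3
    · exact ha

theorem exists_of_W1 {w : Φ.W} (hw : w ∈ T.ρ.W1) : ∃ m ∈ X, m ∈ S.N ∧ S.Acts m w :=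
  o.W1_induction (p := fun w => ∃ m ∈ X, m ∈ S.N ∧ S.Acts m w) ⟨1, one_mem _, one_mem _, acts_one⟩
    (fun k w _ _ ⟨m, h1, h2, h3⟩ => by
      obtain ⟨m', h4, h5, h6⟩ := hX.exists_n k
      exact ⟨_, mul_mem h1 h4, mul_mem h2 h5, h3.mul h6⟩) hw

theorem fix_split {k : K} {w : Φ.W} (hw : w ∈ T.ρ.W1) {m : G} (hm : m ∈ X)
    (ha : S.Acts m (Φ.w0 (o.J k))) {a c : G} (h1 : a ∈ S.UL (o.J k)) (h2 : c ∈ S.Uw w)
    (e : T.σ (a * (m⁻¹ * c * m)) = a * (m⁻¹ * c * m)) : T.σ a = a ∧ T.σ c = c := by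
  have := fix_of_mul (B := (S.Uw w).comap (MulAut.conj m).toMonoidHom) (fun g h1 h2 => eq_one_of_w0 ha h1 h2)
    h1 (T.map_UL (o.stable k) h1) (by simpa [mul_assoc] using h2)
    (by simpa [mul_assoc, hX.fix m hm] using T.map_Uw hw h2) e
  exact ⟨this.1, by simpa [hX.fix m hm] using this.2⟩

theorem mem_of_fix {Y : Subgroup G} (hY : ∀ x ∈ X, ∀ y ∈ Y, x * y * x⁻¹ ∈ Y)
    (hU : ∀ k, ∀ u ∈ S.UL (o.J k), T.σ u = u → u ∈ Y) {w : Φ.W} (hw : w ∈ T.ρ.W1) :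
    ∀ u ∈ S.Uw w, T.σ u = u → u ∈ Y := by
  refine o.W1_induction (p := fun w => ∀ u ∈ S.Uw w, T.σ u = u → u ∈ Y) (fun u hu _ => ?_) ?_ hw
  · exact (Ux_le (K := Y)).2 (fun r hr => absurd hr.1 (by simpa using hr.2)) hu
  · intro k w hw h ih u hu e
    obtain ⟨m, h1, -, h2⟩ := hX.exists_n k
    obtain ⟨a, ha, c, hc, rfl⟩ := (exists_mul_w0 h h2).1 hu
    obtain ⟨h3, h4⟩ := hX.fix_split hw h1 h2 ha hc e
    exact mul_mem (hU k a ha h3) (by simpa using hY _ (inv_mem h1) _ (ih c hc h4))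

theorem mem_of_U' {Y : Subgroup G} (hY : ∀ x ∈ X, ∀ y ∈ Y, x * y * x⁻¹ ∈ Y)
    (hU : ∀ k, ∀ u ∈ S.UL (o.J k), T.σ u = u → u ∈ Y) {u : G} (hu : u ∈ S.U) (e : T.σ u = u) : u ∈ Y :=
  hX.mem_of_fix hY hU (RS.Sym.w0_mem T.ρ.stable_univ) u (Uw_w0 (S := S) ▸ hu) e

theorem mem_of_U {u : G} (hu : u ∈ S.U) (e : T.σ u = u) : u ∈ X :=
  hX.mem_of_U' (fun _ h _ h' => mul_mem (mul_mem h h') (inv_mem h)) hX.UL hu e

theorem exists_n0 : ∃ m ∈ X, m ∈ S.N ∧ S.Acts m (Φ.w0 Set.univ) ∧ (∀ u ∈ S.U, m * u * m⁻¹ ∈ S.V) ∧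
    ∀ u ∈ S.V, m * u * m⁻¹ ∈ S.U := by
  obtain ⟨m, h1, hm, h⟩ := hX.exists_of_W1 (RS.Sym.w0_mem T.ρ.stable_univ)
  have hJ : ∀ r, Φ.InJ Set.univ r := fun r i hi => absurd trivial hi
  exact ⟨m, h1, hm, h, fun u hu => h.conj_mem (fun r hr => RS.w0_neg hr (hJ r)) hu,
    fun u hu => h.conj_mem (fun r hr => (RS.pos_w0_iff (hJ r)).2 hr) hu⟩

theorem mem_of_V' {Y : Subgroup G} (hY : ∀ x ∈ X, ∀ y ∈ Y, x * y * x⁻¹ ∈ Y)
    (hU : ∀ k, ∀ u ∈ S.UL (o.J k), T.σ u = u → u ∈ Y) {u : G} (hu : u ∈ S.V) (e : T.σ u = u) : u ∈ Y := by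
  obtain ⟨m, h1, -, -, -, h2⟩ := hX.exists_n0
  simpa [mul_assoc] using hY _ (inv_mem h1) _ (hX.mem_of_U' hY hU (h2 u hu) (by simp [e, hX.fix m h1]))

theorem mem_of_V {u : G} (hu : u ∈ S.V) (e : T.σ u = u) : u ∈ X :=
  hX.mem_of_V' (fun _ h _ h' => mul_mem (mul_mem h h') (inv_mem h)) hX.UL hu e

theorem split_B {b : G} (hb : b ∈ S.B) (h : b ∈ X) : ∃ u ∈ S.U, ∃ g ∈ S.H, u ∈ X ∧ g ∈ X ∧ b = u * g := by
  obtain ⟨u, hu, g, hg, rfl⟩ := mem_B_iff.1 hb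
  have := hX.mem_of_U hu (fix_of_mul (fun _ h1 h2 => eq_one_of_mem_H RS.unip_pos h1 h2) hu (T.map_U hu) hg
    (T.map_H hg) (hX.fix _ h)).1
  exact ⟨u, hu, g, hg, this, by simpa using mul_mem (inv_mem this) h, rfl⟩

theorem cell {m : G} (hm : m ∈ S.N) (hm' : m ∈ X) {w : Φ.W} (hw : S.Acts m w) {b b' : G} (hb : b ∈ S.B)
    (hb' : b' ∈ S.B) (h : b * m * b' ∈ X) :
    ∃ b'' ∈ S.B, ∃ u ∈ S.Uw w, b'' ∈ X ∧ u ∈ X ∧ b * m * b' = b'' * m * u := by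
  obtain ⟨b'', h1, u, h2, e⟩ := exists_normal_form hm hw hb hb'
  obtain ⟨v, hv, g, hg, rfl⟩ := mem_B_iff.1 h1
  have h3 := hX.mem_of_U (Uw_le_U _ h2) (T.fix_normal_form hv (mul_mem (H_le_N hg) hm)
    (by simpa using (acts_of_mem_H hg).mul hw) h2 (by rw [← mul_assoc v, ← e]; exact hX.fix _ h)).2.2.2
  refine ⟨_, h1, u, h2, ?_, h3, e⟩
  rw [e] at h
  simpa using mul_mem (mul_mem h (inv_mem h3)) (inv_mem hm')

theorem bruhat {g : G} (hg : g ∈ X) : ∃ w ∈ T.ρ.W1, ∀ m ∈ X, m ∈ S.N → S.Acts m w →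
    ∃ b ∈ S.B, ∃ u ∈ S.Uw w, b ∈ X ∧ u ∈ X ∧ g = b * m * u := by
  obtain ⟨b, hb, m, hm, w, hw, u, hu, rfl⟩ := St.bruhat (hX.le hg)
  refine ⟨w, T.mem_W1 hb hm hw (U_le_B (Uw_le_U _ hu)) (hX.fix _ hg), fun m' h1 h2 h3 => ?_⟩
  have e : b * m * u = b * (m * m'⁻¹) * m' * u := by group
  rw [e] at hg ⊢
  exact hX.cell h2 h1 h3 (mul_mem hb (H_le_B (mul_inv_mem_H hm h2 hw h3))) (U_le_B (Uw_le_U _ hu)) hg

theorem acts_mem {m : G} (hm : m ∈ S.N) (h : m ∈ X) {w : Φ.W} (hw : S.Acts m w) : w ∈ T.ρ.W1 :=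
  T.mem_W1 (one_mem _) hm hw (one_mem _) (by simpa using hX.fix m h)

end Sub
end Tw
end St

end Cfsg.Agent.Chev
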