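import Cfsg.Agent.Lib.Chev.Euc
import Cfsg.Agent.Lib.Classical.Lin1

set_option autoImplicit false
set_option linter.unusedSectionVars false
set_option linter.style.haveILetI false

/-! The special linear group as a Chevalley group. -/

namespace Cfsg.Agent.Chev

section
variable {I R : Type} [Fintype I] [DecidableEq I] [Fintype R] [DecidableEq R] {Φ : RS I R} {A : Type*} [Ring A] {e : R → A} {q : Φ.QZ e}
  {F B : Type*} [Field F] [Ring B] [Algebra F B] (D : QA q F B)

theorem QA.exists_st {H : Type*} [Group H] (ι : H →* B) (hι : Function.Injective ι) (y : R → F → H) (hy : ∀ r t, ι (y r t) = 1 + t • D.ee r)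
    (hg : ∀ K : Subgroup H, (∀ r t, y r t ∈ K) → K = ⊤) : ∃ S : St D.cd F H, S.Gx = ⊤ ∧ S.x = y ∧ ∀ r (c : Fˣ), ι (S.h r c) =
      1 + ((c : F) - 1) • (D.ee r * D.ee (Φ.neg r)) + ((c : F)⁻¹ - 1) • (D.ee (Φ.neg r) * D.ee r) := by
  have h1 : ∀ r t, ι.toHomUnits (y r t) = D.xu r t := fun r t => Units.ext (hy r t)
  have h2 := hg ((D.st.Gx.map D.Stab.subtype).comap ι.toHomUnits) fun r t => ⟨_, St.x_mem_Gx r t, (h1 r t).symm⟩
  have h3 : ∀ g, ι.toHomUnits g ∈ D.Stab := fun g => by
    obtain ⟨a, -, b⟩ := h2.ge (Subgroup.mem_top g)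
    exact b ▸ a.2
  let ψ : H →* D.G := (ι.toHomUnits.codRestrict _ h3).codRestrict _ fun g => by
    obtain ⟨a, c, b⟩ := h2.ge (Subgroup.mem_top g)
    exact (Subtype.ext b : a = ι.toHomUnits.codRestrict _ h3 g) ▸ c
  have h4 : ∀ r t, ψ (y r t) = D.S.x r t := fun r t => D.v_inj (hy r t)
  have h5 : D.cd.Rel y := .of_inj ψ (fun a b h => hι (congrArg D.v h)) (by simpa only [h4] using D.S.rel)
  let S : St D.cd F H := ⟨D.S.ad, y, h5.add, h5.comm, D.S.θ.comp ψ, fun r t => by rw [MonoidHom.comp_apply, h4, D.S.θ_x]⟩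
  exact ⟨S, hg _ S.x_mem_Gx, rfl, fun r c => (congrArg D.v (St.map_h (S := S) h4 r c)).trans (D.v_h r c)⟩

end

theorem li_diff {K M : Type*} [Ring K] [AddCommGroup M] [Module K M] {n : ℕ} {u : Fin (n + 1) → M} (hu : LinearIndependent K u) :
    LinearIndependent K fun i : Fin n => u i.castSucc - u i.succ := by
  refine Fintype.linearIndependent_iff.2 fun g hg => ?_
  have h := Fintype.linearIndependent_iff.1 hu (Fin.snoc g 0 - Fin.cons 0 g : Fin (n + 1) → K) (by
    simp only [Pi.sub_apply, sub_smul, Finset.sum_sub_distrib, smul_sub] at hg ⊢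
    rw [Fin.sum_univ_castSucc, Fin.sum_univ_succ (fun i => Fin.cons (α := fun _ => K) 0 g i • u i)]
    simpa using hg)
  intro i
  induction h' : i.val generalizing i with
  | zero => simpa [show i.castSucc = 0 from Fin.ext h', ← show i.castSucc = 0 from Fin.ext h'] using
      (Fin.snoc_castSucc (α := fun _ => K) 0 g i).symm.trans ((sub_eq_zero.1 (h i.castSucc)).trans (by rw [show i.castSucc = 0 from Fin.ext h']; rfl))
  | succ k ih =>
    have := sub_eq_zero.1 (h i.castSucc)
    rwa [Fin.snoc_castSucc, show i.castSucc = (⟨k, by omega⟩ : Fin n).succ from Fin.ext h', Fin.cons_succ, ih ⟨k, by omega⟩ rfl] at this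

theorem sum_diff {M : Type*} [AddCommGroup M] {n : ℕ} (u : Fin (n + 1) → M) (a : Fin (n + 1)) :
    ∑ i : Fin n, (if a.val ≤ i then 1 else 0 : ℤ) • (u i.castSucc - u i.succ) = u a - u (.last n) := by
  induction n with
  | zero => simp [Fin.fin_one_eq_zero a]
  | succ n ih =>
    rw [Fin.sum_univ_castSucc]
    refine Fin.lastCases ?_ (fun a => ?_) a
    · rw [Finset.sum_eq_zero fun i _ => by rw [if_neg (by simp), zero_smul]]; simp
    · have := ih (fun i => u i.castSucc) a
      simp only [Fin.val_castSucc, Fin.succ_castSucc] at this ⊢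
      rw [this, if_pos (by simpa using a.is_le)]; simp

theorem single_swap {ι : Type*} [Fintype ι] [DecidableEq ι] {a b : ι} (h : a ≠ b) (c : ι) : (Pi.single (Equiv.swap a b c) 1 : ι → ℤ) =
    Pi.single c 1 - ((Pi.single a 1 - Pi.single b 1 : ι → ℤ) ⬝ᵥ Pi.single c 1) • (Pi.single a 1 - Pi.single b 1) := by
  by_cases h1 : c = a
  · simp [h1, h, h.symm]
  by_cases h2 : c = b
  · simp [h2, h, h.symm]
  simp [Equiv.swap_apply_of_ne_of_ne h1 h2, Ne.symm h1, Ne.symm h2]

/-- the roots of type `A` -/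
abbrev RA (n : ℕ) := {p : Fin (n + 1) × Fin (n + 1) // p.1 ≠ p.2}

/-- the root system of type `A` -/
def eucA (n : ℕ) : Euc (Fin n) (RA n) (Fin (n + 1)) where
  v p := Pi.single p.1.1 1 - Pi.single p.1.2 1
  sim i := ⟨(i.castSucc, i.succ), i.castSucc_lt_succ.ne⟩
  inj := fun ⟨(a, b), h⟩ ⟨(c, d), h'⟩ e => by
    have h1 := congrFun e a
    have h2 := congrFun e b
    simp only [Pi.sub_apply, Pi.single_apply] at h1 h2
    grind
  ne := fun ⟨(a, b), h⟩ => sub_ne_zero.2 fun e => by simpa [Pi.single_apply, show a ≠ b from h] using congrFun e a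
  neg := fun ⟨(a, b), h⟩ => ⟨⟨(b, a), h.symm⟩, by simp⟩
  rf i := fun ⟨(c, d), h⟩ => by
    have h1 := i.castSucc_lt_succ.ne
    refine ⟨⟨(Equiv.swap i.castSucc i.succ c, Equiv.swap i.castSucc i.succ d), (Equiv.injective _).ne h⟩, (_ : Fin (n + 1) → ℤ) ⬝ᵥ _,
      (mul_comm _ _).trans (congrArg (· * _) (by simp [h1, h1.symm])), ?_⟩
    simp only [single_swap h1, dotProduct_sub, sub_smul, Int.cast_id]
    abel
  co := fun ⟨(a, b), h⟩ => ⟨fun i => (if a.val ≤ i then 1 else 0) - if b.val ≤ i then 1 else 0, by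
    simp only [sub_smul, Finset.sum_sub_distrib, sum_diff (fun x => (Pi.single x 1 : Fin (n + 1) → ℤ)), sub_sub_sub_cancel_right], by
    rcases le_total a b with e | e
    exacts [.inl fun i => by grind, .inr fun i => by grind], fun i => Dvd.dvd.mul_right (by
      simp [i.castSucc_lt_succ.ne, i.castSucc_lt_succ.ne', show a ≠ b from h, show b ≠ a from h.symm]) _⟩
  ind := li_diff (K := ℤ) (u := fun x : Fin (n + 1) => (Pi.single x 1 : Fin (n + 1) → ℤ)) 
    (Fintype.linearIndependent_iff.2 fun g h x => by simpa [Pi.single_apply] using congrFun h x)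

/-- the root system of type `A` -/
noncomputable abbrev rsA (n : ℕ) : RS (Fin n) (RA n) := (eucA n).rs

section
variable {n : ℕ}
theorem lnA (r : RA n) : (rsA n).ln r = 2 := by simp [Euc.ln_eq, eucA, r.2, r.2.symm]
theorem negA (r : RA n) : (rsA n).neg r = ⟨r.1.swap, r.2.symm⟩ := (eucA n).neg_eq (by simp [eucA])
theorem simA (i : Fin n) : (rsA n).sim i = ⟨(i.castSucc, i.succ), i.castSucc_lt_succ.ne⟩ := (eucA n).sim_eq i
theorem pairA (r s : RA n) : (rsA n).pair r s = (if r.1.1 = s.1.1 then 1 else 0) - (if r.1.1 = s.1.2 then 1 else 0) -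
    ((if r.1.2 = s.1.1 then 1 else 0) - if r.1.2 = s.1.2 then 1 else 0) :=
  (eucA n).pair_eq (by rw [← Euc.ln_eq, lnA]; simp [eucA, Pi.single_apply, eq_comm]; ring)
theorem addA {a b c : Fin (n + 1)} (h1 : a ≠ c) (h2 : a ≠ b) (h3 : b ≠ c) :
    (rsA n).rv ⟨(a, c), h1⟩ = (rsA n).rv ⟨(a, b), h2⟩ + (rsA n).rv ⟨(b, c), h3⟩ := (eucA n).add_iff.2 (by simp [eucA])
theorem not_addA {r s : RA n} (h1 : r.1.2 ≠ s.1.1) (h2 : r.1.1 ≠ s.1.2) (k : RA n) : (rsA n).rv k ≠ (rsA n).rv r + (rsA n).rv s := fun h => by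
  have := RS.ln_add h
  simp only [lnA, pairA, if_neg h1, if_neg h2] at this
  grind
theorem rvA (r : RA n) (i : Fin n) : (rsA n).rv r i = (if r.1.1.val ≤ i then 1 else 0) - if r.1.2.val ≤ i then 1 else 0 :=
  congrFun ((eucA n).rv_eq (c := fun i => (if r.1.1.val ≤ i then 1 else 0) - if r.1.2.val ≤ i then 1 else 0) (by
    simp only [eucA, sub_smul, Finset.sum_sub_distrib, sum_diff (fun x => (Pi.single x 1 : Fin (n + 1) → ℤ)), sub_sub_sub_cancel_right])) i
theorem AA (i j : Fin n) : (rsA n).A i ((rsA n).sim j) = if i = j then 2 else if i.val + 1 = j ∨ j.val + 1 = i then -1 else 0 := by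
  simp only [← RS.pair_sim, simA, pairA, Fin.ext_iff, Fin.val_castSucc, Fin.val_succ]
  grind

theorem single_mul {ι K : Type*} [Fintype ι] [DecidableEq ι] [Semiring K] (a b c d : ι) :
    Matrix.single a b (1 : K) * Matrix.single c d 1 = if b = c then Matrix.single a d 1 else 0 := by
  split_ifs with h
  · simp [h]
  · simp [h]

theorem qzA (n : ℕ) : (rsA n).QZ fun r => Matrix.single r.1.1 r.1.2 (1 : ℤ) where
  bd := (eucA n).bd fun r s => by rw [← Euc.ln_eq, ← Euc.ln_eq, lnA, lnA]; simp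
  sq r := by simp [r.2.symm]
  tri r := by simp [negA]
  he := fun ⟨(a, b), h⟩ ⟨(c, d), h'⟩ => by
    simp only [negA, pairA, Prod.swap, sub_mul, mul_sub, single_mul, if_true, sub_smul, ite_smul, one_smul, zero_smul]
    grind
  br := fun ⟨(a, b), h⟩ ⟨(c, d), h'⟩ e => by
    simp only [negA, Prod.swap, ne_eq, Subtype.mk.injEq, Prod.mk.injEq, lnA, single_mul] at e ⊢
    by_cases h1 : b = c
    · subst h1
      exact .inr ⟨⟨(a, d), by grind⟩, 1, addA _ _ _, by simp [show d ≠ a by grind], by simp⟩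
    by_cases h2 : d = a
    · subst h2
      exact .inr ⟨⟨(c, b), Ne.symm h1⟩, -1, (addA _ _ _).trans (add_comm _ _), by simp [h1], by simp⟩
    simp [h1, h2]
  tr := fun ⟨(a, b), h⟩ ⟨(c, d), h'⟩ e => .inl <| by
    simp only [negA, Prod.swap, ne_eq, Subtype.mk.injEq, Prod.mk.injEq, single_mul] at e ⊢
    split_ifs with h1
    · simp [show d ≠ a by grind]
    · simp
  tf r k h := by simpa using congrFun (congrFun h r.1.1) r.1.2

theorem goodA (hn : 1 ≤ n) : (rsA n).Good := by
  refine RS.good_of_conn (RS.conn_of_full (θ := ⟨(0, .last n), by simp [Fin.ext_iff]; omega⟩) fun i => by simp [rvA, i.2.not_ge])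
    ⟨0, hn⟩ (eucA n).str ?_
  suffices ∀ k (i : Fin n), i.val = k → ∃ w : (rsA n).W, w • (rsA n).sim ⟨0, hn⟩ = (rsA n).sim i from fun i j _ => by
    obtain ⟨w, a⟩ := this _ i rfl
    obtain ⟨w', b⟩ := this _ j rfl
    exact ⟨w' * w⁻¹, by rw [mul_smul, ← a, inv_smul_smul, b]⟩
  intro k
  induction k with
  | zero => exact fun i h => ⟨1, by rw [one_smul]; congr 1; exact Fin.ext h.symm⟩
  | succ k ih =>
    intro i h
    obtain ⟨w, a⟩ := ih ⟨k, by omega⟩ rfl
    obtain ⟨w', b⟩ := RS.conj_of_pair (Φ := rsA n) (r := (rsA n).sim ⟨k, by omega⟩) (s := (rsA n).sim i) (by simp [lnA])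
      (by rw [RS.pair_sim, AA]; grind)
    exact ⟨w' * w, by rw [mul_smul, a, b]⟩

/-- the natural representation of type `A` -/
def qaA (hn : 2 ≤ n) (F : Type*) [Field F] : QA (qzA n) F (Matrix (Fin (n + 1)) (Fin (n + 1)) F) where
  φ := (Int.castRingHom F).mapMatrix
  good := goodA (by omega)
  hc i := if h : i.val + 1 < n then ⟨⟨_, h⟩, by rw [AA]; grind⟩ else ⟨⟨i - 1, by omega⟩, by rw [AA]; grind⟩
  ind := by
    have := li_diff (K := F) (u := fun x : Fin (n + 1) => Matrix.single x x (1 : F)) (by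
      simpa [Function.comp_def, Matrix.stdBasis_eq_single] using
        (Matrix.stdBasis F _ _).linearIndependent.comp (fun x : Fin (n + 1) => (x, x)) fun _ _ h => congrArg Prod.fst h)
    simpa only [RS.hq, negA, simA, map_sub, Prod.swap, single_mul, if_true, RingHom.mapMatrix_apply, Matrix.map_single, map_one] using this

theorem eeA (hn : 2 ≤ n) (F : Type*) [Field F] (r : RA n) : (qaA hn F).ee r = Matrix.single r.1.1 r.1.2 1 := by
  simp only [QA.ee, qaA, RingHom.mapMatrix_apply, Matrix.map_single, map_one]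

/-- the Chevalley datum of type `A` -/
noncomputable abbrev cdA (hn : 2 ≤ n) : CD (Fin n) (RA n) := (qzA n).cd (qaA hn ℚ).hc

open Matrix in
theorem exists_stA (hn : 2 ≤ n) (F : Type*) [Field F] : ∃ S : St (cdA hn) F (SpecialLinearGroup (Fin (n + 1)) F), S.Gx = ⊤ ∧
    (∀ r t, S.x r t = SpecialLinearGroup.transvection r.2 t) ∧ ∀ hm : S.HMul, Function.Injective hm.hT := by
  haveI : Nontrivial (Fin (n + 1)) := Fin.nontrivial_iff_two_le.2 (by omega)
  obtain ⟨S, h1, h2, h3⟩ := (qaA hn F).exists_st (H := SpecialLinearGroup (Fin (n + 1)) F) SpecialLinearGroup.coeMonoidHom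
    Subtype.val_injective (fun r t => SpecialLinearGroup.transvection r.2 t) (fun r t => by simp [eeA, SpecialLinearGroup.transvection_coe]) fun K hK =>
    eq_top_iff.2 fun g _ => Classical.Lin.transvection_induction (· ∈ K) (fun i j h a => hK ⟨(i, j), h⟩ a) (fun _ _ => mul_mem) g
  refine ⟨S, h1, fun r t => by rw [h2], fun hm => (injective_iff_map_eq_one _).2 fun c hc => ?_⟩
  have h4 : ∀ c x, (hm.hT c).1 *ᵥ Pi.single x 1 = (RS.chi c fun i => (eucA n).v ((eucA n).sim i) x : F) • Pi.single x 1 := fun c x => by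
    induction c using St.pi_units_induction with
    | h1 i c =>
      rw [hm.hT_single, RS.chi_mulSingle]
      refine (congrArg (· *ᵥ _) (h3 _ _)).trans ?_
      have := i.castSucc_lt_succ.ne
      simp only [eeA, negA, simA, eucA, Prod.swap, single_mul, if_true, add_mulVec, smul_mulVec, one_mulVec, single_mulVec_eq]
      by_cases a : x = i.castSucc
      · simp [a, this, this.symm, sub_smul]
      by_cases b : x = i.succ
      · simp [b, this, this.symm, sub_smul]
      simp [a, b, Ne.symm a, Ne.symm b]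
    | h0 => rw [map_one, Matrix.SpecialLinearGroup.coe_one, one_mulVec]; simp [RS.chi_one]
    | h2 a b ha hb => rw [map_mul, Matrix.SpecialLinearGroup.coe_mul, ← mulVec_mulVec, hb, mulVec_smul, ha, RS.chi_mul, smul_smul]; simp [mul_comm]
  have h5 : ∀ x, RS.chi c (fun i => (eucA n).v ((eucA n).sim i) x) = 1 := fun x => by
    exact Units.ext (by simpa [hc] using (congrFun (h4 c x) x).symm)
  ext1 i
  induction h' : i.val generalizing i with
  | zero =>
    have := h5 i.castSucc
    rw [show (fun j => (eucA n).v ((eucA n).sim j) i.castSucc) = Pi.single i 1 from funext fun j => by simp [eucA, Pi.single_apply, Fin.ext_iff]; grind,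
      RS.chi_single] at this
    simpa using this
  | succ k ih =>
    have := h5 i.castSucc
    rw [show (fun j => (eucA n).v ((eucA n).sim j) i.castSucc) = Pi.single i 1 + Pi.single ⟨k, by omega⟩ (-1) from funext fun j => by
      simp [eucA, Pi.single_apply, Fin.ext_iff]; grind, RS.chi_add, RS.chi_single, RS.chi_single, ih ⟨k, by omega⟩ rfl] at this
    simpa using this

end

end Cfsg.Agent.Chev
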