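import Cfsg.Agent.Lib.Chev.Adj

set_option autoImplicit false
set_option linter.unusedSectionVars false

/-! Groups generated by root elements satisfying Steinberg's relations: unipotent subgroups. -/

namespace Cfsg.Agent.Chev

open Matrix
open scoped commutatorElement

theorem comm_closure_mem {G : Type*} [Group G] {K : Subgroup G} {s t : Set G}
    (hs : ∀ a ∈ Subgroup.closure s, ∀ k ∈ K, a * k * a⁻¹ ∈ K)
    (ht : ∀ a ∈ Subgroup.closure t, ∀ k ∈ K, a * k * a⁻¹ ∈ K)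
    (h : ∀ a ∈ s, ∀ b ∈ t, ⁅a, b⁆ ∈ K) {a b : G} (ha : a ∈ Subgroup.closure s)
    (hb : b ∈ Subgroup.closure t) : ⁅a, b⁆ ∈ K := by
  induction ha using Subgroup.closure_induction with
  | mem a ha =>
    induction hb using Subgroup.closure_induction with
    | mem b hb => exact h a ha b hb
    | one => simp
    | mul b c hb hc ih1 ih2 =>
      have : ⁅a, b * c⁆ = ⁅a, b⁆ * (b * ⁅a, c⁆ * b⁻¹) := by simp only [commutatorElement_def]; group
      rw [this]; exact K.mul_mem ih1 (ht b hb _ ih2)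
    | inv b hb ih =>
      have : ⁅a, b⁻¹⁆ = b⁻¹ * ⁅a, b⁆⁻¹ * b⁻¹⁻¹ := by simp only [commutatorElement_def]; group
      rw [this]; exact ht _ (inv_mem hb) _ (K.inv_mem ih)
  | one => simp
  | mul a c ha hc ih1 ih2 =>
    have : ⁅a * c, b⁆ = (a * ⁅c, b⁆ * a⁻¹) * ⁅a, b⁆ := by simp only [commutatorElement_def]; group
    rw [this]; exact K.mul_mem (hs a ha _ ih2) ih1
  | inv a ha ih =>
    have : ⁅a⁻¹, b⁆ = a⁻¹ * ⁅a, b⁆⁻¹ * a⁻¹⁻¹ := by simp only [commutatorElement_def]; group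
    rw [this]; exact hs _ (inv_mem ha) _ (K.inv_mem ih)

section Raise
variable {ι F : Type*} [Fintype ι] [DecidableEq ι] [Field F]

/-- the matrix raises the degree by at least `m` -/
def Raise (d : ι → ℤ) (m : ℤ) (M : Matrix ι ι F) : Prop := ∀ a b, d a < d b + m → M a b = 0

variable {d : ι → ℤ} {m m' : ℤ} {M N : Matrix ι ι F}

theorem Raise.add (h : Raise d m M) (h' : Raise d m N) : Raise d m (M + N) := fun a b hab => by
  simp [h a b hab, h' a b hab]

theorem Raise.mul (h : Raise d m M) (h' : Raise d m' N) : Raise d (m + m') (M * N) := fun a b hab => by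
  rw [Matrix.mul_apply]
  refine Finset.sum_eq_zero fun k _ => ?_
  by_cases hk : d a < d k + m
  · rw [h a k hk, zero_mul]
  · rw [h' k b (by omega), mul_zero]

theorem Raise.mono (h : Raise d m M) (hm : m' ≤ m) : Raise d m' M := fun a b hab => h a b (by omega)

theorem raise_zero : Raise d m (0 : Matrix ι ι F) := fun _ _ _ => rfl

theorem raise_diagonal (v : ι → F) : Raise d 0 (Matrix.diagonal v) := fun a b hab =>
  Matrix.diagonal_apply_ne _ (by rintro rfl; omega)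

theorem raise_one : Raise d 0 (1 : Matrix ι ι F) := raise_diagonal _

theorem Raise.mul_sub_one (hm : 0 ≤ m) (h : Raise d m (M - 1)) (h' : Raise d m (N - 1)) :
    Raise d m (M * N - 1) := by
  have : M * N - 1 = (M - 1) + (N - 1) + (M - 1) * (N - 1) := by noncomm_ring
  rw [this]
  exact (h.add h').add ((h.mul h').mono (by omega))

theorem Raise.of_sub_one (hm : 0 ≤ m) (h : Raise d m (M - 1)) : Raise d 0 M := by
  have := (h.mono hm).add raise_one
  simpa using this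

theorem Raise.mul_apply (h : Raise d m (M - 1)) (h' : Raise d m (N - 1)) {a b : ι} (hab : a ≠ b)
    (hd : d a < d b + (m + m)) : (M * N) a b = M a b + N a b := by
  have : M * N = (M + N) - 1 + (M - 1) * (N - 1) := by noncomm_ring
  rw [this, Matrix.add_apply, h.mul h' a b hd]
  simp [Matrix.one_apply_ne hab]

theorem Raise.pow (h : Raise d 1 M) (k : ℕ) : Raise d k (M ^ k) := by
  induction k with
  | zero => simpa using raise_one
  | succ k ih => rw [pow_succ]; exact_mod_cast ih.mul h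

theorem Raise.isNilpotent (h : Raise d 1 M) : IsNilpotent M := by
  obtain ⟨B, hB⟩ := (Set.finite_range fun p : ι × ι => d p.1 - d p.2).bddAbove
  refine ⟨B.toNat + 1, ?_⟩
  ext a b
  refine h.pow _ a b ?_
  have := hB ⟨(a, b), rfl⟩
  simp only at this
  omega

end Raise

variable {I R : Type} [Fintype I] [DecidableEq I] [Fintype R] [DecidableEq R]

namespace RS
variable (Φ : RS I R)

/-- degrees of the basis vectors -/
def dg (f : I → ℤ) (a : I ⊕ R) : ℤ := ∑ i, f i * Φ.wt a i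

@[simp] theorem dg_inl (f : I → ℤ) (i : I) : Φ.dg f (.inl i) = 0 := by simp [dg, wt]
@[simp] theorem dg_inr (f : I → ℤ) (r : R) : Φ.dg f (.inr r) = Φ.fn f r := rfl

/-- `k` is a positive combination of `r` and `s` -/
def Comb (k r s : R) : Prop :=
  ∃ i j : ℕ, 0 < i ∧ 0 < j ∧ Φ.rv k = (i : ℤ) • Φ.rv r + (j : ℤ) • Φ.rv s

variable {Φ}

theorem Comb.symm {k r s : R} (h : Φ.Comb k r s) : Φ.Comb k s r := by
  obtain ⟨i, j, hi, hj, e⟩ := h
  exact ⟨j, i, hj, hi, by rw [e, add_comm]⟩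

theorem Comb.smul {k r s : R} (h : Φ.Comb k r s) (w : Φ.W) : Φ.Comb (w • k) (w • r) (w • s) := by
  obtain ⟨i, j, hi, hj, e⟩ := h
  exact ⟨i, j, hi, hj, by rw [← lin_rv, e, map_add, map_smul, map_smul, lin_rv, lin_rv]⟩

theorem Comb.neg {k r s : R} (h : Φ.Comb k r s) : Φ.Comb (Φ.neg k) (Φ.neg r) (Φ.neg s) := by
  obtain ⟨i, j, hi, hj, e⟩ := h
  exact ⟨i, j, hi, hj, by simp only [Φ.rv_neg, e, smul_neg]; abel⟩

theorem Comb.fn_le {k r s : R} (h : Φ.Comb k r s) {f : I → ℤ} (hr : 0 ≤ Φ.fn f r)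
    (hs : 0 ≤ Φ.fn f s) : Φ.fn f r + Φ.fn f s ≤ Φ.fn f k := by
  obtain ⟨i, j, hi, hj, e⟩ := h
  rw [Φ.fn_comb f e]
  nlinarith

theorem Comb.rv_le {k r s : R} (h : Φ.Comb k r s) {i : I} (hr : 0 ≤ Φ.rv r i)
    (hs : 0 ≤ Φ.rv s i) : Φ.rv r i + Φ.rv s i ≤ Φ.rv k i := by
  obtain ⟨a, b, hi, hj, e⟩ := h
  simp only [e, Pi.add_apply, Pi.smul_apply, smul_eq_mul]
  nlinarith

theorem Comb.pos {k r s : R} (h : Φ.Comb k r s) (hr : Φ.Pos r) (hs : Φ.Pos s) : Φ.Pos k :=
  fun i => le_trans (add_nonneg (hr i) (hs i)) (h.rv_le (hr i) (hs i))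

theorem Comb.not_pos {k r s : R} (h : Φ.Comb k r s) (hr : ¬ Φ.Pos r) (hs : ¬ Φ.Pos s) :
    ¬ Φ.Pos k := by
  rw [← pos_neg_iff] at *
  exact h.neg.pos hr hs

theorem Comb.inJ {k r s : R} (h : Φ.Comb k r s) {J : Set I} (hr : Φ.InJ J r) (hs : Φ.InJ J s) :
    Φ.InJ J k := by
  obtain ⟨a, b, hi, hj, e⟩ := h
  intro i hi
  simp [e, hr i hi, hs i hi]

variable (Φ) in
/-- closed sets of roots -/
def Closed (S : Set R) : Prop := ∀ r ∈ S, ∀ s ∈ S, ∀ k, Φ.Comb k r s → k ∈ S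

variable (Φ) in
/-- closed sets of roots on which a linear functional is positive -/
structure Unip (f : I → ℤ) (S : Set R) : Prop where
  closed : Φ.Closed S
  pos : ∀ r ∈ S, 0 < Φ.fn f r

variable (Φ) in
/-- the roots of level at least `m` -/
def Lev (f : I → ℤ) (A : Set R) (m : ℤ) : Set R := {r ∈ A | m ≤ Φ.fn f r}

theorem mem_lev {f : I → ℤ} {A : Set R} {m : ℤ} {r : R} (h : r ∈ A) (h' : m ≤ Φ.fn f r) :
    r ∈ Φ.Lev f A m := ⟨h, h'⟩

theorem Closed.inter {S T : Set R} (h : Φ.Closed S) (h' : Φ.Closed T) : Φ.Closed (S ∩ T) :=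
  fun r hr s hs k hk => ⟨h r hr.1 s hs.1 k hk, h' r hr.2 s hs.2 k hk⟩

theorem Unip.subset {f : I → ℤ} {S T : Set R} (h : Φ.Unip f S) (hT : Φ.Closed T) (hs : T ⊆ S) :
    Φ.Unip f T := ⟨hT, fun r hr => h.pos r (hs hr)⟩

theorem unip_fn (f : I → ℤ) : Φ.Unip f {r | 0 < Φ.fn f r} :=
  ⟨fun r hr s hs k hk => by
    have := hk.fn_le (f := f) (le_of_lt hr) (le_of_lt hs)
    simp only [Set.mem_ofPred_eq] at *
    omega, fun _ h => h⟩

theorem unip_pos : Φ.Unip 1 {r | Φ.Pos r} :=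
  ⟨fun _ hr _ hs _ hk => hk.pos hr hs, fun r hr => by rw [fn_one]; exact Pos.ht_pos hr⟩

theorem unip_neg : Φ.Unip (-1) {r | ¬ Φ.Pos r} :=
  ⟨fun _ hr _ hs _ hk => hk.not_pos hr hs, fun r hr => by
    rw [fn_neg_left, fn_one, ← ht_neg]; exact Pos.ht_pos (pos_neg_iff.2 hr)⟩

theorem closed_smul_pos (w : Φ.W) : Φ.Closed {r | Φ.Pos (w • r)} :=
  fun _ hr _ hs _ hk => (hk.smul w).pos hr hs

theorem closed_smul_neg (w : Φ.W) : Φ.Closed {r | ¬ Φ.Pos (w • r)} :=
  fun _ hr _ hs _ hk => (hk.smul w).not_pos hr hs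

theorem closed_inJ (J : Set I) : Φ.Closed {r | Φ.InJ J r} := fun _ hr _ hs _ hk => hk.inJ hr hs

theorem Unip.ne_neg {f : I → ℤ} {S : Set R} (h : Φ.Unip f S) {r s : R} (hr : r ∈ S) (hs : s ∈ S) :
    s ≠ Φ.neg r := by
  rintro rfl
  have h1 := h.pos r hr
  have h2 := h.pos _ hs
  rw [fn_neg] at h2; omega

end RS

theorem Adj.raise {Φ : CD I R} {F : Type*} [Field F] (ad : Adj Φ F) (f : I → ℤ) {r : R} {m : ℤ}
    (hm : m ≤ Φ.fn f r) (h0 : 0 ≤ Φ.fn f r) (t : F) : Raise (Φ.dg f) m (ad.X r t - 1) := by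
  intro a b hab
  rcases ad.hom r a b with h | ⟨k, c, hk, hw, h⟩
  · simp [h]
  · exfalso
    have : Φ.dg f a = Φ.dg f b + k * Φ.fn f r := by
      simp only [RS.dg, RS.fn, hw, Pi.add_apply, Pi.smul_apply, smul_eq_mul, Finset.mul_sum,
        ← Finset.sum_add_distrib]
      exact Finset.sum_congr rfl fun _ _ => by ring
    nlinarith

theorem Adj.entry_ne {Φ : CD I R} {F : Type*} [Field F] (ad : Adj Φ F) {r s : R} (h : s ≠ r)
    {f : I → ℤ} (h0 : 0 < Φ.fn f r) (hf : Φ.fn f r ≤ Φ.fn f s) (t : F) (i : I) :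
    ad.X s t (.inl i) (.inr (Φ.neg r)) = 0 := by
  rcases ad.hom s (.inl i) (.inr (Φ.neg r)) with h1 | ⟨k, c, hk, hw, -⟩
  · simp [h1]
  · exfalso
    have e : Φ.rv r = (k : ℤ) • Φ.rv s + (0 : ℤ) • Φ.rv s := by
      simp only [RS.wt, Sum.elim_inl, Sum.elim_inr, Φ.rv_neg] at hw
      ext j; have := congrFun hw j; simp at this ⊢; omega
    have e2 := Φ.fn_comb f e
    have : k = 1 := by
      by_contra hk1
      have : (2 : ℤ) ≤ k := by omega
      nlinarith
    subst this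
    exact h (Φ.rv_inj (by simpa using e.symm))

/-- root elements satisfying Steinberg's relations, with a map to the adjoint group -/
structure St (Φ : CD I R) (F : Type*) [Field F] (G : Type*) [Group G] where
  ad : Adj Φ F
  x : R → F → G
  add : ∀ r t u, x r t * x r u = x r (t + u)
  comm : ∀ r s t u, s ≠ r → s ≠ Φ.neg r → x s u * x r t = x r t * x s u *
    ((Φ.ct r s).map fun c => x c.1 ((c.2.1 : F) * (-t) ^ c.2.2.1 * u ^ c.2.2.2)).prod
  θ : G →* GL (I ⊕ R) F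
  θ_x : ∀ r t, ((θ (x r t) : GL (I ⊕ R) F) : Matrix (I ⊕ R) (I ⊕ R) F) = ad.X r t

namespace St
variable {Φ : CD I R} {F : Type*} [Field F] {G : Type*} [Group G] (S : St Φ F G)

/-- the matrix of a group element -/
def mat (g : G) : Matrix (I ⊕ R) (I ⊕ R) F := (S.θ g : GL (I ⊕ R) F)

theorem mat_mul (g h : G) : S.mat (g * h) = S.mat g * S.mat h := by simp [mat]
theorem mat_one : S.mat 1 = 1 := by simp [mat]
theorem mat_x (r : R) (t : F) : S.mat (S.x r t) = S.ad.X r t := S.θ_x r t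

@[simp] theorem x_zero (r : R) : S.x r 0 = 1 := by
  have := S.add r 0 0
  rw [add_zero] at this
  exact mul_eq_left.1 this

theorem x_inv (r : R) (t : F) : (S.x r t)⁻¹ = S.x r (-t) :=
  inv_eq_of_mul_eq_one_right (by rw [S.add]; simp)

/-- the subgroup generated by the root subgroups of a set of roots -/
def Ux (A : Set R) : Subgroup G := Subgroup.closure {g | ∃ r ∈ A, ∃ t, g = S.x r t}

variable {S}

theorem x_mem {A : Set R} {r : R} (h : r ∈ A) (t : F) : S.x r t ∈ S.Ux A :=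
  Subgroup.subset_closure ⟨r, h, t, rfl⟩

theorem Ux_le {A : Set R} {K : Subgroup G} : S.Ux A ≤ K ↔ ∀ r ∈ A, ∀ t, S.x r t ∈ K := by
  rw [Ux, Subgroup.closure_le]
  exact ⟨fun h r hr t => h ⟨r, hr, t, rfl⟩, by rintro h _ ⟨r, hr, t, rfl⟩; exact h r hr t⟩

theorem Ux_mono {A B : Set R} (h : A ⊆ B) : S.Ux A ≤ S.Ux B :=
  Ux_le.2 fun _ hr t => x_mem (h hr) t

theorem Ux_empty : S.Ux ∅ = ⊥ := by simp [Ux]

theorem Ux_union (A B : Set R) : S.Ux (A ∪ B) = S.Ux A ⊔ S.Ux B := by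
  refine le_antisymm (Ux_le.2 fun r hr t => ?_)
    (sup_le (Ux_mono Set.subset_union_left) (Ux_mono Set.subset_union_right))
  rcases hr with h | h
  · exact Subgroup.mem_sup_left (x_mem h t)
  · exact Subgroup.mem_sup_right (x_mem h t)

theorem Ux_induction {A : Set R} {p : G → Prop} (h1 : p 1)
    (h2 : ∀ r ∈ A, ∀ t, ∀ g ∈ S.Ux A, p g → p (g * S.x r t)) {g : G} (hg : g ∈ S.Ux A) : p g := by
  induction hg using Subgroup.closure_induction_right with
  | one => exact h1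
  | mul_right g hg y hy ih => obtain ⟨r, hr, t, rfl⟩ := hy; exact h2 r hr t g hg ih
  | mul_inv_cancel g hg y hy ih =>
    obtain ⟨r, hr, t, rfl⟩ := hy
    rw [x_inv]; exact h2 r hr _ g hg ih

theorem mem_Ux_singleton {r : R} {g : G} : g ∈ S.Ux {r} ↔ ∃ t, g = S.x r t := by
  refine ⟨fun h => ?_, by rintro ⟨t, rfl⟩; exact x_mem (Set.mem_singleton r) t⟩
  refine Ux_induction (S := S) (A := {r}) (p := fun g => ∃ t, g = S.x r t) ⟨0, by simp⟩ ?_ h
  rintro _ rfl t _ _ ⟨u, rfl⟩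
  exact ⟨_, S.add _ _ _⟩

theorem comm_mem {A : Set R} {r s : R} (hs : s ≠ Φ.neg r) (h : ∀ k, Φ.Comb k r s → k ∈ A) (t u : F) :
    ⁅S.x s u, S.x r t⁆ ∈ S.Ux A := by
  by_cases e : s = r
  · subst e
    rw [commutatorElement_def, x_inv, x_inv, S.add, S.add, S.add]
    simp
  · have := S.comm r s (-t) (-u) e hs
    rw [← x_inv, ← x_inv] at this
    have e2 : ⁅S.x s u, S.x r t⁆ = S.x s u * S.x r t * ((S.x s u)⁻¹ * (S.x r t)⁻¹) := by
      rw [commutatorElement_def]; group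
    rw [e2, this, ← mul_assoc, show S.x s u * S.x r t * ((S.x r t)⁻¹ * (S.x s u)⁻¹) = 1 by group,
      one_mul]
    refine Subgroup.list_prod_mem _ fun g hg => ?_
    obtain ⟨c, hc, rfl⟩ := List.mem_map.1 hg
    obtain ⟨h1, h2, h3⟩ := Φ.ct_rv r s c hc
    exact x_mem (h _ ⟨_, _, h1, h2, h3⟩) _

theorem commute_x {r s : R} (hs : s ≠ Φ.neg r) (h : ∀ k, ¬ Φ.Comb k r s) (t u : F) :
    Commute (S.x s u) (S.x r t) := by
  have := comm_mem (S := S) (A := ∅) hs (fun k hk => h k hk) t u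
  rwa [Ux_empty, Subgroup.mem_bot, commutatorElement_eq_one_iff_commute] at this

theorem conj_mem_of_gen {A : Set R} {K : Subgroup G} {a : G}
    (h : ∀ s ∈ A, ∀ u, a * S.x s u * a⁻¹ ∈ K) {g : G} (hg : g ∈ S.Ux A) : a * g * a⁻¹ ∈ K := by
  have : S.Ux A ≤ K.comap (MulAut.conj a).toMonoidHom := Ux_le.2 h
  exact this hg

theorem conj_x_mem {A : Set R} {r : R} (h : ∀ s ∈ A, s ≠ Φ.neg r ∧ ∀ k, Φ.Comb k r s → k ∈ A)
    (t : F) {g : G} (hg : g ∈ S.Ux A) : S.x r t * g * (S.x r t)⁻¹ ∈ S.Ux A := by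
  refine conj_mem_of_gen (fun s hs u => ?_) hg
  have : S.x r t * S.x s u * (S.x r t)⁻¹ = ⁅S.x s u, S.x r t⁆⁻¹ * S.x s u := by
    rw [commutatorElement_def]; group
  rw [this]
  exact mul_mem (inv_mem (comm_mem (h s hs).1 (h s hs).2 t u)) (x_mem hs u)

theorem conj_Ux_mem {A B : Set R}
    (h : ∀ r ∈ B, ∀ s ∈ A, s ≠ Φ.neg r ∧ ∀ k, Φ.Comb k r s → k ∈ A) {a : G} (ha : a ∈ S.Ux B)
    {g : G} (hg : g ∈ S.Ux A) : a * g * a⁻¹ ∈ S.Ux A := by
  revert g
  refine Ux_induction (p := fun a => ∀ {g}, g ∈ S.Ux A → a * g * a⁻¹ ∈ S.Ux A) (by simp) ?_ ha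
  intro r hr t b _ ih g hg
  have := ih (conj_x_mem (h r hr) t hg)
  simpa [mul_assoc] using this

section Filt
variable {f : I → ℤ} {A : Set R} (hA : Φ.Unip f A)
include hA

theorem conj_filt (m : ℤ) {a : G} (ha : a ∈ S.Ux A) {g : G} (hg : g ∈ S.Ux (Φ.Lev f A (m))) :
    a * g * a⁻¹ ∈ S.Ux (Φ.Lev f A (m)) := by
  refine conj_Ux_mem (fun r hr s hs => ⟨hA.ne_neg hr hs.1, fun k hk => RS.mem_lev (hA.closed r hr s hs.1 k hk) ?_⟩)
    ha hg
  have h1 := hA.pos r hr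
  have h2 := hA.pos s hs.1
  have := hk.fn_le h1.le h2.le
  have := hs.2
  omega

theorem comm_filt (m : ℤ) {a : G} (ha : a ∈ S.Ux A) {g : G} (hg : g ∈ S.Ux (Φ.Lev f A (m))) :
    ⁅g, a⁆ ∈ S.Ux (Φ.Lev f A (m + 1)) := by
  refine comm_closure_mem (fun b hb k hk => conj_filt hA _ (Ux_mono (fun _ h => h.1) hb) hk)
    (fun b hb k hk => conj_filt hA _ hb hk) ?_ hg ha
  rintro _ ⟨s, hs, u, rfl⟩ _ ⟨r, hr, t, rfl⟩
  refine comm_mem (hA.ne_neg hr hs.1) (fun k hk => RS.mem_lev (hA.closed r hr s hs.1 k hk) ?_) t u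
  have h1 := hA.pos r hr
  have h2 := hA.pos s hs.1
  have := hk.fn_le h1.le h2.le
  have := hs.2
  omega

end Filt

variable (S) in
/-- product of root elements along a list of roots -/
def P (L : List R) (t : R → F) : G := (L.map fun r => S.x r (t r)).prod

@[simp] theorem P_nil (t : R → F) : S.P [] t = 1 := rfl
@[simp] theorem P_cons (r : R) (L : List R) (t : R → F) : S.P (r :: L) t = S.x r (t r) * S.P L t := by
  simp [P]
theorem P_append (L L' : List R) (t : R → F) : S.P (L ++ L') t = S.P L t * S.P L' t := by simp [P]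

theorem P_congr {L : List R} {t t' : R → F} (h : ∀ r ∈ L, t r = t' r) : S.P L t = S.P L t' := by
  unfold P
  congr 1
  exact List.map_congr_left fun r hr => by rw [h r hr]

theorem P_zero {L : List R} {t : R → F} (h : ∀ r ∈ L, t r = 0) : S.P L t = 1 := by
  induction L with
  | nil => rfl
  | cons r L ih => rw [P_cons, h r (by simp), ih fun s hs => h s (by simp [hs])]; simp

theorem P_mem {A : Set R} {L : List R} (h : ∀ r ∈ L, r ∈ A) (t : R → F) : S.P L t ∈ S.Ux A := by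
  refine Subgroup.list_prod_mem _ fun g hg => ?_
  obtain ⟨r, hr, rfl⟩ := List.mem_map.1 hg
  exact x_mem (h r hr) _

theorem P_step {f : I → ℤ} {A : Set R} (hA : Φ.Unip f A) {L : List R} (hL : L.Nodup)
    (h : ∀ r ∈ L, r ∈ A) {r : R} (hr : r ∈ L) {m : ℤ} (hm : m ≤ Φ.fn f r) (t : R → F) (a : F) :
    ∃ u ∈ S.Ux (Φ.Lev f A (m + 1)),
      S.P L t * S.x r a = S.P L (Function.update t r (t r + a)) * u := by
  induction L with
  | nil => simp at hr
  | cons s L ih =>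
    rw [List.nodup_cons] at hL
    by_cases e : r = s
    · subst e
      have h1 : S.P L (Function.update t r (t r + a)) = S.P L t :=
        P_congr fun s hs => Function.update_of_ne (by rintro rfl; exact hL.1 hs) _ _
      refine ⟨⁅(S.x r a)⁻¹, (S.P L t)⁻¹⁆⁻¹, inv_mem (comm_filt hA m (inv_mem (P_mem (L := L) (fun s hs => h s
        (by simp [hs])) t)) (inv_mem (x_mem (RS.mem_lev (h r hr) hm) a))), ?_⟩
      rw [P_cons, P_cons, h1, Function.update_self, ← S.add, commutatorElement_def]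
      group
    · obtain ⟨u, hu, e2⟩ := ih hL.2 (fun s hs => h s (by simp [hs])) (by simpa [e] using hr)
      refine ⟨u, hu, ?_⟩
      rw [P_cons, P_cons, mul_assoc, e2, Function.update_of_ne (Ne.symm e), mul_assoc]

theorem exists_fn_bound (f : I → ℤ) : ∃ M : ℕ, ∀ r, Φ.fn f r < M := by
  obtain ⟨B, hB⟩ := (Set.finite_range (Φ.fn f)).bddAbove
  exact ⟨B.toNat + 1, fun r => by have := hB ⟨r, rfl⟩; omega⟩

theorem exists_P {f : I → ℤ} {A : Set R} (hA : Φ.Unip f A) {L : List R} (hL : L.Nodup)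
    (h : ∀ r, r ∈ L ↔ r ∈ A) {g : G} (hg : g ∈ S.Ux A) : ∃ t, g = S.P L t := by
  have key : ∀ m : ℕ, ∃ t, ∃ u ∈ S.Ux (Φ.Lev f A ((m : ℤ))), g = S.P L t * u := by
    intro m
    induction m with
    | zero =>
      exact ⟨0, g, Ux_mono (fun r hr => RS.mem_lev hr (hA.pos r hr).le) hg, by rw [P_zero (by simp), one_mul]⟩
    | succ m ih =>
      obtain ⟨t, u, hu, rfl⟩ := ih
      push_cast
      refine Ux_induction (p := fun u => ∃ t', ∃ u' ∈ S.Ux (Φ.Lev f A ((m : ℤ) + 1)),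
        S.P L t * u = S.P L t' * u') ⟨t, 1, one_mem _, rfl⟩ ?_ hu
      rintro r hr a v - ⟨t', u', hu', e⟩
      obtain ⟨u'', hu'', e2⟩ := P_step (S := S) hA hL (fun r => (h r).1) ((h r).2 hr.1) hr.2 t' a
      refine ⟨Function.update t' r (t' r + a), u'' * ((S.x r a)⁻¹ * u' * (S.x r a)⁻¹⁻¹),
        mul_mem hu'' (conj_filt hA _ (inv_mem (x_mem hr.1 a)) hu'), ?_⟩
      rw [← mul_assoc, e, ← mul_assoc _ u'', ← e2]; group
  obtain ⟨M, hM⟩ := exists_fn_bound (Φ := Φ) f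
  obtain ⟨t, u, hu, e⟩ := key M
  have : (Φ.Lev f A ((M : ℤ))) = ∅ := by
    ext r; simp only [RS.Lev, Set.mem_ofPred_eq, Set.mem_empty_iff_false, iff_false, not_and, not_le]
    exact fun _ => hM r
  rw [this, Ux_empty, Subgroup.mem_bot] at hu
  exact ⟨t, by rw [e, hu, mul_one]⟩

theorem raise_Ux {f : I → ℤ} {A : Set R} {m : ℤ} (hm : 0 ≤ m) (h : ∀ r ∈ A, m ≤ Φ.fn f r) {g : G}
    (hg : g ∈ S.Ux A) : Raise (Φ.dg f) m (S.mat g - 1) := by
  refine Ux_induction (p := fun g => Raise (Φ.dg f) m (S.mat g - 1))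
    (by rw [mat_one, sub_self]; exact raise_zero) ?_ hg
  intro r hr t g _ ih
  rw [mat_mul, mat_x]
  exact ih.mul_sub_one hm (S.ad.raise f (h r hr) (hm.trans (h r hr)) t)

variable (S) in
/-- the coordinate functionals -/
def ent (r : R) (i : I) (g : G) : F := S.mat g (.inl i) (.inr (Φ.neg r))

theorem ent_one (r : R) (i : I) : S.ent r i 1 = 0 := by simp [ent, mat_one]

theorem ent_mul {f : I → ℤ} {A : Set R} {r : R} (h0 : 0 < Φ.fn f r) (h : ∀ s ∈ A, Φ.fn f r ≤ Φ.fn f s)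
    {g g' : G} (hg : g ∈ S.Ux A) (hg' : g' ∈ S.Ux A) (i : I) :
    S.ent r i (g * g') = S.ent r i g + S.ent r i g' := by
  unfold ent
  rw [mat_mul]
  refine (raise_Ux h0.le h hg).mul_apply (raise_Ux h0.le h hg') (by simp) ?_
  simp [RS.fn_neg, h0]

theorem ent_eq_zero {f : I → ℤ} {A : Set R} {r : R} (h0 : 0 ≤ Φ.fn f r)
    (h : ∀ s ∈ A, Φ.fn f r + 1 ≤ Φ.fn f s) {g : G} (hg : g ∈ S.Ux A) (i : I) : S.ent r i g = 0 := by
  have := raise_Ux (by omega) h hg (.inl i) (.inr (Φ.neg r)) (by simp [RS.fn_neg])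
  simpa [ent] using this

theorem ent_x_self (r : R) (i : I) (t : F) : S.ent r i (S.x r t) = (Φ.cv r i : F) * t := by
  rw [ent, mat_x, S.ad.entry]

theorem P_split {f : I → ℤ} {A : Set R} (hA : Φ.Unip f A) {L : List R} (hL : L.Nodup)
    (h : ∀ r ∈ L, r ∈ A) (m : ℤ) (t : R → F) :
    ∃ v ∈ S.Ux (Φ.Lev f A (m)),
      S.P L t = S.P L (fun r => if Φ.fn f r < m then t r else 0) * v ∧
      ∀ r ∈ A, Φ.fn f r = m → ∀ i, S.ent r i v = if r ∈ L then (Φ.cv r i : F) * t r else 0 := by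
  induction L with
  | nil => exact ⟨1, one_mem _, by simp, fun r _ _ i => by simp [ent_one]⟩
  | cons s L ih =>
    rw [List.nodup_cons] at hL
    obtain ⟨v, hv, e1, e2⟩ := ih hL.2 (fun s hs => h s (by simp [hs]))
    by_cases hs : Φ.fn f s < m
    · refine ⟨v, hv, by rw [P_cons, P_cons, e1, if_pos hs, mul_assoc], fun r hr hm i => ?_⟩
      have : r ≠ s := by rintro rfl; omega
      simp [e2 r hr hm i, this]
    · set Q := S.P L (fun r => if Φ.fn f r < m then t r else 0) with hQ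
      have hQm : Q ∈ S.Ux A := P_mem (fun s hs => h s (by simp [hs])) _
      have hx : S.x s (t s) ∈ S.Ux (Φ.Lev f A (m)) := x_mem (RS.mem_lev (h s (by simp)) (by omega)) _
      have hc := comm_filt hA m (inv_mem hQm) (inv_mem hx)
      have hc' : ⁅(S.x s (t s))⁻¹, Q⁻¹⁆ ∈ S.Ux (Φ.Lev f A (m)) :=
        Ux_mono (fun r hr => RS.mem_lev hr.1 (by have := hr.2; omega)) hc
      refine ⟨S.x s (t s) * ⁅(S.x s (t s))⁻¹, Q⁻¹⁆ * v, mul_mem (mul_mem hx hc') hv, ?_, fun r hr hm i => ?_⟩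
      · rw [P_cons, P_cons, e1, if_neg hs, x_zero, one_mul, ← hQ, commutatorElement_def]; group
      · subst hm
        have h0 := hA.pos r hr
        rw [ent_mul h0 (fun s hs => hs.2) (mul_mem hx hc') hv, ent_mul h0 (fun s hs => hs.2) hx hc',
          ent_eq_zero h0.le (fun s hs => hs.2) hc, e2 r hr rfl, add_zero]
        by_cases e : r = s
        · subst e; simp [hL.1, ent_x_self]
        · rw [ent, mat_x, S.ad.entry_ne (Ne.symm e) h0 (by omega)]; simp [e]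

theorem P_inj_of_ent {f : I → ℤ} {A : Set R} (hA : Φ.Unip f A) {L : List R} (hL : L.Nodup)
    (h : ∀ r ∈ L, r ∈ A) {t t' : R → F} (e : S.θ (S.P L t) = S.θ (S.P L t')) : ∀ r ∈ L, t r = t' r := by
  have key : ∀ m : ℕ, ∀ r ∈ L, Φ.fn f r < m → t r = t' r := by
    intro m
    induction m with
    | zero => intro r hr h1; have := hA.pos r (h r hr); omega
    | succ m ih =>
      intro r hr h1
      by_cases h2 : Φ.fn f r < m
      · exact ih r hr h2
      obtain ⟨v, -, e1, e2⟩ := P_split (S := S) hA hL h m t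
      obtain ⟨v', -, e1', e2'⟩ := P_split (S := S) hA hL h m t'
      rw [e1, e1', P_congr (t' := fun r => if Φ.fn f r < m then t' r else 0) (fun s hs => by
        split_ifs with h3
        exacts [ih s hs h3, rfl]), map_mul, map_mul, mul_right_inj] at e
      obtain ⟨i, hi⟩ := Φ.exists_cv_ne_zero F r
      have a1 := e2 r (h r hr) (by omega) i
      have a2 := e2' r (h r hr) (by omega) i
      rw [if_pos hr] at a1 a2
      rw [ent, mat, e] at a1
      exact mul_left_cancel₀ hi (a1.symm.trans a2)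
  intro r hr
  obtain ⟨M, hM⟩ := exists_fn_bound (Φ := Φ) f
  exact key M r hr (hM r)

theorem P_inj {f : I → ℤ} {A : Set R} (hA : Φ.Unip f A) {L : List R} (hL : L.Nodup)
    (h : ∀ r ∈ L, r ∈ A) {t t' : R → F} (e : S.P L t = S.P L t') : ∀ r ∈ L, t r = t' r :=
  P_inj_of_ent hA hL h (by rw [e])

theorem exists_list (A : Set R) : ∃ L : List R, L.Nodup ∧ ∀ r, r ∈ L ↔ r ∈ A := by
  classical
  exact ⟨(Finset.univ.filter (· ∈ A)).toList, Finset.nodup_toList _, by simp⟩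

theorem eq_one_of_ent {f : I → ℤ} {A : Set R} (hA : Φ.Unip f A) {g : G} (hg : g ∈ S.Ux A)
    (h0 : ∀ r ∈ A, ∀ i, S.ent r i g = 0) : g = 1 := by
  obtain ⟨L, hL, h⟩ := exists_list A
  obtain ⟨t, rfl⟩ := exists_P hA hL h hg
  have key : ∀ m : ℕ, ∀ r ∈ L, Φ.fn f r < m → t r = 0 := by
    intro m
    induction m with
    | zero => intro r hr h1; have := hA.pos r ((h r).1 hr); omega
    | succ m ih =>
      intro r hr h1
      by_cases h2 : Φ.fn f r < m
      · exact ih r hr h2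
      obtain ⟨v, -, e1, e2⟩ := P_split (S := S) hA hL (fun r => (h r).1) m t
      rw [P_zero (t := fun r => if Φ.fn f r < m then t r else 0) (fun s hs => by
        split_ifs with h3
        exacts [ih s hs h3, rfl]), one_mul] at e1
      obtain ⟨i, hi⟩ := Φ.exists_cv_ne_zero F r
      have a1 := e2 r ((h r).1 hr) (by omega) i
      rw [if_pos hr, ← e1, h0 r ((h r).1 hr)] at a1
      exact (mul_eq_zero.1 a1.symm).resolve_left hi
  obtain ⟨M, hM⟩ := exists_fn_bound (Φ := Φ) f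
  exact P_zero fun r hr => key M r hr (hM r)

theorem eq_one_of_raise {f f' : I → ℤ} {A : Set R} (hA : Φ.Unip f A) {g : G} (hg : g ∈ S.Ux A)
    (hf : ∀ r ∈ A, Φ.fn f' r < 0) (h0 : Raise (Φ.dg f') 0 (S.mat g)) : g = 1 :=
  eq_one_of_ent hA hg fun r hr i => h0 _ _ (by have := hf r hr; simp [RS.fn_neg]; omega)

theorem eq_of_θ_eq {f : I → ℤ} {A : Set R} (hA : Φ.Unip f A) {g g' : G} (hg : g ∈ S.Ux A)
    (hg' : g' ∈ S.Ux A) (e : S.θ g = S.θ g') : g = g' := by
  have := eq_one_of_ent hA (mul_mem (inv_mem hg) hg') fun r _ i => by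
    simp [ent, mat, e]
  exact inv_mul_eq_one.1 this

theorem x_eq_one_iff {r : R} {t : F} : S.x r t = 1 ↔ t = 0 := by
  refine ⟨fun h => ?_, fun h => by simp [h]⟩
  obtain ⟨i, hi⟩ := Φ.exists_cv_ne_zero F r
  have := ent_x_self (S := S) r i t
  rw [h, ent_one] at this
  exact (mul_eq_zero.1 this.symm).resolve_left hi

theorem x_inj {r : R} {t u : F} (h : S.x r t = S.x r u) : t = u := by
  have : S.x r (t - u) = 1 := by rw [sub_eq_add_neg, ← S.add, ← x_inv, h, mul_inv_cancel]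
  exact sub_eq_zero.1 (x_eq_one_iff.1 this)

/-- factorisation along a partition of a unipotent set of roots -/
theorem exists_mul {f : I → ℤ} {A B C : Set R} (hA : Φ.Unip f A) (h : ∀ r, r ∈ A ↔ r ∈ B ∨ r ∈ C)
    {g : G} (hg : g ∈ S.Ux A) : ∃ b ∈ S.Ux B, ∃ c ∈ S.Ux C, g = b * c := by
  obtain ⟨L1, h1, h1'⟩ := exists_list B
  obtain ⟨L2, h2, h2'⟩ := exists_list (C \ B)
  obtain ⟨t, rfl⟩ := exists_P hA (L := L1 ++ L2) (List.nodup_append.2 ⟨h1, h2, by
    rintro a ha _ hb rfl; exact ((h2' a).1 hb).2 ((h1' a).1 ha)⟩) (by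
      intro r; rw [List.mem_append, h1', h2', h]; simp; tauto) hg
  exact ⟨_, P_mem (fun r => (h1' r).1) t, _, P_mem (fun r hr => ((h2' r).1 hr).1) t, P_append _ _ _⟩

theorem Ux_inf {f : I → ℤ} {A B : Set R} (hA : Φ.Closed A) (hB : Φ.Closed B)
    (hf : ∀ r ∈ A ∪ B, 0 < Φ.fn f r) : S.Ux A ⊓ S.Ux B = S.Ux (A ∩ B) := by
  refine le_antisymm ?_ (le_inf (Ux_mono Set.inter_subset_left) (Ux_mono Set.inter_subset_right))
  rintro g ⟨hgA, hgB⟩
  obtain ⟨L0, h0, h0'⟩ := exists_list (A ∩ B)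
  obtain ⟨L1, h1, h1'⟩ := exists_list (A \ B)
  obtain ⟨L2, h2, h2'⟩ := exists_list (B \ A)
  have n1 : (L1 ++ L0).Nodup := List.nodup_append.2 ⟨h1, h0, by
    rintro a ha _ hb rfl; exact ((h1' a).1 ha).2 ((h0' a).1 hb).2⟩
  have n2 : (L0 ++ L2).Nodup := List.nodup_append.2 ⟨h0, h2, by
    rintro a ha _ hb rfl; exact ((h2' a).1 hb).2 ((h0' a).1 ha).1⟩
  obtain ⟨t, e1⟩ := exists_P ⟨hA, fun r hr => hf r (Or.inl hr)⟩ n1 (by
    intro r; rw [List.mem_append, h1', h0']; simp; tauto) hgA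
  obtain ⟨t', e2⟩ := exists_P ⟨hB, fun r hr => hf r (Or.inr hr)⟩ n2 (by
    intro r; rw [List.mem_append, h2', h0']; simp; tauto) hgB
  have n3 : (L1 ++ (L0 ++ L2)).Nodup := List.nodup_append.2 ⟨h1, n2, by
    rintro a ha _ hb rfl
    rcases List.mem_append.1 hb with hb | hb
    · exact ((h1' a).1 ha).2 ((h0' a).1 hb).2
    · exact ((h1' a).1 ha).2 ((h2' a).1 hb).1⟩
  classical
  have e3 : S.P (L1 ++ (L0 ++ L2)) (fun r => if r ∈ A then t r else 0) =
      S.P (L1 ++ (L0 ++ L2)) (fun r => if r ∈ B then t' r else 0) := by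
    have a1 : S.P (L1 ++ L0) (fun r => if r ∈ A then t r else 0) = S.P (L1 ++ L0) t := by
      refine P_congr fun r hr => ?_
      rcases List.mem_append.1 hr with hr | hr
      exacts [if_pos ((h1' r).1 hr).1, if_pos ((h0' r).1 hr).1]
    have a2 : S.P (L0 ++ L2) (fun r => if r ∈ B then t' r else 0) = S.P (L0 ++ L2) t' := by
      refine P_congr fun r hr => ?_
      rcases List.mem_append.1 hr with hr | hr
      exacts [if_pos ((h0' r).1 hr).2, if_pos ((h2' r).1 hr).1]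
    have a3 : S.P L2 (fun r => if r ∈ A then t r else 0) = 1 :=
      P_zero (fun r hr => if_neg ((h2' r).1 hr).2)
    have a4 : S.P L1 (fun r => if r ∈ B then t' r else 0) = 1 :=
      P_zero (fun r hr => if_neg ((h1' r).1 hr).2)
    rw [P_append L1 _ (fun r => if r ∈ B then t' r else 0), ← List.append_assoc, P_append, a1, a2, a3,
      a4, ← e1, ← e2, mul_one, one_mul]
  have := P_inj (RS.unip_fn f) n3 (by
    intro r hr
    simp only [List.mem_append, h1', h0', h2'] at hr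
    apply hf
    rcases hr with hr | hr | hr
    exacts [Or.inl hr.1, Or.inl hr.1, Or.inr hr.1]) e3
  rw [e1, P_append, P_zero (L := L1), one_mul]
  · exact P_mem (fun r => (h0' r).1) t
  · intro r hr
    have h3 := this r (by simp [hr])
    rwa [if_pos ((h1' r).1 hr).1, if_neg ((h1' r).1 hr).2] at h3

theorem card_Ux {f : I → ℤ} {A : Set R} (hA : Φ.Unip f A) :
    Nat.card (S.Ux A) = Nat.card F ^ Nat.card A := by
  obtain ⟨L, hL, h⟩ := exists_list A
  classical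
  rw [← Nat.card_fun]
  symm
  refine Nat.card_eq_of_bijective (fun t : A → F =>
    ⟨S.P L fun r => if h : r ∈ A then t ⟨r, h⟩ else 0, P_mem (fun r => (h r).1) _⟩) ⟨?_, ?_⟩
  · intro t t' e
    ext r
    have := P_inj hA hL (fun r => (h r).1) (congrArg Subtype.val e) r ((h r).2 r.2)
    simpa using this
  · rintro ⟨g, hg⟩
    obtain ⟨t, rfl⟩ := exists_P hA hL h hg
    exact ⟨fun r => t r, Subtype.ext (P_congr fun r hr => by simp [(h r).1 hr])⟩

end St

end Cfsg.Agent.Chev
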