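import Cfsg.Agent.Lib.Chev.Schur

set_option autoImplicit false
set_option linter.unusedSectionVars false
set_option linter.style.haveILetI false

/-! The group presented by Steinberg's relations for an arbitrary Chevalley datum. -/

namespace Cfsg.Agent.Chev

variable {I R : Type} [Fintype I] [DecidableEq I] [Fintype R] [DecidableEq R]

/-- Steinberg's relators -/
def CD.rels (Φ : CD I R) (F : Type*) [Field F] : Set (FreeGroup (R × F)) :=
  {g | ∃ r t u, g = .of (r, t) * .of (r, u) * (.of (r, t + u))⁻¹} ∪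
  {g | ∃ r s t u, s ≠ r ∧ s ≠ Φ.neg r ∧ g = .of (s, u) * .of (r, t) * (.of (r, t) * .of (s, u) *
    ((Φ.ct r s).map fun c => FreeGroup.of (c.1, (c.2.1 : F) * (-t) ^ c.2.2.1 * u ^ c.2.2.2)).prod)⁻¹}

/-- the group presented by Steinberg's relators -/
abbrev CD.Cov (Φ : CD I R) (F : Type*) [Field F] := PresentedGroup (Φ.rels F)

variable {Φ : CD I R} {F : Type*} [Field F] {G : Type*} [Group G]

theorem CD.rel_iff (y : R → F → G) :
    (∀ g ∈ Φ.rels F, FreeGroup.lift (fun p : R × F => y p.1 p.2) g = 1) ↔ Φ.Rel y := by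
  constructor
  · intro H
    refine ⟨fun r t u => ?_, fun r s t u h1 h2 => ?_⟩
    · simpa [mul_inv_eq_one] using H _ (Or.inl ⟨r, t, u, rfl⟩)
    · have := H _ (Or.inr ⟨r, s, t, u, h1, h2, rfl⟩)
      rw [map_mul, map_inv, mul_inv_eq_one] at this
      simpa [map_list_prod, Function.comp_def] using this
  · rintro H g (⟨r, t, u, rfl⟩ | ⟨r, s, t, u, h1, h2, rfl⟩)
    · simp [H.add]
    · rw [map_mul, map_inv, mul_inv_eq_one]
      simpa [map_list_prod, Function.comp_def] using H.comm r s t u h1 h2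

theorem CD.rel_of : Φ.Rel fun r (t : F) => (PresentedGroup.of (r, t) : Φ.Cov F) := by
  rw [← CD.rel_iff]
  intro g hg
  rw [show FreeGroup.lift (fun p : R × F => (PresentedGroup.of (p.1, p.2) : Φ.Cov F)) = PresentedGroup.mk _ from by
    ext p; simp [PresentedGroup.of]]
  exact PresentedGroup.one_of_mem hg

theorem CD.Rel.lift {y : R → F → G} (hy : Φ.Rel y) : ∃ φ : Φ.Cov F →* G, ∀ r t, φ (.of (r, t)) = y r t :=
  ⟨PresentedGroup.toGroup ((CD.rel_iff y).2 hy), fun _ _ => PresentedGroup.toGroup.of _⟩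

namespace Adj
variable (ad : Adj Φ F)

/-- the presented group as a group with root elements -/
noncomputable def cov : St Φ F (Φ.Cov F) where
  ad := ad
  x r t := .of (r, t)
  add := CD.rel_of.add
  comm := CD.rel_of.comm
  θ := ad.st.rel.lift.choose
  θ_x r t := congrArg Units.val (ad.st.rel.lift.choose_spec r t)

theorem cov_Gx : ad.cov.Gx = ⊤ := by
  rw [eq_top_iff, ← PresentedGroup.closure_range_of, Subgroup.closure_le]
  rintro _ ⟨⟨r, t⟩, rfl⟩
  exact St.x_mem_Gx (S := ad.cov) r t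

theorem cov_lift {y : R → F → G} (hy : Φ.Rel y) : ∃ φ : Φ.Cov F →* G, ∀ r t, φ (ad.cov.x r t) = y r t := hy.lift

include ad in
theorem finite_cov [Finite F] : Finite (Φ.Cov F) := by
  have := St.finite_PJ (ad.cov.hMul_of_finite) Set.univ
  rw [St.PJ_univ, ad.cov_Gx] at this
  exact Finite.of_equiv _ Subgroup.topEquiv.toEquiv

/-- the adjoint group -/
noncomputable def adj : St Φ F ad.st.Gx := ad.st.res

theorem adj_Gx : ad.adj.Gx = ⊤ := St.res_Gx
theorem adj_inj : Function.Injective ad.adj.θ := Subtype.val_injective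

end Adj

namespace St
variable {S : St Φ F G}

theorem finite_of_Gx [Finite F] (hG : S.Gx = ⊤) : Finite G := by
  have := St.finite_PJ (S.hMul_of_finite) Set.univ
  rw [St.PJ_univ, hG] at this
  exact Finite.of_equiv _ Subgroup.topEquiv.toEquiv

theorem surj_of {G' : Type*} [Group G'] {S' : St Φ F G'} (hG : S'.Gx = ⊤) {φ : G →* G'}
    (hφ : ∀ r t, φ (S.x r t) = S'.x r t) : Function.Surjective φ := by
  rw [← MonoidHom.range_eq_top, eq_top_iff, ← hG, Gx, ← map_Ux hφ]
  exact Subgroup.map_le_range _ _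

theorem θ_comp {G' : Type*} [Group G'] {S' : St Φ F G'} (hG : S.Gx = ⊤) (had : S.ad = S'.ad) {φ : G →* G'}
    (hφ : ∀ r t, φ (S.x r t) = S'.x r t) (g : G) : S'.θ (φ g) = S.θ g :=
  DFunLike.congr_fun (hom_ext hG (φ := S'.θ.comp φ) (ψ := S.θ) fun r t =>
    Units.ext (by rw [MonoidHom.comp_apply, hφ, S.θ_x, S'.θ_x, had])) g

theorem ker_le_center {G' : Type*} [Group G'] {S' : St Φ F G'} (hG : S.Gx = ⊤) (had : S.ad = S'.ad) {φ : G →* G'}
    (hφ : ∀ r t, φ (S.x r t) = S'.x r t) : φ.ker ≤ Subgroup.center G := fun g hg => by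
  rw [mem_center_iff hG, ← θ_comp hG had hφ, show φ g = 1 from hg, map_one]

/-- the projection onto the adjoint group -/
noncomputable def proj (hG : S.Gx = ⊤) : G →* S.ad.st.Gx :=
  S.θ.codRestrict _ fun g => by
    have : S.Gx.map S.θ = S.ad.st.Gx := St.map_Ux (fun r t => Units.ext (S.θ_x r t)) _
    rw [← this, hG]
    exact ⟨g, trivial, rfl⟩

theorem proj_x (hG : S.Gx = ⊤) (r : R) (t : F) : proj hG (S.x r t) = S.ad.adj.x r t :=
  Subtype.ext (Units.ext (S.θ_x r t))

theorem proj_ker (hG : S.Gx = ⊤) : (proj hG).ker = Subgroup.center G := by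
  ext g
  rw [St.mem_center_iff hG, MonoidHom.mem_ker, Subtype.ext_iff]
  rfl

/-- the central quotient as a group with root elements -/
noncomputable def quot (hG : S.Gx = ⊤) : St Φ F (G ⧸ Subgroup.center G) where
  ad := S.ad
  x r t := (S.x r t : G ⧸ Subgroup.center G)
  add := (S.rel.map (QuotientGroup.mk' _)).add
  comm := (S.rel.map (QuotientGroup.mk' _)).comm
  θ := QuotientGroup.lift _ S.θ fun _ hg => (mem_center_iff hG).1 hg
  θ_x := S.θ_x

theorem quot_x (hG : S.Gx = ⊤) (r : R) (t : F) : QuotientGroup.mk' _ (S.x r t) = (quot hG).x r t := rfl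

theorem quot_Gx (hG : S.Gx = ⊤) : (quot hG).Gx = ⊤ := by
  rw [Gx, ← map_Ux (quot_x hG), ← Gx, hG, Subgroup.map_top_of_surjective _ (QuotientGroup.mk'_surjective _)]

theorem quot_inj (hG : S.Gx = ⊤) : Function.Injective (quot hG).θ := by
  rw [injective_iff_map_eq_one]
  rintro ⟨g⟩ hg
  exact (QuotientGroup.eq_one_iff g).2 ((mem_center_iff hG).2 hg)

/-- transport along an isomorphism -/
def congr (S : St Φ F G) {G' : Type*} [Group G'] (e : G ≃* G') : St Φ F G' where
  ad := S.ad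
  x r t := e (S.x r t)
  add := (S.rel.map e.toMonoidHom).add
  comm := (S.rel.map e.toMonoidHom).comm
  θ := S.θ.comp e.symm.toMonoidHom
  θ_x r t := by simpa using S.θ_x r t

theorem congr_Gx (hG : S.Gx = ⊤) {G' : Type*} [Group G'] (e : G ≃* G') : (S.congr e).Gx = ⊤ := by
  rw [Gx, ← map_Ux (S := S) (S' := S.congr e) (φ := e.toMonoidHom) fun _ _ => rfl, ← Gx, hG,
    Subgroup.map_top_of_surjective _ e.surjective]

theorem congr_inj (hθ : Function.Injective S.θ) {G' : Type*} [Group G'] (e : G ≃* G') :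
    Function.Injective (S.congr e).θ := hθ.comp e.symm.injective

/-- a quotient by a central subgroup as a group with root elements -/
noncomputable def ofSurj (hG : S.Gx = ⊤) {G' : Type*} [Group G'] (φ : G →* G') (hs : Function.Surjective φ)
    (hk : φ.ker ≤ Subgroup.center G) : St Φ F G' where
  ad := S.ad
  x r t := φ (S.x r t)
  add := (S.rel.map φ).add
  comm := (S.rel.map φ).comm
  θ := φ.liftOfSurjective hs ⟨S.θ, fun _ hg => (mem_center_iff hG).1 (hk hg)⟩
  θ_x r t := by rw [MonoidHom.liftOfRightInverse_comp_apply]; exact S.θ_x r t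

theorem ofSurj_Gx (hG : S.Gx = ⊤) {G' : Type*} [Group G'] (φ : G →* G') (hs : Function.Surjective φ)
    (hk : φ.ker ≤ Subgroup.center G) : (ofSurj hG φ hs hk).Gx = ⊤ := by
  rw [Gx, ← map_Ux (S := S) (S' := ofSurj hG φ hs hk) (φ := φ) fun _ _ => rfl, ← Gx, hG,
    Subgroup.map_top_of_surjective _ hs]

theorem normal_cases [Nonempty I] (hG : S.Gx = ⊤) (hc : Φ.Conn) (hp : commutator G = ⊤) (K : Subgroup G) [K.Normal] :
    K ≤ Subgroup.center G ∨ K = ⊤ := by
  have hp' : commutator (G ⧸ Subgroup.center G) = ⊤ := by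
    rw [eq_top_iff, ← Subgroup.map_top_of_surjective _ (QuotientGroup.mk'_surjective _), ← hp, commutator_def,
      Subgroup.map_commutator]
    exact Subgroup.commutator_mono le_top le_top
  haveI := (isSimpleGroup (quot_Gx hG) (quot_inj hG) hc hp').1
  rcases (Subgroup.Normal.map ‹K.Normal› _ (QuotientGroup.mk'_surjective (Subgroup.center G))).eq_bot_or_eq_top with h | h
  · exact .inl (by rwa [Subgroup.map_eq_bot_iff, QuotientGroup.ker_mk'] at h)
  refine .inr (eq_top_iff.2 (hp ▸ Subgroup.commutator_le.2 fun a _ b _ => ?_))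
  obtain ⟨a', ha, e1⟩ := h.ge (Subgroup.mem_top (QuotientGroup.mk' _ a))
  obtain ⟨b', hb, e2⟩ := h.ge (Subgroup.mem_top (QuotientGroup.mk' _ b))
  rw [← comm_congr (QuotientGroup.ker_mk' _).le e1 e2]
  exact mul_mem (mul_mem (mul_mem ha hb) (inv_mem ha)) (inv_mem hb)

theorem ker_eq_center [Nonempty I] (hG : S.Gx = ⊤) (hc : Φ.Conn) (hp : commutator G = ⊤) {G' : Type*} [Group G']
    [Nontrivial G'] (hz : Subgroup.center G' = ⊥) {φ : G →* G'} (hs : Function.Surjective φ) :
    φ.ker = Subgroup.center G := by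
  refine le_antisymm ((normal_cases hG hc hp φ.ker).resolve_right fun h => ?_) fun g hg => ?_
  · obtain ⟨a, ha⟩ := exists_ne (1 : G')
    obtain ⟨g, rfl⟩ := hs a
    exact ha (h.ge (Subgroup.mem_top g))
  · refine hz.le (Subgroup.mem_center_iff.2 fun a => ?_)
    obtain ⟨a, rfl⟩ := hs a
    rw [← map_mul, Subgroup.mem_center_iff.1 hg, map_mul]

universe u in
theorem hasSchur {F : Type u} [Field F] [Finite F] {G : Type u} [Group G] {S : St Φ F G} (hG : S.Gx = ⊤)
    {p : Φ.Cov F →* G} (hp : ∀ r t, p (S.ad.cov.x r t) = S.x r t) (hd : commutator (Φ.Cov F) = ⊤)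
    {A : Type*} [CommGroup A] (e : Nonempty (p.ker ≃* A))
    (hl : ∀ {Γ : Type u} [Group Γ] [Finite Γ] {σ : Γ →* G}, IsStemExtension σ → S.Lifts σ) : HasSchurMultiplier G A := by
  haveI := S.ad.finite_cov
  refine hasSchur_of ⟨surj_of hG hp, ker_le_center (S' := S) S.ad.cov_Gx rfl hp, hd ▸ le_top⟩ e.some fun Γ _ _ σ hσ => ?_
  obtain ⟨y, h1, h2⟩ := hl hσ
  obtain ⟨φ, hφ⟩ := S.ad.cov_lift h1
  exact ⟨φ, St.hom_ext S.ad.cov_Gx fun r t => by simp [hφ, h2, hp]⟩

/-- the kernel of the projection onto the adjoint group -/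
theorem ker_equiv [Finite F] (hθ : Function.Injective S.θ) {p : Φ.Cov F →* G} (hp : ∀ r t, p (S.ad.cov.x r t) = S.x r t)
    (hi : Function.Injective S.ad.cov.hMul_of_finite.hT) : Nonempty (p.ker ≃* (zmap Fˣ Φ.cm).ker) := by
  have : p.ker = Subgroup.center _ := by
    refine le_antisymm (ker_le_center (S' := S) S.ad.cov_Gx rfl hp) fun g hg => hθ ?_
    rw [θ_comp (S' := S) S.ad.cov_Gx rfl hp, (mem_center_iff S.ad.cov_Gx).1 hg, map_one]
  rw [this, S.ad.cov.hMul_of_finite.center_eq S.ad.cov_Gx]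
  exact ⟨((zmap Fˣ Φ.cm).ker.equivMapOfInjective _ hi).symm⟩

theorem hT_inj_of {G' : Type*} [Group G'] {S' : St Φ F G'} (hm : S.HMul) (hm' : S'.HMul) {φ : G →* G'}
    (hφ : ∀ r t, φ (S.x r t) = S'.x r t) (hi : Function.Injective hm'.hT) : Function.Injective hm.hT := fun a b e =>
  hi (by
    have := hm.hom_ext (φ := φ) (ψ := hm'.hT) fun i c => by rw [map_h hφ, hm'.hT_single]
    rw [← this, ← this, e])

/-- a group with root elements and injective torus is universal -/
theorem inj_of_hT (hG : S.Gx = ⊤) {G' : Type*} [Group G'] {S' : St Φ F G'} (had : S.ad = S'.ad) (hm : S.HMul)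
    (hm' : S'.HMul) {φ : G →* G'} (hφ : ∀ r t, φ (S.x r t) = S'.x r t) (hi : Function.Injective hm'.hT) :
    Function.Injective φ := by
  rw [injective_iff_map_eq_one]
  intro g hg
  have h1 := ker_le_center hG had hφ hg
  rw [hm.center_eq hG] at h1
  obtain ⟨c, -, rfl⟩ := h1
  have := hm.hom_ext (φ := φ) (ψ := hm'.hT) (fun i c => by rw [map_h hφ, hm'.hT_single]) c
  rw [hg, ← map_one hm'.hT] at this
  rw [← hi this, map_one]

end St

end Cfsg.Agent.Chev
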