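import Cfsg.Agent.Lib.Chev.Order
import Cfsg.Agent.Lib.Chev.SL2

/-! Weakly closed unipotent subgroups of Chevalley groups. -/

set_option autoImplicit false
set_option linter.unusedSectionVars false

namespace Cfsg.Agent.Chev
open scoped commutatorElement

variable {I R : Type} [Fintype I] [DecidableEq I] [Fintype R] [DecidableEq R]

/-- a coroot separates `p` from `r` -/
def CD.WcSep (Φ : CD I R) (n : ℤ) (p r : R) : Prop := ∃ s, Φ.pair s r = 0 ∧ (Φ.pair s p = 1 ∨ Φ.pair s p = n)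

instance CD.decWcSep (Φ : CD I R) (n : ℤ) (p r : R) : Decidable (Φ.WcSep n p r) := by unfold CD.WcSep; infer_instance

/-- the root `p` can be isolated from the commutator of `X_i` and `X_b` -/
def CD.WcWit (Φ : CD I R) (n : ℤ) (p : R) (i : I) (b : R) : Prop := Φ.Pos b ∧ b ≠ Φ.sim i ∧ ((Φ.ct (Φ.sim i) b).map (·.1)).Nodup ∧
  (∃ c ∈ Φ.ct (Φ.sim i) b, c.1 = p ∧ c.2.1 * c.2.1 = 1) ∧ ∀ c ∈ Φ.ct (Φ.sim i) b, c.1 = p ∨ Φ.ht p < Φ.ht c.1 ∨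
    Φ.WcSep n p c.1 ∧ ∀ c' ∈ Φ.ct (Φ.sim i) b, c'.1 = c.1 ∨ Φ.ht p < Φ.ht c.1 + Φ.ht c'.1

instance CD.decWcWit (Φ : CD I R) (n : ℤ) (p : R) (i : I) (b : R) : Decidable (Φ.WcWit n p i b) := by unfold CD.WcWit; infer_instance

namespace St
variable {Φ : CD I R} {F : Type*} [Field F] [Fintype F] {G : Type*} [Group G] {S : St Φ F G} {n : ℤ} (hc : ∃ c : Fˣ, c ^ n ≠ 1)

theorem wc_norm {m : ℤ} {r : R} (hr : Φ.Pos r) {T : Set R} (h : ∀ s ∈ T, Φ.Pos s ∧ m < Φ.ht r + Φ.ht s) (t : F) {g : G}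
    (hg : g ∈ S.Ux (T ∪ Φ.Lev 1 {r | Φ.Pos r} (m + 1))) : S.x r t * g * (S.x r t)⁻¹ ∈ S.Ux (T ∪ Φ.Lev 1 {r | Φ.Pos r} (m + 1)) :=
  conj_x_mem (fun s hs => by
    have h1 : Φ.Pos s ∧ m < Φ.ht r + Φ.ht s := hs.elim (h s) fun a => ⟨a.1, by
      have := a.2; have := hr.ht_pos; rw [RS.fn_one] at *; omega⟩
    refine ⟨RS.unip_pos.ne_neg hr h1.1, fun k hk => .inr ⟨hk.pos hr h1.1, ?_⟩⟩
    have := hk.fn_le (f := 1) (RS.unip_pos.pos r hr).le (RS.unip_pos.pos s h1.1).le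
    simp only [RS.fn_one] at *; omega) t hg

theorem wc_all {K : Subgroup G} (hK : ∀ h ∈ S.H, ∀ x ∈ K, h * x * h⁻¹ ∈ K) {p : R} {a : F} (ha : a ≠ 0) (h : S.x p a ∈ K) (t : F) :
    S.x p t ∈ K := by
  have h1 : ∀ c : F, S.x p (c * c * a) ∈ K := fun c => by
    by_cases e : c = 0
    · simp [e]
    · have := hK _ (h_mem p (Units.mk0 c e)) _ h
      rw [h_conj_x, show Φ.pair p p = 2 from Φ.pair_self p] at this
      simpa [pow_two] using this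
  rw [← div_mul_cancel₀ t ha]
  by_cases h2 : ringChar F = 2
  · obtain ⟨c, e⟩ := FiniteField.isSquare_of_char_two h2 (t / a)
    exact e ▸ h1 c
  · have h3 := Ring.two_ne_zero h2
    convert mul_mem (h1 ((t / a + 1) / 2)) (inv_mem (h1 ((t / a - 1) / 2))) using 1
    rw [S.x_inv, S.add]; congr 1; field_simp; ring

include hc in
theorem wc_sep {K : Subgroup G} (hK : ∀ h ∈ S.H, ∀ x ∈ K, h * x * h⁻¹ ∈ K) {m : ℤ} (hi : S.Ux (Φ.Lev 1 {r | Φ.Pos r} (m + 1)) ≤ K) {p : R}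
    (hp : Φ.Pos p) (T : Finset R) : (∀ r ∈ T, Φ.Pos r ∧ Φ.WcSep n p r ∧ m < Φ.ht p + Φ.ht r ∧ ∀ r' ∈ T, r' = r ∨ m < Φ.ht r + Φ.ht r') →
    ∀ a ≠ 0, ∀ y ∈ S.Ux (T ∪ Φ.Lev 1 {r | Φ.Pos r} (m + 1)), S.x p a * y ∈ K → ∀ t, S.x p t ∈ K := by
  induction T using Finset.induction_on with
  | empty => exact fun _ a ha y hy h => wc_all hK ha ((K.mul_mem_cancel_right (hi (by simpa using hy))).1 h)
  | insert r T hr ih =>
    intro hT a ha y hy h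
    obtain ⟨a1, ⟨s, a2, a3⟩, -, a4⟩ := hT r (by simp)
    rw [Finset.coe_insert, Set.insert_union, Set.insert_eq, Set.union_comm, Ux_union, mem_sup_iff_of_conj fun k hk y hy => by
      obtain ⟨t, rfl⟩ := mem_Ux_singleton.1 hk
      exact wc_norm a1 (fun s hs => ⟨(hT s (by simp [show s ∈ T from hs])).1,
        (a4 s (by simp [show s ∈ T from hs])).resolve_left fun e => hr (e ▸ hs)⟩) t hy] at hy
    obtain ⟨y, hy, k, hk, rfl⟩ := hy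
    obtain ⟨b, rfl⟩ := mem_Ux_singleton.1 hk
    obtain ⟨c, hc⟩ := hc
    have b1 : ((c ^ Φ.pair s p : Fˣ) : F) ≠ 1 := by
      rcases a3 with e | e <;> rw [e, Ne, Units.val_eq_one]
      exacts [fun e => hc (by simp [show c = 1 by simpa using e]), hc]
    have b2 := h_conj_x (S := S) s c r b
    have b3 := h_conj_x (S := S) s c p a
    rw [a2, zpow_zero, Units.val_one, one_mul] at b2
    refine ih (fun r hr => ?_) (((c ^ Φ.pair s p : Fˣ) - 1) * a) (mul_ne_zero (sub_ne_zero.2 b1) ha) _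
      (wc_norm hp (fun s hs => ?_) a (mul_mem (conj_H_Ux (h_mem s c) hy) (inv_mem hy))) ?_
    · obtain ⟨c1, c2, c3, c4⟩ := hT r (by simp [hr])
      exact ⟨c1, c2, c3, fun r' h' => c4 r' (by simp [h'])⟩
    · exact ⟨(hT s (by simp [show s ∈ T from hs])).1, (hT s (by simp [show s ∈ T from hs])).2.2.1⟩
    · convert mul_mem (hK _ (h_mem s c) _ h) (inv_mem h) using 1
      rw [← mul_assoc, ← mul_assoc, S.add, sub_one_mul, sub_add_cancel, ← b3]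
      rw [mul_inv_eq_iff_eq_mul] at b2
      rw [show S.h s c * (S.x p a * (y * S.x r b)) * (S.h s c)⁻¹ = S.h s c * S.x p a * y * (S.h s c)⁻¹ * (S.h s c * S.x r b) * (S.h s c)⁻¹ by group, b2]
      group

include hc in
theorem weakly_closed (h1 : ∀ i j, j = i ∨ Φ.WcSep n (Φ.sim i) (Φ.sim j))
    (h2 : ∀ p, Φ.Pos p → (∃ i, p = Φ.sim i) ∨ 1 < Φ.ht p ∧ ∃ i b, Φ.WcWit n p i b) {X : Subgroup G} (hXU : X ≤ S.U)
    (hwc : ∀ g ∈ S.Gx, (∀ x ∈ X, g * x * g⁻¹ ∈ S.U) → ∀ x ∈ X, g * x * g⁻¹ ∈ X) : ∃ J, X = S.UJ J := by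
  classical
  have a1 : ∀ b ∈ S.B, ∀ x ∈ X, b * x * b⁻¹ ∈ X := fun b hb => hwc b (B_le_Gx hb) fun x hx => conj_U hb (hXU hx)
  let J : Set I := {j | ∀ x ∈ X, S.n (Φ.sim j) 1 * x * (S.n (Φ.sim j) 1)⁻¹ ∈ X}
  have a2 : X ≤ S.UJ J := fun x hx => by
    obtain ⟨m, hm, hw⟩ := exists_of_W (S := S) (Φ.w0 J)
    have b1 := NJ_induction (J := J) (p := fun m => ∀ x ∈ X, m * x * m⁻¹ ∈ X) (fun h hh => a1 h (H_le_B hh)) (fun j hj m _ ih x hx => by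
      simpa [mul_assoc] using hj _ (ih x hx)) ⟨hm, _, RS.w0_mem J, hw⟩ x hx
    obtain ⟨u, hu, v, hv, rfl⟩ := exists_Uw (Φ.w0 J) (hXU hx)
    have b2 := mul_mem (inv_mem (hw.conj_mem (B := {r | Φ.Pos r}) (fun r hr => hr.2) hu)) (hXU b1)
    rw [conj_eq_one_iff.1 (eq_one_of_mem_B_V (U_le_B (by simpa [mul_assoc, U] using b2)) (hw.conj_Uw hv)), mul_one]
    exact Ux_mono (fun r hr => by exact ⟨hr.1, fun h => RS.w0_neg hr.1 h hr.2⟩) hu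
  have a3 : ∀ m, ∀ g, g ∈ X ⊔ S.Ux (Φ.Lev 1 {r | Φ.Pos r} m) ↔ ∃ x ∈ X, ∃ u ∈ S.Ux (Φ.Lev 1 {r | Φ.Pos r} m), g = x * u := fun m g =>
    mem_sup_iff_of_conj fun u hu => a1 u (U_le_B (Ux_mono (fun _ h => h.1) hu))
  have a4 : ∀ m, ∀ h ∈ S.H, ∀ x ∈ X ⊔ S.Ux (Φ.Lev 1 {r | Φ.Pos r} m), h * x * h⁻¹ ∈ X ⊔ S.Ux (Φ.Lev 1 {r | Φ.Pos r} m) := fun m h hh g hg => by
    obtain ⟨x, hx, u, hu, rfl⟩ := (a3 m g).1 hg
    exact (a3 m _).2 ⟨_, a1 h (H_le_B hh) x hx, _, conj_H_Ux hh hu, by group⟩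
  have a5 : ∀ m : ℕ, S.UJ J ≤ X ⊔ S.Ux (Φ.Lev 1 {r | Φ.Pos r} (m + 1)) := fun m => by
    induction m with
    | zero => exact (Ux_mono fun r hr => by exact ⟨hr.1, RS.unip_pos.pos r hr.1⟩).trans le_sup_right
    | succ m ih =>
      push_cast
      suffices h : ∀ p, Φ.Pos p → ¬ Φ.InJ J p → Φ.ht p = m + 1 → ∀ t, S.x p t ∈ X ⊔ S.Ux (Φ.Lev 1 {r | Φ.Pos r} (m + 1 + 1)) by
        intro g hg
        obtain ⟨x, hx, u, hu, rfl⟩ := (a3 _ g).1 (ih hg)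
        have b1 : u ∈ S.UJ J ⊓ S.Ux (Φ.Lev 1 {r | Φ.Pos r} (m + 1)) := ⟨((S.UJ J).mul_mem_cancel_left (a2 hx)).1 hg, hu⟩
        rw [UJ, Ux_inf (f := 1) (A := {r | Φ.Pos r ∧ ¬ Φ.InJ J r}) (B := Φ.Lev 1 {r | Φ.Pos r} (m + 1)) (fun r hr s hs k hk => by exact ⟨hk.pos hr.1 hs.1, fun h => hr.2 fun i hi => le_antisymm (by
            have := hk.rv_le (hr.1 i) (hs.1 i); have := hs.1 i; have := h i hi; omega) (hr.1 i)⟩)
          (fun r hr s hs k hk => by exact ⟨hk.pos hr.1 hs.1, by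
            have := hk.fn_le (f := 1) (RS.unip_pos.pos r hr.1).le (RS.unip_pos.pos s hs.1).le
            have := hr.2; have := RS.unip_pos.pos s hs.1; omega⟩)
          fun r hr => RS.unip_pos.pos r (hr.elim And.left And.left)] at b1
        refine mul_mem (le_sup_left (a := X) hx) (Ux_le.2 (fun r hr t => ?_) b1)
        have := hr.2.2
        rw [RS.fn_one] at this
        rcases this.eq_or_lt with e | e
        exacts [h r hr.1.1 hr.1.2 e.symm t, le_sup_right (a := X) (x_mem (A := Φ.Lev 1 {r | Φ.Pos r} _) ⟨hr.1.1, by rw [RS.fn_one]; omega⟩ t)]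
      intro p hp hJ hm
      rcases h2 p hp with ⟨i, rfl⟩ | ⟨-, i, b, c1, c2, c3, ⟨c, c4, rfl, c5⟩, c6⟩
      · obtain ⟨x, hx, b1⟩ : ∃ x ∈ X, x ∉ S.Ux {r | Φ.Pos r ∧ r ≠ Φ.sim i} := by
          by_contra! h
          exact hJ (RS.inJ_sim.2 (hwc _ (n_mem_Gx _ _) fun x hx => (acts_n i 1).conj_mem (B := {r | Φ.Pos r}) (fun r hr => hr.1.rf hr.2) (h x hx)))
        obtain ⟨u, hu, t, rfl⟩ := exists_U_split i (hXU hx)
        rw [RS.ht_sim] at hm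
        have b2 : ∀ r ∈ (Finset.univ.erase i).image Φ.sim, Φ.Pos r ∧ Φ.WcSep n (Φ.sim i) r ∧ Φ.ht r = 1 := fun r hr => by
          obtain ⟨j, hj, rfl⟩ := Finset.mem_image.1 hr
          exact ⟨Φ.pos_sim j, (h1 i j).resolve_left (Finset.ne_of_mem_erase hj), RS.ht_sim j⟩
        refine wc_sep hc (a4 _) le_sup_right hp ((Finset.univ.erase i).image Φ.sim) (fun r hr => ⟨(b2 r hr).1, (b2 r hr).2.1,
          by rw [RS.ht_sim, (b2 r hr).2.2]; omega, fun r' hr' => .inr (by rw [(b2 r hr).2.2, (b2 r' hr').2.2]; omega)⟩) t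
          (fun e => b1 (by simpa [e] using hu)) _ (wc_norm hp (fun r hr => ⟨(b2 r hr).1, by rw [RS.ht_sim, (b2 r hr).2.2]; omega⟩) (-t)
            (Ux_mono (fun r hr => ?_) hu)) (le_sup_left (a := X) (by rw [← S.x_inv]; simpa [mul_assoc] using hx))
        rcases h2 r hr.1 with ⟨j, rfl⟩ | h
        exacts [.inl (Finset.mem_image_of_mem _ (by simpa using fun e => hr.2 (by rw [e]))), .inr ⟨hr.1, by rw [RS.fn_one]; omega⟩]
      · have b1 : ∀ g ∈ S.UJ J, ∀ v ∈ S.U, ⁅g, v⁆ ∈ X ⊔ S.Ux (Φ.Lev 1 {r | Φ.Pos r} (m + 1 + 1)) := fun g hg v hv => by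
          obtain ⟨x, hx, u, hu, rfl⟩ := (a3 _ g).1 (ih hg)
          rw [show ⁅x * u, v⁆ = x * ⁅u, v⁆ * (v * x⁻¹ * v⁻¹) by simp only [commutatorElement_def]; group]
          exact mul_mem (mul_mem (le_sup_left (a := X) hx) (le_sup_right (a := X) (comm_filt RS.unip_pos _ hv hu)))
            (le_sup_left (a := X) (a1 v (U_le_B hv) _ (inv_mem hx)))
        have b2 : ⁅(S.x b 1)⁻¹, (S.x (Φ.sim i) 1)⁻¹⁆ ∈ X ⊔ S.Ux (Φ.Lev 1 {r | Φ.Pos r} (m + 1 + 1)) := by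
          by_cases h : Φ.InJ J b
          · rw [← commutatorElement_inv]
            refine inv_mem (b1 _ (inv_mem (x_mem (A := {r | Φ.Pos r ∧ ¬ Φ.InJ J r}) ⟨Φ.pos_sim i, fun h' => hJ ?_⟩ _)) _ (inv_mem (x_mem_U c1 _)))
            exact RS.Comb.inJ ⟨_, _, Φ.ct_rv _ _ c c4⟩ h' h
          · exact b1 _ (inv_mem (x_mem (A := {r | Φ.Pos r ∧ ¬ Φ.InJ J r}) ⟨c1, h⟩ _)) _ (inv_mem (x_mem_U (Φ.pos_sim i) _))
        have b3 := S.comm (Φ.sim i) b 1 1 c2 (RS.unip_pos.ne_neg (Φ.pos_sim i) c1)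
        have b4 : ∀ c ∈ Φ.ct (Φ.sim i) b, Φ.Pos c.1 := fun c h => RS.Comb.pos ⟨_, _, Φ.ct_rv _ _ c h⟩ (Φ.pos_sim i) c1
        let T : Finset R := (((Φ.ct (Φ.sim i) b).map (·.1)).toFinset.erase c.1).filter fun r => Φ.ht r ≤ m + 1
        have b5 : ∀ r ∈ T, Φ.Pos r ∧ Φ.WcSep n c.1 r ∧ m + 1 < Φ.ht c.1 + Φ.ht r ∧ ∀ r' ∈ T, r' = r ∨ m + 1 < Φ.ht r + Φ.ht r' := fun r hr => by
          simp only [T, Finset.mem_filter, Finset.mem_erase, List.mem_toFinset, List.mem_map] at hr ⊢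
          obtain ⟨⟨d1, d, d2, rfl⟩, d3⟩ := hr
          obtain ⟨d4, d5⟩ := ((c6 d d2).resolve_left d1).resolve_left (by omega)
          exact ⟨b4 d d2, d4, by have := (b4 d d2).ht_pos; omega, by rintro _ ⟨⟨-, d', d6, rfl⟩, -⟩; exact hm ▸ d5 d' d6⟩
        have b6 : ∀ L : List (R × ℤ × ℕ × ℕ), (∀ d ∈ L, d ∈ Φ.ct (Φ.sim i) b ∧ d.1 ≠ c.1) →
            (L.map fun c => S.x c.1 ((c.2.1 : F) * (-1) ^ c.2.2.1 * 1 ^ c.2.2.2)).prod ∈ S.Ux (T ∪ Φ.Lev 1 {r | Φ.Pos r} (m + 1 + 1)) := fun L hL =>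
          list_prod_mem (by
            simp only [List.mem_map]
            rintro _ ⟨d, hd, rfl⟩
            refine x_mem (A := T ∪ Φ.Lev 1 {r | Φ.Pos r} (m + 1 + 1)) (Or.imp (fun e => ?_) (fun e => ⟨b4 d (hL d hd).1, by rw [RS.fn_one]; omega⟩)
              (le_or_gt (Φ.ht d.1) (m + 1))) _
            simp only [T, Finset.coe_filter, Finset.mem_erase, List.mem_toFinset, List.mem_map, Set.mem_ofPred_eq]
            exact ⟨⟨(hL d hd).2, d, (hL d hd).1, rfl⟩, e⟩)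
        obtain ⟨L₁, L₂, e⟩ := List.append_of_mem c4
        rw [e, List.map_append, List.map_cons, List.nodup_middle, List.nodup_cons, List.mem_append, not_or] at c3
        rw [e, List.map_append, List.map_cons, List.prod_append, List.prod_cons] at b3
        have b7 : (c.2.1 : F) ≠ 0 := left_ne_zero_of_mul_eq_one (b := (c.2.1 : F)) (by rw [← Int.cast_mul, c5, Int.cast_one])
        refine wc_sep hc (a4 _) le_sup_right hp T b5 ((c.2.1 : F) * (-1) ^ c.2.2.1 * 1 ^ c.2.2.2) (by simp [b7]) _ (mul_mem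
          (wc_norm hp (fun r hr => ⟨(b5 r hr).1, (b5 r hr).2.2.1⟩) (-((c.2.1 : F) * (-1) ^ c.2.2.1 * 1 ^ c.2.2.2))
            (b6 L₁ fun d hd => ⟨by simp [e, hd], fun h => c3.1.1 (List.mem_map.2 ⟨d, hd, h⟩)⟩))
          (b6 L₂ fun d hd => ⟨by simp [e, hd], fun h => c3.1.2 (List.mem_map.2 ⟨d, hd, h⟩)⟩)) ?_
        convert b2 using 1
        rw [commutatorElement_def, inv_inv, inv_inv, mul_assoc _ (S.x b 1), b3, ← S.x_inv]
        group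
  obtain ⟨M, hM⟩ := exists_fn_bound (Φ := Φ) 1
  exact ⟨J, le_antisymm a2 ((a5 M).trans (sup_le le_rfl (Ux_le.2 fun r hr => absurd hr.2 (by have := hM r; omega))))⟩

end St
end Cfsg.Agent.Chev
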