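import Cfsg.Agent.Lib.Chev.WC1

/-! Certificates for the weakly closed unipotent subgroups. -/

set_option autoImplicit false

namespace Cfsg.Agent.Chev
open Cfsg.Lie

/-- the certificate -/
def CD.WcOk {I R : Type} [Fintype I] [DecidableEq I] [Fintype R] [DecidableEq R] (Φ : CD I R) (n : ℤ) : Prop :=
  (∀ i j, j = i ∨ Φ.WcSep n (Φ.sim i) (Φ.sim j)) ∧ ∀ p, Φ.Pos p → (∃ i, p = Φ.sim i) ∨ 1 < Φ.ht p ∧ ∃ i b, Φ.WcWit n p i b

theorem CD.wcOk_of_rf {I R : Type} [Fintype I] [DecidableEq I] [Fintype R] [DecidableEq R] {Φ : CD I R} {n : ℤ}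
    (h1 : ∀ i j, j = i ∨ Φ.WcSep n (Φ.sim i) (Φ.sim j))
    (h2 : ∀ p, Φ.Pos p → (∃ i, p = Φ.sim i) ∨ 1 < Φ.ht p ∧ ∃ i, Φ.WcWit n p i (Φ.rf i p)) : Φ.WcOk n :=
  ⟨h1, fun p hp => (h2 p hp).imp id fun ⟨a, i, b⟩ => ⟨a, i, _, b⟩⟩

theorem wc_G2 : checkedG2.toCD.WcOk 2 := ⟨by decide +kernel, by decide +kernel⟩
theorem wc_B2 : checkedB2.toCD.WcOk 2 := ⟨by decide +kernel, by decide +kernel⟩
theorem wc_F4 : checkedF4.toCD.WcOk 2 := ⟨by decide +kernel, by decide +kernel⟩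
theorem wc_D4 : checkedD4.toCD.WcOk 2 := CD.wcOk_of_rf (by decide +kernel) (by decide +kernel)
theorem wc_E6 : checkedE6.toCD.WcOk 1 := CD.wcOk_of_rf (by decide +kernel) (by decide +kernel)
theorem wc_E7 : checkedE7.toCD.WcOk 1 := CD.wcOk_of_rf (by decide +kernel) (by decide +kernel)
theorem wc_E8 : checkedE8.toCD.WcOk 1 := CD.wcOk_of_rf (by decide +kernel) (by decide +kernel)

theorem exists_zpow_ne_one {F : Type*} [Field F] [Fintype F] {n : ℕ} (h0 : 0 < n) (h : n + 1 < Fintype.card F) : ∃ c : Fˣ, c ^ (n : ℤ) ≠ 1 := by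
  by_contra! h1
  have := Nat.le_of_dvd h0 ((FiniteField.forall_pow_eq_one_iff F n).1 fun c => by simpa using h1 c)
  omega

theorem Checked.weakly_closed {D : ChevalleyDatum} {c : Cert} (h : Checked D c) {F : Type*} [Field F] [Fintype F] {n : ℕ} (h0 : 0 < n)
    (hn : n + 1 < Fintype.card F) (ok : h.toCD.WcOk n) (X : Subgroup (GL D.Idx F)) (hXU : X ≤ D.posUnipotent F)
    (hwc : ∀ g ∈ D.group F, X.map (MulAut.conj g).toMonoidHom ≤ D.posUnipotent F → X.map (MulAut.conj g).toMonoidHom = X) :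
    ∃ J : Set ℕ, (∀ j ∈ J, j < D.rank) ∧ X = D.unipotentRadical F J := by
  rw [h.U_eq] at *
  rw [h.group_eq] at hwc
  obtain ⟨J, e⟩ := St.weakly_closed (exists_zpow_ne_one h0 hn) ok.1 ok.2 hXU fun g hg h1 x hx =>
    (hwc g hg (by rintro _ ⟨y, hy, rfl⟩; exact h1 y hy)).le ⟨x, hx, rfl⟩
  refine ⟨Fin.val '' J, by rintro _ ⟨j, -, rfl⟩; exact j.2, ?_⟩
  rw [h.UJ_eq, e]
  congr 1
  ext i
  simp [Fin.val_inj]

end Cfsg.Agent.Chev
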