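import Cfsg.Agent.Lib.Chev.RS

set_option autoImplicit false
set_option linter.unusedSectionVars false

/-! The Weyl group of an abstract root system. -/

namespace Cfsg.Agent.Chev.RS

variable {I R : Type} [Fintype I] [DecidableEq I] (Φ : RS I R)

/-- simple reflections as permutations of the roots -/
def sP (i : I) : Equiv.Perm R := ⟨Φ.rf i, Φ.rf i, Φ.rf_rf i, Φ.rf_rf i⟩

/-- the Weyl group -/
def W : Subgroup (Equiv.Perm R) := Subgroup.closure (Set.range Φ.sP)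

/-- simple reflections -/
def s (i : I) : Φ.W := ⟨Φ.sP i, Subgroup.subset_closure ⟨i, rfl⟩⟩

@[simp] theorem s_smul (i : I) (r : R) : Φ.s i • r = Φ.rf i r := rfl

variable {Φ} in
theorem W_ext {w w' : Φ.W} (h : ∀ r : R, w • r = w' • r) : w = w' :=
  Subtype.ext (Equiv.ext h)

theorem s_sq (i : I) : Φ.s i * Φ.s i = 1 := W_ext fun r => by simp [mul_smul, rf_rf]

theorem invGen : InvGen Φ.s where
  sq := Φ.s_sq
  gen := by
    rintro ⟨w, hw⟩
    induction hw using Subgroup.closure_induction with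
    | mem x hx => obtain ⟨i, rfl⟩ := hx; exact ⟨[i], by simp; rfl⟩
    | one => exact ⟨[], rfl⟩
    | mul x y _ _ hx hy =>
      obtain ⟨a, ha⟩ := hx
      obtain ⟨b, hb⟩ := hy
      exact ⟨a ++ b, by rw [wp_append, ha, hb]; rfl⟩
    | inv x hx' hx =>
      obtain ⟨a, ha⟩ := hx
      refine ⟨a.reverse, ?_⟩
      have : ∀ a : List I, wp Φ.s a.reverse = (wp Φ.s a)⁻¹ := by
        intro a
        induction a with
        | nil => simp
        | cons i a ih => simp [ih, inv_eq_of_mul_eq_one_right (Φ.s_sq i)]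
      rw [this, ha]; rfl

theorem s_inv (i : I) : (Φ.s i)⁻¹ = Φ.s i := Φ.invGen.inv i

variable {Φ}

theorem W_induction {p : Φ.W → Prop} (h1 : p 1) (h2 : ∀ i w, p w → p (Φ.s i * w)) (w : Φ.W) :
    p w := Φ.invGen.induction_left h1 (fun i w _ h => h2 i w h) w

theorem rv_smul (w : Φ.W) (r : R) : Φ.rv (w • r) = ∑ j, Φ.rv r j • Φ.rv (w • Φ.sim j) := by
  induction w using W_induction with
  | h1 =>
    ext i
    simp [Φ.rv_sim, Finset.sum_apply, Pi.single_apply]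
  | h2 i w ih =>
    simp only [mul_smul, s_smul, Φ.rv_rf, smul_sub, Finset.sum_sub_distrib]
    rw [← ih, ← Al_rv, ih, map_sum]
    simp only [map_smul, Al_rv]
    congr 1
    ext k
    by_cases h : k = i <;> simp [h, Finset.sum_apply]

/-- the linear map of an element of the Weyl group -/
def lin (w : Φ.W) : (I → ℤ) →ₗ[ℤ] (I → ℤ) where
  toFun v := ∑ j, v j • Φ.rv (w • Φ.sim j)
  map_add' v v' := by simp [add_smul, Finset.sum_add_distrib]
  map_smul' c v := by simp [Finset.smul_sum, mul_smul]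

theorem lin_rv (w : Φ.W) (r : R) : lin w (Φ.rv r) = Φ.rv (w • r) := (rv_smul w r).symm

theorem smul_neg' (w : Φ.W) (r : R) : w • Φ.neg r = Φ.neg (w • r) :=
  Φ.rv_inj (by rw [← lin_rv, Φ.rv_neg, map_neg, lin_rv, Φ.rv_neg])

theorem ln_smul (w : Φ.W) (r : R) : Φ.ln (w • r) = Φ.ln r := by
  induction w using W_induction with
  | h1 => simp
  | h2 i w ih => rw [mul_smul, s_smul, Φ.ln_rf, ih]

theorem pair_smul (w : Φ.W) (r s : R) : Φ.pair (w • r) (w • s) = Φ.pair r s := by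
  induction w using W_induction with
  | h1 => simp
  | h2 i w ih => rw [mul_smul, mul_smul, s_smul, s_smul, pair_rf, ih]

theorem exists_smul_sim (r : R) : ∃ (w : Φ.W) (i : I), r = w • Φ.sim i := by
  induction r using root_induction (Φ := Φ) with
  | h1 i => exact ⟨1, i, by simp⟩
  | h2 i r ih => obtain ⟨w, j, rfl⟩ := ih; exact ⟨Φ.s i * w, j, by simp [mul_smul]⟩

theorem rv_conj (w : Φ.W) (j : I) (r : R) :
    Φ.rv ((w * Φ.s j * w⁻¹) • r) = Φ.rv r - Φ.pair (w • Φ.sim j) r • Φ.rv (w • Φ.sim j) := by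
  rw [mul_smul, mul_smul, s_smul, ← lin_rv, Φ.rv_rf, map_sub, lin_rv, smul_inv_smul, ← pair_sim,
    ← pair_smul w, smul_inv_smul, ← lin_rv w (Φ.sim j), ← map_smul, Φ.rv_sim]
  congr 2
  ext k; by_cases h : k = j <;> simp [h]

theorem conj_of_smul_sim {w : Φ.W} {i j : I} (h : w • Φ.sim j = Φ.sim i) :
    Φ.s i * w = w * Φ.s j := by
  have : w * Φ.s j * w⁻¹ = Φ.s i := by
    refine W_ext fun r => Φ.rv_inj ?_
    rw [rv_conj, h, s_smul, Φ.rv_rf, pair_sim, Φ.rv_sim]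
    congr 1
    ext k; by_cases h : k = i <;> simp [h]
  rw [← this]; group

/-- the exchange property for extensions of the Weyl group -/
theorem exchange_of_hom {Γ : Type*} [Group Γ] {t : I → Γ} (ht : InvGen t) (π : Γ →* Φ.W)
    (hπ : ∀ i, π (t i) = Φ.s i)
    (hc : ∀ i j w, π w • Φ.sim j = Φ.sim i → t i * w = w * t j) :
    Exchange t ∧ ∀ i w, Φ.Pos ((π w)⁻¹ • Φ.sim i) ↔ len t w < len t (t i * w) := by
  refine ht.exchange_of_pos (fun i w => Φ.Pos ((π w)⁻¹ • Φ.sim i)) ?_ ?_ ?_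
  · intro i; simpa using Φ.pos_sim i
  · intro i w h
    rw [map_mul, mul_inv_rev, hπ, s_inv, mul_smul, s_smul, rf_sim, smul_neg']
    exact h.not_neg
  · intro i j w h h'
    rw [map_mul, mul_inv_rev, hπ, s_inv, mul_smul, s_smul] at h'
    apply hc
    rw [← eq_sim_of_rf h h', smul_inv_smul]

theorem injective_of_hom {Γ : Type*} [Group Γ] {t : I → Γ} (ht : InvGen t) (π : Γ →* Φ.W)
    (hπ : ∀ i, π (t i) = Φ.s i)
    (hc : ∀ i j w, π w • Φ.sim j = Φ.sim i → t i * w = w * t j) : Function.Injective π := by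
  rw [injective_iff_map_eq_one]
  intro w hw
  obtain ⟨hx, hp⟩ := exchange_of_hom ht π hπ hc
  obtain ⟨ω, hr, rfl⟩ := ht.exists_red w
  cases ω with
  | nil => rfl
  | cons i ω =>
    have h1 := (hp i (wp t (i :: ω))).1 (by rw [hw]; simpa using Φ.pos_sim i)
    rw [hr, wp_cons, ht.cancel_left] at h1
    have := len_wp_le t ω
    simp at h1; omega

variable (Φ) in
theorem exchange : Exchange Φ.s :=
  (exchange_of_hom Φ.invGen (MonoidHom.id _) (fun _ => rfl) fun _ _ _ h => conj_of_smul_sim h).1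

theorem pos_inv_iff (i : I) (w : Φ.W) :
    Φ.Pos (w⁻¹ • Φ.sim i) ↔ len Φ.s w < len Φ.s (Φ.s i * w) :=
  (exchange_of_hom Φ.invGen (MonoidHom.id _) (fun _ => rfl) fun _ _ _ h => conj_of_smul_sim h).2 i w

theorem pos_iff (i : I) (w : Φ.W) : Φ.Pos (w • Φ.sim i) ↔ len Φ.s w < len Φ.s (w * Φ.s i) := by
  have := pos_inv_iff i w⁻¹
  rwa [inv_inv, Φ.invGen.len_inv, ← Φ.invGen.len_inv (Φ.s i * w⁻¹), mul_inv_rev, inv_inv,
    s_inv] at this

theorem len_mul_of_pos {i : I} {w : Φ.W} (h : Φ.Pos (w • Φ.sim i)) :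
    len Φ.s (w * Φ.s i) = len Φ.s w + 1 := by
  have := (pos_iff i w).1 h
  have := Φ.invGen.len_mul_simple Φ.exchange i w
  omega

theorem len_mul_of_neg {i : I} {w : Φ.W} (h : ¬ Φ.Pos (w • Φ.sim i)) :
    len Φ.s (w * Φ.s i) + 1 = len Φ.s w := by
  rw [pos_iff] at h
  have := Φ.invGen.len_mul_simple Φ.exchange i w
  omega

theorem pos_smul {w : Φ.W} {r : R} (hr : Φ.Pos r)
    (h : ∀ i, Φ.rv r i ≠ 0 → Φ.Pos (w • Φ.sim i)) : Φ.Pos (w • r) := by
  intro k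
  rw [rv_smul, Finset.sum_apply]
  refine Finset.sum_nonneg fun j _ => ?_
  by_cases hj : Φ.rv r j = 0
  · simp [hj]
  · exact mul_nonneg (hr j) (h j hj k)

theorem neg_smul {w : Φ.W} {r : R} (hr : Φ.Pos r)
    (h : ∀ i, Φ.rv r i ≠ 0 → ¬ Φ.Pos (w • Φ.sim i)) : ¬ Φ.Pos (w • r) := by
  rw [not_pos_iff]
  intro k
  rw [rv_smul, Finset.sum_apply]
  refine Finset.sum_nonpos fun j _ => ?_
  by_cases hj : Φ.rv r j = 0
  · simp [hj]
  · exact mul_nonpos_of_nonneg_of_nonpos (hr j) (not_pos_iff.1 (h j hj) k)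

/-! ### parabolic subgroups -/

variable (Φ) in
/-- the root lies in the subsystem spanned by `J` -/
def InJ (J : Set I) (r : R) : Prop := ∀ i, i ∉ J → Φ.rv r i = 0

variable (Φ) in
/-- parabolic subgroup of the Weyl group -/
def WJ (J : Set I) : Subgroup Φ.W := Subgroup.closure (Φ.s '' J)

theorem s_mem_WJ {J : Set I} {j : I} (hj : j ∈ J) : Φ.s j ∈ Φ.WJ J :=
  Subgroup.subset_closure ⟨j, hj, rfl⟩

theorem WJ_mono {J K : Set I} (h : J ⊆ K) : Φ.WJ J ≤ Φ.WJ K :=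
  Subgroup.closure_mono (Set.image_mono h)

theorem wp_mem_WJ {J : Set I} {ω : List I} (h : ∀ i ∈ ω, i ∈ J) : wp Φ.s ω ∈ Φ.WJ J := by
  induction ω with
  | nil => exact one_mem _
  | cons i ω ih =>
    rw [wp_cons]
    exact mul_mem (s_mem_WJ (h i (by simp))) (ih fun j hj => h j (by simp [hj]))

theorem WJ_univ : Φ.WJ Set.univ = ⊤ := by
  rw [eq_top_iff]
  intro w _
  obtain ⟨ω, rfl⟩ := Φ.invGen.gen w
  exact wp_mem_WJ (by simp)

theorem WJ_empty : Φ.WJ ∅ = ⊥ := by simp [WJ]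

theorem exists_red_of_mem_WJ {J : Set I} {w : Φ.W} (hw : w ∈ Φ.WJ J) :
    ∃ ω : List I, (∀ i ∈ ω, i ∈ J) ∧ Red Φ.s ω ∧ wp Φ.s ω = w := by
  have : ∃ ω : List I, (∀ i ∈ ω, i ∈ J) ∧ wp Φ.s ω = w := by
    induction hw using Subgroup.closure_induction with
    | mem x hx => obtain ⟨i, hi, rfl⟩ := hx; exact ⟨[i], by simpa using hi, by simp⟩
    | one => exact ⟨[], by simp, rfl⟩
    | mul x y _ _ hx hy =>
      obtain ⟨a, ha, rfl⟩ := hx
      obtain ⟨b, hb, rfl⟩ := hy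
      refine ⟨a ++ b, fun i hi => ?_, wp_append _ _ _⟩
      rcases List.mem_append.1 hi with h | h
      exacts [ha i h, hb i h]
    | inv x hx' hx =>
      obtain ⟨a, ha, rfl⟩ := hx
      exact ⟨a.reverse, by simpa using ha, Φ.invGen.wp_reverse a⟩
  obtain ⟨ω, h1, rfl⟩ := this
  obtain ⟨ω', h2, h3, h4⟩ := Φ.invGen.exists_red_sublist Φ.exchange ω
  exact ⟨ω', fun i hi => h1 i (h2.subset hi), h3, h4⟩

theorem WJ_induction {J : Set I} {p : Φ.W → Prop} (h1 : p 1)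
    (h2 : ∀ j ∈ J, ∀ w ∈ Φ.WJ J, Φ.Pos (w • Φ.sim j) → p w → p (w * Φ.s j)) {w : Φ.W}
    (hw : w ∈ Φ.WJ J) : p w := by
  obtain ⟨ω, h, hr, rfl⟩ := exists_red_of_mem_WJ hw
  clear hw
  induction ω using List.reverseRecOn with
  | nil => exact h1
  | append_singleton ω i ih =>
    have hr' := (Φ.invGen.red_of_append hr).1
    have hω : ∀ j ∈ ω, j ∈ J := fun j hj => h j (by simp [hj])
    rw [wp_append, wp_singleton]
    refine h2 i (h i (by simp)) _ (wp_mem_WJ hω) ?_ (ih hω hr')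
    rw [pos_iff, hr']
    rw [Red, wp_append, wp_singleton] at hr
    rw [hr]; simp

theorem WJ_induction_left {J : Set I} {p : Φ.W → Prop} (h1 : p 1)
    (h2 : ∀ j ∈ J, ∀ w ∈ Φ.WJ J, Φ.Pos (w⁻¹ • Φ.sim j) → p w → p (Φ.s j * w)) {w : Φ.W}
    (hw : w ∈ Φ.WJ J) : p w := by
  have := WJ_induction (p := fun w => p w⁻¹) (by simpa using h1) (fun j hj w hw hp h => by
    rw [mul_inv_rev, s_inv]
    exact h2 j hj _ (inv_mem hw) (by simpa using hp) h) (inv_mem hw)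
  simpa using this

theorem W_induction_pos {p : Φ.W → Prop} (h1 : p 1)
    (h2 : ∀ j w, Φ.Pos (w • Φ.sim j) → p w → p (w * Φ.s j)) (w : Φ.W) : p w :=
  WJ_induction (J := Set.univ) h1 (fun j _ w _ => h2 j w) (by rw [WJ_univ]; trivial)

theorem exists_neg_of_mem_WJ {J : Set I} {w : Φ.W} (hw : w ∈ Φ.WJ J) (h : w ≠ 1) :
    ∃ j ∈ J, ¬ Φ.Pos (w • Φ.sim j) := by
  revert h
  refine WJ_induction (p := fun w => w ≠ 1 → ∃ j ∈ J, ¬ Φ.Pos (w • Φ.sim j)) (by simp) ?_ hw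
  intro j hj w _ hp _ _
  exact ⟨j, hj, by rw [mul_smul, s_smul, rf_sim, smul_neg']; exact hp.not_neg⟩

theorem eq_one_of_pos {w : Φ.W} (h : ∀ i, Φ.Pos (w • Φ.sim i)) : w = 1 := by
  by_contra hne
  obtain ⟨j, _, hj⟩ := exists_neg_of_mem_WJ (J := Set.univ) (w := w) (by rw [WJ_univ]; trivial) hne
  exact hj (h j)

theorem rv_smul_of_mem_WJ {J : Set I} {w : Φ.W} (hw : w ∈ Φ.WJ J) (r : R) {i : I} (hi : i ∉ J) :
    Φ.rv (w • r) i = Φ.rv r i := by
  revert r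
  refine WJ_induction (p := fun w => ∀ r : R, Φ.rv (w • r) i = Φ.rv r i) (by simp) ?_ hw
  intro j hj w _ _ ih r
  have : i ≠ j := fun e => hi (e ▸ hj)
  rw [mul_smul, ih, s_smul, Φ.rv_rf]
  simp [this]

theorem InJ.smul {J : Set I} {w : Φ.W} (hw : w ∈ Φ.WJ J) {r : R} (h : Φ.InJ J r) :
    Φ.InJ J (w • r) := fun i hi => by rw [rv_smul_of_mem_WJ hw r hi, h i hi]

theorem inJ_smul_iff {J : Set I} {w : Φ.W} (hw : w ∈ Φ.WJ J) {r : R} :
    Φ.InJ J (w • r) ↔ Φ.InJ J r :=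
  ⟨fun h => by simpa using h.smul (inv_mem hw), fun h => h.smul hw⟩

theorem InJ.neg {J : Set I} {r : R} (h : Φ.InJ J r) : Φ.InJ J (Φ.neg r) := fun i hi => by
  simp [Φ.rv_neg, h i hi]

theorem inJ_neg_iff {J : Set I} {r : R} : Φ.InJ J (Φ.neg r) ↔ Φ.InJ J r :=
  ⟨fun h => by simpa [neg_neg] using h.neg, fun h => h.neg⟩

theorem inJ_sim {J : Set I} {j : I} : Φ.InJ J (Φ.sim j) ↔ j ∈ J := by
  constructor
  · intro h; by_contra hj
    simpa [Φ.rv_sim] using h j hj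
  · intro hj i hi
    have : i ≠ j := fun e => hi (e ▸ hj)
    simp [Φ.rv_sim, this]

theorem InJ.mono {J K : Set I} (hJK : J ⊆ K) {r : R} (h : Φ.InJ J r) : Φ.InJ K r :=
  fun i hi => h i fun hj => hi (hJK hj)

theorem pos_smul_iff_of_not_inJ {J : Set I} {w : Φ.W} (hw : w ∈ Φ.WJ J) {r : R}
    (h : ¬ Φ.InJ J r) : Φ.Pos (w • r) ↔ Φ.Pos r := by
  simp only [InJ, not_forall] at h
  obtain ⟨i, hi, h⟩ := h
  have e := rv_smul_of_mem_WJ hw r hi
  constructor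
  · intro hp; have := hp i
    exact pos_of_pos (i := i) (by omega)
  · intro hp; have := hp i
    exact pos_of_pos (i := i) (by omega)

theorem mem_WJ_of_pos {J : Set I} {w : Φ.W}
    (h : ∀ r, Φ.Pos r → ¬ Φ.InJ J r → Φ.Pos (w • r)) : w ∈ Φ.WJ J := by
  revert h
  refine W_induction_pos (p := fun w => (∀ r, Φ.Pos r → ¬ Φ.InJ J r → Φ.Pos (w • r)) → w ∈ Φ.WJ J)
    (fun _ => one_mem _) ?_ w
  intro j w hp ih h
  have hj : j ∈ J := by
    by_contra hj
    have := h _ (Φ.pos_sim j) (by rwa [inJ_sim])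
    rw [mul_smul, s_smul, rf_sim, smul_neg'] at this
    exact hp.not_neg this
  refine mul_mem (ih fun r hr hr' => ?_) (s_mem_WJ hj)
  have := h (Φ.s j • r) ((pos_smul_iff_of_not_inJ (s_mem_WJ hj) hr').2 hr)
    (by rwa [inJ_smul_iff (s_mem_WJ hj)])
  rwa [← mul_smul, mul_assoc, s_sq, mul_one] at this

theorem exists_smul_sim_of_inJ {J : Set I} {r : R} (h : Φ.InJ J r) :
    ∃ w ∈ Φ.WJ J, ∃ j ∈ J, r = w • Φ.sim j := by
  have key : ∀ r, Φ.Pos r → Φ.InJ J r → ∃ w ∈ Φ.WJ J, ∃ j ∈ J, r = w • Φ.sim j := by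
    refine pos_induction ?_ ?_
    · intro i h; exact ⟨1, one_mem _, i, inJ_sim.1 h, by simp⟩
    · intro i r hp hA hi ih h
      have hi' : i ∈ J := by by_contra hn; have := h i hn; omega
      obtain ⟨w, hw, j, hj, rfl⟩ := ih ((inJ_smul_iff (s_mem_WJ hi')).1 h)
      exact ⟨Φ.s i * w, mul_mem (s_mem_WJ hi') hw, j, hj, by simp [mul_smul]⟩
  by_cases hr : Φ.Pos r
  · exact key r hr h
  · obtain ⟨w, hw, j, hj, e⟩ := key _ (pos_neg_iff.2 hr) h.neg
    refine ⟨w * Φ.s j, mul_mem hw (s_mem_WJ hj), j, hj, ?_⟩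
    rw [mul_smul, s_smul, rf_sim, smul_neg', ← e, neg_neg]

section Finite
variable [Fintype R] [DecidableEq R]

theorem exists_longest (J : Set I) :
    ∃ w ∈ Φ.WJ J, ∀ r, Φ.Pos r → Φ.InJ J r → ¬ Φ.Pos (w • r) := by
  obtain ⟨w, hw, hm⟩ := Set.Finite.exists_maximalFor (len Φ.s) (Φ.WJ J : Set Φ.W) (Set.toFinite _)
    ⟨1, one_mem _⟩
  refine ⟨w, hw, fun r hr hJ => neg_smul hr fun i hi => ?_⟩
  have hi' : i ∈ J := by by_contra hn; exact hi (hJ i hn)
  intro hp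
  have h1 := len_mul_of_pos hp
  have := hm (mul_mem hw (s_mem_WJ hi')) (by omega)
  omega

variable (Φ) in
/-- the longest element of a parabolic subgroup -/
noncomputable def w0 (J : Set I) : Φ.W := (exists_longest (Φ := Φ) J).choose

theorem w0_mem (J : Set I) : Φ.w0 J ∈ Φ.WJ J := (exists_longest (Φ := Φ) J).choose_spec.1

theorem w0_neg {J : Set I} {r : R} (h : Φ.Pos r) (hJ : Φ.InJ J r) : ¬ Φ.Pos (Φ.w0 J • r) :=
  (exists_longest (Φ := Φ) J).choose_spec.2 r h hJ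

theorem pos_w0_iff {J : Set I} {r : R} (hJ : Φ.InJ J r) : Φ.Pos (Φ.w0 J • r) ↔ ¬ Φ.Pos r := by
  refine ⟨fun h h' => w0_neg h' hJ h, fun h => ?_⟩
  have := w0_neg (pos_neg_iff.2 h) hJ.neg
  rwa [smul_neg', pos_neg_iff, not_not] at this

theorem eq_w0 {J : Set I} {w : Φ.W} (hw : w ∈ Φ.WJ J) (h : ∀ j ∈ J, ¬ Φ.Pos (w • Φ.sim j)) :
    w = Φ.w0 J := by
  have : (Φ.w0 J)⁻¹ * w = 1 := by
    by_contra hne
    obtain ⟨j, hj, h1⟩ := exists_neg_of_mem_WJ (mul_mem (inv_mem (w0_mem J)) hw) hne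
    have h2 := (pos_w0_iff (InJ.smul (mul_mem (inv_mem (w0_mem J)) hw) (inJ_sim.2 hj))).2 h1
    rw [← mul_smul, mul_inv_cancel_left] at h2
    exact h j hj h2
  rw [inv_mul_eq_one.1 this]

theorem w0_inv (J : Set I) : (Φ.w0 J)⁻¹ = Φ.w0 J := by
  refine eq_w0 (inv_mem (w0_mem J)) fun j hj h => ?_
  have := w0_neg h (InJ.smul (inv_mem (w0_mem J)) (inJ_sim.2 hj))
  rw [smul_inv_smul] at this
  exact this (Φ.pos_sim j)

theorem w0_sq (J : Set I) : Φ.w0 J * Φ.w0 J = 1 := by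
  nth_rewrite 1 [← w0_inv]; simp

variable (Φ) in
/-- the inversion set -/
def invSet (w : Φ.W) : Finset R := Finset.univ.filter fun r => Φ.Pos r ∧ ¬ Φ.Pos (w • r)

omit [DecidableEq R] in
theorem mem_invSet {w : Φ.W} {r : R} : r ∈ Φ.invSet w ↔ Φ.Pos r ∧ ¬ Φ.Pos (w • r) := by
  simp [invSet]

theorem card_invSet (w : Φ.W) : (Φ.invSet w).card = len Φ.s w := by
  induction w using W_induction_pos with
  | h1 =>
    rw [len_one, Finset.card_eq_zero]
    ext r; simp [mem_invSet]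
  | h2 j w hp ih =>
    rw [len_mul_of_pos hp, ← ih]
    have : Φ.invSet (w * Φ.s j) = insert (Φ.sim j) ((Φ.invSet w).image (Φ.rf j)) := by
      ext r
      simp only [mem_invSet, Finset.mem_insert, Finset.mem_image, mul_smul, s_smul]
      constructor
      · rintro ⟨h1, h2⟩
        by_cases h : r = Φ.sim j
        · exact Or.inl h
        · exact Or.inr ⟨_, ⟨h1.rf h, h2⟩, Φ.rf_rf _ _⟩
      · rintro (rfl | ⟨a, ⟨h1, h2⟩, rfl⟩)
        · exact ⟨Φ.pos_sim j, by rw [rf_sim, smul_neg']; exact hp.not_neg⟩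
        · exact ⟨h1.rf (by rintro rfl; exact h2 hp), by rwa [rf_rf]⟩
    rw [this, Finset.card_insert_of_notMem, Finset.card_image_of_injective _ fun _ _ => Φ.rf_inj j]
    simp only [Finset.mem_image, not_exists, not_and, mem_invSet]
    rintro a ⟨h1, -⟩ e
    rw [← Φ.rf_rf j a, e, rf_sim] at h1
    exact Φ.not_pos_neg_sim j h1

end Finite

end Cfsg.Agent.Chev.RS
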